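import Mathlib.RingTheory.Flat.FaithfullyFlat.Algebra
import Mathlib.RingTheory.IntegralClosure.IntegrallyClosed
import Mathlib.RingTheory.Localization.FractionRing
import Mathlib.RingTheory.RingHom.Flat

set_option autoImplicit false

namespace Groth.Agent.H13

/-- If `B` is a faithfully flat `A`-algebra and `B` is an integrally closed domain,
then so is `A`. -/
theorem isDomain_isIntegrallyClosed_of_faithfullyFlat (A B : Type*) [CommRing A] [CommRing B]
    [Algebra A B] [Module.FaithfullyFlat A B] [IsDomain B] [IsIntegrallyClosed B] :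
    IsDomain A ∧ IsIntegrallyClosed A := by
  have hinj : Function.Injective (algebraMap A B) := FaithfulSMul.algebraMap_injective A B
  have hdom : IsDomain A := hinj.isDomain (algebraMap A B)
  refine ⟨hdom, ?_⟩
  let K := FractionRing A
  let L := FractionRing B
  have hcomp : ∀ a : A, algebraMap A L a = algebraMap B L (algebraMap A B a) :=
    fun a => IsScalarTower.algebraMap_apply A B L a
  have hg : Function.Injective (Algebra.ofId A L) := by
    intro a₁ a₂ h
    have h' : algebraMap A L a₁ = algebraMap A L a₂ := h
    rw [hcomp, hcomp] at h'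
    exact hinj (IsFractionRing.injective B L h')
  let ψ : K →ₐ[A] L := IsFractionRing.liftAlgHom hg
  rw [isIntegrallyClosed_iff K]
  intro x hx
  have h1 : IsIntegral A (ψ x) := hx.map ψ
  have h2 : IsIntegral B (ψ x) := h1.tower_top
  obtain ⟨b, hb⟩ := (IsIntegrallyClosed.isIntegral_iff (R := B) (K := L)).mp h2
  obtain ⟨a, s, rfl⟩ := IsLocalization.exists_mk'_eq (nonZeroDivisors A) x
  have hs0 : (s : A) ≠ 0 := nonZeroDivisors.ne_zero s.2
  have hψ : ψ (IsLocalization.mk' K a s) = algebraMap B L (algebraMap A B a) /
      algebraMap B L (algebraMap A B s) := by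
    rw [IsFractionRing.liftAlgHom_apply, IsFractionRing.lift_mk']
    change algebraMap A L a / algebraMap A L s = _
    rw [hcomp, hcomp]
  have hsL : algebraMap B L (algebraMap A B s) ≠ 0 := by
    intro h0
    apply hs0
    apply hinj
    apply IsFractionRing.injective B L
    rw [h0, map_zero, map_zero]
  rw [hψ, eq_div_iff hsL, ← map_mul] at hb
  have hb' : b * algebraMap A B s = algebraMap A B a := IsFractionRing.injective B L hb
  have hmem : a ∈ ((Ideal.span {(s : A)}).map (algebraMap A B)).comap (algebraMap A B) := by
    rw [Ideal.mem_comap, Ideal.map_span, Set.image_singleton, Ideal.mem_span_singleton']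
    exact ⟨b, hb'⟩
  rw [Ideal.comap_map_eq_self_of_faithfullyFlat, Ideal.mem_span_singleton'] at hmem
  obtain ⟨c, hc⟩ := hmem
  refine ⟨c, ?_⟩
  rw [eq_comm, IsLocalization.mk'_eq_iff_eq_mul, ← map_mul, hc]

/-- Flat local homomorphisms of local rings descend normality. -/
theorem isDomain_isIntegrallyClosed_of_flat_of_isLocalHom {A B : Type*} [CommRing A] [CommRing B]
    [IsLocalRing A] [IsLocalRing B] (f : A →+* B) (hf : f.Flat) [IsLocalHom f]
    [IsDomain B] [IsIntegrallyClosed B] :
    IsDomain A ∧ IsIntegrallyClosed A := by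
  let _ : Algebra A B := f.toAlgebra
  have : Module.Flat A B := hf
  have : IsLocalHom (algebraMap A B) := ‹IsLocalHom f›
  have : Module.FaithfullyFlat A B := Module.FaithfullyFlat.of_flat_of_isLocalHom
  exact isDomain_isIntegrallyClosed_of_faithfullyFlat A B

end Groth.Agent.H13
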