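import Mathlib
import Groth.Prelude.Def_AssocGr
import Groth.Prelude.Def_IdealRed
import Groth.Prelude.Def_Wider
import Groth.Agent.H55.AS.Defs

/-!
# (F3) primes of the fibre cone containing the generators of a reduction
-/

set_option autoImplicit false
universe u
open IsLocalRing
open Groth.Agent.H55.AS

namespace Groth.Agent.H13.AS

/-- (F3) a prime of the fibre cone containing the classes of the generators of a reduction
contains the irrelevant ideal. -/
theorem F3 (R : Type u) [CommRing R] [IsLocalRing R] (a b : Ideal R)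
    (hab : IdealRed.IsReduction a b) (s : ℕ) (v : Fin s → b)
    (hva : Ideal.span (Set.range fun i => ((v i : b) : R)) = a)
    (Q : Ideal (FC R b)) (hQ : Q.IsPrime) (hx : ∀ i, xcl R b (v i) ∈ Q) :
    fcIrr R b ≤ Q := by
  obtain ⟨n, hn⟩ := hab.2
  -- the ideal of the Rees algebra generated by the `v i · X`
  obtain ⟨J₀, hJ₀⟩ : ∃ J₀ : Ideal ↥(reesAlgebra b), J₀ = Ideal.span (Set.range fun i =>
      (⟨Polynomial.monomial 1 ((v i : b) : R), monomial_one_mem R b (v i)⟩ : reesAlgebra b)) :=
    ⟨_, rfl⟩
  have hgen : ∀ i, (⟨Polynomial.monomial 1 ((v i : b) : R), monomial_one_mem R b (v i)⟩ :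
      reesAlgebra b) ∈ J₀ := by
    intro i
    rw [hJ₀]
    exact Ideal.subset_span ⟨i, rfl⟩
  have hJQ : J₀ ≤ Ideal.comap (mkFC R b) Q := by
    rw [hJ₀, Ideal.span_le]
    rintro _ ⟨i, rfl⟩
    exact hx i
  -- key claim
  have key : ∀ z ∈ a * b ^ n, ∃ f : ↥(reesAlgebra b), f ∈ J₀ ∧
      (f : Polynomial R) = Polynomial.monomial (n + 1) z := by
    intro z hz
    induction hz using Submodule.mul_induction_on' with
    | mem_mul_mem x hx' y hy =>
      rw [← hva] at hx'
      induction hx' using Submodule.span_induction with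
      | mem x hxr =>
        obtain ⟨i, rfl⟩ := hxr
        refine ⟨(⟨Polynomial.monomial 1 ((v i : b) : R), monomial_one_mem R b (v i)⟩ :
          reesAlgebra b) * ⟨Polynomial.monomial n y, reesAlgebra.monomial_mem.mpr hy⟩,
          J₀.mul_mem_right _ (hgen i), ?_⟩
        change Polynomial.monomial 1 ((v i : b) : R) * Polynomial.monomial n y = _
        rw [Polynomial.monomial_mul_monomial, add_comm 1 n]
      | zero =>
        refine ⟨0, J₀.zero_mem, ?_⟩
        simp
      | add x1 x2 _ _ ih1 ih2 =>
        obtain ⟨f1, hf1, e1⟩ := ih1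
        obtain ⟨f2, hf2, e2⟩ := ih2
        refine ⟨f1 + f2, J₀.add_mem hf1 hf2, ?_⟩
        change (f1 : Polynomial R) + (f2 : Polynomial R) = _
        rw [e1, e2, ← map_add]
        congr 1
        ring
      | smul r x1 _ ih =>
        obtain ⟨f1, hf1, e1⟩ := ih
        refine ⟨algebraMap R ↥(reesAlgebra b) r * f1, J₀.mul_mem_left _ hf1, ?_⟩
        change algebraMap R (Polynomial R) r * (f1 : Polynomial R) = _
        rw [e1, Polynomial.algebraMap_apply, Algebra.algebraMap_self_apply,
          ← Polynomial.monomial_zero_left, Polynomial.monomial_mul_monomial, zero_add]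
        congr 1
        simp only [smul_eq_mul]
        ring
    | add x1 _ x2 _ ih1 ih2 =>
      obtain ⟨f1, hf1, e1⟩ := ih1
      obtain ⟨f2, hf2, e2⟩ := ih2
      refine ⟨f1 + f2, J₀.add_mem hf1 hf2, ?_⟩
      change (f1 : Polynomial R) + (f2 : Polynomial R) = _
      rw [e1, e2, ← map_add]
  -- each generator of the irrelevant ideal lies in `Q`
  have hc : ∀ c : b, xcl R b c ∈ Q := by
    intro c
    have hmem : ((c : R)) ^ (n + 1) ∈ a * b ^ n := by
      rw [hn]
      exact Ideal.pow_mem_pow c.2 (n + 1)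
    obtain ⟨f, hf, ef⟩ := key _ hmem
    have hpow : (⟨Polynomial.monomial 1 (c : R), monomial_one_mem R b c⟩ : reesAlgebra b) ^ (n + 1)
        = f := by
      apply Subtype.ext
      rw [ef]
      change (Polynomial.monomial 1 (c : R)) ^ (n + 1) = _
      rw [Polynomial.monomial_pow, one_mul]
    have h1 : xcl R b c ^ (n + 1) ∈ Q := by
      change (mkFC R b _) ^ (n + 1) ∈ Q
      rw [← map_pow, hpow]
      exact hJQ hf
    exact hQ.mem_of_pow_mem _ h1
  change Ideal.span (Set.range (xcl R b)) ≤ Q
  rw [Ideal.span_le]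
  rintro _ ⟨c, rfl⟩
  exact hc c

end Groth.Agent.H13.AS
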