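import Mathlib

/-!
# Associated primes of `S ⊗[R] M` for a flat (epi)morphism `R → S` (helper13)

* `comap_mem_associatedPrimes_of_flat` : `R → S` flat, both Noetherian: the contraction of an
  associated prime of `S ⊗[R] M` is an associated prime of `M`.
* `mem_associatedPrimes_of_flat_epi` : `R → S` a flat epimorphism (in the form `s ⊗ 1 = 1 ⊗ s`):
  a prime `q` of `S` whose contraction is associated to `M` is associated to `S ⊗[R] M`.
-/

open TensorProduct

namespace H13.AssFlatEpi

variable {R S : Type*} [CommRing R] [CommRing S] [Algebra R S] {M : Type*} [AddCommGroup M]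
  [Module R M]

theorem comap_mem_associatedPrimes_of_flat [Module.Flat R S] [IsNoetherianRing R]
    [IsNoetherianRing S] (q : Ideal S) (hq : q ∈ associatedPrimes S (S ⊗[R] M)) :
    q.comap (algebraMap R S) ∈ associatedPrimes R M := by
  classical
  obtain ⟨hqp, n, hn⟩ := isAssociatedPrime_iff.mp hq
  set q' := q.comap (algebraMap R S) with hq'
  haveI hq'p : q'.IsPrime := Ideal.comap_isPrime _ _
  by_contra hnot
  obtain ⟨T, hT⟩ := (isNoetherianRing_iff_ideal_fg R).mp inferInstance q'
  let f : M →ₗ[R] (T → M) := LinearMap.pi fun j => LinearMap.lsmul R M (j : R)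
  have hf : ∀ (m : M) (j : T), f m j = (j : R) • m := fun m j => rfl
  have hfK : ∀ m : M, m ∈ LinearMap.ker f → q' ≤ Submodule.colon ⊥ {m} := by
    intro m hm
    rw [← hT, Ideal.span_le]
    intro x hx
    rw [SetLike.mem_coe, Submodule.mem_colon_singleton, Submodule.mem_bot]
    have := congrFun (LinearMap.mem_ker.mp hm) ⟨x, hx⟩
    rwa [hf] at this
  have hK : ∀ m : M, m ∈ LinearMap.ker f → ∃ x : R, x ∉ q' ∧ x • m = 0 := by
    intro m hm
    by_contra hcon
    push_neg at hcon
    apply hnot
    refine isAssociatedPrime_iff.mpr ⟨hq'p, m, le_antisymm (hfK m hm) ?_⟩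
    intro x hx
    rw [Submodule.mem_colon_singleton, Submodule.mem_bot] at hx
    by_contra hxq
    exact hcon x hxq hx
  have hxn : ∀ x ∈ q', x • n = 0 := by
    intro x hx
    have h1 : algebraMap R S x ∈ q := hx
    rw [hn, Submodule.mem_colon_singleton, Submodule.mem_bot] at h1
    rwa [algebraMap_smul] at h1
  have hker : n ∈ LinearMap.ker (AlgebraTensorModule.lTensor S S f) := by
    rw [LinearMap.mem_ker]
    apply (TensorProduct.piRight R S S (fun _ : T => M)).injective
    rw [map_zero]
    funext j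
    have key : ∀ z : S ⊗[R] M, TensorProduct.piRight R S S (fun _ : T => M)
        (AlgebraTensorModule.lTensor S S f z) j = (j : R) • z := by
      intro z
      induction z using TensorProduct.induction_on with
      | zero => simp
      | add a b ha hb => rw [map_add, map_add, Pi.add_apply, ha, hb, smul_add]
      | tmul s m =>
        rw [AlgebraTensorModule.lTensor_tmul, TensorProduct.piRight_apply,
          TensorProduct.piRightHom_tmul, ← TensorProduct.tmul_smul]
        rfl
    rw [key, Pi.zero_apply]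
    exact hxn _ (by rw [← hT]; exact Ideal.subset_span j.2)
  rw [Module.Flat.ker_lTensor_eq] at hker
  obtain ⟨y, hy⟩ := hker
  have hy' : ∀ y : S ⊗[R] (LinearMap.ker f), ∃ x : R, x ∉ q' ∧ x • y = 0 := by
    intro y
    induction y using TensorProduct.induction_on with
    | zero =>
      exact ⟨1, (Ideal.ne_top_iff_one q').mp hq'p.ne_top, smul_zero _⟩
    | tmul s k =>
      obtain ⟨x, hx, hxk⟩ := hK k.1 k.2
      refine ⟨x, hx, ?_⟩
      have : x • k = 0 := Subtype.ext (by simpa using hxk)
      rw [← TensorProduct.tmul_smul, this, TensorProduct.tmul_zero]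
    | add a b ha hb =>
      obtain ⟨x₁, hx₁, h₁⟩ := ha
      obtain ⟨x₂, hx₂, h₂⟩ := hb
      refine ⟨x₁ * x₂, fun hmem => ?_, ?_⟩
      · rcases hq'p.mem_or_mem hmem with h | h
        · exact hx₁ h
        · exact hx₂ h
      · have e1 : (x₁ * x₂) • a = 0 := by rw [mul_comm, mul_smul, h₁, smul_zero]
        have e2 : (x₁ * x₂) • b = 0 := by rw [mul_smul, h₂, smul_zero]
        rw [smul_add, e1, e2, add_zero]
  obtain ⟨x, hxq, hxy⟩ := hy' y
  apply hxq
  have hxn0 : x • n = 0 := by
    rw [← hy, ← LinearMap.map_smul_of_tower, hxy, map_zero]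
  change algebraMap R S x ∈ q
  rw [hn, Submodule.mem_colon_singleton, Submodule.mem_bot, algebraMap_smul]
  exact hxn0

/-- consequence of the epimorphism property `s ⊗ 1 = 1 ⊗ s` -/
theorem tmul_eq_one_tmul_smul (hepi : ∀ s : S, s ⊗ₜ[R] (1 : S) = (1 : S) ⊗ₜ[R] s)
    {Y : Type*} [AddCommGroup Y] [Module S Y] [Module R Y] [IsScalarTower R S Y] (s : S) (y : Y) :
    s ⊗ₜ[R] y = (1 : S) ⊗ₜ[R] (s • y) := by
  let h : S →ₗ[R] Y := (LinearMap.toSpanSingleton S Y y).restrictScalars R
  have := congrArg (LinearMap.lTensor S h) (hepi s)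
  rw [LinearMap.lTensor_tmul, LinearMap.lTensor_tmul] at this
  simpa [h] using this

theorem mem_associatedPrimes_of_flat_epi [Module.Flat R S]
    (hepi : ∀ s : S, s ⊗ₜ[R] (1 : S) = (1 : S) ⊗ₜ[R] s) [IsNoetherianRing R]
    [IsNoetherianRing S] (q : Ideal S) [hqp : q.IsPrime]
    (h : q.comap (algebraMap R S) ∈ associatedPrimes R M) :
    q ∈ associatedPrimes S (S ⊗[R] M) := by
  classical
  obtain ⟨hq'p, m, hm⟩ := isAssociatedPrime_iff.mp h
  set q' := q.comap (algebraMap R S) with hq'
  -- `g : R ⧸ q' ↪ M`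
  have hgle : q' ≤ LinearMap.ker (LinearMap.toSpanSingleton R M m) := by
    intro x hx
    rw [LinearMap.mem_ker, LinearMap.toSpanSingleton_apply]
    rw [hm, Submodule.mem_colon_singleton, Submodule.mem_bot] at hx
    exact hx
  let g : R ⧸ q' →ₗ[R] M := Submodule.liftQ q' (LinearMap.toSpanSingleton R M m) hgle
  have hg1 : g (Submodule.Quotient.mk 1) = m := by
    rw [Submodule.liftQ_apply, LinearMap.toSpanSingleton_apply, one_smul]
  have hginj : Function.Injective g := by
    rw [← LinearMap.ker_eq_bot]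
    apply Submodule.ker_liftQ_eq_bot
    intro x hx
    rw [LinearMap.mem_ker, LinearMap.toSpanSingleton_apply] at hx
    rw [hm, Submodule.mem_colon_singleton, Submodule.mem_bot]
    exact hx
  -- `j : R ⧸ q' ↪ S ⧸ q`
  let j₀ : R →ₗ[R] S ⧸ q := (Ideal.Quotient.mkₐ R q).toLinearMap ∘ₗ (Algebra.linearMap R S)
  have hj₀ : ∀ x : R, j₀ x = Ideal.Quotient.mk q (algebraMap R S x) := fun x => rfl
  have hjle : q' ≤ LinearMap.ker j₀ := by
    intro x hx
    rw [LinearMap.mem_ker, hj₀, Ideal.Quotient.eq_zero_iff_mem]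
    exact hx
  let j : R ⧸ q' →ₗ[R] S ⧸ q := Submodule.liftQ q' j₀ hjle
  have hj1 : j (Submodule.Quotient.mk 1) = (1 : S ⧸ q) := by
    rw [Submodule.liftQ_apply, hj₀, map_one, map_one]
  have hjinj : Function.Injective j := by
    rw [← LinearMap.ker_eq_bot]
    apply Submodule.ker_liftQ_eq_bot
    intro x hx
    rw [LinearMap.mem_ker, hj₀, Ideal.Quotient.eq_zero_iff_mem] at hx
    exact hx
  have hgT := Module.Flat.lTensor_preserves_injective_linearMap (M := S) g hginj
  have hjT := Module.Flat.lTensor_preserves_injective_linearMap (M := S) j hjinj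
  -- the multiplication map `S ⊗[R] (S ⧸ q) → S ⧸ q`
  let μ : S ⊗[R] (S ⧸ q) →ₗ[R] S ⧸ q :=
    TensorProduct.lift (LinearMap.mk₂ R (fun (s : S) (y : S ⧸ q) => s • y)
      (fun a b y => add_smul a b y) (fun c s y => smul_assoc c s y)
      (fun s y z => smul_add s y z) (fun c s y => smul_comm s c y))
  have hμ : ∀ (s : S) (y : S ⧸ q), μ (s ⊗ₜ y) = s • y := fun s y => rfl
  refine isAssociatedPrime_iff.mpr ⟨hqp, (1 : S) ⊗ₜ[R] m, ?_⟩
  ext s
  rw [Submodule.mem_colon_singleton, Submodule.mem_bot, TensorProduct.smul_tmul', smul_eq_mul,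
    mul_one]
  constructor
  · intro hs
    have h0 : s ⊗ₜ[R] (Submodule.Quotient.mk 1 : R ⧸ q') = 0 := by
      apply hjT
      rw [LinearMap.lTensor_tmul, map_zero, hj1, tmul_eq_one_tmul_smul hepi]
      have : s • (1 : S ⧸ q) = 0 := by
        rw [Algebra.smul_def, mul_one]
        exact Ideal.Quotient.eq_zero_iff_mem.mpr hs
      rw [this, TensorProduct.tmul_zero]
    have := congrArg (LinearMap.lTensor S g) h0
    rwa [LinearMap.lTensor_tmul, hg1, map_zero] at this
  · intro hs
    have h0 : s ⊗ₜ[R] (Submodule.Quotient.mk 1 : R ⧸ q') = 0 := by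
      apply hgT
      rw [LinearMap.lTensor_tmul, map_zero, hg1]
      exact hs
    have h1 := congrArg (LinearMap.lTensor S j) h0
    rw [LinearMap.lTensor_tmul, hj1, map_zero] at h1
    have h2 := congrArg μ h1
    rw [hμ, map_zero, Algebra.smul_def, mul_one] at h2
    exact Ideal.Quotient.eq_zero_iff_mem.mp h2

end H13.AssFlatEpi
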