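import Mathlib
import Groth.Agent.H46.Kaplansky2
import Groth.Agent.S7109

/-!
# Bass: big projective modules (helper library for S7110, S7111, S7112)
-/

set_option autoImplicit false
set_option linter.unusedSectionVars false
set_option linter.unusedVariables false
set_option linter.style.haveILetI false

universe u

namespace Groth.Agent.H13.Bass

variable {R : Type u} [CommRing R] {P : Type u} [AddCommGroup P] [Module R P]

/-- the order ideal of `x`: all values of linear forms at `x`. -/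
def O (R : Type u) [CommRing R] {P : Type u} [AddCommGroup P] [Module R P] (x : P) : Ideal R :=
  LinearMap.range (LinearMap.applyₗ x : (P →ₗ[R] R) →ₗ[R] R)

theorem mem_O {x : P} {r : R} : r ∈ O R x ↔ ∃ φ : P →ₗ[R] R, φ x = r := by
  simp [O, LinearMap.mem_range]

theorem mem_smul_top_of_O_le [Module.Projective R P] (𝔟 : Ideal R) (x : P) (h : O R x ≤ 𝔟) :
    x ∈ 𝔟 • (⊤ : Submodule R P) := by
  obtain ⟨s', hs'⟩ := Module.projective_def'.mp (inferInstance : Module.Projective R P)
  have hx : Finsupp.linearCombination R id (s' x) = x := by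
    simpa using LinearMap.congr_fun hs' x
  have key : Finsupp.linearCombination R id (s' x) ∈ 𝔟 • (⊤ : Submodule R P) := by
    rw [Finsupp.linearCombination_apply, Finsupp.sum]
    refine Submodule.sum_mem _ fun y _ => ?_
    refine Submodule.smul_mem_smul (h ?_) Submodule.mem_top
    exact mem_O.mpr ⟨(Finsupp.lapply y) ∘ₗ s', rfl⟩
  rwa [hx] at key

theorem apply_eq_sum (s' : P →ₗ[R] P →₀ R)
    (hs' : Finsupp.linearCombination R id ∘ₗ s' = LinearMap.id) (φ : P →ₗ[R] R) (x : P) :
    φ x = ∑ y ∈ (s' x).support, (s' x y) * φ y := by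
  have hx : Finsupp.linearCombination R id (s' x) = x := by
    simpa using LinearMap.congr_fun hs' x
  conv_lhs => rw [← hx]
  rw [Finsupp.linearCombination_apply, Finsupp.sum, map_sum]
  simp [smul_eq_mul]

/-- If a projective module is generated by finitely many elements modulo a maximal ideal, then its
localization at that maximal ideal is finite (uses Kaplansky's theorem). -/
theorem finite_localizedModule_of_span_sup [Module.Projective R P] (𝔪 : Ideal R) [𝔪.IsMaximal]
    (t : Finset P) (h : Submodule.span R (t : Set P) ⊔ 𝔪 • (⊤ : Submodule R P) = ⊤) :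
    Module.Finite (Localization.AtPrime 𝔪) (LocalizedModule 𝔪.primeCompl P) := by
  classical
  haveI : Module.Projective (Localization.AtPrime 𝔪) (LocalizedModule 𝔪.primeCompl P) :=
    Module.Projective.of_equiv (LocalizedModule.equivTensorProduct 𝔪.primeCompl P).symm
  haveI : Module.Free (Localization.AtPrime 𝔪) (LocalizedModule 𝔪.primeCompl P) :=
    Groth.Agent.H46.Kap.free_of_projective_of_isLocalRing
  let b := Module.Free.chooseBasis (Localization.AtPrime 𝔪) (LocalizedModule 𝔪.primeCompl P)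
  let ι := LocalizedModule.mkLinearMap 𝔪.primeCompl P
  let Λ₀ : Finset (Module.Free.ChooseBasisIndex (Localization.AtPrime 𝔪)
      (LocalizedModule 𝔪.primeCompl P)) := t.biUnion fun x => (b.repr (ι x)).support
  have hΛ : ∀ l, l ∈ Λ₀ := by
    intro l
    by_contra hl
    have hc_t : ∀ x ∈ t, b.coord l (ι x) = 0 := by
      intro x hx
      have h1 : l ∉ (b.repr (ι x)).support :=
        fun h' => hl (Finset.mem_biUnion.mpr ⟨x, hx, h'⟩)
      simpa [Module.Basis.coord_apply] using Finsupp.notMem_support_iff.mp h1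
    have hcP : ∀ x : P, b.coord l (ι x) ∈ IsLocalRing.maximalIdeal (Localization.AtPrime 𝔪) := by
      intro x
      have hx : x ∈ Submodule.span R (t : Set P) ⊔ 𝔪 • (⊤ : Submodule R P) := by
        rw [h]; exact Submodule.mem_top
      obtain ⟨u, hu, z, hz, rfl⟩ := Submodule.mem_sup.mp hx
      rw [map_add, map_add]
      refine Ideal.add_mem _ ?_ ?_
      · have h0 : b.coord l (ι u) = 0 := by
          clear hx
          induction hu using Submodule.span_induction with
          | mem x hxt => exact hc_t x hxt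
          | zero => simp
          | add x y _ _ hpx hpy => rw [map_add, map_add, hpx, hpy, add_zero]
          | smul r x _ hpx => rw [map_smul, LinearMap.map_smul_of_tower, hpx, smul_zero]
        rw [h0]
        exact Ideal.zero_mem _
      · refine Submodule.smul_induction_on hz (fun r hr y _ => ?_) (fun x y hx hy => ?_)
        · rw [map_smul, LinearMap.map_smul_of_tower, Algebra.smul_def]
          exact Ideal.mul_mem_right _ _
            ((IsLocalization.AtPrime.to_map_mem_maximal_iff (Localization.AtPrime 𝔪) 𝔪 r).mpr hr)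
        · rw [map_add, map_add]
          exact Ideal.add_mem _ hx hy
    obtain ⟨⟨x, sden⟩, hx⟩ := IsLocalizedModule.surj 𝔪.primeCompl ι (b l)
    have h1 : b.coord l (sden • b l) = algebraMap R (Localization.AtPrime 𝔪) sden := by
      rw [Submonoid.smul_def, LinearMap.map_smul_of_tower, Algebra.smul_def]
      simp [Module.Basis.coord_apply]
    rw [hx] at h1
    have h2 := hcP x
    rw [h1] at h2
    exact sden.2
      ((IsLocalization.AtPrime.to_map_mem_maximal_iff (Localization.AtPrime 𝔪) 𝔪 sden).mp h2)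
  haveI : Fintype (Module.Free.ChooseBasisIndex (Localization.AtPrime 𝔪)
      (LocalizedModule 𝔪.primeCompl P)) := ⟨Λ₀, hΛ⟩
  exact Module.Finite.of_basis b

/-! ### Big modules -/

/-- `P` is *big*: for every maximal ideal `𝔪`, `P / 𝔪 P` is not finitely generated. -/
def Big (R : Type u) [CommRing R] (P : Type u) [AddCommGroup P] [Module R P] : Prop :=
  ∀ 𝔪 : Ideal R, 𝔪.IsMaximal → ∀ N : Submodule R P, N.FG → N ⊔ 𝔪 • (⊤ : Submodule R P) ≠ ⊤

theorem big_of_localized [Module.Projective R P]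
    (hP : ∀ (m : Ideal R) [m.IsMaximal],
      ¬ Module.Finite (Localization.AtPrime m) (LocalizedModule m.primeCompl P)) : Big R P := by
  intro 𝔪 h𝔪 N hN h
  haveI := h𝔪
  obtain ⟨t, rfl⟩ := hN
  exact hP 𝔪 (finite_localizedModule_of_span_sup 𝔪 t h)

theorem Big.of_surjective {Q : Type u} [AddCommGroup Q] [Module R Q] (h : Big R P)
    (f : Q →ₗ[R] P) (hf : Function.Surjective f) : Big R Q := by
  intro 𝔪 h𝔪 N hN hsup
  apply h 𝔪 h𝔪 (N.map f) (hN.map f)
  have h1 := congrArg (Submodule.map f) hsup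
  rw [Submodule.map_sup, Submodule.map_smul'', Submodule.map_top,
    LinearMap.range_eq_top.mpr hf] at h1
  exact h1

theorem Big.of_isCompl {Q : Type u} [AddCommGroup Q] [Module R Q] (h : Big R Q)
    (A B : Submodule R Q) (hAB : IsCompl A B) (hA : A.FG) : Big R B := by
  intro 𝔪 h𝔪 N hN hsup
  apply h 𝔪 h𝔪 (A ⊔ N.map B.subtype) (hA.sup (hN.map _))
  have key : A ⊔ B ≤ (A ⊔ N.map B.subtype) ⊔ 𝔪 • (⊤ : Submodule R Q) := by
    refine sup_le (le_sup_of_le_left le_sup_left) ?_
    calc B = (⊤ : Submodule R B).map B.subtype := (Submodule.map_subtype_top B).symm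
      _ = (N ⊔ 𝔪 • (⊤ : Submodule R B)).map B.subtype := by rw [hsup]
      _ = N.map B.subtype ⊔ 𝔪 • (⊤ : Submodule R B).map B.subtype := by
          rw [Submodule.map_sup, Submodule.map_smul'']
      _ ≤ (A ⊔ N.map B.subtype) ⊔ 𝔪 • (⊤ : Submodule R Q) :=
          sup_le_sup le_sup_right (Submodule.smul_mono le_rfl le_top)
  rw [eq_top_iff]
  exact hAB.sup_eq_top.ge.trans key

/-! ### The key lemma (Bass): unimodular elements in big projective modules -/

theorem exists_unimodular_add_core (J : Ideal R) (hJ : ∀ 𝔪 : Ideal R, 𝔪.IsMaximal → J ≤ 𝔪)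
    [IsNoetherianRing (R ⧸ J)] [Module.Projective R P] (hP : Big R P)
    (s : P) (M : Submodule R P) (hM : Submodule.span R {s} ⊔ M = ⊤) :
    ∃ m ∈ M, ∃ φ : P →ₗ[R] R, φ (s + m) = 1 := by
  classical
  obtain ⟨s', hs'⟩ := Module.projective_def'.mp (inferInstance : Module.Projective R P)
  let 𝒮 : Set (Ideal (R ⧸ J)) := {I | ∃ m ∈ M, I = (O R (s + m)).map (Ideal.Quotient.mk J)}
  have h𝒮 : 𝒮.Nonempty := ⟨_, 0, M.zero_mem, rfl⟩
  obtain ⟨I₀, ⟨m₀, hm₀, rfl⟩, hmax⟩ := set_has_maximal_iff_noetherian.mpr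
    (inferInstance : IsNoetherian (R ⧸ J) (R ⧸ J)) 𝒮 h𝒮
  refine ⟨m₀, hm₀, ?_⟩
  by_contra hcon
  have hOp : O R (s + m₀) ≠ ⊤ := by
    intro h
    have h1 : (1 : R) ∈ O R (s + m₀) := by rw [h]; exact Submodule.mem_top
    obtain ⟨φ, hφ⟩ := mem_O.mp h1
    exact hcon ⟨φ, hφ⟩
  obtain ⟨𝔪, h𝔪, hle⟩ := Ideal.exists_le_maximal _ hOp
  have hJ𝔪 : J ≤ 𝔪 := hJ 𝔪 h𝔪
  have hp𝔪 : s + m₀ ∈ 𝔪 • (⊤ : Submodule R P) := mem_smul_top_of_O_le 𝔪 _ hle
  -- Step A
  obtain ⟨a, ha𝔪, haM⟩ : ∃ a : R, a ∉ 𝔪 ∧ ∀ x : P, a • x ∈ M := by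
    have h1 : 𝔪 • (⊤ : Submodule R P) = 𝔪 • Submodule.span R {s} ⊔ 𝔪 • M := by
      rw [← Submodule.smul_sup, hM]
    have hp' := hp𝔪
    rw [h1] at hp'
    obtain ⟨u, hu, v, hv, huv⟩ := Submodule.mem_sup.mp hp'
    obtain ⟨c, hc, rfl⟩ := Submodule.mem_smul_span_singleton.mp hu
    have hvM : v ∈ M := Submodule.smul_le_right hv
    refine ⟨1 - c, fun h => h𝔪.ne_top ((Ideal.eq_top_iff_one _).mpr
      (by simpa using 𝔪.add_mem h hc)), ?_⟩
    have hs : (1 - c) • s ∈ M := by
      have h2 : (1 - c) • s = v - m₀ := by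
        rw [sub_smul, one_smul, sub_eq_sub_iff_add_eq_add, ← huv]; abel
      rw [h2]; exact M.sub_mem hvM hm₀
    intro x
    have hx : x ∈ Submodule.span R {s} ⊔ M := by rw [hM]; exact Submodule.mem_top
    obtain ⟨u, hu, v, hv, rfl⟩ := Submodule.mem_sup.mp hx
    obtain ⟨r, rfl⟩ := Submodule.mem_span_singleton.mp hu
    rw [smul_add, smul_comm]
    exact M.add_mem (M.smul_mem _ hs) (M.smul_mem _ hv)
  -- Step C
  let S : Finset P := (s' (s + m₀)).support
  have hN : ∀ x : P, (∀ y ∈ S, s' x y ∈ J) → x ∈ 𝔪 • (⊤ : Submodule R P) := by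
    intro x hx
    have hle1 : (O R (s + m₀)).map (Ideal.Quotient.mk J) ≤
        (O R (s + m₀ + a • x)).map (Ideal.Quotient.mk J) := by
      rw [Ideal.map_le_iff_le_comap]
      intro r hr
      obtain ⟨φ, rfl⟩ := mem_O.mp hr
      rw [Ideal.mem_comap, apply_eq_sum s' hs' φ (s + m₀), map_sum]
      refine Ideal.sum_mem _ fun y hy => ?_
      rw [map_mul]
      refine Ideal.mul_mem_right _ _ ?_
      have h1 : Ideal.Quotient.mk J (s' (s + m₀) y) =
          Ideal.Quotient.mk J (s' (s + m₀ + a • x) y) := by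
        rw [Ideal.Quotient.eq]
        have h2 : s' (s + m₀) y - s' (s + m₀ + a • x) y = - (a * s' x y) := by
          simp
        rw [h2]; exact J.neg_mem (J.mul_mem_left _ (hx y hy))
      rw [h1]
      exact Ideal.mem_map_of_mem _ (mem_O.mpr ⟨(Finsupp.lapply y) ∘ₗ s', rfl⟩)
    have hle2 : (O R (s + m₀ + a • x)).map (Ideal.Quotient.mk J) ≤
        (O R (s + m₀)).map (Ideal.Quotient.mk J) := by
      by_contra h
      exact hmax _ ⟨m₀ + a • x, M.add_mem hm₀ (haM x), by rw [add_assoc]⟩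
        (lt_of_le_of_ne hle1 (fun heq => h heq.ge))
    have hle3 : O R (s + m₀ + a • x) ≤ 𝔪 := by
      intro r hr
      have h2 : Ideal.Quotient.mk J r ∈ 𝔪.map (Ideal.Quotient.mk J) :=
        Ideal.map_mono hle (hle2 (Ideal.mem_map_of_mem _ hr))
      have h3 : r ∈ (𝔪.map (Ideal.Quotient.mk J)).comap (Ideal.Quotient.mk J) := h2
      rwa [Ideal.comap_map_of_surjective _ Ideal.Quotient.mk_surjective,
        ← RingHom.ker_eq_comap_bot, Ideal.mk_ker, sup_eq_left.mpr hJ𝔪] at h3
    have h4 : s + m₀ + a • x ∈ 𝔪 • (⊤ : Submodule R P) := mem_smul_top_of_O_le 𝔪 _ hle3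
    have h5 : a • x ∈ 𝔪 • (⊤ : Submodule R P) := by
      have h6 := Submodule.sub_mem _ h4 hp𝔪
      simpa using h6
    obtain ⟨b, i, hi, hb⟩ := h𝔪.exists_inv ha𝔪
    have hx' : x = b • (a • x) + i • x := by
      rw [smul_smul, ← add_smul, hb, one_smul]
    rw [hx']
    exact Submodule.add_mem _ (Submodule.smul_mem _ _ h5)
      (Submodule.smul_mem_smul hi Submodule.mem_top)
  -- Step D
  let Ψ : P →ₗ[R] (S → R ⧸ J) := LinearMap.pi fun y =>
    (Ideal.Quotient.mkₐ R J).toLinearMap ∘ₗ (Finsupp.lapply (y : P)) ∘ₗ s'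
  have hΨ : ∀ (x : P) (y : S), Ψ x y = Ideal.Quotient.mk J (s' x y) := fun x y => rfl
  have hfg : (LinearMap.range Ψ).FG := by
    have hsurj : Function.Surjective (algebraMap R (R ⧸ J)) := by
      intro x
      obtain ⟨r, rfl⟩ := Ideal.Quotient.mk_surjective x
      exact ⟨r, rfl⟩
    have h1 : (Submodule.span (R ⧸ J) (LinearMap.range Ψ : Set (S → R ⧸ J))).FG :=
      IsNoetherian.noetherian _
    have h2 := h1.restrictScalars_of_surjective (R := R) hsurj
    rwa [Submodule.restrictScalars_span R (R ⧸ J) hsurj, Submodule.span_eq] at h2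
  obtain ⟨T, hT⟩ := hfg
  have hex : ∀ w : (S → R ⧸ J), w ∈ T → ∃ x, Ψ x = w := by
    intro w hw
    have h1 : w ∈ LinearMap.range Ψ := by rw [← hT]; exact Submodule.subset_span hw
    exact h1
  choose! g hg using hex
  let N : Submodule R P := Submodule.span R (g '' (T : Set (S → R ⧸ J)))
  have hNfg : N.FG := Submodule.fg_span ((Finset.finite_toSet T).image g)
  have hsup : N ⊔ 𝔪 • (⊤ : Submodule R P) = ⊤ := by
    rw [eq_top_iff]
    intro x _
    have hx : Ψ x ∈ Submodule.span R (T : Set (S → R ⧸ J)) := by rw [hT]; exact ⟨x, rfl⟩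
    have hsub : Submodule.span R (T : Set (S → R ⧸ J)) ≤ N.map Ψ := by
      rw [Submodule.span_le]
      intro w hw
      exact ⟨g w, Submodule.subset_span ⟨w, hw, rfl⟩, hg w hw⟩
    obtain ⟨u, hu, hux⟩ := hsub hx
    have hker : ∀ y ∈ S, s' (x - u) y ∈ J := by
      intro y hy
      have h0 : Ψ (x - u) = 0 := by rw [map_sub, hux, sub_self]
      have h1 := congrFun h0 ⟨y, hy⟩
      rw [hΨ] at h1
      exact Ideal.Quotient.eq_zero_iff_mem.mp h1
    have h2 := hN (x - u) hker
    have hxu : x = u + (x - u) := by abel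
    rw [hxu]
    exact Submodule.add_mem _ (Submodule.mem_sup_left hu) (Submodule.mem_sup_right h2)
  exact hP 𝔪 h𝔪 N hNfg hsup

theorem exists_unimodular_add [IsNoetherianRing (R ⧸ (⊥ : Ideal R).jacobson)]
    [Module.Projective R P] (hP : Big R P)
    (s : P) (M : Submodule R P) (hM : Submodule.span R {s} ⊔ M = ⊤) :
    ∃ m ∈ M, ∃ φ : P →ₗ[R] R, φ (s + m) = 1 :=
  exists_unimodular_add_core (⊥ : Ideal R).jacobson
    (fun 𝔪 h𝔪 => sInf_le ⟨bot_le, h𝔪⟩) hP s M hM

end Groth.Agent.H13.Bass
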