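import Mathlib
import Groth.Agent.H13.Bass

/-!
# Bass: big projective modules, part 2 (helper library for S7111, S7112)
-/

set_option autoImplicit false
set_option linter.unusedSectionVars false
set_option linter.unusedVariables false
set_option linter.style.haveILetI false

universe u

namespace Groth.Agent.H13.Bass

variable {R : Type u} [CommRing R] {P : Type u} [AddCommGroup P] [Module R P]

theorem projective_of_isCompl [Module.Projective R P] (A B : Submodule R P) (h : IsCompl A B) :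
    Module.Projective R B :=
  Module.Projective.of_split B.subtype (B.projectionOnto A h.symm)
    (Submodule.projectionOnto_comp_subtype h.symm)

section SplitPair

variable {A : Type u} [AddCommGroup A] [Module R A]

/-- explicit projection onto `ker r` for a split pair `(i, r)`. -/
def kerProj (i : A →ₗ[R] P) (r : P →ₗ[R] A) (hri : ∀ a, r (i a) = a) :
    P →ₗ[R] LinearMap.ker r :=
  LinearMap.codRestrict (LinearMap.ker r) (LinearMap.id - i ∘ₗ r) (fun x => by
    show r (x - i (r x)) = 0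
    rw [map_sub, hri, sub_self])

theorem kerProj_coe (i : A →ₗ[R] P) (r : P →ₗ[R] A) (hri : ∀ a, r (i a) = a) (x : P) :
    (kerProj i r hri x : P) = x - i (r x) := rfl

theorem kerProj_add (i : A →ₗ[R] P) (r : P →ₗ[R] A) (hri : ∀ a, r (i a) = a) (x : P) :
    (kerProj i r hri x : P) + i (r x) = x := by
  rw [kerProj_coe]; abel

theorem kerProj_apply_ker (i : A →ₗ[R] P) (r : P →ₗ[R] A) (hri : ∀ a, r (i a) = a)
    (x : LinearMap.ker r) : kerProj i r hri x = x := by
  apply Subtype.ext
  have hx : r (x : P) = 0 := x.2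
  rw [kerProj_coe, hx, map_zero, sub_zero]

theorem kerProj_apply_range (i : A →ₗ[R] P) (r : P →ₗ[R] A) (hri : ∀ a, r (i a) = a)
    (a : A) : kerProj i r hri (i a) = 0 := by
  apply Subtype.ext
  rw [kerProj_coe, hri, sub_self]; rfl

theorem Big.ker_of_split [Module.Finite R A] (h : Big R P) (i : A →ₗ[R] P) (r : P →ₗ[R] A)
    (hri : ∀ a, r (i a) = a) : Big R (LinearMap.ker r) :=
  h.of_isCompl _ _ (Groth.Agent.S7109.isCompl_range_ker i r hri)
    (by rw [LinearMap.range_eq_map]; exact Module.Finite.fg_top.map i)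

theorem projective_ker_of_split [Module.Projective R P] (i : A →ₗ[R] P) (r : P →ₗ[R] A)
    (hri : ∀ a, r (i a) = a) : Module.Projective R (LinearMap.ker r) :=
  projective_of_isCompl _ _ (Groth.Agent.S7109.isCompl_range_ker i r hri)

theorem glue_comp (K K' : Submodule R P) (h : IsCompl K K')
    (i : A →ₗ[R] K') (r : K' →ₗ[R] A) (hri : r ∘ₗ i = LinearMap.id) :
    (LinearMap.prod (K.projectionOnto K' h) (r ∘ₗ K'.projectionOnto K h.symm)) ∘ₗ
      (LinearMap.coprod K.subtype (K'.subtype ∘ₗ i)) = LinearMap.id := by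
  apply LinearMap.ext
  rintro ⟨k, v⟩
  apply Prod.ext
  · show K.projectionOnto K' h ((k : P) + ((i v : K') : P)) = k
    rw [map_add, Submodule.projectionOnto_apply_left, Submodule.projectionOnto_apply_right,
      add_zero]
  · show r (K'.projectionOnto K h.symm ((k : P) + ((i v : K') : P))) = v
    rw [map_add, Submodule.projectionOnto_apply_right, Submodule.projectionOnto_apply_left,
      zero_add]
    exact LinearMap.congr_fun hri v

end SplitPair

/-! ### Splitting off free summands with prescribed image -/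

theorem splitL [IsNoetherianRing (R ⧸ (⊥ : Ideal R).jacobson)]
    (D : Type u) [AddCommGroup D] [Module R D] :
    ∀ (n : ℕ) (K : Type u) [AddCommGroup K] [Module R K] [Module.Projective R K], Big R K →
    ∀ (g : K →ₗ[R] D) (W : Submodule R D) (d : Fin n → D),
      Submodule.span R (Set.range d) ⊔ W = ⊤ → LinearMap.range g ⊔ W = ⊤ →
      ∃ (i : (Fin n → R) →ₗ[R] K) (r : K →ₗ[R] (Fin n → R)),
        r ∘ₗ i = LinearMap.id ∧ LinearMap.range (g ∘ₗ i) ⊔ W = ⊤ := by
  intro n
  induction n with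
  | zero =>
    intro K _ _ _ hK g W d h1 h2
    refine ⟨0, 0, ?_, ?_⟩
    · apply LinearMap.ext; intro x; exact Subsingleton.elim _ _
    · rw [Set.range_eq_empty d, Submodule.span_empty, bot_sup_eq] at h1
      rw [h1, sup_top_eq]
  | succ n ih =>
    intro K _ _ _ hK g W d h1 h2
    have hd0 : d 0 ∈ LinearMap.range g ⊔ W := by rw [h2]; exact Submodule.mem_top
    obtain ⟨_, ⟨z, rfl⟩, w, hw, hzw⟩ := Submodule.mem_sup.mp hd0
    obtain ⟨V, hV⟩ : ∃ V : Submodule R D,
        V = Submodule.span R (Set.range (Fin.tail d)) ⊔ W := ⟨_, rfl⟩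
    have hWV : W ≤ V := hV ▸ le_sup_right
    have hspan : Submodule.span R {d 0} ⊔ V = ⊤ := by
      rw [hV, ← sup_assoc, ← Submodule.span_union, Set.singleton_union, ← Fin.range_fin_succ]
      exact h1
    have hM : Submodule.span R {z} ⊔ V.comap g = ⊤ := by
      rw [eq_top_iff]
      intro x _
      have hx : g x ∈ Submodule.span R {d 0} ⊔ V := by rw [hspan]; exact Submodule.mem_top
      obtain ⟨_, hy, v, hv, hyv⟩ := Submodule.mem_sup.mp hx
      obtain ⟨c, rfl⟩ := Submodule.mem_span_singleton.mp hy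
      have h3 : x - c • z ∈ V.comap g := by
        show g (x - c • z) ∈ V
        rw [map_sub, map_smul, ← hyv, ← hzw, smul_add]
        have h4 : c • g z + c • w + v - c • g z = c • w + v := by abel
        rw [h4]
        exact V.add_mem (V.smul_mem c (hWV hw)) hv
      have hx' : x = c • z + (x - c • z) := by abel
      rw [hx']
      exact Submodule.add_mem_sup
        (Submodule.smul_mem _ c (Submodule.mem_span_singleton_self z)) h3
    obtain ⟨m, hmM, φ, hφ⟩ := exists_unimodular_add hK z (V.comap g) hM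
    obtain ⟨u, hu⟩ : ∃ u, u = z + m := ⟨_, rfl⟩
    rw [← hu] at hφ
    have hgm : g m ∈ V := hmM
    let j₀ : R →ₗ[R] K := LinearMap.toSpanSingleton R K u
    have hj₀ : ∀ c : R, j₀ c = c • u := fun c => rfl
    have hφj : ∀ c : R, φ (j₀ c) = c := by
      intro c
      rw [hj₀, map_smul, hφ, smul_eq_mul, mul_one]
    haveI : Module.Projective R (LinearMap.ker φ) := projective_ker_of_split j₀ φ hφj
    have hK₁ : Big R (LinearMap.ker φ) := hK.ker_of_split j₀ φ hφj
    let π : K →ₗ[R] LinearMap.ker φ := kerProj j₀ φ hφj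
    obtain ⟨W₁, hW₁⟩ : ∃ W₁ : Submodule R D, W₁ = W ⊔ Submodule.span R {g u} := ⟨_, rfl⟩
    have hWW₁ : W ≤ W₁ := hW₁ ▸ le_sup_left
    have hguW₁ : g u ∈ W₁ := by
      rw [hW₁]; exact Submodule.mem_sup_right (Submodule.mem_span_singleton_self _)
    have hgu : d 0 ∈ V ⊔ Submodule.span R {g u} := by
      have h3 : d 0 = (w - g m) + g u := by rw [hu, map_add, ← hzw]; abel
      rw [h3]
      exact Submodule.add_mem_sup (V.sub_mem (hWV hw) hgm)
        (Submodule.mem_span_singleton_self _)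
    have h1' : Submodule.span R (Set.range (Fin.tail d)) ⊔ W₁ = ⊤ := by
      rw [hW₁, ← sup_assoc, ← hV, eq_top_iff, ← hspan]
      exact sup_le ((Submodule.span_singleton_le_iff_mem _ _).mpr hgu) le_sup_left
    have h2' : LinearMap.range (g ∘ₗ (LinearMap.ker φ).subtype) ⊔ W₁ = ⊤ := by
      rw [eq_top_iff, ← h2]
      refine sup_le ?_ (le_sup_of_le_right hWW₁)
      rintro _ ⟨x, rfl⟩
      have hx : g x = (g ∘ₗ (LinearMap.ker φ).subtype) (π x) + φ x • g u := by
        have h3 := kerProj_add j₀ φ hφj x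
        conv_lhs => rw [← h3]
        rw [map_add, hj₀, map_smul]
        rfl
      rw [hx]
      exact Submodule.add_mem_sup ⟨_, rfl⟩ (Submodule.smul_mem _ _ hguW₁)
    obtain ⟨i₁, r₁, hri, hrange⟩ :=
      ih (LinearMap.ker φ) hK₁ (g ∘ₗ (LinearMap.ker φ).subtype) W₁ (Fin.tail d) h1' h2'
    let e : (R × (Fin n → R)) ≃ₗ[R] (Fin (n + 1) → R) :=
      Fin.consLinearEquiv R (fun _ : Fin (n + 1) => R)
    let i' : (R × (Fin n → R)) →ₗ[R] K :=
      LinearMap.coprod j₀ ((LinearMap.ker φ).subtype ∘ₗ i₁)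
    let r' : K →ₗ[R] (R × (Fin n → R)) := LinearMap.prod φ (r₁ ∘ₗ π)
    have hi' : ∀ (c : R) (v : Fin n → R), i' (c, v) = c • u + ((i₁ v : LinearMap.ker φ) : K) :=
      fun c v => rfl
    have hr'i' : r' ∘ₗ i' = LinearMap.id := by
      apply LinearMap.ext
      rintro ⟨c, v⟩
      have hφi : φ ((i₁ v : LinearMap.ker φ) : K) = 0 := (i₁ v).2
      apply Prod.ext
      · show φ (i' (c, v)) = c
        rw [hi', map_add, map_smul, hφ, hφi, smul_eq_mul, mul_one, add_zero]
      · show r₁ (π (i' (c, v))) = v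
        have h3 : π (i' (c, v)) = i₁ v := by
          rw [hi', map_add, ← hj₀]
          show kerProj j₀ φ hφj (j₀ c) + kerProj j₀ φ hφj ((i₁ v : LinearMap.ker φ) : K) = i₁ v
          rw [kerProj_apply_range, kerProj_apply_ker, zero_add]
        rw [h3]
        exact LinearMap.congr_fun hri v
    refine ⟨i' ∘ₗ e.symm.toLinearMap, e.toLinearMap ∘ₗ r', ?_, ?_⟩
    · apply LinearMap.ext
      intro x
      show e (r' (i' (e.symm x))) = x
      have h3 : r' (i' (e.symm x)) = e.symm x := LinearMap.congr_fun hr'i' (e.symm x)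
      rw [h3, LinearEquiv.apply_symm_apply]
    · rw [← LinearMap.comp_assoc,
        LinearMap.range_comp_of_range_eq_top _ (LinearEquiv.range e.symm)]
      rw [eq_top_iff, ← hrange, hW₁]
      refine sup_le ?_ (sup_le le_sup_right ?_)
      · rintro _ ⟨v, rfl⟩
        refine Submodule.mem_sup_left ⟨(0, v), ?_⟩
        show g (i' (0, v)) = g ((i₁ v : LinearMap.ker φ) : K)
        rw [hi', zero_smul, zero_add]
      · rw [Submodule.span_singleton_le_iff_mem]
        refine Submodule.mem_sup_left ⟨(1, 0), ?_⟩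
        show g (i' (1, 0)) = g u
        rw [hi', one_smul, map_zero]
        simp

/-! ### The endgame -/

theorem endgame {A₀ : Type u} [AddCommGroup A₀] [Module R A₀] [Module.Projective R A₀]
    {B : Type u} [AddCommGroup B] [Module R B]
    (j : B →ₗ[R] A₀ × P) (ρ : A₀ × P →ₗ[R] B) (hρj : ρ ∘ₗ j = LinearMap.id)
    (hsurj : Function.Surjective (LinearMap.fst R A₀ P ∘ₗ j)) :
    ∃ (K K' : Submodule R P), IsCompl K K' ∧
      K = (LinearMap.range j).comap (LinearMap.inr R A₀ P) ∧
      Nonempty ((K × A₀) ≃ₗ[R] B) := by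
  obtain ⟨σ, hσ⟩ := Module.projective_lifting_property (LinearMap.fst R A₀ P ∘ₗ j)
    LinearMap.id hsurj
  have hσ' : ∀ a, (j (σ a)).1 = a := fun a => LinearMap.congr_fun hσ a
  have hρj' : ∀ b, ρ (j b) = b := fun b => LinearMap.congr_fun hρj b
  let τ : B →ₗ[R] B := LinearMap.id - σ ∘ₗ LinearMap.fst R A₀ P ∘ₗ j
  have hτ : ∀ b, τ b = b - σ (j b).1 := fun b => rfl
  have hτ1 : ∀ b, (j (τ b)).1 = 0 := by
    intro b
    rw [hτ, map_sub, Prod.fst_sub, hσ', sub_self]
  have hjτ : ∀ b, ((0 : A₀), (j (τ b)).2) = j (τ b) := by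
    intro b
    apply Prod.ext
    · exact (hτ1 b).symm
    · rfl
  obtain ⟨K, hKdef⟩ : ∃ K : Submodule R P,
      K = (LinearMap.range j).comap (LinearMap.inr R A₀ P) := ⟨_, rfl⟩
  have hmemK : ∀ b, (j (τ b)).2 ∈ K := by
    intro b
    rw [hKdef]
    show LinearMap.inr R A₀ P (j (τ b)).2 ∈ LinearMap.range j
    exact ⟨τ b, (hjτ b).symm⟩
  have hK : ∀ x ∈ K, j (ρ (0, x)) = (0, x) := by
    intro x hx
    rw [hKdef] at hx
    obtain ⟨b, hb⟩ := hx
    have h1 : (LinearMap.inr R A₀ P) x = (0, x) := rfl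
    rw [← h1, ← hb, hρj']
  have hτK : ∀ x ∈ K, τ (ρ (0, x)) = ρ (0, x) := by
    intro x hx
    rw [hτ, hK x hx, map_zero, sub_zero]
  let f : P →ₗ[R] K := LinearMap.codRestrict K
    (LinearMap.snd R A₀ P ∘ₗ j ∘ₗ τ ∘ₗ ρ ∘ₗ LinearMap.inr R A₀ P) (fun x => hmemK _)
  have hf : ∀ x : K, f x = x := by
    intro x
    apply Subtype.ext
    show (j (τ (ρ (0, (x : P))))).2 = x
    rw [hτK x x.2, hK x x.2]
  refine ⟨K, LinearMap.ker f, LinearMap.isCompl_of_proj hf, hKdef, ⟨?_⟩⟩
  refine LinearEquiv.ofLinearMap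
    (LinearMap.coprod (ρ ∘ₗ LinearMap.inr R A₀ P ∘ₗ K.subtype) σ)
    (LinearMap.prod (LinearMap.codRestrict K (LinearMap.snd R A₀ P ∘ₗ j ∘ₗ τ) hmemK)
      (LinearMap.fst R A₀ P ∘ₗ j)) ?_ ?_
  · apply LinearMap.ext
    intro b
    show ρ (0, (j (τ b)).2) + σ (j b).1 = b
    rw [hjτ, hρj', hτ]
    abel
  · apply LinearMap.ext
    rintro ⟨x, a⟩
    have h1 := hK x x.2
    have h2 : τ (ρ (0, (x : P)) + σ a) = ρ (0, (x : P)) := by
      rw [hτ, map_add, Prod.fst_add, h1, hσ']
      simp
    apply Prod.ext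
    · apply Subtype.ext
      show (j (τ (ρ (0, (x : P)) + σ a))).2 = x
      rw [h2, h1]
    · show (j (ρ (0, (x : P)) + σ a)).1 = a
      rw [map_add, h1, Prod.fst_add, hσ']
      simp

/-! ### Finite stably free / free summands containing a given element -/

theorem exists_summand [IsNoetherianRing (R ⧸ (⊥ : Ideal R).jacobson)] [Module.Projective R P]
    (hP : Big R P) (s : P) :
    ∃ (n : ℕ) (K K' : Submodule R P), IsCompl K K' ∧ s ∈ K ∧
      Module.Free R (K × (Fin n → R)) ∧ Module.Finite R K := by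
  obtain ⟨n, K₁, K₁', hc, hfree, hfin, hs⟩ := Groth.Agent.S7109.result R P s
  haveI : Module.Projective R K₁' := projective_of_isCompl K₁ K₁' hc
  have hQ : Big R ((Fin n → R) × P) :=
    hP.of_surjective (LinearMap.snd R (Fin n → R) P) LinearMap.snd_surjective
  have hK₁' : Big R K₁' := hQ.of_isCompl K₁ K₁' hc (Module.Finite.iff_fg.mp hfin)
  obtain ⟨i, r, hri, hrange⟩ := splitL (Fin n → R) n K₁' hK₁'
    (LinearMap.fst R (Fin n → R) P ∘ₗ K₁'.subtype) (K₁.map (LinearMap.fst R (Fin n → R) P))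
    (Pi.basisFun R (Fin n)) (by rw [Module.Basis.span_eq, top_sup_eq])
    (by
      rw [LinearMap.range_comp, Submodule.range_subtype, ← Submodule.map_sup,
        hc.symm.sup_eq_top, Submodule.map_top,
        LinearMap.range_eq_top.mpr LinearMap.fst_surjective])
  let j : (K₁ × (Fin n → R)) →ₗ[R] (Fin n → R) × P :=
    LinearMap.coprod K₁.subtype (K₁'.subtype ∘ₗ i)
  let ρ : (Fin n → R) × P →ₗ[R] (K₁ × (Fin n → R)) :=
    LinearMap.prod (K₁.projectionOnto K₁' hc) (r ∘ₗ K₁'.projectionOnto K₁ hc.symm)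
  have hρj : ρ ∘ₗ j = LinearMap.id := glue_comp K₁ K₁' hc i r hri
  have hj : ∀ (k : K₁) (v : Fin n → R), j (k, v) = (k : (Fin n → R) × P) + ((i v : K₁') :
      (Fin n → R) × P) := fun k v => rfl
  have hsurj : Function.Surjective (LinearMap.fst R (Fin n → R) P ∘ₗ j) := by
    rw [← LinearMap.range_eq_top, eq_top_iff, ← hrange]
    refine sup_le ?_ ?_
    · rintro _ ⟨v, rfl⟩
      refine ⟨(0, v), ?_⟩
      show (j (0, v)).1 = ((i v : K₁') : (Fin n → R) × P).1
      rw [hj]; simp
    · rintro _ ⟨k, hk, rfl⟩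
      refine ⟨(⟨k, hk⟩, 0), ?_⟩
      show (j (⟨k, hk⟩, 0)).1 = k.1
      rw [hj]; simp
  obtain ⟨K, K', hKK', hKdef, ⟨e⟩⟩ := endgame j ρ hρj hsurj
  haveI := hfree
  haveI := hfin
  haveI : Module.Free R (K × (Fin n → R)) := Module.Free.of_equiv e.symm
  haveI : Module.Finite R (K × (Fin n → R)) := Module.Finite.equiv e.symm
  refine ⟨n, K, K', hKK', ?_, inferInstance,
    Module.Finite.of_surjective (LinearMap.fst R K (Fin n → R)) LinearMap.fst_surjective⟩
  rw [hKdef]
  refine ⟨(⟨_, hs⟩, 0), ?_⟩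
  rw [hj]; simp

theorem exists_free_summand [IsNoetherianRing (R ⧸ (⊥ : Ideal R).jacobson)]
    [Module.Projective R P] (hP : Big R P) (y : P) :
    ∃ F C : Submodule R P, IsCompl F C ∧ Module.Free R F ∧ Module.Finite R F ∧ y ∈ F := by
  obtain ⟨n, K, K', hKK', hy, hfree, hfin⟩ := exists_summand hP y
  haveI : Module.Projective R K' := projective_of_isCompl K K' hKK'
  haveI := hfin
  haveI := hfree
  have hK' : Big R K' := hP.of_isCompl K K' hKK' (Module.Finite.iff_fg.mp hfin)
  obtain ⟨i, r, hri, -⟩ := splitL PUnit.{u + 1} n K' hK' 0 ⊤ 0 (sup_top_eq _) (sup_top_eq _)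
  let jF : (K × (Fin n → R)) →ₗ[R] P := LinearMap.coprod K.subtype (K'.subtype ∘ₗ i)
  let ρF : P →ₗ[R] (K × (Fin n → R)) :=
    LinearMap.prod (K.projectionOnto K' hKK') (r ∘ₗ K'.projectionOnto K hKK'.symm)
  have hρj : ∀ a, ρF (jF a) = a := fun a => LinearMap.congr_fun (glue_comp K K' hKK' i r hri) a
  have hinj : Function.Injective jF := Function.LeftInverse.injective hρj
  refine ⟨LinearMap.range jF, LinearMap.ker ρF,
    Groth.Agent.S7109.isCompl_range_ker jF ρF hρj, ?_, ?_, ?_⟩
  · exact Module.Free.of_equiv (LinearEquiv.ofInjective jF hinj)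
  · exact inferInstance
  · refine ⟨(⟨y, hy⟩, 0), ?_⟩
    show (y : P) + ((i 0 : K') : P) = y
    simp

/-! ### Countably generated big projective modules are free -/

theorem free_of_countable_big [IsNoetherianRing (R ⧸ (⊥ : Ideal R).jacobson)]
    [Module.Projective R P] (hP : Big R P)
    (hc : ∃ s : Set P, s.Countable ∧ Submodule.span R s = ⊤) : Module.Free R P := by
  classical
  obtain ⟨s0, hs0, hspan0⟩ := hc
  obtain ⟨g, hg⟩ := (hs0.union (Set.countable_singleton (0 : P))).exists_eq_range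
    ⟨0, Or.inr rfl⟩
  have hgspan : Submodule.span R (Set.range g) = ⊤ := by
    rw [← hg, eq_top_iff, ← hspan0]; exact Submodule.span_mono Set.subset_union_left
  have step : ∀ (q : {q : Submodule R P × Submodule R P // IsCompl q.1 q.2 ∧ Big R q.2})
      (x : P),
      ∃ (q' : {q : Submodule R P × Submodule R P // IsCompl q.1 q.2 ∧ Big R q.2})
        (Fn : Submodule R P),
        Module.Free R Fn ∧ Fn ≤ q.1.2 ∧ q'.1.1 = q.1.1 ⊔ Fn ∧ x ∈ q'.1.1 := by
    rintro ⟨⟨G, C⟩, hGC, hCbig⟩ x
    obtain ⟨gx, cx, hgx, hcx, hsum⟩ :=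
      Submodule.codisjoint_iff_exists_add_eq.mp hGC.codisjoint x
    haveI : Module.Projective R C := projective_of_isCompl G C hGC
    obtain ⟨F', C', hcompl, hfree, hfin, hmem⟩ :=
      exists_free_summand (R := R) hCbig (⟨cx, hcx⟩ : C)
    have hinj : Function.Injective C.subtype := C.injective_subtype
    have hsupC : F'.map C.subtype ⊔ C'.map C.subtype = C := by
      rw [← Submodule.map_sup, hcompl.sup_eq_top, Submodule.map_subtype_top]
    have hdisj : Disjoint (F'.map C.subtype) (C'.map C.subtype) := by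
      rw [disjoint_iff, ← Submodule.map_inf _ hinj, hcompl.inf_eq_bot, Submodule.map_bot]
    have hcompl' : IsCompl (G ⊔ F'.map C.subtype) (C'.map C.subtype) :=
      hdisj.isCompl_sup_left_of_isCompl_sup_right (by rw [hsupC]; exact hGC)
    have hC'big : Big R C' := hCbig.of_isCompl F' C' hcompl (Module.Finite.iff_fg.mp hfin)
    have hbig' : Big R (C'.map C.subtype) :=
      hC'big.of_surjective (Submodule.equivMapOfInjective C.subtype hinj C').symm.toLinearMap
        (Submodule.equivMapOfInjective C.subtype hinj C').symm.surjective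
    refine ⟨⟨(G ⊔ F'.map C.subtype, C'.map C.subtype), hcompl', hbig'⟩, F'.map C.subtype, ?_,
      Submodule.map_subtype_le C F', rfl, ?_⟩
    · haveI := hfree
      exact Module.Free.of_equiv (Submodule.equivMapOfInjective C.subtype hinj F')
    · rw [← hsum]
      exact Submodule.add_mem _ (Submodule.mem_sup_left hgx)
        (Submodule.mem_sup_right (Submodule.mem_map.mpr ⟨⟨cx, hcx⟩, hmem, rfl⟩))
  choose nxt Fof hfree hle hsup hmem using step
  have hP' : Big R (⊤ : Submodule R P) :=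
    hP.of_surjective (⊤ : Submodule R P).subtype
      (fun x => ⟨⟨x, Submodule.mem_top⟩, rfl⟩)
  let seq : ℕ → {q : Submodule R P × Submodule R P // IsCompl q.1 q.2 ∧ Big R q.2} :=
    fun n => Nat.rec ⟨(⊥, ⊤), isCompl_bot_top, hP'⟩ (fun n q => nxt q (g n)) n
  have hseq0 : (seq 0).1.1 = ⊥ := rfl
  have hseqS : ∀ n, seq (n + 1) = nxt (seq n) (g n) := fun n => rfl
  let L : ℕ → Submodule R P := fun n => Fof (seq n) (g n)
  let G : ℕ → Submodule R P := fun n => (seq n).1.1
  have hGS : ∀ n, G (n + 1) = G n ⊔ L n := fun n => by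
    show (seq (n + 1)).1.1 = _
    rw [hseqS n, hsup]
  have hGmono : ∀ m n, m ≤ n → G m ≤ G n := by
    intro m n hmn
    induction hmn with
    | refl => exact le_rfl
    | step _ ih => exact ih.trans (by rw [hGS]; exact le_sup_left)
  have hind : iSupIndep L := by
    apply Groth.Agent.H46.Kap.iSupIndep_of_linearOrder L G
    · intro n j hj
      calc L j ≤ G (j + 1) := by rw [hGS]; exact le_sup_right
        _ ≤ G n := hGmono _ _ hj
    · intro n
      exact ((seq n).2.1.disjoint.mono_right (hle (seq n) (g n))).symm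
  have hsupL : iSup L = ⊤ := by
    have hGL : ∀ n, G n ≤ iSup L := by
      intro n
      induction n with
      | zero => show (seq 0).1.1 ≤ _; rw [hseq0]; exact bot_le
      | succ n ih => rw [hGS]; exact sup_le ih (le_iSup L n)
    rw [eq_top_iff, ← hgspan, Submodule.span_le]
    rintro _ ⟨n, rfl⟩
    apply hGL (n + 1)
    show g n ∈ (seq (n + 1)).1.1
    rw [hseqS n]
    exact hmem (seq n) (g n)
  have hint : DirectSum.IsInternal L :=
    DirectSum.isInternal_submodule_of_iSupIndep_of_iSup_eq_top hind hsupL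
  haveI : ∀ n, Module.Free R (L n) := fun n => hfree (seq n) (g n)
  exact Module.Free.of_equiv (LinearEquiv.ofBijective (DirectSum.coeLinearMap L) hint)

end Groth.Agent.H13.Bass
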