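import Mathlib

/-!
# A Cartier-type nonvanishing: `det (diag (t_i^(p-1)) + (dd_j f_i)) ≠ 0`

Let `A` be a domain of characteristic `p`, `t_1, …, t_n ∈ A` with `dt_i` a basis of `Ω_{A/k}`,
`dd_j` the dual derivations.  Then for ARBITRARY `f_i ∈ A` the determinant of
`diag (t_i^(p-1)) + (dd_j f_i)` is nonzero.  Proof: the operator `E = ∏_j dd_j^(p-1)` kills every
`dd_j`-exact element, and `E (det M) = ((p-1)!)^n` by a row-telescoping argument using the
derivative of a determinant and the Piola identity.
-/

set_option autoImplicit false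

namespace Groth.Agent.H13.CartierDet

open Finset

variable {k : Type*} {A : Type*} [CommRing k] [CommRing A] [Algebra k A]

theorem deriv_mul (δ : Derivation k A A) (a b : A) : δ (a * b) = δ a * b + a * δ b := by
  rw [Derivation.leibniz, smul_eq_mul, smul_eq_mul]; ring

theorem deriv_prod {ι : Type*} [DecidableEq ι] (δ : Derivation k A A) (s : Finset ι) (g : ι → A) :
    δ (∏ i ∈ s, g i) = ∑ i ∈ s, δ (g i) * ∏ l ∈ s.erase i, g l := by
  induction s using Finset.induction_on with
  | empty => simp
  | insert a s ha ih =>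
    rw [Finset.prod_insert ha, deriv_mul, ih, Finset.sum_insert ha, Finset.erase_insert ha,
      Finset.mul_sum]
    congr 1
    apply Finset.sum_congr rfl
    intro i hi
    have hai : a ≠ i := fun h => ha (h ▸ hi)
    rw [Finset.erase_insert_of_ne hai,
      Finset.prod_insert (fun h => ha (Finset.mem_of_mem_erase h))]
    ring

section Det

variable {n : Type*} [Fintype n] [DecidableEq n]

theorem det_rowform (Z : Matrix n n A) :
    Z.det = ∑ σ : Equiv.Perm n, ((Equiv.Perm.sign σ : ℤ) : A) * ∏ i, Z i (σ i) := by
  rw [← Matrix.det_transpose, Matrix.det_apply']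
  rfl

/-- Derivative of a determinant: sum over rows. -/
theorem deriv_det (δ : Derivation k A A) (Y : Matrix n n A) :
    δ Y.det = ∑ i, (Y.updateRow i (fun l => δ (Y i l))).det := by
  simp only [det_rowform, map_sum]
  rw [Finset.sum_comm]
  apply Finset.sum_congr rfl
  intro σ _
  have h1 : δ (((Equiv.Perm.sign σ : ℤ) : A) * ∏ i, Y i (σ i)) =
      ((Equiv.Perm.sign σ : ℤ) : A) * δ (∏ i, Y i (σ i)) := by
    rw [deriv_mul, Derivation.map_intCast, zero_mul, zero_add]
  rw [h1, deriv_prod, Finset.mul_sum]
  apply Finset.sum_congr rfl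
  intro i _
  congr 1
  rw [← Finset.mul_prod_erase Finset.univ
    (fun l => (Y.updateRow i (fun l => δ (Y i l))) l (σ l)) (Finset.mem_univ i)]
  simp only [Matrix.updateRow_self]
  congr 1
  apply Finset.prod_congr rfl
  intro l hl
  rw [Matrix.updateRow_ne (Finset.ne_of_mem_erase hl)]

theorem sum_symm_alt (H G : n → n → A)
    (hH : ∀ j l, H j l = H l j) (hG : ∀ j l, G l j = - G j l) (hG0 : ∀ j, G j j = 0) :
    ∑ j, ∑ l, H j l * G j l = 0 := by
  rw [← Fintype.sum_prod_type']
  apply Finset.sum_ninvolution (fun x => (x.2, x.1))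
  · intro x
    simp only
    rw [hH x.2 x.1, hG x.1 x.2]; ring
  · intro x hx hxx
    apply hx
    obtain ⟨a, b⟩ := x
    simp only [Prod.mk.injEq] at hxx
    obtain ⟨rfl, -⟩ := hxx
    simp [hG0]
  · intro x; exact Finset.mem_univ _
  · intro x; rfl

/-- Piola identity: the cofactor vector of a matrix with closed rows is divergence free. -/
theorem piola (dd : n → Derivation k A A) (Y : Matrix n n A) (r : n)
    (hcl : ∀ c, c ≠ r → ∀ j l, dd j (Y c l) = dd l (Y c j)) :
    ∑ j, dd j ((Y.updateRow r (Pi.single j 1)).det) = 0 := by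
  have h1 : ∀ j, dd j ((Y.updateRow r (Pi.single j 1)).det) =
      ∑ c ∈ Finset.univ.erase r, ∑ l, dd j (Y c l) *
        ((Y.updateRow r (Pi.single j 1)).updateRow c (Pi.single l 1)).det := by
    intro j
    rw [deriv_det, ← Finset.add_sum_erase _ _ (Finset.mem_univ r)]
    rw [Matrix.det_eq_zero_of_row_eq_zero r, zero_add]
    · apply Finset.sum_congr rfl
      intro c hc
      have hcr : c ≠ r := Finset.ne_of_mem_erase hc
      rw [Matrix.det_eq_sum_mul_adjugate_row _ c]
      apply Finset.sum_congr rfl
      intro l _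
      rw [Matrix.updateRow_self, Matrix.adjugate_apply, Matrix.updateRow_idem,
        Matrix.updateRow_ne hcr]
    · intro l
      rw [Matrix.updateRow_self, Matrix.updateRow_self]
      by_cases hl : l = j
      · subst hl; rw [Pi.single_eq_same]; exact Derivation.map_one_eq_zero _
      · rw [Pi.single_eq_of_ne hl]; exact map_zero _
  simp_rw [h1]
  rw [Finset.sum_comm]
  apply Finset.sum_eq_zero
  intro c hc
  have hcr : c ≠ r := Finset.ne_of_mem_erase hc
  apply sum_symm_alt (fun j l => dd j (Y c l))
    (fun j l => ((Y.updateRow r (Pi.single j 1)).updateRow c (Pi.single l 1)).det)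
  · intro j l; exact hcl c hcr j l
  · intro j l
    have hW : (Y.updateRow r (Pi.single l 1)).updateRow c (Pi.single j 1) =
        ((Y.updateRow r (Pi.single j 1)).updateRow c (Pi.single l 1)).submatrix
          (Equiv.swap r c) id := by
      ext a b
      simp only [Matrix.submatrix_apply, id_eq, Matrix.updateRow_apply]
      rcases eq_or_ne a r with har | har
      · rw [har]
        simp [Equiv.swap_apply_left, hcr.symm]
      · rcases eq_or_ne a c with hac | hac
        · rw [hac]
          simp [Equiv.swap_apply_right, hcr, hcr.symm]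
        · simp [Equiv.swap_apply_of_ne_of_ne har hac, har, hac]
    show ((Y.updateRow r (Pi.single l 1)).updateRow c (Pi.single j 1)).det = _
    rw [hW, Matrix.det_permute, Equiv.Perm.sign_swap hcr.symm]
    simp
  · intro j
    apply Matrix.det_zero_of_row_eq hcr.symm
    ext l
    rw [Matrix.updateRow_ne hcr.symm, Matrix.updateRow_self, Matrix.updateRow_self]

/-- A determinant with one gradient row and all other rows closed is a sum of `dd_j`-exact terms. -/
theorem det_eq_sum_deriv (dd : n → Derivation k A A) (Y : Matrix n n A) (r : n) (f : A)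
    (hr : ∀ l, Y r l = dd l f)
    (hcl : ∀ c, c ≠ r → ∀ j l, dd j (Y c l) = dd l (Y c j)) :
    Y.det = ∑ j, dd j (f * (Y.updateRow r (Pi.single j 1)).det) := by
  have h2 : ∑ j, f * dd j ((Y.updateRow r (Pi.single j 1)).det) = 0 := by
    rw [← Finset.mul_sum, piola dd Y r hcl, mul_zero]
  simp_rw [deriv_mul]
  rw [Finset.sum_add_distrib, h2, add_zero, Matrix.det_eq_sum_mul_adjugate_row Y r]
  apply Finset.sum_congr rfl
  intro j _
  rw [hr, Matrix.adjugate_apply]

end Det

section Iterate

theorem iterate_mul (δ : Derivation k A A) (n : ℕ) (a b : A) :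
    δ^[n] (a * b) = ∑ i ∈ range n.succ, n.choose i • (δ^[n - i] a * δ^[i] b) := by
  induction n with
  | zero => simp [Finset.range]
  | succ n IH =>
    calc
      δ^[n + 1] (a * b) =
          δ (∑ i ∈ range n.succ, n.choose i • (δ^[n - i] a * δ^[i] b)) := by
        rw [Function.iterate_succ_apply', IH]
      _ = (∑ i ∈ range n.succ, n.choose i • (δ^[n - i + 1] a * δ^[i] b)) +
          ∑ i ∈ range n.succ, n.choose i • (δ^[n - i] a * δ^[i + 1] b) := by
        simp only [Nat.succ_eq_add_one, nsmul_eq_mul, deriv_mul, Derivation.map_natCast, zero_mul,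
          map_sum, zero_add, Function.iterate_succ', Function.comp_apply]
        simp_rw [mul_add, sum_add_distrib]
      _ = (∑ i ∈ range n.succ, n.choose i.succ • (δ^[n - i] a * δ^[i + 1] b)) +
              1 • (δ^[n + 1] a * δ^[0] b) +
            ∑ i ∈ range n.succ, n.choose i • (δ^[n - i] a * δ^[i + 1] b) := ?_
      _ = ((∑ i ∈ range n.succ, n.choose i • (δ^[n - i] a * δ^[i + 1] b)) +
              ∑ i ∈ range n.succ, n.choose i.succ • (δ^[n - i] a * δ^[i + 1] b)) +
            1 • (δ^[n + 1] a * δ^[0] b) := by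
        rw [add_comm, add_assoc]
      _ = (∑ i ∈ range n.succ,
              (n + 1).choose (i + 1) • (δ^[n + 1 - (i + 1)] a * δ^[i + 1] b)) +
            1 • (δ^[n + 1] a * δ^[0] b) := by
        simp_rw [Nat.choose_succ_succ, Nat.succ_sub_succ, add_smul, sum_add_distrib]
      _ = ∑ i ∈ range n.succ.succ, n.succ.choose i • (δ^[n.succ - i] a * δ^[i] b) := by
        rw [sum_range_succ' _ n.succ, Nat.choose_zero_right, tsub_zero]
    congr
    refine (sum_range_succ' _ _).trans (congr_arg₂ (· + ·) ?_ ?_)
    · rw [sum_range_succ, Nat.choose_succ_self, zero_smul, add_zero]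
      refine sum_congr rfl fun i hi => ?_
      rw [mem_range] at hi
      congr
      omega
    · rw [Nat.choose_zero_right, tsub_zero]

variable (p : ℕ) [hp : Fact p.Prime] [CharP A p]

theorem iterate_prime_mul (δ : Derivation k A A) (a b : A) :
    δ^[p] (a * b) = a * δ^[p] b + b * δ^[p] a := by
  rw [iterate_mul, Finset.sum_eq_add (0 : ℕ) p hp.out.ne_zero.symm]
  · simp only [Nat.choose_zero_right, one_smul, tsub_zero, Function.iterate_zero, id_eq,
      Nat.choose_self, tsub_self]
    ring
  · intro c hc hc2
    rw [mem_range] at hc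
    have hcp : c < p := lt_of_le_of_ne (Nat.lt_succ_iff.mp hc) hc2.2
    rw [nsmul_eq_mul, (CharP.cast_eq_zero_iff A p _).mpr (hp.out.dvd_choose_self hc2.1 hcp),
      zero_mul]
  · intro h; exact absurd (mem_range.mpr (Nat.succ_pos p)) h
  · intro h; exact absurd (mem_range.mpr (Nat.lt_succ_self p)) h

/-- The `p`-th power of a derivation in characteristic `p` is a derivation. -/
noncomputable def powDer (δ : Derivation k A A) : Derivation k A A :=
  Derivation.mk' ((δ : A →ₗ[k] A) ^ p) (by
    intro a b
    simp only [Module.End.pow_apply, Derivation.coeFn_coe, smul_eq_mul]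
    exact iterate_prime_mul p δ a b)

theorem powDer_apply (δ : Derivation k A A) (a : A) : powDer p δ a = δ^[p] a := by
  show ((δ : A →ₗ[k] A) ^ p) a = _
  simp only [Module.End.pow_apply, Derivation.coeFn_coe]

end Iterate

section E

variable {n : Type*} [Fintype n] [DecidableEq n] (p : ℕ) (dd : n → Derivation k A A)

theorem commute_pow (hcomm : ∀ i j a, dd i (dd j a) = dd j (dd i a)) (i j : n) :
    Commute (((dd i : Derivation k A A) : A →ₗ[k] A) ^ (p - 1))
      (((dd j : Derivation k A A) : A →ₗ[k] A) ^ (p - 1)) := by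
  apply Commute.pow_pow
  show ((dd i : Derivation k A A) : A →ₗ[k] A) * ((dd j : Derivation k A A) : A →ₗ[k] A) =
    ((dd j : Derivation k A A) : A →ₗ[k] A) * ((dd i : Derivation k A A) : A →ₗ[k] A)
  ext a
  exact hcomm i j a

theorem pairwise_comm (hcomm : ∀ i j a, dd i (dd j a) = dd j (dd i a)) (S : Finset n) :
    (S : Set n).Pairwise
      (Function.onFun Commute fun j => ((dd j : Derivation k A A) : A →ₗ[k] A) ^ (p - 1)) :=
  fun i _ j _ _ => commute_pow p dd hcomm i j

/-- The operator `∏_{j ∈ S} dd_j^(p-1)`. -/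
noncomputable def EOp (hcomm : ∀ i j a, dd i (dd j a) = dd j (dd i a)) (S : Finset n) :
    Module.End k A :=
  S.noncommProd (fun j => ((dd j : Derivation k A A) : A →ₗ[k] A) ^ (p - 1))
    (pairwise_comm p dd hcomm S)

theorem EOp_deriv (hcomm : ∀ i j a, dd i (dd j a) = dd j (dd i a))
    (hpow : ∀ j a, (dd j)^[p] a = 0) (hp : 0 < p) (S : Finset n) (j : n) (hj : j ∈ S) (g : A) :
    EOp p dd hcomm S (dd j g) = 0 := by
  unfold EOp
  rw [← Finset.noncommProd_erase_mul S hj, Module.End.mul_apply]
  have h0 : (((dd j : Derivation k A A) : A →ₗ[k] A) ^ (p - 1)) (dd j g) = 0 := by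
    rw [Module.End.pow_apply]
    have h := hpow j g
    have hp1 : p - 1 + 1 = p := by omega
    rw [← hp1, Function.iterate_succ_apply] at h
    exact h
  rw [h0, map_zero]

theorem iter_pow (δ : Derivation k A A) (t : A) (ht : δ t = 1) (m : ℕ) :
    ∀ c : A, δ c = 0 → δ^[m] (c * t ^ m) = (m.factorial : A) * c := by
  induction m with
  | zero => intro c _; simp
  | succ m ih =>
    intro c hc
    rw [Function.iterate_succ_apply]
    have h1 : δ (c * t ^ (m + 1)) = (((m + 1 : ℕ) : A) * c) * t ^ m := by
      rw [deriv_mul, hc, zero_mul, zero_add, Derivation.leibniz_pow, ht]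
      simp only [Nat.add_sub_cancel, smul_eq_mul, mul_one, nsmul_eq_mul]
      ring
    rw [h1, ih _ (by rw [deriv_mul, hc, mul_zero, add_zero, Derivation.map_natCast, zero_mul])]
    rw [Nat.factorial_succ]; push_cast; ring

theorem EOp_top (hcomm : ∀ i j a, dd i (dd j a) = dd j (dd i a)) (t : n → A)
    (ht : ∀ i j, dd j (t i) = if i = j then 1 else 0) (S : Finset n) :
    ∀ c : A, (∀ j ∈ S, dd j c = 0) →
      EOp p dd hcomm S (c * ∏ i ∈ S, t i ^ (p - 1)) = ((p - 1).factorial : A) ^ S.card * c := by
  induction S using Finset.induction_on with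
  | empty => intro c _; simp [EOp]
  | insert a S ha ih =>
    intro c hc
    have hca : dd a c = 0 := hc a (Finset.mem_insert_self a S)
    have hc' : ∀ j ∈ S, dd j (c * t a ^ (p - 1)) = 0 := by
      intro j hj
      have hja : a ≠ j := fun h => ha (h ▸ hj)
      rw [deriv_mul, hc j (Finset.mem_insert_of_mem hj), zero_mul, zero_add,
        Derivation.leibniz_pow, ht, if_neg hja, smul_zero, smul_zero, mul_zero]
    have hstep : EOp p dd hcomm (insert a S) = (((dd a : Derivation k A A) : A →ₗ[k] A) ^ (p - 1)) *
        EOp p dd hcomm S := by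
      unfold EOp
      rw [Finset.noncommProd_insert_of_notMem _ _ _ _ ha]
    rw [hstep, Module.End.mul_apply, Finset.prod_insert ha, ← mul_assoc, ih _ hc',
      Finset.card_insert_of_notMem ha, Module.End.pow_apply, Derivation.coeFn_coe]
    have h3 : ((p - 1).factorial : A) ^ S.card * (c * t a ^ (p - 1)) =
        (((p - 1).factorial : A) ^ S.card * c) * t a ^ (p - 1) := by ring
    rw [h3, iter_pow (dd a) (t a) (by rw [ht, if_pos rfl]) (p - 1)]
    · ring
    · rw [deriv_mul, hca, mul_zero, add_zero, ← Nat.cast_pow, Derivation.map_natCast, zero_mul]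

end E

section Main

open KaehlerDifferential

theorem deriv_eq_zero_of_basis {n : Type*} (t : n → A) (b : Module.Basis n A (Ω[A⁄k]))
    (hb : ∀ i, b i = KaehlerDifferential.D k A (t i))
    (δ : Derivation k A A) (h : ∀ i, δ (t i) = 0) (a : A) : δ a = 0 := by
  have hL : δ.liftKaehlerDifferential = 0 := by
    apply b.ext
    intro i
    rw [hb, Derivation.liftKaehlerDifferential_comp_D, h, LinearMap.zero_apply]
  rw [← Derivation.liftKaehlerDifferential_comp_D δ a, hL, LinearMap.zero_apply]

/-- **Main theorem.** -/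
theorem det_ne_zero (p : ℕ) [hp : Fact p.Prime] [IsDomain A] [CharP A p]
    {n : ℕ} (t : Fin n → A) (b : Module.Basis (Fin n) A (Ω[A⁄k]))
    (hb : ∀ i, b i = KaehlerDifferential.D k A (t i)) (f : Fin n → A) :
    (Matrix.of fun i j : Fin n =>
      (if i = j then t i ^ (p - 1) else 0) + b.coord j (KaehlerDifferential.D k A (f i))).det
      ≠ 0 := by
  classical
  set dd : Fin n → Derivation k A A :=
    fun j => (b.coord j).compDer (KaehlerDifferential.D k A) with hdd
  have hddapp : ∀ j a, dd j a = b.coord j (KaehlerDifferential.D k A a) := fun j a => rfl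
  have ht : ∀ i j, dd j (t i) = if i = j then 1 else 0 := by
    intro i j
    rw [hddapp, ← hb, Module.Basis.coord_apply, Module.Basis.repr_self, Finsupp.single_apply]
  have hzero : ∀ δ : Derivation k A A, (∀ i, δ (t i) = 0) → ∀ a, δ a = 0 :=
    fun δ h a => deriv_eq_zero_of_basis t b hb δ h a
  have hcomm : ∀ i j a, dd i (dd j a) = dd j (dd i a) := by
    intro i j a
    have h := hzero ⁅dd i, dd j⁆ (fun l => by
      rw [Derivation.commutator_apply, ht, ht]; split_ifs <;> simp) a
    rw [Derivation.commutator_apply, sub_eq_zero] at h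
    exact h
  have hp2 : 2 ≤ p := hp.out.two_le
  have hpow : ∀ j a, (dd j)^[p] a = 0 := by
    intro j a
    have h := hzero (powDer p (dd j)) (fun l => by
      rw [powDer_apply]
      have hp1 : p - 2 + 1 + 1 = p := by omega
      rw [← hp1, Function.iterate_succ_apply, Function.iterate_succ_apply, ht]
      have h0 : dd j (if l = j then (1 : A) else 0) = 0 := by split_ifs <;> simp
      rw [h0]
      exact iterate_map_zero (dd j) _) a
    rwa [powDer_apply] at h
  -- the matrices
  set Dg : Fin n → Fin n → A := fun i j => if i = j then t i ^ (p - 1) else 0 with hDg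
  set N : Fin n → Fin n → A := fun i j => dd j (f i) with hN
  set G : ℕ → Matrix (Fin n) (Fin n) A :=
    fun κ => Matrix.of fun i j => Dg i j + (if (i : ℕ) < κ then 0 else N i j) with hG
  set E := EOp p dd hcomm Finset.univ with hE
  have hEd : ∀ j g, E (dd j g) = 0 := fun j g =>
    EOp_deriv p dd hcomm hpow (by omega) Finset.univ j (Finset.mem_univ j) g
  -- closedness
  have hDt : ∀ j c, c ≠ j → dd j (t c ^ (p - 1)) = 0 := by
    intro j c hcj
    rw [Derivation.leibniz_pow, ht, if_neg hcj, smul_zero, smul_zero]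
  have hDcl : ∀ c j l, dd j (Dg c l) = dd l (Dg c j) := by
    intro c j l
    rcases eq_or_ne j l with hjl | hjl
    · rw [hjl]
    · simp only [hDg]
      by_cases h1 : c = l
      · have h2 : c ≠ j := fun h => hjl (h ▸ h1 ▸ rfl)
        rw [if_pos h1, if_neg h2, hDt j c h2, map_zero]
      · rw [if_neg h1, map_zero]
        by_cases h2 : c = j
        · rw [if_pos h2, hDt l c h1]
        · rw [if_neg h2, map_zero]
  have hGcl : ∀ κ c j l, dd j (G κ c l) = dd l (G κ c j) := by
    intro κ c j l
    simp only [hG, Matrix.of_apply, map_add]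
    rw [hDcl c j l]
    congr 1
    split_ifs
    · rw [map_zero, map_zero]
    · exact hcomm j l (f c)
  -- telescoping step
  have hstep : ∀ κ, κ < n → E (G κ).det = E (G (κ + 1)).det := by
    intro κ hκ
    set r : Fin n := ⟨κ, hκ⟩ with hr
    have e1 : G κ = (G (κ + 1)).updateRow r ((fun j => Dg r j) + (fun j => N r j)) := by
      ext i j
      rcases eq_or_ne i r with hir | hir
      · rw [hir, Matrix.updateRow_self]
        simp only [hG, Matrix.of_apply, Pi.add_apply]
        rw [if_neg (by rw [hr]; simp)]
      · rw [Matrix.updateRow_ne hir]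
        simp only [hG, Matrix.of_apply]
        have hne : (i : ℕ) ≠ κ := fun h => hir (Fin.ext h)
        have hiff : ((i : ℕ) < κ) ↔ ((i : ℕ) < κ + 1) := by omega
        simp only [hiff]
    have e2 : G (κ + 1) = (G (κ + 1)).updateRow r (fun j => Dg r j) := by
      ext i j
      rcases eq_or_ne i r with hir | hir
      · rw [hir, Matrix.updateRow_self]
        simp only [hG, Matrix.of_apply]
        rw [if_pos (by rw [hr]; simp), add_zero]
      · rw [Matrix.updateRow_ne hir]
    have e3 : (G κ).det = (G (κ + 1)).det +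
        ((G (κ + 1)).updateRow r (fun j => N r j)).det := by
      rw [e1, Matrix.det_updateRow_add, ← e2]
    have e4 : E ((G (κ + 1)).updateRow r (fun j => N r j)).det = 0 := by
      rw [det_eq_sum_deriv dd _ r (f r) (fun l => by rw [Matrix.updateRow_self])
        (fun c hc j l => by
          rw [Matrix.updateRow_ne hc]
          exact hGcl (κ + 1) c j l)]
      rw [map_sum]
      exact Finset.sum_eq_zero (fun j _ => hEd j _)
    rw [e3, map_add, e4, add_zero]
  have hall : ∀ κ, κ ≤ n → E (G κ).det = E (G 0).det := by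
    intro κ
    induction κ with
    | zero => intro _; rfl
    | succ κ ih =>
      intro hκ
      rw [← hstep κ (by omega), ih (by omega)]
  have hG0 : G 0 = Matrix.of fun i j : Fin n =>
      (if i = j then t i ^ (p - 1) else 0) + b.coord j (KaehlerDifferential.D k A (f i)) := by
    ext i j
    simp only [hG, Matrix.of_apply, Nat.not_lt_zero, if_false, hDg, hN, hddapp]
  have hGn : G n = Matrix.diagonal (fun i => t i ^ (p - 1)) := by
    ext i j
    simp only [hG, Matrix.of_apply, Fin.is_lt, if_true, add_zero, hDg, Matrix.diagonal_apply]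
  have hval : E (G n).det = ((p - 1).factorial : A) ^ n := by
    rw [hGn, Matrix.det_diagonal]
    have := EOp_top p dd hcomm t ht Finset.univ 1 (fun j _ => Derivation.map_one_eq_zero _)
    rw [one_mul, mul_one, Finset.card_univ, Fintype.card_fin] at this
    exact this
  have hfact : ((p - 1).factorial : A) ≠ 0 := by
    rw [Ne, CharP.cast_eq_zero_iff A p, hp.out.dvd_factorial]
    omega
  intro hdet
  rw [← hG0] at hdet
  have h1 : E (G 0).det = 0 := by rw [hdet, map_zero]
  rw [← hall n le_rfl, hval] at h1
  exact pow_ne_zero n hfact h1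

end Main

end Groth.Agent.H13.CartierDet
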