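import Mathlib
import Groth.Prelude.Def_FSch3

/-!
# Completion of a local homomorphism with finite closed fibre (Stacks 0394-type)

For a local homomorphism `R → S` of local rings with finitely generated maximal ideals and
`S/𝔪S` finite over `κ(𝔪)`:
* `𝔫^t ⊆ 𝔪S` for some `t` (`exists_pow_le`),
* the `𝔪S`-adic and `𝔫`-adic completions of `S` agree (`complMap_id_bijective`),
* `R^ → S^` is finite (`finite_part`).
-/

set_option autoImplicit false
universe u
open IsLocalRing TensorProduct

namespace Groth.Agent.H13.ComplFib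

open AdicCompletion

section General
variable {S T : Type u} [CommRing S] [CommRing T]

set_option backward.isDefEq.respectTransparency false in
lemma evalₐ_complMap (I : Ideal S) (K : Ideal T) (g : S →+* T) (h : I.map g ≤ K) (k : ℕ)
    (x : AdicCompletion I S) :
    evalₐ K k (FSch.complMap I K g h x) =
      Ideal.quotientMap (K ^ k) g (FSch.pow_le_comap_pow_of_map_le I K g h k) (evalₐ I k x) := by
  have hf : ∀ {m n : ℕ} (hle : m ≤ n), (Ideal.Quotient.factorPow K hle).comp
      ((fun n => (Ideal.quotientMap (K ^ n) g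
        (FSch.pow_le_comap_pow_of_map_le I K g h n)).comp (evalₐ I n).toRingHom) n) =
      (fun n => (Ideal.quotientMap (K ^ n) g
        (FSch.pow_le_comap_pow_of_map_le I K g h n)).comp (evalₐ I n).toRingHom) m := by
    intro m n hle
    apply RingHom.ext
    intro x
    obtain ⟨y, rfl⟩ := AdicCompletion.mk_surjective I S x
    simp only [RingHom.coe_comp, Function.comp_apply, AlgHom.toRingHom_eq_coe, AlgHom.coe_toRingHom,
      AdicCompletion.evalₐ_mk, Ideal.quotientMap_mk, Ideal.Quotient.factorPow, Ideal.Quotient.factor_mk]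
    rw [Ideal.Quotient.eq]
    have hy := y.2 hle
    rw [SModEq.sub_mem] at hy
    simp only [smul_eq_mul, Ideal.mul_top] at hy
    rw [← map_sub]
    have hy' : (y : ℕ → S) n - (y : ℕ → S) m ∈ I ^ m := by
      rw [← neg_sub]; exact (I ^ m).neg_mem hy
    exact FSch.pow_le_comap_pow_of_map_le I K g h m hy'
  exact AdicCompletion.evalₐ_liftRingHom K _ hf k x

lemma evalₐ_complMap_mk (I : Ideal S) (K : Ideal T) (g : S →+* T) (h : I.map g ≤ K) (k : ℕ)
    (a : AdicCauchySequence I S) :
    evalₐ K k (FSch.complMap I K g h (AdicCompletion.mk I S a)) =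
      Ideal.Quotient.mk (K ^ k) (g (a.1 k)) := by
  rw [evalₐ_complMap, evalₐ_mk, Ideal.quotientMap_mk]

lemma complMap_algebraMap (I : Ideal S) (K : Ideal T) (g : S →+* T) (h : I.map g ≤ K) (s : S) :
    FSch.complMap I K g h (algebraMap S (AdicCompletion I S) s) =
      algebraMap T (AdicCompletion K T) (g s) := by
  apply ext_evalₐ; intro k
  rw [evalₐ_complMap, AlgHom.commutes, AlgHom.commutes, Ideal.Quotient.algebraMap_eq,
    Ideal.Quotient.algebraMap_eq, Ideal.quotientMap_mk]

theorem complMap_id_bijective (J K : Ideal S) (h' : J.map (RingHom.id S) ≤ K) (t : ℕ)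
    (ht : K ^ t ≤ J) : Function.Bijective (FSch.complMap J K (RingHom.id S) h') := by
  have hT : ∀ k : ℕ, K ^ ((t + 1) * k) ≤ J ^ k := by
    intro k
    rw [pow_mul]
    exact Ideal.pow_right_mono ((Ideal.pow_le_pow_right (Nat.le_succ t)).trans ht) k
  have hk : ∀ k : ℕ, k ≤ (t + 1) * k := fun k => Nat.le_mul_of_pos_left k (Nat.succ_pos t)
  have hmemK : ∀ (k : ℕ) (x : S), x ∈ (K ^ k • ⊤ : Submodule S S) ↔ x ∈ K ^ k := by
    intro k x; simp
  have hmemJ : ∀ (k : ℕ) (x : S), x ∈ (J ^ k • ⊤ : Submodule S S) ↔ x ∈ J ^ k := by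
    intro k x; simp
  constructor
  · rw [injective_iff_map_eq_zero]
    intro x hx
    obtain ⟨a, rfl⟩ := AdicCompletion.mk_surjective J S x
    apply AdicCompletion.mk_zero_of
    refine ⟨0, fun n _ => ⟨(t + 1) * n, hk n, n, le_rfl, ?_⟩⟩
    rw [hmemJ]
    apply hT n
    have := congrArg (evalₐ K ((t + 1) * n)) hx
    rw [evalₐ_complMap_mk, _root_.map_zero, RingHom.id_apply, Ideal.Quotient.eq_zero_iff_mem] at this
    exact this
  · intro y
    obtain ⟨b, rfl⟩ := AdicCompletion.mk_surjective K S y
    have hb : ∀ {m n : ℕ}, m ≤ n → b.1 m - b.1 n ∈ K ^ m := by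
      intro m n hmn
      have := b.2 hmn
      rw [SModEq.sub_mem, hmemK] at this
      exact this
    let a : AdicCauchySequence J S := ⟨fun k => b.1 ((t + 1) * k), by
      intro m n hmn
      rw [SModEq.sub_mem, hmemJ]
      exact hT m (hb (Nat.mul_le_mul_left _ hmn))⟩
    refine ⟨AdicCompletion.mk J S a, ?_⟩
    apply ext_evalₐ; intro k
    rw [evalₐ_complMap_mk, evalₐ_mk, RingHom.id_apply, Ideal.Quotient.eq]
    have h2 := neg_mem (hb (hk k))
    rwa [neg_sub] at h2

lemma isPrecomplete_pi {A : Type*} [CommRing A] (I : Ideal A) {ι : Type*} [Finite ι]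
    (M : Type*) [AddCommGroup M] [Module A M] [IsPrecomplete I M] : IsPrecomplete I (ι → M) := by
  classical
  cases nonempty_fintype ι
  have h1 : ∀ (k : ℕ) (x : ι → M), x ∈ (I ^ k • ⊤ : Submodule A (ι → M)) →
      ∀ i, x i ∈ (I ^ k • ⊤ : Submodule A M) := by
    intro k x hx i
    refine Submodule.smul_induction_on hx (fun a ha y _ => ?_) (fun y z hy hz => ?_)
    · exact Submodule.smul_mem_smul ha Submodule.mem_top
    · exact add_mem hy hz
  have h2 : ∀ (k : ℕ) (x : ι → M), (∀ i, x i ∈ (I ^ k • ⊤ : Submodule A M)) →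
      x ∈ (I ^ k • ⊤ : Submodule A (ι → M)) := by
    intro k x hx
    rw [← Finset.univ_sum_single x]
    refine Submodule.sum_mem _ fun i _ => ?_
    have := Submodule.mem_map_of_mem (f := LinearMap.single A (fun _ : ι => M) i) (hx i)
    rw [Submodule.map_smul''] at this
    exact Submodule.smul_mono le_rfl le_top this
  refine ⟨fun f hf => ?_⟩
  have hc : ∀ i, ∃ L : M, ∀ n, f n i ≡ L [SMOD (I ^ n • ⊤ : Submodule A M)] := fun i =>
    IsPrecomplete.prec' (fun k => f k i) (fun {m n} hmn => by
      rw [SModEq.sub_mem]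
      exact h1 _ _ ((SModEq.sub_mem).mp (hf hmn)) i)
  choose L hL using hc
  refine ⟨L, fun n => ?_⟩
  rw [SModEq.sub_mem]
  exact h2 _ _ fun i => (SModEq.sub_mem).mp (hL i n)

end General

section Fib
variable {R S : Type u} [CommRing R] [CommRing S] [IsLocalRing R] [IsLocalRing S] [Algebra R S]

/-- `κ(𝔪) ⊗ S ≃ S / 𝔪S`. -/
noncomputable def fibEquiv :
    (maximalIdeal R).Fiber S ≃ₗ[R] S ⧸ (maximalIdeal R • ⊤ : Submodule R S) :=
  (TensorProduct.congr (LinearEquiv.ofBijective
      ((Algebra.linearMap (R ⧸ maximalIdeal R) (maximalIdeal R).ResidueField).restrictScalars R)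
      (maximalIdeal R).bijective_algebraMap_quotient_residueField).symm (LinearEquiv.refl R S)) ≪≫ₗ
    TensorProduct.quotTensorEquivQuotSMul S (maximalIdeal R)

lemma fibEquiv_one_tmul (s : S) :
    fibEquiv (R := R) ((1 : (maximalIdeal R).ResidueField) ⊗ₜ[R] s) = Submodule.Quotient.mk s := by
  have h1 : (LinearEquiv.ofBijective
      ((Algebra.linearMap (R ⧸ maximalIdeal R) (maximalIdeal R).ResidueField).restrictScalars R)
      (maximalIdeal R).bijective_algebraMap_quotient_residueField).symm 1 =
      Ideal.Quotient.mk (maximalIdeal R) 1 := by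
    rw [LinearEquiv.symm_apply_eq]
    exact (map_one (algebraMap (R ⧸ maximalIdeal R) (maximalIdeal R).ResidueField)).symm
  simp only [fibEquiv, LinearEquiv.trans_apply, TensorProduct.congr_tmul, h1,
    LinearEquiv.refl_apply]
  rw [TensorProduct.quotTensorEquivQuotSMul_mk_tmul, one_smul]

lemma mem_map_of_mem_smul_top {w : S} (hw : w ∈ (maximalIdeal R • ⊤ : Submodule R S)) :
    w ∈ (maximalIdeal R).map (algebraMap R S) := by
  refine Submodule.smul_induction_on hw (fun a ha x _ => ?_) (fun x y hx hy => add_mem hx hy)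
  rw [Algebra.smul_def]
  exact Ideal.mul_mem_right _ _ (Ideal.mem_map_of_mem _ ha)

lemma mem_map_of_tmul_eq_zero (s : S)
    (hs : (1 : (maximalIdeal R).ResidueField) ⊗ₜ[R] s = 0) :
    s ∈ (maximalIdeal R).map (algebraMap R S) := by
  have h1 : (Submodule.Quotient.mk s : S ⧸ (maximalIdeal R • ⊤ : Submodule R S)) = 0 := by
    rw [← fibEquiv_one_tmul, hs, _root_.map_zero]
  rw [Submodule.Quotient.mk_eq_zero] at h1
  exact mem_map_of_mem_smul_top h1

lemma exists_pow_le
    (hfib : Module.Finite (maximalIdeal R).ResidueField ((maximalIdeal R).Fiber S)) :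
    ∃ t : ℕ, maximalIdeal S ^ t ≤ (maximalIdeal R).map (algebraMap R S) := by
  haveI : IsArtinianRing ((maximalIdeal R).Fiber S) :=
    IsArtinianRing.of_finite (maximalIdeal R).ResidueField _
  obtain ⟨t, ht⟩ := IsArtinianRing.isNilpotent_jacobson_bot (R := (maximalIdeal R).Fiber S)
  let φ : S →+* (maximalIdeal R).Fiber S :=
    (Algebra.TensorProduct.includeRight : S →ₐ[R] (maximalIdeal R).Fiber S).toRingHom
  have hφ : ∀ s, φ s = (1 : (maximalIdeal R).ResidueField) ⊗ₜ[R] s := fun s => rfl
  have hsurj : Function.Surjective φ := by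
    intro y
    induction y using TensorProduct.induction_on with
    | zero => exact ⟨0, _root_.map_zero _⟩
    | tmul c s =>
      obtain ⟨r, rfl⟩ := (maximalIdeal R).algebraMap_residueField_surjective c
      refine ⟨r • s, ?_⟩
      rw [hφ, Algebra.algebraMap_eq_smul_one, TensorProduct.smul_tmul]
    | add x y hx hy =>
      obtain ⟨a, rfl⟩ := hx; obtain ⟨b, rfl⟩ := hy
      exact ⟨a + b, map_add _ _ _⟩
  have hjac : (maximalIdeal S).map φ ≤ Ideal.jacobson ⊥ := by
    rw [Ideal.map_le_iff_le_comap]
    intro s hs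
    rw [Ideal.mem_comap, Ideal.mem_jacobson_bot]
    intro y
    obtain ⟨s', rfl⟩ := hsurj y
    rw [← map_mul, ← map_one φ, ← map_add]
    apply IsUnit.map
    by_contra hnu
    have h1 : s * s' + 1 ∈ maximalIdeal S := (mem_maximalIdeal _).mpr hnu
    have h2 : (1 : S) ∈ maximalIdeal S := by
      have := sub_mem h1 (Ideal.mul_mem_right s' _ hs)
      simpa using this
    exact (Ideal.ne_top_iff_one _).mp (IsLocalRing.maximalIdeal.isMaximal S).ne_top h2
  refine ⟨t, fun s hs => mem_map_of_tmul_eq_zero s ?_⟩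
  rw [← hφ]
  have h1 : φ s ∈ (maximalIdeal S ^ t).map φ := Ideal.mem_map_of_mem _ hs
  rw [Ideal.map_pow] at h1
  have h2 := Ideal.pow_right_mono hjac t h1
  rw [ht] at h2
  simpa using h2

theorem finite_part (hm : (maximalIdeal R).FG) (hn : (maximalIdeal S).FG)
    (hfib : Module.Finite (maximalIdeal R).ResidueField ((maximalIdeal R).Fiber S))
    (h : (maximalIdeal R).map (algebraMap R S) ≤ maximalIdeal S) :
    (FSch.complMap (maximalIdeal R) (maximalIdeal S) (algebraMap R S) h).Finite := by
  classical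
  obtain ⟨t, ht⟩ := exists_pow_le (R := R) (S := S) hfib
  haveI : Module.Finite R ((maximalIdeal R).Fiber S) :=
    Module.Finite.trans (maximalIdeal R).ResidueField _
  haveI : Module.Finite R (S ⧸ (maximalIdeal R • ⊤ : Submodule R S)) :=
    Module.Finite.equiv fibEquiv
  obtain ⟨r, g, hg⟩ :=
    Module.Finite.exists_fin (R := R) (M := S ⧸ (maximalIdeal R • ⊤ : Submodule R S))
  choose s hs using fun i => Submodule.Quotient.mk_surjective _ (g i)
  have hgen : ∀ x : S, ∃ c : Fin r → R,
      x - ∑ i, c i • s i ∈ (maximalIdeal R • ⊤ : Submodule R S) := by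
    intro x
    have hx : (Submodule.Quotient.mk x : S ⧸ (maximalIdeal R • ⊤ : Submodule R S)) ∈
        Submodule.span R (Set.range g) := by rw [hg]; trivial
    obtain ⟨c, hc⟩ := (Submodule.mem_span_range_iff_exists_fun R).mp hx
    refine ⟨c, ?_⟩
    rw [← Submodule.Quotient.mk_eq_zero, Submodule.Quotient.mk_sub, ← hc, sub_eq_zero]
    rw [← Submodule.mkQ_apply, map_sum]
    refine Finset.sum_congr rfl fun i _ => ?_
    rw [map_smul, Submodule.mkQ_apply, hs]
  let ψ := FSch.complMap (maximalIdeal R) (maximalIdeal S) (algebraMap R S) h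
  letI : Algebra (AdicCompletion (maximalIdeal R) R) (AdicCompletion (maximalIdeal S) S) :=
    ψ.toAlgebra
  show Module.Finite (AdicCompletion (maximalIdeal R) R) (AdicCompletion (maximalIdeal S) S)
  have hsmul : ∀ (c : AdicCompletion (maximalIdeal R) R)
      (y : AdicCompletion (maximalIdeal S) S), c • y = ψ c * y := fun c y => rfl
  have hψ : ∀ a : R, ψ (algebraMap R (AdicCompletion (maximalIdeal R) R) a) =
      algebraMap S (AdicCompletion (maximalIdeal S) S) (algebraMap R S a) :=
    fun a => complMap_algebraMap _ _ _ _ a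
  let mh : Ideal (AdicCompletion (maximalIdeal R) R) :=
    (maximalIdeal R).map (algebraMap R (AdicCompletion (maximalIdeal R) R))
  haveI hcomp : IsAdicComplete mh (AdicCompletion (maximalIdeal R) R) :=
    AdicCompletion.isAdicComplete_self _ hm
  haveI : IsPrecomplete mh (Fin r → AdicCompletion (maximalIdeal R) R) := isPrecomplete_pi mh _
  have key1 : ∀ w ∈ (maximalIdeal R).map (algebraMap R S),
      ∀ y : AdicCompletion (maximalIdeal S) S,
      algebraMap S (AdicCompletion (maximalIdeal S) S) w * y ∈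
        (mh • ⊤ : Submodule (AdicCompletion (maximalIdeal R) R)
          (AdicCompletion (maximalIdeal S) S)) := by
    intro w hw
    induction hw using Submodule.span_induction with
    | mem w hw =>
      obtain ⟨a, ha, rfl⟩ := hw
      intro y
      rw [← hψ, ← hsmul]
      exact Submodule.smul_mem_smul (Ideal.mem_map_of_mem _ ha) Submodule.mem_top
    | zero => intro y; rw [_root_.map_zero, zero_mul]; exact zero_mem _
    | add u v _ _ hu hv => intro y; rw [map_add, add_mul]; exact add_mem (hu y) (hv y)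
    | smul c u _ hu =>
      intro y
      rw [smul_eq_mul, map_mul, mul_comm (algebraMap S _ c), mul_assoc]
      exact hu _
  have key3 : ∀ y : AdicCompletion (maximalIdeal S) S, ∃ s₀ : S,
      y - algebraMap S (AdicCompletion (maximalIdeal S) S) s₀ ∈
        (mh • ⊤ : Submodule (AdicCompletion (maximalIdeal R) R)
          (AdicCompletion (maximalIdeal S) S)) := by
    intro y
    obtain ⟨s₀, hs₀⟩ := Ideal.Quotient.mk_surjective (evalₐ (maximalIdeal S) t y)
    refine ⟨s₀, ?_⟩
    have hz : evalₐ (maximalIdeal S) t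
        (y - algebraMap S (AdicCompletion (maximalIdeal S) S) s₀) = 0 := by
      rw [map_sub, AlgHom.commutes, Ideal.Quotient.algebraMap_eq, hs₀, sub_self]
    have hz2 : AdicCompletion.eval (maximalIdeal S) S t
        (y - algebraMap S (AdicCompletion (maximalIdeal S) S) s₀) = 0 := by
      rw [← AdicCompletion.factor_evalₐ_eq_eval _ _ (le_of_eq (by simp)), hz, _root_.map_zero]
    have hz3 : y - algebraMap S (AdicCompletion (maximalIdeal S) S) s₀ ∈
        (maximalIdeal S ^ t • ⊤ : Submodule S (AdicCompletion (maximalIdeal S) S)) := by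
      rw [AdicCompletion.pow_smul_top_eq_ker_eval hn]; exact hz2
    refine Submodule.smul_induction_on hz3 (fun a ha y' _ => ?_) (fun u v hu hv => add_mem hu hv)
    have e : a • y' = algebraMap S (AdicCompletion (maximalIdeal S) S) a * y' :=
      Algebra.smul_def a y'
    rw [e]
    exact key1 a (ht ha) y'
  haveI : IsHausdorff mh (AdicCompletion (maximalIdeal S) S) := by
    refine ⟨fun x hx => ?_⟩
    apply ext_evalₐ; intro k
    rw [_root_.map_zero]
    have hxk := hx k
    rw [SModEq.zero] at hxk
    refine Submodule.smul_induction_on hxk (fun a ha y _ => ?_)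
      (fun u v hu hv => by rw [map_add, hu, hv, add_zero])
    rw [hsmul, map_mul]
    have hle : (maximalIdeal R ^ k).map (algebraMap R (AdicCompletion (maximalIdeal R) R)) ≤
        RingHom.ker ((evalₐ (maximalIdeal S) k).toRingHom.comp ψ) := by
      rw [Ideal.map_le_iff_le_comap]
      intro b hb
      rw [Ideal.mem_comap, RingHom.mem_ker, RingHom.comp_apply, hψ]
      show evalₐ (maximalIdeal S) k (algebraMap S _ (algebraMap R S b)) = 0
      rw [AlgHom.commutes, Ideal.Quotient.algebraMap_eq, Ideal.Quotient.eq_zero_iff_mem]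
      exact FSch.pow_le_comap_pow_of_map_le _ _ _ h k hb
    have ha' : a ∈ (maximalIdeal R ^ k).map
        (algebraMap R (AdicCompletion (maximalIdeal R) R)) := by
      rw [Ideal.map_pow]; exact ha
    have : evalₐ (maximalIdeal S) k (ψ a) = 0 := hle ha'
    rw [this, zero_mul]
  let f : (Fin r → AdicCompletion (maximalIdeal R) R) →ₗ[AdicCompletion (maximalIdeal R) R]
      AdicCompletion (maximalIdeal S) S :=
    Fintype.linearCombination (AdicCompletion (maximalIdeal R) R)
      (fun i => algebraMap S (AdicCompletion (maximalIdeal S) S) (s i))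
  have hfs : Function.Surjective ((Submodule.mkQ (mh • ⊤ :
      Submodule (AdicCompletion (maximalIdeal R) R) (AdicCompletion (maximalIdeal S) S))) ∘ₗ f) := by
    intro q
    obtain ⟨y, rfl⟩ := Submodule.mkQ_surjective _ q
    obtain ⟨s₀, hs₀⟩ := key3 y
    obtain ⟨c, hc⟩ := hgen s₀
    refine ⟨fun i => algebraMap R (AdicCompletion (maximalIdeal R) R) (c i), ?_⟩
    rw [LinearMap.comp_apply, Submodule.mkQ_apply, Submodule.mkQ_apply, Submodule.Quotient.eq]
    have hfc : f (fun i => algebraMap R (AdicCompletion (maximalIdeal R) R) (c i)) =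
        algebraMap S (AdicCompletion (maximalIdeal S) S) (∑ i, c i • s i) := by
      rw [Fintype.linearCombination_apply, map_sum]
      refine Finset.sum_congr rfl fun i _ => ?_
      rw [hsmul, hψ, ← map_mul, Algebra.smul_def]
    rw [hfc]
    have h1 : algebraMap S (AdicCompletion (maximalIdeal S) S) (s₀ - ∑ i, c i • s i) ∈
        (mh • ⊤ : Submodule (AdicCompletion (maximalIdeal R) R)
          (AdicCompletion (maximalIdeal S) S)) := by
      have := key1 _ (mem_map_of_mem_smul_top hc) 1
      rwa [mul_one] at this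
    have h2 : algebraMap S (AdicCompletion (maximalIdeal S) S) (∑ i, c i • s i) - y =
        - (y - algebraMap S (AdicCompletion (maximalIdeal S) S) s₀) -
          algebraMap S (AdicCompletion (maximalIdeal S) S) (s₀ - ∑ i, c i • s i) := by
      rw [map_sub]; ring
    rw [h2]
    exact sub_mem (neg_mem hs₀) h1
  have hfsurj : Function.Surjective f := surjective_of_mkQ_comp_surjective (I := mh) hfs
  exact Module.Finite.of_surjective f hfsurj

/-- S9138. -/
theorem main (hm : (maximalIdeal R).FG) (hn : (maximalIdeal S).FG)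
    (hfib : Module.Finite (maximalIdeal R).ResidueField ((maximalIdeal R).Fiber S))
    (h : (maximalIdeal R).map (algebraMap R S) ≤ maximalIdeal S)
    (h' : ((maximalIdeal R).map (algebraMap R S)).map (RingHom.id S) ≤ maximalIdeal S) :
    Function.Bijective (FSch.complMap ((maximalIdeal R).map (algebraMap R S))
        (maximalIdeal S) (RingHom.id S) h') ∧
      (FSch.complMap (maximalIdeal R) (maximalIdeal S) (algebraMap R S) h).Finite := by
  obtain ⟨t, ht⟩ := exists_pow_le (R := R) (S := S) hfib
  exact ⟨complMap_id_bijective _ _ h' t ht, finite_part hm hn hfib h⟩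

end Fib

end Groth.Agent.H13.ComplFib
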