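import Mathlib

/-!
# Stable isomorphism of conormal modules (Stacks 00S1), via the Jacobi–Zariski sequence.
-/

open TensorProduct MvPolynomial

namespace Groth.Agent.H13.Conormal

universe u

open Algebra Algebra.Generators

section inj

variable {R S T : Type u} [CommRing R] [CommRing S] [Algebra R S]
  [CommRing T] [Algebra R T] [Algebra S T] [IsScalarTower R S T]
variable {ι σ : Type} (g : S) [IsLocalization.Away g T]
  (Q : Generators S T ι) (P : Generators R S σ)

/-- the auxiliary ring `(P.Ring / I²)[1/f]`. -/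
noncomputable abbrev auxF : P.Ring ⧸ P.ker ^ 2 := Ideal.Quotient.mk (P.ker ^ 2) (P.σ g)

abbrev AuxB : Type u := Localization.Away (auxF g P)

/-- The map `(P.Ring/I²) → T`. -/
noncomputable def auxε₀ : (P.Ring ⧸ P.ker ^ 2) →+* T :=
  Ideal.Quotient.lift (P.ker ^ 2) ((algebraMap S T).comp (algebraMap P.Ring S)) (by
    intro a ha
    have : a ∈ P.ker := Ideal.pow_le_self two_ne_zero ha
    have h0 : algebraMap P.Ring S a = 0 := this
    simp [h0])

lemma auxε₀_mk (p : P.Ring) :
    auxε₀ (T := T) P (Ideal.Quotient.mk _ p) = algebraMap S T (algebraMap P.Ring S p) := rfl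

lemma isUnit_auxε₀ : IsUnit (auxε₀ (T := T) P (auxF g P)) := by
  rw [auxε₀_mk]
  have : algebraMap P.Ring S (P.σ g) = g := by simp
  rw [this]
  exact IsLocalization.Away.algebraMap_isUnit g

/-- The map `(P.Ring/I²)[1/f] → T`. -/
noncomputable def auxε : AuxB g P →+* T :=
  IsLocalization.Away.lift (auxF g P) (isUnit_auxε₀ g P)

lemma auxε_algebraMap (a : P.Ring ⧸ P.ker ^ 2) :
    auxε (T := T) g P (algebraMap _ (AuxB g P) a) = auxε₀ P a :=
  IsLocalization.Away.lift_eq _ _ _

lemma auxε_surjective : Function.Surjective (auxε (T := T) g P) := by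
  intro t
  obtain ⟨s, ⟨_, k, rfl⟩, rfl⟩ := IsLocalization.exists_mk'_eq (Submonoid.powers g) t
  obtain ⟨p, rfl⟩ := P.algebraMap_surjective s
  refine ⟨IsLocalization.mk' (AuxB g P) (Ideal.Quotient.mk _ p)
    (⟨auxF g P ^ k, k, rfl⟩ : Submonoid.powers (auxF g P)), ?_⟩
  rw [eq_comm, IsLocalization.mk'_eq_iff_eq_mul]
  have h1 := IsLocalization.mk'_spec (AuxB g P) (Ideal.Quotient.mk (P.ker ^ 2) p)
    (⟨auxF g P ^ k, k, rfl⟩ : Submonoid.powers (auxF g P))
  have h2 := congrArg (auxε (T := T) g P) h1
  rw [map_mul, auxε_algebraMap, auxε_algebraMap, auxε₀_mk, map_pow, auxε₀_mk] at h2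
  have : algebraMap P.Ring S (P.σ g) = g := by simp
  rw [this] at h2
  change _ = _ * algebraMap S T (g ^ k)
  rw [map_pow, h2]

lemma mul_eq_zero_of_auxε (b₁ b₂ : AuxB g P) (h₁ : auxε (T := T) g P b₁ = 0)
    (h₂ : auxε (T := T) g P b₂ = 0) : b₁ * b₂ = 0 := by
  have key : ∀ b : AuxB g P, auxε (T := T) g P b = 0 →
      ∃ (p : P.Ring) (k : ℕ), p ∈ P.ker ∧
        algebraMap _ (AuxB g P) (auxF g P) ^ k * b =
          algebraMap _ (AuxB g P) (Ideal.Quotient.mk (P.ker ^ 2) p) := by
    intro b hb
    obtain ⟨a, ⟨_, k, rfl⟩, rfl⟩ := IsLocalization.exists_mk'_eq (Submonoid.powers (auxF g P)) b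
    obtain ⟨p, rfl⟩ := Ideal.Quotient.mk_surjective a
    have h1 := IsLocalization.mk'_spec (AuxB g P) (Ideal.Quotient.mk (P.ker ^ 2) p)
      (⟨auxF g P ^ k, k, rfl⟩ : Submonoid.powers (auxF g P))
    have h2 := congrArg (auxε (T := T) g P) h1
    rw [map_mul, hb, zero_mul, auxε_algebraMap, auxε₀_mk] at h2
    obtain ⟨⟨_, l, rfl⟩, hl⟩ := (IsLocalization.map_eq_zero_iff (Submonoid.powers g) T _).mp h2.symm
    refine ⟨P.σ g ^ l * p, k + l, ?_, ?_⟩
    · show algebraMap P.Ring S (P.σ g ^ l * p) = 0
      rw [map_mul, map_pow]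
      have : algebraMap P.Ring S (P.σ g) = g := by simp
      rw [this]
      exact hl
    · have h1' : IsLocalization.mk' (AuxB g P) (Ideal.Quotient.mk (P.ker ^ 2) p)
          (⟨auxF g P ^ k, k, rfl⟩ : Submonoid.powers (auxF g P)) *
          algebraMap _ (AuxB g P) (auxF g P) ^ k =
          algebraMap _ (AuxB g P) (Ideal.Quotient.mk (P.ker ^ 2) p) := by
        have h := h1
        simp only [map_pow] at h
        exact h
      have h3 : algebraMap _ (AuxB g P) (Ideal.Quotient.mk (P.ker ^ 2) (P.σ g ^ l * p)) =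
          algebraMap _ (AuxB g P) (auxF g P) ^ l *
            algebraMap _ (AuxB g P) (Ideal.Quotient.mk (P.ker ^ 2) p) := by
        rw [← map_pow, ← map_mul, ← map_pow, ← map_mul]
      rw [h3, ← h1']
      ring
  obtain ⟨p₁, k₁, hp₁, e₁⟩ := key b₁ h₁
  obtain ⟨p₂, k₂, hp₂, e₂⟩ := key b₂ h₂
  have hu : IsUnit (algebraMap _ (AuxB g P) (auxF g P) ^ (k₁ + k₂)) :=
    (IsLocalization.Away.algebraMap_isUnit _).pow _
  refine hu.mul_left_cancel ?_
  rw [mul_zero, pow_add]
  calc _ = (algebraMap _ (AuxB g P) (auxF g P) ^ k₁ * b₁) *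
        (algebraMap _ (AuxB g P) (auxF g P) ^ k₂ * b₂) := by ring
    _ = 0 := by
      rw [e₁, e₂, ← map_mul, ← map_mul]
      have : p₁ * p₂ ∈ P.ker ^ 2 := by
        rw [sq]; exact Ideal.mul_mem_mul hp₁ hp₂
      rw [Ideal.Quotient.eq_zero_iff_mem.mpr this, map_zero]

/-- chosen preimages of the generators of `T` over `S`. -/
noncomputable def auxb (j : ι) : AuxB g P := (auxε_surjective (T := T) g P (Q.val j)).choose

lemma auxε_auxb (j : ι) : auxε (T := T) g P (auxb g Q P j) = Q.val j :=
  (auxε_surjective (T := T) g P (Q.val j)).choose_spec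

/-- The map `R[X, Y] → (P.Ring / I²)[1/f]`. -/
noncomputable def auxπ : (Q.comp P).Ring →ₐ[R] AuxB g P :=
  aeval (R := R) (S₁ := AuxB g P)
    (Sum.elim (auxb g Q P) (fun i : σ ↦ algebraMap P.Ring (AuxB g P) (X i)))

lemma auxπ_toComp (x : P.Ring) :
    auxπ g Q P ((Q.toComp P).toAlgHom x) = algebraMap P.Ring (AuxB g P) x := by
  simp only [toComp_toAlgHom, auxπ, aeval_rename,
    Sum.elim_comp_inr, ← IsScalarTower.toAlgHom_apply (R := R), ← comp_aeval_apply,
    aeval_X_left_apply]

lemma auxε_auxπ (z : (Q.comp P).Ring) :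
    auxε (T := T) g P (auxπ g Q P z) = algebraMap (Q.comp P).Ring T z := by
  have : (auxε (T := T) g P).comp (auxπ g Q P).toRingHom = algebraMap (Q.comp P).Ring T := by
    apply MvPolynomial.ringHom_ext
    · intro r
      simp only [RingHom.comp_apply, AlgHom.toRingHom_eq_coe, RingHom.coe_coe, auxπ, aeval_C,
        Generators.algebraMap_apply]
      rw [IsScalarTower.algebraMap_apply R (P.Ring ⧸ P.ker ^ 2) (AuxB g P), auxε_algebraMap,
        IsScalarTower.algebraMap_apply R P.Ring (P.Ring ⧸ P.ker ^ 2)]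
      rw [Ideal.Quotient.algebraMap_eq, auxε₀_mk, ← IsScalarTower.algebraMap_apply R P.Ring S,
        ← IsScalarTower.algebraMap_apply R S T]
    · rintro (j | i)
      · simp only [RingHom.comp_apply, AlgHom.toRingHom_eq_coe, RingHom.coe_coe, auxπ, aeval_X,
          Sum.elim_inl, Generators.algebraMap_apply, comp_val]
        exact auxε_auxb g Q P j
      · simp only [RingHom.comp_apply, AlgHom.toRingHom_eq_coe, RingHom.coe_coe, auxπ, aeval_X,
          Sum.elim_inr, Generators.algebraMap_apply, comp_val, Function.comp_apply]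
        rw [IsScalarTower.algebraMap_apply P.Ring (P.Ring ⧸ P.ker ^ 2) (AuxB g P),
          auxε_algebraMap, Ideal.Quotient.algebraMap_eq, auxε₀_mk, Generators.algebraMap_apply,
          aeval_X]
  exact DFunLike.congr_fun this z

lemma sq_ker_le : (Q.comp P).ker ^ 2 ≤ RingHom.ker (auxπ g Q P) := by
  rw [sq, Ideal.mul_le]
  intro x hx y hy
  rw [RingHom.mem_ker, map_mul]
  apply mul_eq_zero_of_auxε (T := T) g P
  · rw [auxε_auxπ]; exact hx
  · rw [auxε_auxπ]; exact hy

include g in
set_option backward.isDefEq.respectTransparency false in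
/-- `T ⊗[S] (I/I²) → J/J²` is injective for any generators `Q` of the localization `T` of `S`. -/
lemma liftBaseChange_injective :
    Function.Injective (LinearMap.liftBaseChange T
      (Extension.Cotangent.map (Q.toComp P).toExtensionHom)) := by
  let f : P.Ring ⧸ P.ker ^ 2 := P.σ g
  refine IsLocalizedModule.injective_of_map_zero (Submonoid.powers g)
    (TensorProduct.mk S T P.toExtension.Cotangent 1) (fun x hx ↦ ?_)
  obtain ⟨x, rfl⟩ := Algebra.Extension.Cotangent.mk_surjective x
  suffices h : algebraMap P.Ring (Localization.Away f) x.val = 0 by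
    rw [IsScalarTower.algebraMap_apply _ (P.Ring ⧸ P.ker ^ 2) _,
      IsLocalization.map_eq_zero_iff (Submonoid.powers f) (Localization.Away f)] at h
    obtain ⟨⟨m, ⟨n, rfl⟩⟩, hm⟩ := h
    rw [IsLocalizedModule.eq_zero_iff (Submonoid.powers g)]
    use ⟨g ^ n, n, rfl⟩
    dsimp [f] at hm
    rw [← map_pow, ← map_mul, Ideal.Quotient.eq_zero_iff_mem] at hm
    simp only [Submonoid.smul_def]
    rw [show g = algebraMap P.Ring S (P.σ g) by simp, ← map_pow, algebraMap_smul, ← map_smul,
      Extension.Cotangent.mk_eq_zero_iff]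
    simpa using! hm
  rw [← auxπ_toComp g Q P]
  apply sq_ker_le
  simpa only [LinearEquiv.coe_coe, LinearMap.ringLmapEquivSelf_symm_apply,
    mk_apply, lift.tmul, LinearMap.coe_restrictScalars, LinearMap.coe_smulRight,
    Module.End.one_apply, LinearMap.smul_apply, one_smul, Algebra.Extension.Cotangent.map_mk,
    Extension.Cotangent.mk_eq_zero_iff] using! hx

include g in
/-- For generators `Q` of a localization, the cotangent complex `K/K² → ⨁ T dyⱼ` is bijective. -/
lemma cotangentComplex_bijective_of_isLocalizationAway :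
    Function.Bijective Q.toExtension.cotangentComplex := by
  haveI : Algebra.FormallyEtale S T := Algebra.FormallyEtale.of_isLocalization (Submonoid.powers g)
  refine ⟨(Extension.subsingleton_h1Cotangent Q.toExtension).mp
    Q.equivH1Cotangent.subsingleton, ?_⟩
  intro x
  exact (Extension.exact_cotangentComplex_toKaehler (P := Q.toExtension) x).mp
    (Subsingleton.elim _ _)

include g in
/-- **Jacobi–Zariski splitting for a localization**: `J/J² ≃ T ⊗ (I/I²) × T^ι`. -/
theorem nonempty_cotangent_comp_equiv [Finite ι] :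
    Nonempty ((Q.comp P).toExtension.Cotangent ≃ₗ[T]
      (T ⊗[S] P.toExtension.Cotangent) × (ι → T)) := by
  classical
  have hbij := cotangentComplex_bijective_of_isLocalizationAway g Q
  let eQ : Q.toExtension.Cotangent ≃ₗ[T] (ι → T) :=
    (LinearEquiv.ofBijective _ hbij).trans (Q.cotangentSpaceBasis.equivFun)
  haveI : Module.Free T Q.toExtension.Cotangent := Module.Free.of_equiv eQ.symm
  obtain ⟨l, hl⟩ := Module.projective_lifting_property
    (Extension.Cotangent.map (Q.ofComp P).toExtensionHom) LinearMap.id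
    (Cotangent.surjective_map_ofComp Q P)
  have e := ((Cotangent.exact Q P).splitSurjectiveEquiv
    (liftBaseChange_injective g Q P) ⟨l, hl⟩).1
  exact ⟨e.trans (LinearEquiv.prodCongr (LinearEquiv.refl _ _) eQ)⟩

end inj

section assemble

/-- Two extensions with mutually inverse homs have isomorphic cotangent modules. -/
noncomputable def cotEquiv {R S : Type u} [CommRing R] [CommRing S] [Algebra R S]
    {E E' : Extension.{u} R S} (f : E.Hom E') (f' : E'.Hom E)
    (h1 : ∀ x, f'.toRingHom (f.toRingHom x) = x) (h2 : ∀ x, f.toRingHom (f'.toRingHom x) = x) :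
    E.Cotangent ≃ₗ[S] E'.Cotangent :=
  LinearEquiv.ofLinearMap (Extension.Cotangent.map f) (Extension.Cotangent.map f')
    (by
      ext x
      obtain ⟨x, rfl⟩ := Extension.Cotangent.mk_surjective x
      simp only [LinearMap.comp_apply, Extension.Cotangent.map_mk, LinearMap.id_apply]
      congr 1
      ext
      simp [h2])
    (by
      ext x
      obtain ⟨x, rfl⟩ := Extension.Cotangent.mk_surjective x
      simp only [LinearMap.comp_apply, Extension.Cotangent.map_mk, LinearMap.id_apply]
      congr 1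
      ext
      simp [h1])

variable {R S : Type u} [CommRing R] [CommRing S] [Algebra R S]

/-- the generators attached to a surjection from a polynomial ring -/
noncomputable def gensOf {n : ℕ} (α : MvPolynomial (Fin n) R →ₐ[R] S)
    (hα : Function.Surjective α) : Generators R S (Fin n) :=
  Generators.ofSurjective (fun i ↦ α (X i)) (by
    rwa [show aeval (R := R) (fun i ↦ α (X i)) = α from (aeval_unique α).symm])

lemma gensOf_aeval {n : ℕ} (α : MvPolynomial (Fin n) R →ₐ[R] S)
    (hα : Function.Surjective α) (x : MvPolynomial (Fin n) R) :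
    aeval (gensOf α hα).val x = α x := by
  have : aeval (R := R) (fun i ↦ α (X i)) = α := (aeval_unique α).symm
  exact DFunLike.congr_fun this x

lemma gensOf_algebraMap {n : ℕ} (α : MvPolynomial (Fin n) R →ₐ[R] S)
    (hα : Function.Surjective α) (x : MvPolynomial (Fin n) R) :
    algebraMap (gensOf α hα).Ring S x = α x := by
  rw [Generators.algebraMap_apply, gensOf_aeval]

/-- `Extension.ofSurjective` versus `Generators.ofSurjective`. -/
noncomputable def cotEquivGens {n : ℕ} (α : MvPolynomial (Fin n) R →ₐ[R] S)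
    (hα : Function.Surjective α) :
    (Extension.ofSurjective α hα).Cotangent ≃ₗ[S] (gensOf α hα).toExtension.Cotangent :=
  cotEquiv
    (E := Extension.ofSurjective α hα) (E' := (gensOf α hα).toExtension)
    { toRingHom := RingHom.id (MvPolynomial (Fin n) R)
      toRingHom_algebraMap := fun x ↦ rfl
      algebraMap_toRingHom := fun x ↦ gensOf_algebraMap α hα x }
    { toRingHom := RingHom.id (MvPolynomial (Fin n) R)
      toRingHom_algebraMap := fun x ↦ rfl
      algebraMap_toRingHom := fun x ↦ (gensOf_algebraMap α hα x).symm }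
    (fun x ↦ rfl) (fun x ↦ rfl)

lemma swap_swap_apply {ι σ : Type} (x : MvPolynomial (ι ⊕ σ) R) :
    aeval (R := R) (fun i : σ ⊕ ι ↦ (X i.swap : MvPolynomial (ι ⊕ σ) R))
      (aeval (R := R) (fun i : ι ⊕ σ ↦ (X i.swap : MvPolynomial (σ ⊕ ι) R)) x) = x := by
  induction x using MvPolynomial.induction_on with
  | C r => simp
  | add p q hp hq => simp only [map_add, hp, hq]
  | mul_X p i hp => simp only [map_mul, hp, aeval_X, Sum.swap_swap]

/-- the hom of generators swapping the two blocks of variables -/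
noncomputable def swapHom {T : Type u} [CommRing T] [Algebra R T] {ι σ : Type}
    (A : Generators R T (ι ⊕ σ)) (A' : Generators R T (σ ⊕ ι))
    (h : ∀ i, A'.val i.swap = A.val i) : A.Hom A' where
  val i := X i.swap
  aeval_val i := by simp [h]

/-- swapping variables gives isomorphic cotangent modules -/
noncomputable def cotEquivSwap {T : Type u} [CommRing T] [Algebra R T] {ι σ : Type}
    (A : Generators R T (ι ⊕ σ)) (A' : Generators R T (σ ⊕ ι))
    (h : ∀ i, A'.val i.swap = A.val i) :
    A.toExtension.Cotangent ≃ₗ[T] A'.toExtension.Cotangent :=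
  cotEquiv (swapHom A A' h).toExtensionHom
    (swapHom A' A (fun i ↦ by have := h i.swap; simpa using this.symm)).toExtensionHom
    (fun x ↦ swap_swap_apply (R := R) x) (fun x ↦ swap_swap_apply (R := R) x)

/-- **Stacks 00S1.** -/
theorem main (R S : Type u) [CommRing R] [CommRing S] [Algebra R S]
    (g : S) (n m : ℕ) (α : MvPolynomial (Fin n) R →ₐ[R] S) (hα : Function.Surjective α)
    (β : MvPolynomial (Fin m) R →ₐ[R] Localization.Away g) (hβ : Function.Surjective β) :
    Nonempty ((LocalizedModule (Submonoid.powers g) (Algebra.Extension.ofSurjective α hα).Cotangent ×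
        (Fin m → Localization.Away g)) ≃ₗ[Localization.Away g]
      ((Algebra.Extension.ofSurjective β hβ).Cotangent × (Fin n → Localization.Away g))) := by
  classical
  let T := Localization.Away g
  let Pα : Generators R S (Fin n) := gensOf α hα
  let Pβ : Generators R T (Fin m) := gensOf β hβ
  let Qβ : Generators S T (Fin m) := Pβ.extendScalars S
  let Qα : Generators T T (Fin n) :=
    Generators.ofSurjective (fun i ↦ algebraMap S T (α (X i))) (fun t ↦ ⟨C t, by simp⟩)
  haveI : IsLocalization.Away (1 : T) T :=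
    IsLocalization.away_of_isUnit_of_bijective T isUnit_one Function.bijective_id
  obtain ⟨e2⟩ := nonempty_cotangent_comp_equiv g Qβ Pα
  obtain ⟨e1⟩ := nonempty_cotangent_comp_equiv (1 : T) Qα Pβ
  have hsw : ∀ i, (Qα.comp Pβ).val i.swap = (Qβ.comp Pα).val i := by
    rintro (j | i)
    · simp [Qα, Qβ, Pβ, gensOf]
    · simp [Qα, Qβ, Pα, gensOf]
      try rfl
  let esw := cotEquivSwap (Qβ.comp Pα) (Qα.comp Pβ) hsw
  let eα := cotEquivGens α hα
  let eβ := cotEquivGens β hβ
  let eloc : (T ⊗[S] (Algebra.Extension.ofSurjective α hα).Cotangent) ≃ₗ[T]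
      LocalizedModule (Submonoid.powers g) (Algebra.Extension.ofSurjective α hα).Cotangent :=
    (IsLocalizedModule.isBaseChange (Submonoid.powers g) T
      (LocalizedModule.mkLinearMap (Submonoid.powers g)
        (Algebra.Extension.ofSurjective α hα).Cotangent)).equiv
  let eten : (T ⊗[S] (Algebra.Extension.ofSurjective α hα).Cotangent) ≃ₗ[T]
      (T ⊗[S] Pα.toExtension.Cotangent) :=
    TensorProduct.AlgebraTensorModule.congr (LinearEquiv.refl T T) eα
  let a1 : (LocalizedModule (Submonoid.powers g) (Algebra.Extension.ofSurjective α hα).Cotangent ×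
        (Fin m → T)) ≃ₗ[T] ((T ⊗[S] Pα.toExtension.Cotangent) × (Fin m → T)) :=
    LinearEquiv.prodCongr (eloc.symm ≪≫ₗ eten) (LinearEquiv.refl T _)
  let a5 : ((T ⊗[T] Pβ.toExtension.Cotangent) × (Fin n → T)) ≃ₗ[T]
      ((Algebra.Extension.ofSurjective β hβ).Cotangent × (Fin n → T)) :=
    LinearEquiv.prodCongr ((TensorProduct.lid T _) ≪≫ₗ eβ.symm) (LinearEquiv.refl T _)
  exact ⟨a1 ≪≫ₗ e2.symm ≪≫ₗ esw ≪≫ₗ e1 ≪≫ₗ a5⟩

end assemble

end Groth.Agent.H13.Conormal
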