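import Mathlib
import Groth.Prelude.Def_Wider
import Groth.Prelude.Def_CAlg
import Groth.Prelude.Def_EGA4b
import Groth.Agent.H71.HConnLocal

/-!
# A dimension function on an `(S_2)` Noetherian local ring is constant on the minimal primes
(via Hartshorne's connectedness theorem in codimension one).
-/

set_option autoImplicit false
universe u

namespace Groth.Agent.H13.DKS

open Groth.Agent.H71.ZC

/-- the ideal of elements killed, locally at each prime of `S`, by something outside. -/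
def sepIdeal {A : Type u} [CommRing A] (S : Set (Ideal A)) (hS : ∀ p ∈ S, p.IsPrime) :
    Ideal A where
  carrier := {r | ∀ p ∈ S, ∃ s : A, s ∉ p ∧ s * r = 0}
  zero_mem' := fun p hp => ⟨1, (Ideal.ne_top_iff_one p).mp (hS p hp).ne_top, by simp⟩
  add_mem' := by
    intro x y hx hy p hp
    obtain ⟨s, hs, hsx⟩ := hx p hp
    obtain ⟨t, ht, hty⟩ := hy p hp
    refine ⟨s * t, fun h => ?_, ?_⟩
    · rcases (hS p hp).mem_or_mem h with h | h
      · exact hs h
      · exact ht h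
    · rw [mul_add, mul_right_comm, hsx, zero_mul, mul_assoc, hty, mul_zero, add_zero]
  smul_mem' := by
    intro c x hx p hp
    obtain ⟨s, hs, hsx⟩ := hx p hp
    refine ⟨s, hs, ?_⟩
    rw [smul_eq_mul, mul_left_comm, hsx, mul_zero]

lemma mem_sepIdeal {A : Type u} [CommRing A] (S : Set (Ideal A)) (hS : ∀ p ∈ S, p.IsPrime)
    (r : A) : r ∈ sepIdeal S hS ↔ ∀ p ∈ S, ∃ s : A, s ∉ p ∧ s * r = 0 := Iff.rfl

lemma sepIdeal_le {A : Type u} [CommRing A] (S : Set (Ideal A)) (hS : ∀ p ∈ S, p.IsPrime)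
    (p : Ideal A) (hp : p ∈ S) : sepIdeal S hS ≤ p := by
  intro r hr
  obtain ⟨s, hs, hsr⟩ := hr p hp
  have : s * r ∈ p := hsr ▸ Submodule.zero_mem _
  exact ((hS p hp).mem_or_mem this).resolve_left hs

lemma exists_le_of_sepIdeal_le {A : Type u} [CommRing A] [IsNoetherianRing A]
    (S : Set (Ideal A)) (hS : S ⊆ minimalPrimes A) (c : Ideal A)
    (hc : ∀ r : A, r ∈ c ↔ ∀ p ∈ S, ∃ s : A, s ∉ p ∧ s * r = 0)
    (Q : Ideal A) (hQ : Q.IsPrime) (hcQ : c ≤ Q) : ∃ p ∈ S, p ≤ Q := by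
  classical
  have hfin := minimalPrimes.finite_of_isNoetherianRing A
  by_contra hno
  push Not at hno
  have hSfin : S.Finite := hfin.subset hS
  have hy : ∀ p ∈ S, ∃ y s : A, y ∉ Q ∧ s ∉ p ∧ s * y = 0 := by
    intro p hp
    obtain ⟨x, hxp, hxQ⟩ := SetLike.not_le_iff_exists.mp (hno p hp)
    obtain ⟨k, s, hs, hsx⟩ := exists_mul_pow_mem_of_mem_minimalPrimes (hS hp) hxp
    exact ⟨x ^ k, s, fun h => hxQ (hQ.mem_of_pow_mem k h), hs, by simpa using hsx⟩
  choose! y s hyQ hsp hsy using hy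
  have hprod : (∏ p ∈ hSfin.toFinset, y p) ∈ c := by
    rw [hc]
    intro p hp
    refine ⟨s p, hsp p hp, ?_⟩
    obtain ⟨e, he⟩ := Finset.dvd_prod_of_mem y (hSfin.mem_toFinset.mpr hp)
    rw [he, ← mul_assoc, hsy p hp, zero_mul]
  have hnot : (∏ p ∈ hSfin.toFinset, y p) ∉ Q := by
    intro hmem
    obtain ⟨p, hp, hpQ⟩ := (Ideal.IsPrime.prod_mem_iff (hp := hQ)).mp hmem
    exact hyQ p (hSfin.mem_toFinset.mp hp) hpQ
  exact hnot (hcQ hprod)

theorem dimFun_const_on_minimalPrimes (A : Type u) [CommRing A] [IsNoetherianRing A]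
    [IsLocalRing A] (hS2 : LocCoh.HasSk 2 A A) (δ : PrimeSpectrum A → ℤ)
    (hcov : ∀ p q : PrimeSpectrum A, p ⋖ q → δ p = δ q + 1) :
    ∀ p q : PrimeSpectrum A, p.asIdeal ∈ minimalPrimes A → q.asIdeal ∈ minimalPrimes A →
      δ p = δ q := by
  intro p q hp hq
  by_contra hne
  classical
  set P1 : Set (Ideal A) := {I | ∃ h : I ∈ minimalPrimes A, δ ⟨I, h.1.1⟩ = δ p} with hP1
  set P2 : Set (Ideal A) := {I | ∃ h : I ∈ minimalPrimes A, δ ⟨I, h.1.1⟩ ≠ δ p} with hP2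
  have hU : P1 ∪ P2 = minimalPrimes A := by
    ext I
    constructor
    · rintro (⟨h, _⟩ | ⟨h, _⟩) <;> exact h
    · intro h
      by_cases he : δ ⟨I, h.1.1⟩ = δ p
      · exact Or.inl ⟨h, he⟩
      · exact Or.inr ⟨h, he⟩
  have hdisj : Disjoint P1 P2 := by
    rw [Set.disjoint_left]
    rintro I ⟨h, h1⟩ ⟨h', h2⟩
    exact h2 h1
  have hP1sub : P1 ⊆ minimalPrimes A := hU ▸ Set.subset_union_left
  have hP2sub : P2 ⊆ minimalPrimes A := hU ▸ Set.subset_union_right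
  have hP1prime : ∀ I ∈ P1, I.IsPrime := fun I hI => (hP1sub hI).1.1
  have hP2prime : ∀ I ∈ P2, I.IsPrime := fun I hI => (hP2sub hI).1.1
  have hp1 : p.asIdeal ∈ P1 := ⟨hp, rfl⟩
  have hq2 : q.asIdeal ∈ P2 := ⟨hq, fun h => hne h.symm⟩
  have hale : sepIdeal P1 hP1prime ≤ IsLocalRing.maximalIdeal A :=
    (sepIdeal_le P1 hP1prime _ hp1).trans (IsLocalRing.le_maximalIdeal p.2.ne_top)
  have hble : sepIdeal P2 hP2prime ≤ IsLocalRing.maximalIdeal A :=
    (sepIdeal_le P2 hP2prime _ hq2).trans (IsLocalRing.le_maximalIdeal q.2.ne_top)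
  have hne_top : sepIdeal P1 hP1prime ⊔ sepIdeal P2 hP2prime ≠ ⊤ := by
    intro h
    have := sup_le hale hble
    rw [h] at this
    exact (IsLocalRing.maximalIdeal.isMaximal A).ne_top (top_le_iff.mp this)
  obtain ⟨⟨P, hPmin⟩⟩ := Ideal.nonempty_minimalPrimes hne_top
  have hht := Groth.Agent.H71.HC.height_eq_one_of_S2 A hS2 P1 P2 hU hdisj _ _
    (mem_sepIdeal P1 hP1prime) (mem_sepIdeal P2 hP2prime) P hPmin
  have hPprime : P.IsPrime := hPmin.1.1
  obtain ⟨q1, hq1, hq1P⟩ := exists_le_of_sepIdeal_le P1 hP1sub _ (mem_sepIdeal P1 hP1prime) P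
    hPprime (le_sup_left.trans hPmin.1.2)
  obtain ⟨q2, hq2', hq2P⟩ := exists_le_of_sepIdeal_le P2 hP2sub _ (mem_sepIdeal P2 hP2prime) P
    hPprime (le_sup_right.trans hPmin.1.2)
  have hcover : ∀ (I : Ideal A) (hI : I ∈ minimalPrimes A), I ≤ P →
      (⟨I, hI.1.1⟩ : PrimeSpectrum A) ⋖ ⟨P, hPprime⟩ := by
    intro I hI hIP
    have hIprime : I.IsPrime := hI.1.1
    have hI0 : I.height = 0 := Ideal.height_eq_zero_iff.mpr hI
    have hIneP : I ≠ P := by
      intro h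
      rw [h, hht] at hI0
      exact one_ne_zero hI0
    refine ⟨lt_of_le_of_ne hIP (fun h => hIneP (congrArg PrimeSpectrum.asIdeal h)), ?_⟩
    intro r hIr hrP
    have hrprime : r.asIdeal.IsPrime := r.2
    have h1 : r.asIdeal < P := hrP
    have h2 : I < r.asIdeal := hIr
    have h3 : r.asIdeal.height < P.height := Ideal.height_strict_mono_of_isPrime h1
    rw [hht] at h3
    have h4 : r.asIdeal.height = 0 := Order.lt_one_iff.mp h3
    have h5 : r.asIdeal ∈ minimalPrimes A := Ideal.height_eq_zero_iff.mp h4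
    exact absurd (h5.2 ⟨hIprime, bot_le⟩ h2.le) (not_le_of_gt h2)
  obtain ⟨hq1m, hq1δ⟩ := hq1
  obtain ⟨hq2m, hq2δ⟩ := hq2'
  have e1 := hcov _ _ (hcover q1 hq1m hq1P)
  have e2 := hcov _ _ (hcover q2 hq2m hq2P)
  apply hq2δ
  rw [← hq1δ, e1, e2]

end Groth.Agent.H13.DKS
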