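import Mathlib
import Groth.Prelude.Def_Wider
import Groth.Prelude.Def_CAlg
import Groth.Prelude.Def_EGA4b
import Groth.Agent.H71.DK.DimF
import Groth.Agent.H71.DimFun

/-!
# A Noetherian local ring with a dimension function constant on minimal primes is equidimensional
-/

set_option autoImplicit false
universe u

namespace Groth.Agent.H13.DKS

theorem isEquidim_of_dimFun (A : Type u) [CommRing A] [IsNoetherianRing A] [IsLocalRing A]
    (δ : PrimeSpectrum A → ℤ) (hcov : ∀ p q : PrimeSpectrum A, p ⋖ q → δ p = δ q + 1)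
    (hconst : ∀ p q : PrimeSpectrum A, p.asIdeal ∈ minimalPrimes A →
      q.asIdeal ∈ minimalPrimes A → δ p = δ q) : EGA4.IsEquidim A := by
  set m : PrimeSpectrum A := IsLocalRing.closedPoint A with hm
  set δ' : PrimeSpectrum A → ℤ := fun x => δ x - δ m with hδ'
  have hcov' : ∀ p q : PrimeSpectrum A, p ⋖ q → δ' p = δ' q + 1 := by
    intro p q h
    simp only [hδ', hcov p q h]
    ring
  have hmax : ∀ x : PrimeSpectrum A, x.asIdeal.IsMaximal → δ' x = 0 := by
    intro x hx
    have : x = m := by
      apply PrimeSpectrum.ext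
      exact IsLocalRing.eq_maximalIdeal hx
    simp [hδ', this]
  have hco := Groth.Agent.H71.DimF.coheight_eq δ' hcov' hmax
  -- the common value on minimal primes
  have key : ∀ p q : PrimeSpectrum A, p.asIdeal ∈ minimalPrimes A →
      q.asIdeal ∈ minimalPrimes A → Order.coheight p = Order.coheight q := by
    intro p q hp hq
    rw [(hco p).2, (hco q).2]
    simp only [hδ', hconst p q hp hq]
  intro I hI
  have hIprime : I.IsPrime := hI.1.1
  set p0 : PrimeSpectrum A := ⟨I, hIprime⟩ with hp0
  have h1 : ringKrullDim (A ⧸ I) = ((Order.coheight p0 : ℕ∞) : WithBot ℕ∞) :=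
    (Groth.Agent.H71.DimFun.coheight_eq_ringKrullDim_quotient p0).symm
  rw [h1]
  apply le_antisymm
  · rw [ringKrullDim, Order.krullDim_eq_iSup_coheight]
    exact le_iSup (fun a : PrimeSpectrum A => ((Order.coheight a : ℕ∞) : WithBot ℕ∞)) p0
  · rw [ringKrullDim, Order.krullDim_eq_iSup_coheight]
    apply iSup_le
    intro x
    obtain ⟨J, hJ, hJx⟩ := Ideal.exists_minimalPrimes_le (I := (⊥ : Ideal A)) (J := x.asIdeal) bot_le
    have hJprime : J.IsPrime := hJ.1.1
    have h2 : (⟨J, hJprime⟩ : PrimeSpectrum A) ≤ x := hJx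
    have h3 := Order.coheight_anti h2
    rw [key ⟨J, hJprime⟩ p0 hJ hI] at h3
    exact WithBot.coe_le_coe.mpr h3

end Groth.Agent.H13.DKS
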