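import Mathlib
import Groth.Prelude.Def_Wider
import Groth.Prelude.Def_CAlg
import Groth.Prelude.Def_EGA4b
import Groth.Agent.S18717
import Groth.Agent.H12.HomSingleRing
import Groth.Agent.H12.DualDepthMain

/-!
# Vanishing of `Hom(H^i(ω), ω[j+i])` below the `(S_k)` range
-/

set_option autoImplicit false
universe u
open CategoryTheory CategoryTheory.Limits DerivedCategory Pretriangulated
attribute [local instance] HasDerivedCategory.standard

namespace Groth.Agent.H13.DKS

open Groth.Agent.H12.DualDepth

lemma subsingleton_hom_of_subsingleton (A : Type u) [CommRing A] (N : Type u) [AddCommGroup N]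
    [Module A N] [Subsingleton N] (W : Dual.D A) : Subsingleton (Dual.inD A N ⟶ W) := by
  have h0 : IsZero (ModuleCat.of A N) := ModuleCat.isZero_of_subsingleton _
  have h1 : IsZero (Dual.inD A N) := Functor.map_isZero _ h0
  exact ⟨fun a b => h1.eq_of_src a b⟩

theorem van_lower (A : Type u) [CommRing A] [IsNoetherianRing A] [IsLocalRing A] (ω : Dual.D A)
    (hω : Dual.IsDualizing A ω) (hn : Dual.IsNormalized A ω) (n : ℕ) (hd : ringKrullDim A = n)
    (hEq : EGA4.IsEquidim A) (k : ℕ) (hk : 1 ≤ k) (hS : LocCoh.HasSk k A A) :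
    (∀ i : ℤ, (i < -(n : ℤ) ∨ 0 < i) → Subsingleton (Dual.HD A ω i)) ∧
    (∀ i : ℤ, -(n : ℤ) < i → ∀ j : ℤ, j < k →
      Subsingleton (Dual.inD A (Dual.HD A ω i) ⟶ ω⟦j + i⟧)) := by
  have hfin := hω.finite_cohomology
  have hsd : Module.supportDim A A = (n : WithBot ℕ∞) := by
    rw [Module.supportDim_self_eq_ringKrullDim, hd]
  -- vanishing of Hom(N, ω[m]) when dim N < -m or m > 0
  have hvan : ∀ (N : Type u) [AddCommGroup N] [Module A N] [Module.Finite A N] (m : ℤ),
      (0 < m ∨ Module.supportDim A N < ((-m).toNat : WithBot ℕ∞)) →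
      Subsingleton (Dual.inD A N ⟶ ω⟦m⟧) := by
    intro N _ _ _ m hm
    rw [← van_iff_subsingleton]
    by_cases hpos : 0 < m
    · exact dualizing_hpos ω hω hn N m hpos
    · have hm' := hm.resolve_left hpos
      have := van_of_supportDim_lt ω hω hn N (-m).toNat hm'
      have e : -(((-m).toNat : ℕ) : ℤ) = m := by
        rw [Int.toNat_of_nonneg (by omega)]; ring
      rwa [e] at this
  have part1 : ∀ i : ℤ, (i < -(n : ℤ) ∨ 0 < i) → Subsingleton (Dual.HD A ω i) := by
    intro i hi
    rw [← van_self_iff, van_iff_subsingleton]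
    refine hvan A i ?_
    rcases hi with hi | hi
    · right
      rw [hsd]
      have : n < (-i).toNat := by omega
      exact_mod_cast this
    · exact Or.inl hi
  refine ⟨part1, ?_⟩
  intro i hi j hj
  by_cases hipos : 0 < i
  · have := part1 i (Or.inr hipos)
    exact subsingleton_hom_of_subsingleton A _ _
  -- now `-n < i ≤ 0`
  have hEqM : EGA4.IsEquidimModule A A := by
    intro p hp
    rw [Module.supportDim_self_eq_ringKrullDim]
    have hann : Module.annihilator A A = ⊥ := by
      rw [eq_bot_iff]
      intro x hx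
      have := Module.mem_annihilator.mp hx (1 : A)
      simpa using this
    rw [hann] at hp
    exact hEq p hp
  have hres := (Groth.Agent.S18717.result A ω hω hn A hEqM n hsd k hk).mp hS i (by omega)
  obtain ⟨e⟩ := Groth.Agent.H12.HomSingleRing.nonempty_linearEquiv_Hi (A := A) ω i
  by_cases hik : -i - (k : ℤ) < 0
  · have : Subsingleton (Dual.HD A ω i) := by
      have := hres.1 hik
      exact e.symm.toEquiv.subsingleton
    exact subsingleton_hom_of_subsingleton A _ _
  · have h2 := hres.2 (by omega)
    have h3 : Module.supportDim A (Dual.HD A ω i) ≤ ((-i - (k : ℤ)).toNat : WithBot ℕ∞) := by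
      rw [← Module.supportDim_eq_of_equiv e]
      exact h2
    have := hfin i
    refine hvan (Dual.HD A ω i) (j + i) (Or.inr (lt_of_le_of_lt h3 ?_))
    have : (-i - (k : ℤ)).toNat < (-(j + i)).toNat := by omega
    exact_mod_cast this

end Groth.Agent.H13.DKS
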