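import Mathlib
import Groth.Prelude.Def_Disc

/-!
# The Noether pairing for finite free algebras (helper13)

For a finite free `A`-algebra `B` with basis `b`, the pairing
`ξ ⊗ λ ↦ (λ ⊗ id) ξ`, `B ⊗ B → Hom_A(ω, B)` with `ω = Hom_A(B, A)`, is studied:
it identifies the annihilator of the diagonal kernel with the `B`-linear maps `ω → B`,
and the multiplication map corresponds to evaluation at the trace.
-/

open TensorProduct

namespace H13.DiscFree

variable {A : Type*} {B : Type*} [CommRing A] [CommRing B] [Algebra A B]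

/-- the pairing `ξ ↦ (l ⊗ id) ξ`. -/
noncomputable def pair (l : Disc.Omega A B) : B ⊗[A] B →ₗ[A] B :=
  TensorProduct.lift ((LinearMap.lsmul A B).comp l.toLinearMap)

@[simp] lemma pair_tmul (l : Disc.Omega A B) (x c : B) :
    pair l (x ⊗ₜ[A] c) = l.toLinearMap x • c := by
  simp [pair]

lemma pair_mul_right (l : Disc.Omega A B) (ζ : B ⊗[A] B) (s : B) :
    pair l (ζ * ((1 : B) ⊗ₜ[A] s)) = pair l ζ * s := by
  induction ζ with
  | zero => simp
  | tmul x c => simp [Algebra.TensorProduct.tmul_mul_tmul]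
  | add a b ha hb => simp only [add_mul, map_add, ha, hb]

lemma pair_mul_left (l : Disc.Omega A B) (ζ : B ⊗[A] B) (s : B) :
    pair l (ζ * (s ⊗ₜ[A] (1 : B))) = pair (s • l) ζ := by
  induction ζ with
  | zero => simp
  | tmul x c => simp [Algebra.TensorProduct.tmul_mul_tmul, mul_comm x s]
  | add a b ha hb => simp only [add_mul, map_add, ha, hb]

lemma pair_add (l l' : Disc.Omega A B) (ζ : B ⊗[A] B) :
    pair (l + l') ζ = pair l ζ + pair l' ζ := by
  induction ζ with
  | zero => simp
  | tmul x c => simp [add_smul]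
  | add a b ha hb => simp only [map_add, ha, hb]; abel

/-- `toLinearMap` as an additive hom. -/
def toLinearMapHom : Disc.Omega A B →+ (B →ₗ[A] A) where
  toFun := Disc.Omega.toLinearMap
  map_zero' := rfl
  map_add' _ _ := rfl

lemma sum_toLinearMap {ι : Type*} (s : Finset ι) (f : ι → Disc.Omega A B) :
    (∑ i ∈ s, f i).toLinearMap = ∑ i ∈ s, (f i).toLinearMap :=
  map_sum (toLinearMapHom (A := A) (B := B)) f s

/-- an element of the annihilator of the diagonal kernel intertwines the two `B`-actions -/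
lemma pair_mul_of_mem_annihilator {ξ : B ⊗[A] B}
    (hξ : ξ ∈ Submodule.annihilator (RingHom.ker (Algebra.TensorProduct.lmul' (S := B) A)))
    (l : Disc.Omega A B) (s : B) : pair l ξ * s = pair (s • l) ξ := by
  have hmem : (1 : B) ⊗ₜ[A] s - s ⊗ₜ[A] (1 : B) ∈
      RingHom.ker (Algebra.TensorProduct.lmul' (S := B) A) := by
    simp [RingHom.mem_ker]
  have h := (Submodule.mem_annihilator.mp hξ) _ hmem
  rw [smul_eq_mul, mul_sub, sub_eq_zero] at h
  rw [← pair_mul_right, h, pair_mul_left]

variable {ι : Type*} [Fintype ι] (b : Module.Basis ι A B)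

/-- the dual basis, as elements of `ω`. -/
noncomputable def dualOmega (i : ι) : Disc.Omega A B := ⟨b.coord i⟩

lemma eq_sum_basis_tmul_pair (ξ : B ⊗[A] B) :
    ξ = ∑ i, b i ⊗ₜ[A] pair (dualOmega b i) ξ := by
  induction ξ with
  | zero => simp
  | tmul x c =>
    simp only [pair_tmul, dualOmega, Module.Basis.coord_apply]
    conv_lhs => rw [← b.sum_repr x]
    rw [TensorProduct.sum_tmul]
    refine Finset.sum_congr rfl fun i _ => ?_
    rw [TensorProduct.smul_tmul]
  | add a c ha hc =>
    conv_lhs => rw [ha, hc]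
    rw [← Finset.sum_add_distrib]
    refine Finset.sum_congr rfl fun i _ => ?_
    rw [map_add, TensorProduct.tmul_add]

lemma eq_zero_of_pair_eq_zero (ξ : B ⊗[A] B) (h : ∀ i, pair (dualOmega b i) ξ = 0) : ξ = 0 := by
  rw [eq_sum_basis_tmul_pair b ξ]
  simp [h]

lemma pair_eq_sum (l : Disc.Omega A B) (ξ : B ⊗[A] B) :
    pair l ξ = ∑ j, l.toLinearMap (b j) • pair (dualOmega b j) ξ := by
  conv_lhs => rw [eq_sum_basis_tmul_pair b ξ]
  simp [map_sum]

lemma lmul_eq_sum (ξ : B ⊗[A] B) :
    Algebra.TensorProduct.lmul' (S := B) A ξ = ∑ j, b j * pair (dualOmega b j) ξ := by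
  conv_lhs => rw [eq_sum_basis_tmul_pair b ξ]
  simp [map_sum]

lemma omega_eq_sum (l : Disc.Omega A B) :
    l = ∑ i, (algebraMap A B (l.toLinearMap (b i))) • dualOmega b i := by
  apply Disc.Omega.ext
  ext x
  rw [sum_toLinearMap, LinearMap.sum_apply]
  simp only [Disc.Omega.smul_toLinearMap_apply, dualOmega, Module.Basis.coord_apply]
  conv_lhs => rw [← b.sum_repr x, map_sum]
  refine Finset.sum_congr rfl fun i _ => ?_
  rw [map_smul, ← Algebra.smul_def, map_smul, Finsupp.smul_apply, smul_eq_mul, smul_eq_mul,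
    mul_comm]

lemma mem_annihilator_of (ξ : B ⊗[A] B)
    (h : ∀ i s, pair (dualOmega b i) ξ * s = pair (s • dualOmega b i) ξ) :
    ξ ∈ Submodule.annihilator (RingHom.ker (Algebra.TensorProduct.lmul' (S := B) A)) := by
  have h1 := KaehlerDifferential.span_range_eq_ideal A B
  change _ = RingHom.ker (Algebra.TensorProduct.lmul' (S := B) A) at h1
  rw [← h1, Ideal.span, Submodule.mem_annihilator_span]
  rintro ⟨_, s, rfl⟩
  apply eq_zero_of_pair_eq_zero b
  intro i
  change pair (dualOmega b i) (ξ • ((1 : B) ⊗ₜ[A] s - s ⊗ₜ[A] (1 : B))) = 0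
  rw [smul_eq_mul, mul_sub, map_sub, pair_mul_right, pair_mul_left, h, sub_self]

include b in
/-- every `B`-linear `Φ : ω → B` is the pairing against an element annihilating the diagonal
kernel -/
theorem exists_pair_eq (Φ : Disc.Omega A B →ₗ[B] B) :
    ∃ ξ : B ⊗[A] B,
      ξ ∈ Submodule.annihilator (RingHom.ker (Algebra.TensorProduct.lmul' (S := B) A)) ∧
        ∀ l : Disc.Omega A B, Φ l = pair l ξ := by
  let ξ : B ⊗[A] B := ∑ i, b i ⊗ₜ[A] Φ (dualOmega b i)
  have hpair : ∀ l, Φ l = pair l ξ := by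
    intro l
    simp only [ξ, map_sum, pair_tmul]
    conv_lhs => rw [omega_eq_sum b l, map_sum]
    refine Finset.sum_congr rfl fun i _ => ?_
    rw [map_smul, smul_eq_mul, Algebra.smul_def]
  refine ⟨ξ, ?_, hpair⟩
  apply mem_annihilator_of b
  intro i s
  rw [← hpair, ← hpair, map_smul, smul_eq_mul, mul_comm]

include b in
theorem pair_unique (ξ ξ' : B ⊗[A] B) (h : ∀ l : Disc.Omega A B, pair l ξ = pair l ξ') :
    ξ = ξ' := by
  rw [← sub_eq_zero]
  apply eq_zero_of_pair_eq_zero b
  intro i
  rw [map_sub, h, sub_self]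

/-- pairing against an element of the annihilator, as a `B`-linear map -/
noncomputable def pairHom (ξ : B ⊗[A] B)
    (hξ : ξ ∈ Submodule.annihilator (RingHom.ker (Algebra.TensorProduct.lmul' (S := B) A))) :
    Disc.Omega A B →ₗ[B] B where
  toFun l := pair l ξ
  map_add' l l' := pair_add l l' ξ
  map_smul' s l := by
    rw [RingHom.id_apply, smul_eq_mul, ← pair_mul_of_mem_annihilator hξ, mul_comm]

@[simp] lemma pairHom_apply (ξ : B ⊗[A] B) (hξ) (l : Disc.Omega A B) :
    pairHom ξ hξ l = pair l ξ := rfl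

include b in
/-- for `ξ` annihilating the diagonal kernel, pairing against the trace is multiplication -/
theorem pair_trace_eq [Module.Free A B] [Module.Finite A B] [DecidableEq ι] (ξ : B ⊗[A] B)
    (hξ : ξ ∈ Submodule.annihilator (RingHom.ker (Algebra.TensorProduct.lmul' (S := B) A))) :
    pair (Disc.Omega.trace A B) ξ = Algebra.TensorProduct.lmul' (S := B) A ξ := by
  set c : ι → B := fun j => pair (dualOmega b j) ξ with hc
  have h1 : pair (Disc.Omega.trace A B) ξ = ∑ j, Algebra.trace A B (b j) • c j :=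
    pair_eq_sum b (Disc.Omega.trace A B) ξ
  have h2 : Algebra.TensorProduct.lmul' (S := B) A ξ = ∑ j, b j * c j := lmul_eq_sum b ξ
  have h3 : ∀ k, c k * b k = ∑ j, (b.repr (b k * b j) k) • c j := by
    intro k
    rw [hc]
    simp only
    rw [pair_mul_of_mem_annihilator hξ, pair_eq_sum b (b k • dualOmega b k) ξ]
    simp [dualOmega]
  rw [h1, h2]
  calc ∑ j, Algebra.trace A B (b j) • c j
      = ∑ j, (∑ k, b.repr (b j * b k) k) • c j := by
        refine Finset.sum_congr rfl fun j _ => ?_
        rw [Algebra.trace_eq_matrix_trace b, Matrix.trace]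
        simp only [Matrix.diag, Algebra.leftMulMatrix_eq_repr_mul]
    _ = ∑ j, ∑ k, (b.repr (b j * b k) k) • c j := by
        refine Finset.sum_congr rfl fun j _ => ?_
        rw [Finset.sum_smul]
    _ = ∑ k, ∑ j, (b.repr (b k * b j) k) • c j := by
        rw [Finset.sum_comm]
        refine Finset.sum_congr rfl fun k _ => Finset.sum_congr rfl fun j _ => ?_
        rw [mul_comm]
    _ = ∑ k, c k * b k := by
        refine Finset.sum_congr rfl fun k _ => ?_
        rw [h3]
    _ = ∑ j, b j * c j := by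
        refine Finset.sum_congr rfl fun k _ => ?_
        rw [mul_comm]

/-- the Noether different of a finite free algebra is the set of values at the trace of the
`B`-linear maps `ω → B`. -/
theorem noetherDifferent_eq_range [Module.Free A B] [Module.Finite A B] :
    (Disc.noetherDifferent A B : Set B) =
      Set.range (fun φ : Disc.Omega A B →ₗ[B] B => φ (Disc.Omega.trace A B)) := by
  classical
  let b := Module.Free.chooseBasis A B
  ext x
  constructor
  · intro hx
    have hsurj : Function.Surjective (Algebra.TensorProduct.lmul' (S := B) A) :=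
      fun y => ⟨y ⊗ₜ 1, by simp⟩
    obtain ⟨ξ, hξ, rfl⟩ := (Ideal.mem_map_iff_of_surjective _ hsurj).mp hx
    exact ⟨pairHom ξ hξ, pair_trace_eq b ξ hξ⟩
  · rintro ⟨Φ, rfl⟩
    obtain ⟨ξ, hξ, hpair⟩ := exists_pair_eq b Φ
    change Φ (Disc.Omega.trace A B) ∈ Ideal.map (Algebra.TensorProduct.lmul' (S := B) A) _
    rw [hpair, pair_trace_eq b ξ hξ]
    exact Ideal.mem_map_of_mem _ hξ

end H13.DiscFree
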