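import Mathlib
import Groth.Prelude.Def_QFDual
import Groth.Agent.H13.DiscFree

/-!
# Base change of `ω = Hom_A(B, A)` and of the different, finite free case (helper13)
-/

open TensorProduct

namespace H13.OmegaBC

open H13.DiscFree

section general

/-- extension of the annihilator annihilates the base change (no flatness needed) -/
theorem map_annihilator_le {R S M : Type*} [CommRing R] [CommRing S] [Algebra R S]
    [AddCommGroup M] [Module R M] :
    (Module.annihilator R M).map (algebraMap R S) ≤ Module.annihilator S (S ⊗[R] M) := by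
  rw [Ideal.map_le_iff_le_comap]
  intro r hr
  rw [Ideal.mem_comap, Module.mem_annihilator]
  intro x
  induction x with
  | zero => simp
  | tmul t m =>
    rw [TensorProduct.smul_tmul', smul_eq_mul, ← Algebra.smul_def, TensorProduct.smul_tmul,
      Module.mem_annihilator.mp hr m, TensorProduct.tmul_zero]
  | add a b ha hb => rw [smul_add, ha, hb, add_zero]

/-- the annihilator of a finitely generated module commutes with flat base change -/
theorem annihilator_baseChange_of_flat {R S M : Type*} [CommRing R] [CommRing S] [Algebra R S]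
    [Module.Flat R S] [AddCommGroup M] [Module R M] [Module.Finite R M] :
    Module.annihilator S (S ⊗[R] M) = (Module.annihilator R M).map (algebraMap R S) := by
  apply le_antisymm _ map_annihilator_le
  intro s' hs'
  obtain ⟨n, s, hs⟩ := Module.Finite.exists_fin (R := R) (M := M)
  let φ : R →ₗ[R] (Fin n → M) := LinearMap.pi (fun i => LinearMap.toSpanSingleton R M (s i))
  have hker : ∀ r, r ∈ LinearMap.ker φ → r ∈ Module.annihilator R M := by
    intro r hr
    rw [Module.mem_annihilator]
    have h1 : ∀ i, r • s i = 0 := fun i => by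
      have := congrFun (LinearMap.mem_ker.mp hr) i
      simpa [φ] using this
    intro m
    have hm : m ∈ Submodule.span R (Set.range s) := hs ▸ Submodule.mem_top
    induction hm using Submodule.span_induction with
    | mem x hx => obtain ⟨i, rfl⟩ := hx; exact h1 i
    | zero => simp
    | add x y _ _ hx hy => rw [smul_add, hx, hy, add_zero]
    | smul a x _ hx => rw [smul_comm, hx, smul_zero]
  have h0 : (AlgebraTensorModule.lTensor S S φ) (s' ⊗ₜ[R] (1 : R)) = 0 := by
    apply (TensorProduct.piRight R S S (fun _ : Fin n => M)).injective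
    rw [map_zero]
    ext i
    have h2 : s' • ((1 : S) ⊗ₜ[R] s i) = 0 := Module.mem_annihilator.mp hs' _
    rw [TensorProduct.smul_tmul', smul_eq_mul, mul_one] at h2
    simpa [φ] using h2
  have h1 : s' ⊗ₜ[R] (1 : R) ∈ LinearMap.ker (AlgebraTensorModule.lTensor S S φ) := h0
  rw [Module.Flat.ker_lTensor_eq] at h1
  obtain ⟨w, hw⟩ := h1
  have key : ∀ w : S ⊗[R] (LinearMap.ker φ),
      (AlgebraTensorModule.rid R S S)
        ((AlgebraTensorModule.lTensor S S (LinearMap.ker φ).subtype) w) ∈
        (Module.annihilator R M).map (algebraMap R S) := by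
    intro w
    induction w with
    | zero => simp
    | tmul t r =>
      rw [AlgebraTensorModule.lTensor_tmul, Submodule.subtype_apply, AlgebraTensorModule.rid_tmul,
        Algebra.smul_def]
      exact Ideal.mul_mem_right _ _ (Ideal.mem_map_of_mem _ (hker _ r.2))
    | add a b ha hb =>
      rw [map_add, map_add]
      exact Ideal.add_mem _ ha hb
  have h3 := key w
  rw [hw, AlgebraTensorModule.rid_tmul, one_smul] at h3
  exact h3

/-- support and base change: if a prime `P` of `S` contracts to a prime containing the
annihilator of the finite module `M`, then `P` contains the annihilator of `S ⊗ M`. -/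
theorem annihilator_baseChange_le_of_le_comap {R S M : Type*} [CommRing R] [CommRing S]
    [Algebra R S] [AddCommGroup M] [Module R M] [Module.Finite R M]
    (P : Ideal S) [P.IsPrime] (h : Module.annihilator R M ≤ P.comap (algebraMap R S)) :
    Module.annihilator S (S ⊗[R] M) ≤ P := by
  intro s hs
  by_contra hsP
  let p : Ideal R := P.comap (algebraMap R S)
  have hp : (⟨p, inferInstance⟩ : PrimeSpectrum R) ∈ Module.support R M :=
    Module.mem_support_iff_of_finite.mpr h
  rw [Module.mem_support_iff_nontrivial_residueField_tensorProduct] at hp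
  let ι : p.ResidueField →ₐ[R] P.ResidueField :=
    Ideal.ResidueField.mapₐ p P (Algebra.ofId R S) rfl
  letI : Algebra p.ResidueField P.ResidueField := ι.toRingHom.toAlgebra
  haveI : IsScalarTower R p.ResidueField P.ResidueField :=
    IsScalarTower.of_algebraMap_eq (fun r => (ι.commutes r).symm)
  have hsub : Subsingleton (P.ResidueField ⊗[S] (S ⊗[R] M)) := by
    have hunit : algebraMap S P.ResidueField s ≠ 0 := by
      intro h0
      exact hsP (Ideal.algebraMap_residueField_eq_zero.mp h0)
    have hz : ∀ z : P.ResidueField ⊗[S] (S ⊗[R] M), z = 0 := by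
      intro z
      have h1 : (algebraMap S P.ResidueField s) • z = 0 := by
        induction z with
        | zero => simp
        | tmul k y =>
          rw [TensorProduct.smul_tmul', smul_eq_mul, ← Algebra.smul_def, TensorProduct.smul_tmul,
            Module.mem_annihilator.mp hs y, TensorProduct.tmul_zero]
        | add a b ha hb => rw [smul_add, ha, hb, add_zero]
      have h2 := congrArg (fun w => (algebraMap S P.ResidueField s)⁻¹ • w) h1
      simp only [smul_smul, inv_mul_cancel₀ hunit, one_smul, smul_zero] at h2
      exact h2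
    exact ⟨fun x y => by rw [hz x, hz y]⟩
  have e1 := AlgebraTensorModule.cancelBaseChange R S S P.ResidueField M
  have hsub2 : Subsingleton (P.ResidueField ⊗[R] M) := e1.symm.toEquiv.subsingleton
  have e2 := AlgebraTensorModule.cancelBaseChange R p.ResidueField p.ResidueField
    P.ResidueField M
  have hsub3 : Subsingleton (P.ResidueField ⊗[p.ResidueField] (p.ResidueField ⊗[R] M)) :=
    e2.toEquiv.subsingleton
  have hsub4 : Subsingleton (p.ResidueField ⊗[R] M) :=
    Module.FaithfullyFlat.lTensor_reflects_triviality p.ResidueField P.ResidueField _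
  exact not_subsingleton _ hsub4

/-- the different of `θ (1 ⊗ τ)` is the annihilator of the base change of `M ⧸ R τ`. -/
theorem different_eq_annihilator_baseChange {R S : Type*} [CommRing R] [CommRing S] [Algebra R S]
    {M : Type*} [AddCommGroup M] [Module R M] {M' : Type*} [AddCommGroup M'] [Module S M']
    (θ : S ⊗[R] M ≃ₗ[S] M') (τ : M) :
    QFDual.different S (θ (1 ⊗ₜ τ)) =
      Module.annihilator S (S ⊗[R] (M ⧸ (Submodule.span R {τ}))) := by
  set π := (Submodule.span R {τ}).mkQ with hπ
  let Pmap : S ⊗[R] M →ₗ[S] S ⊗[R] (M ⧸ (Submodule.span R {τ})) := LinearMap.baseChange S π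
  have hPsurj : Function.Surjective Pmap := by
    have : Function.Surjective (π.lTensor S) :=
      LinearMap.lTensor_surjective S (Submodule.mkQ_surjective _)
    exact this
  have hexact : Function.Exact (LinearMap.toSpanSingleton R M τ) π := by
    rw [LinearMap.exact_iff, hπ, Submodule.ker_mkQ, LinearMap.span_singleton_eq_range]
  have hexact2 := lTensor_exact S hexact (Submodule.mkQ_surjective _)
  have hspan : ∀ z : S ⊗[R] R, ∃ c : S,
      (LinearMap.toSpanSingleton R M τ).lTensor S z = c ⊗ₜ τ := by
    intro z
    induction z with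
    | zero => exact ⟨0, by simp⟩
    | tmul s r =>
      refine ⟨r • s, ?_⟩
      rw [LinearMap.lTensor_tmul, LinearMap.toSpanSingleton_apply, TensorProduct.smul_tmul]
    | add a b ha hb =>
      obtain ⟨c₁, h₁⟩ := ha
      obtain ⟨c₂, h₂⟩ := hb
      exact ⟨c₁ + c₂, by rw [map_add, h₁, h₂, TensorProduct.add_tmul]⟩
  have hker : ∀ y, Pmap y = 0 → ∃ c : S, y = c ⊗ₜ τ := by
    intro y hy
    have hy' : (π.lTensor S) y = 0 := hy
    obtain ⟨z, hz⟩ := (hexact2 y).mp hy'
    obtain ⟨c, hc⟩ := hspan z
    exact ⟨c, by rw [← hz, hc]⟩
  have hπτ : π τ = 0 := by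
    rw [hπ, Submodule.mkQ_apply, Submodule.Quotient.mk_eq_zero]
    exact Submodule.mem_span_singleton_self τ
  ext d
  rw [QFDual.mem_different_iff, Module.mem_annihilator]
  constructor
  · intro hd x
    obtain ⟨y, rfl⟩ := hPsurj x
    obtain ⟨c, hc⟩ := hd (θ y)
    have h1 : d • y = c ⊗ₜ[R] τ := by
      apply θ.injective
      rw [map_smul, ← hc, ← map_smul, TensorProduct.smul_tmul', smul_eq_mul, mul_one]
    rw [← map_smul, h1, LinearMap.baseChange_tmul, hπτ, TensorProduct.tmul_zero]
  · intro hd m'
    have h1 : Pmap (d • θ.symm m') = 0 := by rw [map_smul]; exact hd _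
    obtain ⟨c, hc⟩ := hker _ h1
    refine ⟨c, ?_⟩
    have h2 : c • θ ((1 : S) ⊗ₜ[R] τ) = θ (c ⊗ₜ[R] τ) := by
      rw [← map_smul, TensorProduct.smul_tmul', smul_eq_mul, mul_one]
    rw [h2, ← hc, map_smul, LinearEquiv.apply_symm_apply]

end general

universe v

section free

variable {A : Type*} {A' : Type*} {B B' : Type v} [CommRing A] [CommRing B] [CommRing A']
  [CommRing B'] [Algebra A B] [Algebra A A'] [Algebra B B'] [Algebra A' B'] [Algebra A B']
  [IsScalarTower A A' B'] [IsScalarTower A B B'] (hB : Algebra.IsPushout A A' B B')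
  {ι : Type*} [Fintype ι] (e : Module.Basis ι A B)

/-- the base-changed basis -/
noncomputable def basis' : Module.Basis ι A' B' := hB.out.basis e

lemma basis'_apply (i : ι) : basis' hB e i = algebraMap B B' (e i) := by
  rw [basis', IsBaseChange.basis_apply]
  rfl

lemma basis'_repr (x : B) (i : ι) :
    (basis' hB e).repr (algebraMap B B' x) i = algebraMap A A' (e.repr x i) :=
  hB.out.basis_repr_comp_apply e x i

lemma bcFin_dualOmega [DecidableEq ι] (i : ι) :
    QFDual.bcFin hB (dualOmega e i) = dualOmega (basis' hB e) i := by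
  apply Disc.Omega.ext
  apply (basis' hB e).ext
  intro j
  rw [basis'_apply, QFDual.bcFin_apply_algebraMap]
  simp only [dualOmega, Module.Basis.coord_apply]
  rw [basis'_repr]

include hB e in
lemma trace_algebraMap [DecidableEq ι] (x : B) :
    Algebra.trace A' B' (algebraMap B B' x) = algebraMap A A' (Algebra.trace A B x) := by
  rw [Algebra.trace_eq_matrix_trace e, Algebra.trace_eq_matrix_trace (basis' hB e), Matrix.trace,
    Matrix.trace, map_sum]
  refine Finset.sum_congr rfl fun i _ => ?_
  simp only [Matrix.diag, Algebra.leftMulMatrix_eq_repr_mul]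
  rw [basis'_apply, ← map_mul, basis'_repr]

include e in
lemma bcFin_trace [DecidableEq ι] [Module.Free A B] [Module.Finite A B] [Module.Free A' B']
    [Module.Finite A' B'] :
    QFDual.bcFin hB (Disc.Omega.trace A B) = Disc.Omega.trace A' B' := by
  apply Disc.Omega.ext
  apply (basis' hB e).ext
  intro j
  rw [basis'_apply, QFDual.bcFin_apply_algebraMap]
  exact (trace_algebraMap hB e (e j)).symm

/-- forward map of the base change iso -/
noncomputable def thetaHom : B' ⊗[B] Disc.Omega A B →ₗ[B'] Disc.Omega A' B' :=
  (TensorProduct.lid B' (Disc.Omega A' B')).toLinearMap ∘ₗ QFDual.omegaBC (B₁ := B') hB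

lemma thetaHom_tmul (b' : B') (l : Disc.Omega A B) :
    thetaHom hB (b' ⊗ₜ[B] l) = b' • QFDual.bcFin hB l := by
  simp [thetaHom]

/-- inverse map of the base change iso -/
noncomputable def eta (l' : Disc.Omega A' B') : B' ⊗[B] Disc.Omega A B :=
  ∑ i, (algebraMap A' B' (l'.toLinearMap (basis' hB e i))) ⊗ₜ[B] dualOmega e i

lemma eta_add (l₁ l₂ : Disc.Omega A' B') : eta hB e (l₁ + l₂) = eta hB e l₁ + eta hB e l₂ := by
  simp only [eta, Disc.Omega.add_toLinearMap, LinearMap.add_apply, map_add, TensorProduct.add_tmul,
    Finset.sum_add_distrib]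

lemma eta_zero : eta hB e (0 : Disc.Omega A' B') = 0 := by
  simp [eta]

lemma eta_smul (a' : A') (l' : Disc.Omega A' B') :
    eta hB e ((algebraMap A' B' a') • l') = (algebraMap A' B' a') • eta hB e l' := by
  simp only [eta, Disc.Omega.smul_toLinearMap_apply, Finset.smul_sum]
  refine Finset.sum_congr rfl fun i _ => ?_
  rw [← Algebra.smul_def, map_smul, smul_eq_mul, map_mul, TensorProduct.smul_tmul', smul_eq_mul]

lemma eta_bcFin [DecidableEq ι] (m : Disc.Omega A B) :
    eta hB e (QFDual.bcFin hB m) = (1 : B') ⊗ₜ[B] m := by
  simp only [eta]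
  conv_rhs => rw [omega_eq_sum e m, TensorProduct.tmul_sum]
  refine Finset.sum_congr rfl fun i _ => ?_
  rw [basis'_apply, QFDual.bcFin_apply_algebraMap, ← IsScalarTower.algebraMap_apply,
    IsScalarTower.algebraMap_apply A B B', ← TensorProduct.smul_tmul, Algebra.smul_def, mul_one]

lemma thetaHom_eta [DecidableEq ι] (l' : Disc.Omega A' B') : thetaHom hB (eta hB e l') = l' := by
  simp only [eta, map_sum, thetaHom_tmul, bcFin_dualOmega]
  exact (omega_eq_sum (basis' hB e) l').symm

lemma eta_thetaHom [DecidableEq ι] (x : B' ⊗[B] Disc.Omega A B) :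
    eta hB e (thetaHom hB x) = x := by
  induction x with
  | zero => rw [map_zero, eta_zero]
  | add a b ha hb => rw [map_add, eta_add, ha, hb]
  | tmul b' l =>
    rw [thetaHom_tmul]
    induction b' using hB.out.inductionOn with
    | zero => rw [zero_smul, eta_zero, TensorProduct.zero_tmul]
    | tmul b =>
      change eta hB e (algebraMap B B' b • QFDual.bcFin hB l) = algebraMap B B' b ⊗ₜ[B] l
      rw [← LinearMap.map_smulₛₗ, eta_bcFin, ← TensorProduct.smul_tmul, Algebra.smul_def, mul_one]
    | smul a' x ih =>
      rw [Algebra.smul_def, mul_smul, eta_smul, ih, TensorProduct.smul_tmul', smul_eq_mul]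
    | add x y hx hy => rw [add_smul, eta_add, hx, hy, TensorProduct.add_tmul]

/-- the base change isomorphism `B' ⊗_B Hom_A(B, A) ≅ Hom_{A'}(B', A')`, finite free case -/
noncomputable def theta [DecidableEq ι] : B' ⊗[B] Disc.Omega A B ≃ₗ[B'] Disc.Omega A' B' :=
  { thetaHom hB with
    invFun := eta hB e
    left_inv := eta_thetaHom hB e
    right_inv := thetaHom_eta hB e }

lemma theta_tmul [DecidableEq ι] (b' : B') (l : Disc.Omega A B) :
    theta hB e (b' ⊗ₜ[B] l) = b' • QFDual.bcFin hB l := thetaHom_tmul hB b' l

include e in
lemma finite_omega : Module.Finite B (Disc.Omega A B) := by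
  classical
  refine ⟨⟨Finset.univ.image (dualOmega e), ?_⟩⟩
  rw [eq_top_iff]
  intro l _
  rw [omega_eq_sum e l]
  refine Submodule.sum_mem _ fun i _ => Submodule.smul_mem _ _ (Submodule.subset_span ?_)
  simp

variable [Module.Free A B] [Module.Finite A B] [Module.Free A' B'] [Module.Finite A' B']

include hB in
/-- the different of `B'/A'` as an annihilator of a base change -/
theorem different_eq_annihilator :
    QFDual.different B' (Disc.Omega.trace A' B') =
      Module.annihilator B'
        (B' ⊗[B] (Disc.Omega A B ⧸ (Submodule.span B {Disc.Omega.trace A B}))) := by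
  classical
  let e := Module.Free.chooseBasis A B
  rw [← different_eq_annihilator_baseChange (theta hB e) (Disc.Omega.trace A B), theta_tmul,
    one_smul, bcFin_trace hB e]

lemma different_eq_annihilator_self :
    QFDual.different B (Disc.Omega.trace A B) =
      Module.annihilator B (Disc.Omega A B ⧸ (Submodule.span B {Disc.Omega.trace A B})) := by
  rw [Submodule.annihilator_quotient]
  rfl

include hB in
theorem map_different_le :
    Ideal.map (algebraMap B B') (QFDual.different B (Disc.Omega.trace A B)) ≤
      QFDual.different B' (Disc.Omega.trace A' B') := by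
  rw [different_eq_annihilator hB, different_eq_annihilator_self]
  exact map_annihilator_le

include hB in
theorem radical_map_different_eq :
    (Ideal.map (algebraMap B B') (QFDual.different B (Disc.Omega.trace A B))).radical =
      (QFDual.different B' (Disc.Omega.trace A' B')).radical := by
  apply le_antisymm (Ideal.radical_mono (map_different_le hB))
  rw [Ideal.radical_le_radical_iff, Ideal.radical_eq_sInf]
  intro x hx
  rw [Submodule.mem_sInf]
  rintro P ⟨hP, hPprime⟩
  haveI := hPprime
  haveI : Module.Finite B (Disc.Omega A B) := finite_omega (Module.Free.chooseBasis A B)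
  rw [different_eq_annihilator hB] at hx
  refine annihilator_baseChange_le_of_le_comap P ?_ hx
  rw [← different_eq_annihilator_self, ← Ideal.map_le_iff_le_comap]
  exact hP

include hB in
theorem map_different_eq_of_flat [Module.Flat A A'] :
    Ideal.map (algebraMap B B') (QFDual.different B (Disc.Omega.trace A B)) =
      QFDual.different B' (Disc.Omega.trace A' B') := by
  haveI : Module.Flat B B' :=
    Module.Flat.isBaseChange (R := A) (S := B) (M := A') B' hB.symm.out
  haveI : Module.Finite B (Disc.Omega A B) := finite_omega (Module.Free.chooseBasis A B)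
  rw [different_eq_annihilator hB, different_eq_annihilator_self,
    annihilator_baseChange_of_flat]

include hB in
theorem map_different_eq_of_invertible [Module.Invertible B (Disc.Omega A B)] :
    Ideal.map (algebraMap B B') (QFDual.different B (Disc.Omega.trace A B)) =
      QFDual.different B' (Disc.Omega.trace A' B') := by
  classical
  apply le_antisymm (map_different_le hB)
  let e := Module.Free.chooseBasis A B
  intro d' hd'
  rw [QFDual.mem_different_iff] at hd'
  -- values at the trace lie in the different
  have hval : ∀ Φ : Disc.Omega A B →ₗ[B] B,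
      Φ (Disc.Omega.trace A B) ∈ QFDual.different B (Disc.Omega.trace A B) := by
    intro Φ
    rw [QFDual.mem_different_iff]
    intro m
    refine ⟨Φ m, ?_⟩
    have h1 : m ⊗ₜ[B] (Disc.Omega.trace A B) = (Disc.Omega.trace A B) ⊗ₜ[B] m :=
      Module.Invertible.tmul_comm
    have h2 := congrArg
      (TensorProduct.lift ((LinearMap.lsmul B (Disc.Omega A B)).comp Φ)) h1
    simpa using h2
  have key : ∀ t : Module.Dual B (Disc.Omega A B) ⊗[B] Disc.Omega A B,
      algebraMap B B' (contractLeft B (Disc.Omega A B) t) * d' ∈
        Ideal.map (algebraMap B B') (QFDual.different B (Disc.Omega.trace A B)) := by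
    intro t
    induction t with
    | zero => simp
    | tmul Φ l =>
      obtain ⟨c', hc'⟩ := hd' (QFDual.bcFin hB l)
      have h1 : c' ⊗ₜ[B] (Disc.Omega.trace A B) = d' ⊗ₜ[B] l := by
        apply (theta hB e).injective
        rw [theta_tmul, theta_tmul, bcFin_trace hB e]
        exact hc'
      have h2 := congrArg
        (LinearMap.liftBaseChange B' ((Algebra.linearMap B B') ∘ₗ Φ)) h1
      simp only [LinearMap.liftBaseChange_tmul, LinearMap.comp_apply, Algebra.linearMap_apply,
        smul_eq_mul] at h2
      rw [contractLeft_apply, mul_comm, ← h2]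
      exact Ideal.mul_mem_left _ _ (Ideal.mem_map_of_mem _ (hval Φ))
    | add t t' h h' =>
      rw [map_add, map_add, add_mul]
      exact Ideal.add_mem _ h h'
  obtain ⟨t, ht⟩ := (Module.Invertible.bijective (R := B) (M := Disc.Omega A B)).2 1
  have := key t
  rwa [ht, map_one, one_mul] at this

end free

end H13.OmegaBC
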