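import Mathlib
import Groth.Prelude.Def_QFDual
import Groth.Agent.S2195
import Groth.Agent.H13.OmegaBC

/-!
# The Dedekind complementary module and `ω = Hom_A(B, A)` (helper13)
-/

open TensorProduct

namespace H13.Dedekind

universe u

variable {A K B L : Type u} [CommRing A] [CommRing K] [CommRing B] [CommRing L]
  [Algebra A K] [Algebra A B] [Algebra B L] [Algebra K L] [Algebra A L]
  [IsScalarTower A K L] [IsScalarTower A B L]

theorem isBaseChange (h : QFDual.IsDedekindDefined A K B L) :
    IsBaseChange K (IsScalarTower.toAlgHom A B L).toLinearMap := by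
  haveI : IsLocalization (nonZeroDivisors A) K := h.isFractionRing
  haveI := h.isLocalization
  haveI : IsLocalizedModule (nonZeroDivisors A) (IsScalarTower.toAlgHom A B L).toLinearMap :=
    isLocalizedModule_iff_isLocalization.mpr h.isLocalization
  exact IsLocalizedModule.isBaseChange (nonZeroDivisors A) K _

theorem isPushout (h : QFDual.IsDedekindDefined A K B L) : Algebra.IsPushout A K B L :=
  ⟨isBaseChange h⟩

theorem isUnit_traceMatrix (h : QFDual.IsDedekindDefined A K B L) [Nontrivial K] :
    haveI := h.free
    haveI := h.finiteKL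
    IsUnit (Algebra.traceMatrix K (Module.finBasis K L)) := by
  haveI := h.free
  haveI := h.finiteKL
  haveI := h.etale
  rw [Matrix.isUnit_iff_isUnit_det, ← Algebra.discr_def]
  exact (Groth.Agent.S2195.result (Module.finBasis K L)).mp h.etale

/-- nondegeneracy of the trace form of `L/K` -/
theorem eq_zero_of_trace_mul_eq_zero (h : QFDual.IsDedekindDefined A K B L) (x : L)
    (hx : ∀ l : L, Algebra.trace K L (x * l) = 0) : x = 0 := by
  haveI := h.free
  haveI := h.finiteKL
  rcases subsingleton_or_nontrivial K with hK | hK
  · haveI : Subsingleton L := Module.subsingleton K L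
    exact Subsingleton.elim _ _
  set bL := Module.finBasis K L with hbL
  have hM := isUnit_traceMatrix h
  have h1 : Matrix.vecMul (bL.equivFun x) (Algebra.traceMatrix K bL) = 0 := by
    ext j
    rw [Matrix.vecMul, dotProduct]
    simp only [Algebra.traceMatrix_apply, Algebra.traceForm_apply, Pi.zero_apply]
    have h2 : x * bL j = ∑ i, bL.equivFun x i • (bL i * bL j) := by
      conv_lhs => rw [← bL.sum_equivFun x, Finset.sum_mul]
      refine Finset.sum_congr rfl fun i _ => ?_
      rw [smul_mul_assoc]
    have h3 := hx (bL j)
    rw [h2, map_sum] at h3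
    simpa [map_smul, smul_eq_mul] using h3
  have h4 : bL.equivFun x = 0 := by
    apply Matrix.vecMul_injective_of_isUnit hM
    beta_reduce
    rw [h1, Matrix.zero_vecMul]
  exact bL.equivFun.injective (by rw [h4, map_zero])

/-- every `K`-linear form on `L` is a trace form -/
theorem exists_trace_mul_eq (h : QFDual.IsDedekindDefined A K B L) (Φ : L →ₗ[K] K) :
    ∃ x : L, ∀ l : L, Algebra.trace K L (x * l) = Φ l := by
  haveI := h.free
  haveI := h.finiteKL
  rcases subsingleton_or_nontrivial K with hK | hK
  · exact ⟨0, fun l => Subsingleton.elim _ _⟩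
  set bL := Module.finBasis K L with hbL
  have hM := isUnit_traceMatrix h
  obtain ⟨Minv, hMinv⟩ := hM.exists_left_inv
  -- Minv * M = 1
  let w : Fin (Module.finrank K L) → K := fun j => Φ (bL j)
  let v := Matrix.vecMul w Minv
  have hv : Matrix.vecMul v (Algebra.traceMatrix K bL) = w := by
    rw [Matrix.vecMul_vecMul, hMinv, Matrix.vecMul_one]
  let x : L := ∑ i, v i • bL i
  refine ⟨x, ?_⟩
  have hlin : (Algebra.trace K L) ∘ₗ (LinearMap.mulLeft K x) = Φ := by
    apply bL.ext
    intro j
    rw [LinearMap.comp_apply, LinearMap.mulLeft_apply]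
    have h2 : x * bL j = ∑ i, v i • (bL i * bL j) := by
      simp only [x, Finset.sum_mul, smul_mul_assoc]
    rw [h2, map_sum]
    have h3 := congrFun hv j
    rw [Matrix.vecMul, dotProduct] at h3
    simp only [Algebra.traceMatrix_apply, Algebra.traceForm_apply] at h3
    simpa [map_smul, smul_eq_mul, w] using h3
  intro l
  exact LinearMap.congr_fun hlin l

/-- the isomorphism between the complementary module and `ω` -/
theorem exists_equiv (h : QFDual.IsDedekindDefined A K B L) :
    ∃ e : QFDual.complementary A K B L ≃ₗ[B] Disc.Omega A B,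
      ∀ (x : QFDual.complementary A K B L) (b : B),
        algebraMap A K ((e x).toLinearMap b) =
          Algebra.trace K L ((x : L) * algebraMap B L b) := by
  classical
  haveI := h.isFractionRing
  have hinj : Function.Injective (algebraMap A K) := IsFractionRing.injective A K
  have ibc := isBaseChange h
  have hmem : ∀ (x : QFDual.complementary A K B L) (b : B),
      ∃ a : A, algebraMap A K a = Algebra.trace K L ((x : L) * algebraMap B L b) :=
    fun x b => x.2 b
  choose val hval using hmem
  have hsm : ∀ (a : A) (x : L) (b : B), Algebra.trace K L (x * algebraMap B L (a • b)) =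
      algebraMap A K a * Algebra.trace K L (x * algebraMap B L b) := by
    intro a x b
    have h1 : x * algebraMap B L (a • b) = (algebraMap A K a) • (x * algebraMap B L b) := by
      rw [Algebra.smul_def a b, map_mul, ← IsScalarTower.algebraMap_apply,
        IsScalarTower.algebraMap_apply A K L, Algebra.smul_def]
      ring
    rw [h1, map_smul, smul_eq_mul]
  let toLin : QFDual.complementary A K B L → (B →ₗ[A] A) := fun x =>
    { toFun := fun b => val x b
      map_add' := fun b b' => hinj (by
        rw [map_add, hval, hval, hval, map_add, mul_add, map_add])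
      map_smul' := fun a b => hinj (by
        rw [RingHom.id_apply, smul_eq_mul, map_mul, hval, hval, hsm]) }
  let E : QFDual.complementary A K B L →ₗ[B] Disc.Omega A B :=
    { toFun := fun x => ⟨toLin x⟩
      map_add' := fun x x' => by
        apply Disc.Omega.ext
        ext b
        apply hinj
        change algebraMap A K (val (x + x') b) = algebraMap A K (val x b + val x' b)
        rw [map_add, hval, hval, hval, Submodule.coe_add, add_mul, map_add]
      map_smul' := fun c x => by
        apply Disc.Omega.ext
        ext b
        apply hinj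
        change algebraMap A K (val (c • x) b) = algebraMap A K (val x (c * b))
        rw [hval, hval, Submodule.coe_smul, Algebra.smul_def, RingHom.map_mul]
        congr 1
        ring }
  have hE : ∀ x b, algebraMap A K ((E x).toLinearMap b) =
      Algebra.trace K L ((x : L) * algebraMap B L b) := fun x b => hval x b
  have hEinj : Function.Injective E := by
    rw [injective_iff_map_eq_zero]
    intro x hx
    have h1 : ∀ b : B, Algebra.trace K L ((x : L) * algebraMap B L b) = 0 := by
      intro b
      rw [← hE, hx]
      simp
    have h2 : (Algebra.trace K L) ∘ₗ (LinearMap.mulLeft K (x : L)) = 0 := by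
      apply ibc.algHom_ext
      intro b
      simpa using h1 b
    have h3 : (x : L) = 0 := eq_zero_of_trace_mul_eq_zero h _ (fun l => LinearMap.congr_fun h2 l)
    exact Subtype.ext h3
  have hEsurj : Function.Surjective E := by
    intro ω₀
    let Φ : L →ₗ[K] K := ibc.lift ((Algebra.linearMap A K) ∘ₗ ω₀.toLinearMap)
    have hΦ : ∀ b : B, Φ (algebraMap B L b) = algebraMap A K (ω₀.toLinearMap b) := by
      intro b
      have := ibc.lift_eq ((Algebra.linearMap A K) ∘ₗ ω₀.toLinearMap) b
      simpa using this
    obtain ⟨x, hx⟩ := exists_trace_mul_eq h Φ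
    have hxmem : x ∈ QFDual.complementary A K B L := by
      intro b
      exact ⟨ω₀.toLinearMap b, by rw [hx, hΦ]⟩
    refine ⟨⟨x, hxmem⟩, ?_⟩
    apply Disc.Omega.ext
    ext b
    apply hinj
    rw [hE, ← hΦ, ← hx]
  exact ⟨LinearEquiv.ofBijective E ⟨hEinj, hEsurj⟩, fun x b => hE x b⟩

/-- Dedekind different = image of the different, finite free case -/
theorem dedekindDifferent_eq (h : QFDual.IsDedekindDefined A K B L) [Module.Finite A B]
    [Module.Free A B] :
    QFDual.dedekindDifferent A K B L =
      Submodule.map (Algebra.linearMap B L) (QFDual.different B (Disc.Omega.trace A B)) := by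
  classical
  haveI := h.isFractionRing
  haveI := h.free
  haveI := h.finiteKL
  have hinj : Function.Injective (algebraMap A K) := IsFractionRing.injective A K
  haveI := h.isLocalization
  have hinjBL : Function.Injective (algebraMap B L) := by
    refine IsLocalization.injective L (M := Algebra.algebraMapSubmonoid B (nonZeroDivisors A)) ?_
    rintro _ ⟨a, ha, rfl⟩
    exact h.map_nonZeroDivisors ha
  obtain ⟨e, he⟩ := exists_equiv h
  have hP := isPushout h
  have htr : ∀ b : B, Algebra.trace K L (algebraMap B L b) =
      algebraMap A K (Algebra.trace A B b) :=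
    fun b => H13.OmegaBC.trace_algebraMap hP (Module.Free.chooseBasis A B) b
  have h1mem : (1 : L) ∈ QFDual.complementary A K B L := by
    intro b
    exact ⟨Algebra.trace A B b, by rw [one_mul, htr]⟩
  have he1 : e ⟨1, h1mem⟩ = Disc.Omega.trace A B := by
    apply Disc.Omega.ext
    ext b
    apply hinj
    rw [he]
    change Algebra.trace K L ((1 : L) * algebraMap B L b) = algebraMap A K (Algebra.trace A B b)
    rw [one_mul, htr]
  have hkey : ∀ (b₀ c : B) (y : QFDual.complementary A K B L),
      (algebraMap B L c = algebraMap B L b₀ * (y : L)) ↔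
        c • Disc.Omega.trace A B = b₀ • e y := by
    intro b₀ c y
    rw [← he1, ← map_smul, ← map_smul, e.injective.eq_iff, ← Subtype.coe_inj]
    simp only [Submodule.coe_smul, Algebra.smul_def, mul_one]
  ext x
  constructor
  · intro hx
    obtain ⟨b₀, hb₀⟩ := hx 1 h1mem
    rw [mul_one] at hb₀
    refine ⟨b₀, ?_, hb₀⟩
    rw [SetLike.mem_coe, QFDual.mem_different_iff]
    intro m
    obtain ⟨c, hc⟩ := hx (e.symm m : L) (e.symm m).2
    refine ⟨c, ?_⟩
    have := (hkey b₀ c (e.symm m)).mp (by rw [hc, hb₀])
    rwa [LinearEquiv.apply_symm_apply] at this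
  · rintro ⟨b₀, hb₀, rfl⟩
    rw [SetLike.mem_coe, QFDual.mem_different_iff] at hb₀
    intro y hy
    obtain ⟨c, hc⟩ := hb₀ (e ⟨y, hy⟩)
    exact ⟨c, (hkey b₀ c ⟨y, hy⟩).mpr hc⟩

end H13.Dedekind
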