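import Mathlib
import Groth.Prelude.Def_QFDual
import Groth.Agent.H13.Dedekind

/-!
# `1` lies in the complementary module for flat finite maps (helper13)
-/

open TensorProduct

namespace H13.Dedekind

universe u

variable {A K B L : Type u} [CommRing A] [CommRing K] [CommRing B] [CommRing L]
  [Algebra A K] [Algebra A B] [Algebra B L] [Algebra K L] [Algebra A L]
  [IsScalarTower A K L] [IsScalarTower A B L]

theorem one_mem_complementary (h : QFDual.IsDedekindDefined A K B L) [Module.Flat A B] :
    (1 : L) ∈ QFDual.complementary A K B L := by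
  classical
  haveI := h.isNoetherianRing
  haveI := h.finite
  haveI := h.free
  haveI := h.finiteKL
  haveI : Module.FinitePresentation A B := Module.finitePresentation_of_finite A B
  haveI : Module.Projective A B := Module.Flat.projective_of_finitePresentation
  obtain ⟨n, f, hf⟩ := Module.Finite.exists_fin' A B
  obtain ⟨g, hg⟩ := Module.projective_lifting_property f LinearMap.id hf
  let ev : Fin n → B := fun i => f (fun j => if i = j then 1 else 0)
  let φ : Fin n → (B →ₗ[A] A) := fun i => (LinearMap.proj i) ∘ₗ g
  have hdual : ∀ b : B, ∑ i, φ i b • ev i = b := by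
    intro b
    have h1 : f (g b) = b := LinearMap.congr_fun hg b
    conv_rhs => rw [← h1, LinearMap.pi_apply_eq_sum_univ f (g b)]
    rfl
  have ibc := isBaseChange h
  let Φ : Fin n → (L →ₗ[K] K) := fun i => ibc.lift ((Algebra.linearMap A K) ∘ₗ φ i)
  have hΦ : ∀ i b, Φ i (algebraMap B L b) = algebraMap A K (φ i b) := by
    intro i b
    have := ibc.lift_eq ((Algebra.linearMap A K) ∘ₗ φ i) b
    simpa using this
  have hid : ∀ l : L, ∑ i, Φ i l • algebraMap B L (ev i) = l := by
    have h2 : (∑ i, (LinearMap.toSpanSingleton K L (algebraMap B L (ev i))) ∘ₗ (Φ i)) =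
        LinearMap.id := by
      apply ibc.algHom_ext
      intro b
      simp only [LinearMap.sum_apply, LinearMap.comp_apply, LinearMap.toSpanSingleton_apply,
        LinearMap.id_apply, AlgHom.toLinearMap_apply, IsScalarTower.coe_toAlgHom']
      simp_rw [hΦ]
      conv_rhs => rw [← hdual b, map_sum]
      refine Finset.sum_congr rfl fun i _ => ?_
      rw [algebraMap_smul, Algebra.smul_def (φ i b) (ev i), map_mul,
        ← IsScalarTower.algebraMap_apply, Algebra.smul_def]
    intro l
    have h3 := LinearMap.congr_fun h2 l
    simpa using h3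
  intro b
  rw [one_mul]
  have htr : Algebra.trace K L (algebraMap B L b) =
      ∑ i, Φ i (algebraMap B L b * algebraMap B L (ev i)) := by
    rw [Algebra.trace_apply]
    have hlm : Algebra.lmul K L (algebraMap B L b) =
        dualTensorHom K L L (∑ i, Φ i ⊗ₜ (algebraMap B L b * algebraMap B L (ev i))) := by
      ext l
      rw [map_sum, LinearMap.sum_apply]
      simp only [dualTensorHom_apply]
      change algebraMap B L b * l = _
      conv_lhs => rw [← hid l, Finset.mul_sum]
      refine Finset.sum_congr rfl fun i _ => ?_
      rw [mul_smul_comm]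
    rw [hlm, LinearMap.trace_eq_contract_apply, map_sum]
    simp [contractLeft_apply]
  rw [htr]
  refine ⟨∑ i, φ i (b * ev i), ?_⟩
  rw [map_sum]
  refine Finset.sum_congr rfl fun i _ => ?_
  rw [← map_mul, hΦ]

end H13.Dedekind
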