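import Mathlib

/-!
# If `N` is invertible and `N^n ≅ R^n` then `[N]^n = 1` in `Pic R`

The determinant `N^{⊗ n} → R` of an isomorphism `N^n ≅ R^n` is surjective, hence bijective.
-/

namespace Groth.Agent.H13.DetPic

open TensorProduct

universe u v

variable {R : Type u} [CommRing R] (N : Type v) [AddCommGroup N] [Module R N]
  [Module.Invertible R N]

theorem rank_one_identity (f g : Module.Dual R N) (a b : N) : f a * g b = f b * g a := by
  have h := congrArg (fun t => TensorProduct.lid R R (TensorProduct.map f g t))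
    (Module.Invertible.tmul_comm (R := R) (m₁ := a) (m₂ := b))
  simpa using h

theorem smul_eq_smul (f : Module.Dual R N) (x y : N) : f x • y = f y • x := by
  rw [← sub_eq_zero, ← Module.forall_dual_apply_eq_zero_iff R]
  intro g
  rw [map_sub, map_smul, map_smul, smul_eq_mul, smul_eq_mul, sub_eq_zero]
  exact rank_one_identity N f g x y

theorem exists_dual_apply_notMem (m : Ideal R) (hm : m ≠ ⊤) :
    ∃ (f : Module.Dual R N) (x : N), f x ∉ m := by
  by_contra hcon
  push Not at hcon
  apply hm
  rw [Ideal.eq_top_iff_one]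
  have hall : ∀ t, contractLeft R N t ∈ m := by
    intro t
    induction t using TensorProduct.induction_on with
    | zero => rw [map_zero]; exact m.zero_mem
    | tmul f y => rw [contractLeft_apply]; exact hcon f y
    | add a b ha hb => rw [map_add]; exact m.add_mem ha hb
  obtain ⟨t, ht⟩ := (Module.Invertible.bijective (R := R) (M := N)).2 1
  rw [← ht]
  exact hall t

variable (n : ℕ) (e : (Fin n → N) ≃ₗ[R] (Fin n → R))

/-- the determinant of `e` as a multilinear map `N^n → R`. -/
noncomputable def detMulti : MultilinearMap R (fun _ : Fin n => N) R :=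
  (Matrix.detRowAlternating (R := R) (n := Fin n)).toMultilinearMap.compLinearMap
    (fun j => e.toLinearMap ∘ₗ LinearMap.single R (fun _ : Fin n => N) j)

theorem detMulti_const (x : N) :
    detMulti N n e (fun _ => x) =
      Matrix.det (Matrix.of fun j k => e (Pi.single j x) k) := rfl

theorem key_sum (f : Module.Dual R N) (x : N) (i : Fin n) :
    ∑ j, f (e.symm (Pi.single i 1) j) • e (Pi.single j x) =
      f x • (Pi.single i 1 : Fin n → R) := by
  calc ∑ j, f (e.symm (Pi.single i 1) j) • e (Pi.single j x)
      = ∑ j, e (Pi.single j (f (e.symm (Pi.single i 1) j) • x)) := by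
        refine Finset.sum_congr rfl (fun j _ => ?_)
        rw [← map_smul, ← Pi.single_smul]
    _ = ∑ j, e (Pi.single j (f x • (e.symm (Pi.single i 1) j))) := by
        refine Finset.sum_congr rfl (fun j _ => ?_)
        rw [smul_eq_smul N f x (e.symm (Pi.single i 1) j)]
    _ = e (∑ j, Pi.single j (f x • (e.symm (Pi.single i 1) j))) := (map_sum e _ _).symm
    _ = e (f x • e.symm (Pi.single i 1)) := by
        congr 1
        exact Finset.univ_sum_single (f x • e.symm (Pi.single i 1))
    _ = f x • Pi.single i 1 := by rw [map_smul, LinearEquiv.apply_symm_apply]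

theorem lift_detMulti_surjective :
    Function.Surjective (PiTensorProduct.lift (detMulti N n e)) := by
  rw [← LinearMap.range_eq_top]
  by_contra hJ
  obtain ⟨m, hm, hle⟩ :=
    Ideal.exists_le_maximal (LinearMap.range (PiTensorProduct.lift (detMulti N n e))) hJ
  obtain ⟨f, x, hfx⟩ := exists_dual_apply_notMem N m hm.ne_top
  have h1 : detMulti N n e (fun _ => x) ∈ m :=
    hle ⟨PiTensorProduct.tprod R (fun _ => x), PiTensorProduct.lift.tprod _⟩
  rw [detMulti_const] at h1
  obtain ⟨Ψ, hΨ⟩ : ∃ Ψ : Matrix (Fin n) (Fin n) R,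
      Ψ = Matrix.of fun j k => e (Pi.single j x) k := ⟨_, rfl⟩
  obtain ⟨A, hA⟩ : ∃ A : Matrix (Fin n) (Fin n) R,
      A = Matrix.of fun i j => f (e.symm (Pi.single i 1) j) := ⟨_, rfl⟩
  rw [← hΨ] at h1
  have hprod : A * Ψ = (f x) • (1 : Matrix (Fin n) (Fin n) R) := by
    ext i k
    have hk := congrFun (key_sum N n e f x i) k
    rw [Finset.sum_apply] at hk
    simp only [Pi.smul_apply, smul_eq_mul] at hk
    rw [Matrix.mul_apply, Matrix.smul_apply, Matrix.one_apply, smul_eq_mul]
    have h2 : (∑ j, A i j * Ψ j k) = ∑ j, f (e.symm (Pi.single i 1) j) * e (Pi.single j x) k := by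
      rw [hA, hΨ]; rfl
    rw [h2, hk, Pi.single_apply]
    simp [eq_comm]
  have hdet : A.det * Ψ.det = (f x) ^ n := by
    rw [← Matrix.det_mul, hprod, Matrix.det_smul, Matrix.det_one, mul_one, Fintype.card_fin]
  have h3 : (f x) ^ n ∈ m := by
    rw [← hdet]; exact m.mul_mem_left _ h1
  exact hfx (hm.isPrime.mem_of_pow_mem n h3)

instance tensorPower_invertible (j : ℕ) : Module.Invertible R (TensorPower R j N) := by
  induction j with
  | zero => exact Module.Invertible.congr (PiTensorProduct.isEmptyEquiv (Fin 0)).symm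
  | succ j ih =>
    haveI := ih
    exact Module.Invertible.congr
      ((TensorProduct.congr (LinearEquiv.refl R (TensorPower R j N))
        (PiTensorProduct.subsingletonEquiv (0 : Fin 1)).symm) ≪≫ₗ TensorPower.mulEquiv)

theorem mk_tensorPower (j : ℕ) :
    CommRing.Pic.mk R (TensorPower R j N) = CommRing.Pic.mk R N ^ j := by
  induction j with
  | zero =>
    rw [pow_zero]
    exact CommRing.Pic.mk_eq_one_iff.mpr ⟨PiTensorProduct.isEmptyEquiv (Fin 0)⟩
  | succ j ih =>
    rw [pow_succ, ← ih, ← CommRing.Pic.mk_tensor]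
    exact CommRing.Pic.mk_eq_mk_iff.mpr
      ⟨((TensorProduct.congr (LinearEquiv.refl R (TensorPower R j N))
        (PiTensorProduct.subsingletonEquiv (0 : Fin 1)).symm) ≪≫ₗ TensorPower.mulEquiv).symm⟩

include e in
theorem main : CommRing.Pic.mk R N ^ n = 1 := by
  rw [← mk_tensorPower]
  have hbij := Module.Invertible.bijective_of_surjective (lift_detMulti_surjective N n e)
  exact CommRing.Pic.mk_eq_one_iff.mpr ⟨LinearEquiv.ofBijective _ hbij⟩

end Groth.Agent.H13.DetPic
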