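import Mathlib

/-!
# Eisenbud–Evans basic elements for vectors in `R^ι` over a Noetherian ring

Helper library (namespace `Groth.Agent.H13.EE`) for Serre splitting / Bass cancellation
(S19544, S19545, S19552).
-/

set_option autoImplicit false
set_option linter.unusedSectionVars false
set_option linter.unusedVariables false
set_option linter.style.haveILetI false

universe u v

namespace Groth.Agent.H13.EE

open Module

section LA

variable {K : Type*} [Field K]

/-- A matrix with linearly independent columns has a maximal square submatrix with non-zero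
determinant. -/
theorem exists_submatrix_det_ne_zero {m τ : Type*} [Fintype m] [DecidableEq m] [Fintype τ]
    [DecidableEq τ] (A : Matrix m τ K) (hA : LinearIndependent K A.col) :
    ∃ b : τ → m, (A.submatrix b id).det ≠ 0 := by
  classical
  have h1 : A.rank = Fintype.card τ := by
    rw [Matrix.rank_eq_finrank_span_cols, finrank_span_eq_card hA]
  obtain ⟨κ, a, ha, hspan, hli⟩ := exists_linearIndependent' K A.row
  haveI : Finite κ := Finite.of_injective a ha
  letI : Fintype κ := Fintype.ofFinite κ
  have h2 : Fintype.card κ = Fintype.card τ := by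
    rw [← finrank_span_eq_card hli, hspan, ← Matrix.rank_eq_finrank_span_row, h1]
  let e : τ ≃ κ := (Fintype.equivOfCardEq h2).symm
  refine ⟨a ∘ e, ?_⟩
  have h3 : LinearIndependent K (A.submatrix (a ∘ e) id).row := by
    have := hli.comp e e.injective
    exact this
  have h4 := Matrix.linearIndependent_rows_iff_isUnit.mp h3
  exact ((Matrix.isUnit_iff_isUnit_det _).mp h4).ne_zero

variable {V : Type*} [AddCommGroup V] [Module K V]

/-- If `w₁, …, w_u, x` are linearly dependent and `c ≠ 0`, then after adding `c • x` to at most one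
of the `w_i`, the vector `x` lies in their span. -/
theorem exists_option_mem_span {u : ℕ} (w : Fin u → V) (x : V) (c : K) (hc : c ≠ 0)
    (hdep : ¬ LinearIndependent K (Fin.snoc w x : Fin (u + 1) → V)) :
    ∃ i₀ : Option (Fin u), x ∈ Submodule.span K
      (Set.range fun i : Fin u => w i + (if some i = i₀ then c else 0) • x) := by
  classical
  by_cases hx : x ∈ Submodule.span K (Set.range w)
  · refine ⟨none, ?_⟩
    simpa using hx
  · have hw : ¬ LinearIndependent K w := fun hw => hdep (linearIndependent_finSnoc.mpr ⟨hw, hx⟩)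
    obtain ⟨g, hg, i₀, hi₀⟩ := Fintype.not_linearIndependent_iff.mp hw
    refine ⟨some i₀, ?_⟩
    have hsum : ∑ i, g i • (w i + (if some i = some i₀ then c else 0) • x) = (g i₀ * c) • x := by
      simp only [smul_add, Finset.sum_add_distrib, hg, zero_add, Option.some.injEq]
      rw [Finset.sum_eq_single i₀]
      · simp [smul_smul]
      · intro j _ hj
        simp [hj]
      · intro h; exact absurd (Finset.mem_univ _) h
    have hne : g i₀ * c ≠ 0 := mul_ne_zero hi₀ hc
    have hx' : x = (g i₀ * c)⁻¹ • ∑ i, g i • (w i + (if some i = some i₀ then c else 0) • x) := by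
      rw [hsum, smul_smul, inv_mul_cancel₀ hne, one_smul]
    have hmem : (g i₀ * c)⁻¹ • ∑ i, g i • (w i + (if some i = some i₀ then c else 0) • x) ∈
        Submodule.span K
          (Set.range fun i : Fin u => w i + (if some i = some i₀ then c else 0) • x) := by
      refine Submodule.smul_mem _ _ (Submodule.sum_mem _ fun i _ => Submodule.smul_mem _ _ ?_)
      exact Submodule.subset_span ⟨i, rfl⟩
    rwa [← hx'] at hmem

/-- Adding one vector raises the dimension of a span by at most one. -/
theorem finrank_span_le_succ [FiniteDimensional K V] (S T : Set V) (x : V)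
    (h : S ⊆ (Submodule.span K T ⊔ Submodule.span K {x} : Submodule K V)) :
    finrank K (Submodule.span K S) ≤ finrank K (Submodule.span K T) + 1 := by
  have h1 : Submodule.span K S ≤ Submodule.span K T ⊔ Submodule.span K {x} :=
    Submodule.span_le.mpr h
  have h2 := Submodule.finrank_mono h1
  have h3 := Submodule.finrank_add_le_finrank_add_finrank (Submodule.span K T) (Submodule.span K {x})
  have h4 : finrank K (Submodule.span K {x}) ≤ 1 := by
    have := finrank_span_le_card (R := K) ({x} : Set V)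
    simpa using this
  omega

end LA

section Rank

variable {R : Type u} [CommRing R] {ι : Type*} [Fintype ι] [DecidableEq ι]

/-- reduction of a vector modulo a prime, with values in the residue field. -/
noncomputable def red (p : PrimeSpectrum R) : (ι → R) →ₗ[R] (ι → p.asIdeal.ResidueField) :=
  (Algebra.linearMap R p.asIdeal.ResidueField).compLeft ι

theorem red_apply (p : PrimeSpectrum R) (x : ι → R) (l : ι) :
    red p x l = algebraMap R p.asIdeal.ResidueField (x l) := rfl

theorem red_smul (p : PrimeSpectrum R) (r : R) (x : ι → R) :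
    red p (r • x) = algebraMap R p.asIdeal.ResidueField r • red p x := by
  ext l
  simp [red_apply]

/-- the rank of a family of vectors at a prime. -/
noncomputable def rk (p : PrimeSpectrum R) {J : Type*} (v : J → ι → R) : ℕ :=
  finrank p.asIdeal.ResidueField
    (Submodule.span p.asIdeal.ResidueField (Set.range fun j => red p (v j)))

/-- lower semicontinuity of the rank. -/
theorem exists_basicOpen_rk_le {J : Type*} [Finite J] (p : PrimeSpectrum R) (v : J → ι → R) :
    ∃ f : R, f ∉ p.asIdeal ∧ ∀ q : PrimeSpectrum R, f ∉ q.asIdeal → rk p v ≤ rk q v := by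
  classical
  obtain ⟨κ, a, ha, hspan, hli⟩ :=
    exists_linearIndependent' p.asIdeal.ResidueField (fun j => red p (v j))
  haveI : Finite κ := Finite.of_injective a ha
  letI : Fintype κ := Fintype.ofFinite κ
  let A : Matrix ι κ p.asIdeal.ResidueField := Matrix.of fun l j => red p (v (a j)) l
  have hA : LinearIndependent p.asIdeal.ResidueField A.col := hli
  obtain ⟨b, hb⟩ := exists_submatrix_det_ne_zero A hA
  let AR : Matrix κ κ R := Matrix.of fun i j => v (a j) (b i)
  have hmap : ∀ q : PrimeSpectrum R, algebraMap R q.asIdeal.ResidueField AR.det =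
      (Matrix.of fun i j => red q (v (a j)) (b i) : Matrix κ κ q.asIdeal.ResidueField).det := by
    intro q
    rw [RingHom.map_det]
    rfl
  refine ⟨AR.det, ?_, ?_⟩
  · intro hmem
    have h0 := Ideal.algebraMap_residueField_eq_zero.mpr hmem
    rw [hmap p] at h0
    exact hb h0
  · intro q hq
    have hdet : (Matrix.of fun i j => red q (v (a j)) (b i) :
        Matrix κ κ q.asIdeal.ResidueField).det ≠ 0 := by
      rw [← hmap q]
      intro h0
      exact hq (Ideal.algebraMap_residueField_eq_zero.mp h0)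
    have hliq : LinearIndependent q.asIdeal.ResidueField (fun j : κ => red q (v (a j))) := by
      rw [Fintype.linearIndependent_iff]
      intro g hg
      have hmv : (Matrix.of fun i j => red q (v (a j)) (b i) :
          Matrix κ κ q.asIdeal.ResidueField).mulVec g = 0 := by
        ext i
        have := congrFun hg (b i)
        simp only [Finset.sum_apply, Pi.smul_apply, smul_eq_mul, Pi.zero_apply] at this
        simp only [Matrix.mulVec, dotProduct, Matrix.of_apply, Pi.zero_apply]
        rw [← this]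
        exact Finset.sum_congr rfl fun j _ => mul_comm _ _
      have := Matrix.eq_zero_of_mulVec_eq_zero hdet hmv
      intro j
      exact congrFun this j
    calc rk p v = Fintype.card κ := by
          unfold rk
          rw [← hspan, finrank_span_eq_card hli]
      _ = finrank _ (Submodule.span q.asIdeal.ResidueField
            (Set.range fun j : κ => red q (v (a j)))) := (finrank_span_eq_card hliq).symm
      _ ≤ rk q v := by
          unfold rk
          apply Submodule.finrank_mono
          apply Submodule.span_mono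
          rintro _ ⟨j, rfl⟩
          exact ⟨a j, rfl⟩

theorem isClosed_setOf_rk_le {J : Type*} [Finite J] (v : J → ι → R) (w : ℕ) :
    IsClosed {p : PrimeSpectrum R | rk p v ≤ w} := by
  rw [← isOpen_compl_iff, isOpen_iff_forall_mem_open]
  intro p hp
  obtain ⟨f, hf, hq⟩ := exists_basicOpen_rk_le p v
  refine ⟨(PrimeSpectrum.basicOpen f : Set _), ?_, (PrimeSpectrum.basicOpen f).isOpen, hf⟩
  intro q hqf
  have := hq q hqf
  simp only [Set.mem_compl_iff, Set.mem_setOf_eq, not_le] at hp ⊢
  omega

theorem finite_exceptional [IsNoetherianRing R] (X : Set (PrimeSpectrum R))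
    (hX : ∀ p ∈ X, ∀ q : PrimeSpectrum R, q ≤ p → q ∈ X)
    (δ : PrimeSpectrum R → ℕ) (hδ : ∀ p q : PrimeSpectrum R, q < p → δ p < δ q)
    (u : ℕ) (v : Fin (u + 1) → ι → R)
    (H : ∀ p ∈ X, min (u + 1) (δ p + 1) ≤ rk p v) :
    {p : PrimeSpectrum R | p ∈ X ∧ rk p v = δ p + 1 ∧ rk p v ≤ u}.Finite := by
  have hcl : ∀ w : ℕ, ∃ I : Ideal R,
      {p : PrimeSpectrum R | rk p v ≤ w} = PrimeSpectrum.zeroLocus (I : Set R) :=
    fun w => (PrimeSpectrum.isClosed_iff_zeroLocus_ideal _).mp (isClosed_setOf_rk_le v w)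
  choose I hI using hcl
  have hfin : (⋃ w ∈ Finset.range (u + 1),
      {p : PrimeSpectrum R | p.asIdeal ∈ (I w).minimalPrimes}).Finite := by
    refine Set.Finite.biUnion (Finset.finite_toSet _) fun w _ => ?_
    refine Set.Finite.preimage ?_ ((I w).finite_minimalPrimes_of_isNoetherianRing R)
    intro p _ q _ hpq
    exact PrimeSpectrum.ext hpq
  refine hfin.subset ?_
  rintro p ⟨hpX, hp1, hp2⟩
  simp only [Set.mem_iUnion, Finset.mem_range, Set.mem_setOf_eq]
  refine ⟨rk p v, by omega, ?_⟩
  have hpY : p ∈ PrimeSpectrum.zeroLocus (I (rk p v) : Set R) := by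
    rw [← hI]
    show rk p v ≤ rk p v
    exact le_rfl
  have hle : I (rk p v) ≤ p.asIdeal := (PrimeSpectrum.mem_zeroLocus _ _).mp hpY
  obtain ⟨q, hqmin, hqle⟩ := Ideal.exists_minimalPrimes_le hle
  let q' : PrimeSpectrum R := ⟨q, hqmin.1.1⟩
  have hq'Y : rk q' v ≤ rk p v := by
    have : q' ∈ PrimeSpectrum.zeroLocus (I (rk p v) : Set R) :=
      (PrimeSpectrum.mem_zeroLocus _ _).mpr hqmin.1.2
    rw [← hI] at this
    exact this
  have hq'le : q' ≤ p := hqle
  have hq'X := hX p hpX q' hq'le
  rcases eq_or_lt_of_le hq'le with heq | hlt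
  · have hpq : p.asIdeal = q := by rw [← heq]
    rw [hpq]
    exact hqmin
  · have h1 := hδ p q' hlt
    have h2 := H q' hq'X
    exfalso
    rcases le_total (u + 1) (δ q' + 1) with h | h
    · rw [min_eq_left h] at h2
      omega
    · rw [min_eq_right h] at h2
      omega

theorem exists_fix (u : ℕ) (v : Fin (u + 1) → ι → R) :
    ∀ (n : ℕ) (E : Finset (PrimeSpectrum R)), E.card = n → (∀ p ∈ E, rk p v ≤ u) →
      ∃ a : Fin u → R, ∀ p ∈ E, red p (v (Fin.last u)) ∈
        Submodule.span p.asIdeal.ResidueField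
          (Set.range fun i : Fin u => red p (v (Fin.castSucc i) + a i • v (Fin.last u))) := by
  classical
  intro n
  induction n with
  | zero =>
    intro E hE _
    refine ⟨0, fun p hp => ?_⟩
    rw [Finset.card_eq_zero] at hE
    simp [hE] at hp
  | succ n ih =>
    intro E hE hrk
    have hne : E.Nonempty := Finset.card_pos.mp (by omega)
    obtain ⟨p₀, hp₀⟩ := E.exists_minimal hne
    have hp₀E : p₀ ∈ E := hp₀.1
    obtain ⟨a, ha⟩ := ih (E.erase p₀) (by rw [Finset.card_erase_of_mem hp₀E]; omega)
      (fun p hp => hrk p (Finset.mem_of_mem_erase hp))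
    have hex : ∀ q ∈ E.erase p₀, ∃ c : R, c ∈ q.asIdeal ∧ c ∉ p₀.asIdeal := by
      intro q hq
      have hqE := Finset.mem_of_mem_erase hq
      have hqne := Finset.ne_of_mem_erase hq
      have hnle : ¬ q ≤ p₀ := fun hle => hqne (le_antisymm hle (hp₀.2 hqE hle))
      exact SetLike.not_le_iff_exists.mp hnle
    choose! c hc using hex
    set C : R := ∏ q ∈ E.erase p₀, c q with hC
    have hCp₀ : C ∉ p₀.asIdeal := by
      rw [hC, Ideal.IsPrime.prod_mem_iff]
      rintro ⟨q, hq, hmem⟩
      exact (hc q hq).2 hmem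
    have hCq : ∀ q ∈ E.erase p₀, C ∈ q.asIdeal := by
      intro q hq
      exact Ideal.mem_of_dvd _ (Finset.dvd_prod_of_mem c hq) (hc q hq).1
    have hck : algebraMap R p₀.asIdeal.ResidueField C ≠ 0 :=
      fun h0 => hCp₀ (Ideal.algebraMap_residueField_eq_zero.mp h0)
    have hdep : ¬ LinearIndependent p₀.asIdeal.ResidueField
        (Fin.snoc (fun i : Fin u => red p₀ (v (Fin.castSucc i) + a i • v (Fin.last u)))
          (red p₀ (v (Fin.last u))) : Fin (u + 1) → ι → p₀.asIdeal.ResidueField) := by
      intro hli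
      have h1 := finrank_span_eq_card hli
      rw [Fintype.card_fin] at h1
      have h2 : Submodule.span p₀.asIdeal.ResidueField (Set.range
          (Fin.snoc (fun i : Fin u => red p₀ (v (Fin.castSucc i) + a i • v (Fin.last u)))
          (red p₀ (v (Fin.last u))) : Fin (u + 1) → ι → p₀.asIdeal.ResidueField)) ≤
          Submodule.span p₀.asIdeal.ResidueField (Set.range fun j => red p₀ (v j)) := by
        apply Submodule.span_le.mpr
        rintro _ ⟨j, rfl⟩
        refine Fin.lastCases ?_ (fun i => ?_) j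
        · rw [Fin.snoc_last]
          exact Submodule.subset_span ⟨Fin.last u, rfl⟩
        · rw [Fin.snoc_castSucc, map_add, red_smul]
          exact Submodule.add_mem _ (Submodule.subset_span ⟨_, rfl⟩)
            (Submodule.smul_mem _ _ (Submodule.subset_span ⟨_, rfl⟩))
      have h3 := Submodule.finrank_mono h2
      have h4 := hrk p₀ hp₀E
      unfold rk at h4
      omega
    obtain ⟨i₀, hi₀⟩ := exists_option_mem_span _ _ (algebraMap R p₀.asIdeal.ResidueField C) hck hdep
    refine ⟨fun i => a i + C * (if some i = i₀ then 1 else 0), fun p hp => ?_⟩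
    by_cases hpp : p₀ = p
    · subst hpp
      have hfun : (fun i : Fin u => red p₀ (v (Fin.castSucc i) +
          (a i + C * (if some i = i₀ then 1 else 0)) • v (Fin.last u))) =
          fun i : Fin u => red p₀ (v (Fin.castSucc i) + a i • v (Fin.last u)) +
            (if some i = i₀ then algebraMap R p₀.asIdeal.ResidueField C else 0) •
              red p₀ (v (Fin.last u)) := by
        funext i
        rw [add_smul, ← add_assoc, map_add, red_smul]
        congr 2
        split_ifs <;> simp
      rw [hfun]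
      exact hi₀
    · have hpE' : p ∈ E.erase p₀ := Finset.mem_erase.mpr ⟨fun h => hpp h.symm, hp⟩
      have h0 : algebraMap R p.asIdeal.ResidueField C = 0 :=
        Ideal.algebraMap_residueField_eq_zero.mpr (hCq p hpE')
      have hfun : (fun i : Fin u => red p (v (Fin.castSucc i) +
          (a i + C * (if some i = i₀ then 1 else 0)) • v (Fin.last u))) =
          fun i : Fin u => red p (v (Fin.castSucc i) + a i • v (Fin.last u)) := by
        funext i
        rw [add_smul, ← add_assoc, map_add, red_smul, map_mul, h0, zero_mul, zero_smul, add_zero]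
      rw [hfun]
      exact ha p hpE'

theorem step [IsNoetherianRing R] (X : Set (PrimeSpectrum R))
    (hX : ∀ p ∈ X, ∀ q : PrimeSpectrum R, q ≤ p → q ∈ X)
    (δ : PrimeSpectrum R → ℕ) (hδ : ∀ p q : PrimeSpectrum R, q < p → δ p < δ q)
    (u : ℕ) (v : Fin (u + 1) → ι → R)
    (H : ∀ p ∈ X, min (u + 1) (δ p + 1) ≤ rk p v) :
    ∃ a : Fin u → R, ∀ p ∈ X,
      min u (δ p + 1) ≤ rk p (fun i : Fin u => v (Fin.castSucc i) + a i • v (Fin.last u)) := by
  classical
  have hfin := finite_exceptional X hX δ hδ u v H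
  obtain ⟨a, ha⟩ := exists_fix u v _ hfin.toFinset rfl (fun p hp => by
    rw [Set.Finite.mem_toFinset] at hp
    exact hp.2.2)
  refine ⟨a, fun p hpX => ?_⟩
  have hcs : ∀ i : Fin u, red p (v (Fin.castSucc i)) =
      red p (v (Fin.castSucc i) + a i • v (Fin.last u)) -
        algebraMap R p.asIdeal.ResidueField (a i) • red p (v (Fin.last u)) := by
    intro i
    rw [map_add, red_smul, add_sub_cancel_right]
  have hS1 : rk p v ≤ rk p (fun i : Fin u => v (Fin.castSucc i) + a i • v (Fin.last u)) + 1 := by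
    unfold rk
    apply finrank_span_le_succ _ _ (red p (v (Fin.last u)))
    rintro _ ⟨j, rfl⟩
    refine Fin.lastCases ?_ (fun i => ?_) j
    · exact Submodule.mem_sup_right (Submodule.subset_span rfl)
    · show red p (v (Fin.castSucc i)) ∈ _
      rw [hcs i]
      exact Submodule.sub_mem _ (Submodule.mem_sup_left (Submodule.subset_span ⟨i, rfl⟩))
        (Submodule.smul_mem _ _ (Submodule.mem_sup_right (Submodule.subset_span rfl)))
  have hm1 := min_le_left u (δ p + 1)
  have hm2 := min_le_right u (δ p + 1)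
  by_cases hpE : p ∈ hfin.toFinset
  · have hmem := ha p hpE
    rw [Set.Finite.mem_toFinset] at hpE
    obtain ⟨_, hp1, hp2⟩ := hpE
    have hge : rk p v ≤ rk p (fun i : Fin u => v (Fin.castSucc i) + a i • v (Fin.last u)) := by
      unfold rk
      apply Submodule.finrank_mono
      apply Submodule.span_le.mpr
      rintro _ ⟨j, rfl⟩
      refine Fin.lastCases ?_ (fun i => ?_) j
      · exact hmem
      · show red p (v (Fin.castSucc i)) ∈ _
        rw [hcs i]
        exact Submodule.sub_mem _ (Submodule.subset_span ⟨i, rfl⟩) (Submodule.smul_mem _ _ hmem)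
    omega
  · rw [Set.Finite.mem_toFinset] at hpE
    have hH := H p hpX
    have hnot : ¬ (rk p v = δ p + 1 ∧ rk p v ≤ u) := fun h => hpE ⟨hpX, h⟩
    rcases le_total (u + 1) (δ p + 1) with h | h
    · rw [min_eq_left h] at hH
      omega
    · rw [min_eq_right h] at hH
      omega

/-- Eisenbud–Evans: a family which is basic up to `δ + 1` on `X` has a combination
`v 0 + ∑ c_j v_j` which is non-zero at all points of `X`. -/
theorem ee [IsNoetherianRing R] (X : Set (PrimeSpectrum R))
    (hX : ∀ p ∈ X, ∀ q : PrimeSpectrum R, q ≤ p → q ∈ X)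
    (δ : PrimeSpectrum R → ℕ) (hδ : ∀ p q : PrimeSpectrum R, q < p → δ p < δ q) :
    ∀ (u : ℕ) (v : Fin (u + 1) → ι → R), (∀ p ∈ X, min (u + 1) (δ p + 1) ≤ rk p v) →
      ∃ c : Fin (u + 1) → R, c 0 = 1 ∧ ∀ p ∈ X, red p (∑ j, c j • v j) ≠ 0 := by
  intro u
  induction u with
  | zero =>
    intro v H
    refine ⟨fun _ => 1, rfl, fun p hp h0 => ?_⟩
    have h1 := H p hp
    have h2 : rk p v = 0 := by
      unfold rk
      have : Submodule.span p.asIdeal.ResidueField (Set.range fun j => red p (v j)) = ⊥ := by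
        rw [Submodule.span_eq_bot]
        rintro _ ⟨j, rfl⟩
        have hj : j = 0 := by
          apply Fin.ext
          have := j.isLt
          simp only [Fin.val_zero]
          omega
        subst hj
        simpa using h0
      rw [this, finrank_bot]
    rw [h2] at h1
    rcases le_total (0 + 1) (δ p + 1) with h | h
    · rw [min_eq_left h] at h1
      omega
    · rw [min_eq_right h] at h1
      omega
  | succ u ih =>
    intro v H
    obtain ⟨a, ha⟩ := step X hX δ hδ (u + 1) v H
    obtain ⟨c', hc'0, hc'⟩ :=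
      ih (fun i => v (Fin.castSucc i) + a i • v (Fin.last (u + 1))) ha
    refine ⟨(Fin.snoc c' (∑ i, c' i * a i) : Fin (u + 1 + 1) → R), ?_, fun p hp => ?_⟩
    · have : (0 : Fin (u + 1 + 1)) = Fin.castSucc 0 := rfl
      rw [this, Fin.snoc_castSucc]
      exact hc'0
    · have hsum : ∑ j, (Fin.snoc c' (∑ i, c' i * a i) : Fin (u + 1 + 1) → R) j • v j =
          ∑ i, c' i • (v (Fin.castSucc i) + a i • v (Fin.last (u + 1))) := by
        rw [Fin.sum_univ_castSucc]
        simp only [Fin.snoc_castSucc, Fin.snoc_last, smul_add, Finset.sum_add_distrib,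
          Finset.sum_smul, smul_smul]
      rw [hsum]
      exact hc' p hp

end Rank

section Proj

open TensorProduct

variable {R : Type u} [CommRing R]
variable {P : Type v} [AddCommGroup P] [Module R P]

theorem apply_eq_sum_coord {N : ℕ} (π : (Fin N → R) →ₗ[R] P) (i : P →ₗ[R] (Fin N → R))
    (hπi : ∀ x, π (i x) = x) {M' : Type*} [AddCommGroup M'] [Module R M'] (f : P →ₗ[R] M')
    (x : P) : f x = ∑ l, (i x l) • f (π (fun j => if l = j then 1 else 0)) := by
  conv_lhs => rw [← hπi x]
  exact LinearMap.pi_apply_eq_sum_univ (f ∘ₗ π) (i x)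

variable [IsNoetherianRing R] [Module.Finite R P] [Module.Projective R P]

/-- Bass' form of Serre's theorem: if `(a, p₀)` is unimodular in `R ⊕ P` and `P` is projective of
rank `> dim R`, then `p₀ + a q` is unimodular in `P` for some `q`. -/
theorem exists_unimodular_add_smul (d : ℕ) (hdim : ringKrullDim R ≤ d)
    (hrk : ∀ p : PrimeSpectrum R, d + 1 ≤ Module.rankAtStalk (R := R) P p)
    (a : R) (p₀ : P) (c : R) (φ : P →ₗ[R] R) (hu : c * a + φ p₀ = 1) :
    ∃ (q : P) (ψ : P →ₗ[R] R), ψ (p₀ + a • q) = 1 := by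
  classical
  obtain ⟨N, π, hπ⟩ := Module.Finite.exists_fin' R P
  obtain ⟨i, hi⟩ := Module.projective_lifting_property π LinearMap.id hπ
  have hπi : ∀ x, π (i x) = x := fun x => by simpa using LinearMap.congr_fun hi x
  set e : Fin N → P := fun l => π (fun j => if l = j then 1 else 0) with he
  -- dimension function
  have hcoh : ∀ p : PrimeSpectrum R, Order.coheight p ≤ (d : ℕ∞) := by
    intro p
    have h1 : (Order.coheight p : WithBot ℕ∞) ≤ ringKrullDim R := Order.coheight_le_krullDim p
    have h2 := h1.trans hdim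
    exact_mod_cast h2
  have hcohtop : ∀ p : PrimeSpectrum R, Order.coheight p ≠ ⊤ :=
    fun p => ne_top_of_le_ne_top (ENat.coe_ne_top d) (hcoh p)
  let δ : PrimeSpectrum R → ℕ := fun p => (Order.coheight p).toNat
  have hδ : ∀ p q : PrimeSpectrum R, q < p → δ p < δ q := by
    intro p q hlt
    have h1 := Order.coheight_add_one_le hlt
    obtain ⟨m, hm⟩ := ENat.ne_top_iff_exists.mp (hcohtop p)
    obtain ⟨m', hm'⟩ := ENat.ne_top_iff_exists.mp (hcohtop q)
    show (Order.coheight p).toNat < (Order.coheight q).toNat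
    rw [← hm, ← hm'] at h1 ⊢
    rw [ENat.toNat_coe, ENat.toNat_coe]
    have h2 : ((m + 1 : ℕ) : ℕ∞) ≤ (m' : ℕ∞) := by exact_mod_cast h1
    have h3 : m + 1 ≤ m' := by exact_mod_cast h2
    omega
  have hδd : ∀ p : PrimeSpectrum R, δ p ≤ d := by
    intro p
    obtain ⟨m, hm⟩ := ENat.ne_top_iff_exists.mp (hcohtop p)
    have h1 := hcoh p
    show (Order.coheight p).toNat ≤ d
    rw [← hm] at h1 ⊢
    rw [ENat.toNat_coe]
    exact_mod_cast h1
  let X : Set (PrimeSpectrum R) := {p | a ∉ p.asIdeal}
  have hX : ∀ p ∈ X, ∀ q : PrimeSpectrum R, q ≤ p → q ∈ X :=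
    fun p hp q hq haq => hp (hq haq)
  let v : Fin (N + 1) → Fin N → R := Fin.cons (i p₀) (fun l => a • i (e l))
  have hK2 : ∀ p ∈ X, d + 1 ≤ rk p v := by
    intro p hp
    have ha0 : algebraMap R p.asIdeal.ResidueField a ≠ 0 :=
      fun h0 => hp (Ideal.algebraMap_residueField_eq_zero.mp h0)
    have h1 : Module.rankAtStalk (R := R) P p =
        finrank p.asIdeal.ResidueField (p.asIdeal.ResidueField ⊗[R] P) := Module.rankAtStalk_eq p
    let Θ : p.asIdeal.ResidueField ⊗[R] P →ₗ[p.asIdeal.ResidueField]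
        (Fin N → p.asIdeal.ResidueField) :=
      (TensorProduct.piScalarRight R p.asIdeal.ResidueField p.asIdeal.ResidueField
        (Fin N)).toLinearMap ∘ₗ (i.baseChange p.asIdeal.ResidueField)
    have hbc : (π.baseChange p.asIdeal.ResidueField) ∘ₗ (i.baseChange p.asIdeal.ResidueField) =
        LinearMap.id := by
      rw [← LinearMap.baseChange_comp, hi, LinearMap.baseChange_id]
    have hΘ : Function.Injective Θ := by
      have h2 : Function.Injective (i.baseChange p.asIdeal.ResidueField) :=
        Function.LeftInverse.injective (g := π.baseChange p.asIdeal.ResidueField)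
          (fun t => LinearMap.congr_fun hbc t)
      intro s t hst
      apply h2
      exact (TensorProduct.piScalarRight R p.asIdeal.ResidueField p.asIdeal.ResidueField
        (Fin N)).injective hst
    have h2 : finrank p.asIdeal.ResidueField (LinearMap.range Θ) =
        finrank p.asIdeal.ResidueField (p.asIdeal.ResidueField ⊗[R] P) :=
      LinearMap.finrank_range_of_inj hΘ
    have h3 : LinearMap.range Θ ≤ Submodule.span p.asIdeal.ResidueField
        (Set.range fun j => red p (v j)) := by
      rintro _ ⟨t, rfl⟩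
      induction t using TensorProduct.induction_on with
      | zero => simp
      | tmul r x =>
        have hΘ1 : Θ (r ⊗ₜ x) = r • red p (i x) := by
          ext l
          simp [Θ, LinearMap.baseChange_tmul, TensorProduct.piScalarRightHom_tmul, red_apply,
            Algebra.smul_def, mul_comm]
        rw [hΘ1]
        refine Submodule.smul_mem _ _ ?_
        have h4 := apply_eq_sum_coord π i hπi ((red p).comp i) x
        rw [LinearMap.comp_apply] at h4
        rw [h4]
        refine Submodule.sum_mem _ fun l _ => Submodule.smul_of_tower_mem _ _ ?_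
        have h5 : red p (i (e l)) =
            (algebraMap R p.asIdeal.ResidueField a)⁻¹ • red p (v (Fin.succ l)) := by
          simp only [v, Fin.cons_succ, red_smul, smul_smul, inv_mul_cancel₀ ha0, one_smul]
        show red p (i (e l)) ∈ _
        rw [h5]
        exact Submodule.smul_mem _ _ (Submodule.subset_span ⟨Fin.succ l, rfl⟩)
      | add t s ht hs =>
        rw [map_add]
        exact Submodule.add_mem _ ht hs
    have h4 := Submodule.finrank_mono h3
    have h5 := hrk p
    unfold rk
    omega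
  have H : ∀ p ∈ X, min (N + 1) (δ p + 1) ≤ rk p v := by
    intro p hp
    have h1 := hK2 p hp
    have h2 := hδd p
    have h3 := min_le_right (N + 1) (δ p + 1)
    omega
  obtain ⟨cc, hc0, hcc⟩ := ee X hX δ hδ N v H
  set q : P := ∑ l, cc (Fin.succ l) • e l with hq
  have hsum : ∑ j, cc j • v j = i (p₀ + a • q) := by
    rw [Fin.sum_univ_succ, hc0, one_smul, map_add, map_smul, hq, map_sum, Finset.smul_sum]
    simp only [v, Fin.cons_zero, Fin.cons_succ, map_smul]
    congr 1
    apply Finset.sum_congr rfl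
    intro l _
    rw [smul_comm]
  have hall : ∀ p : PrimeSpectrum R, red p (i (p₀ + a • q)) ≠ 0 := by
    intro p h0
    by_cases hap : a ∈ p.asIdeal
    · have hcoordp : ∀ l, i (p₀ + a • q) l ∈ p.asIdeal := fun l => by
        have := congrFun h0 l
        rw [red_apply, Pi.zero_apply] at this
        exact Ideal.algebraMap_residueField_eq_zero.mp this
      have hφ : φ (p₀ + a • q) ∈ p.asIdeal := by
        rw [apply_eq_sum_coord π i hπi φ (p₀ + a • q)]
        exact Ideal.sum_mem _ fun l _ => Ideal.mul_mem_right _ _ (hcoordp l)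
      have h1 : φ p₀ = φ (p₀ + a • q) - a * φ q := by
        rw [map_add, map_smul, smul_eq_mul]
        ring
      have h2 : φ p₀ ∈ p.asIdeal := by
        rw [h1]
        exact Ideal.sub_mem _ hφ (Ideal.mul_mem_right _ _ hap)
      have h3 : (1 : R) ∈ p.asIdeal := by
        rw [← hu]
        exact Ideal.add_mem _ (Ideal.mul_mem_left _ _ hap) h2
      exact p.isPrime.ne_top ((Ideal.eq_top_iff_one _).mpr h3)
    · exact hcc p hap (by rw [hsum]; exact h0)
  refine ⟨q, ?_⟩
  by_contra hne
  push Not at hne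
  let O : Ideal R := LinearMap.range (LinearMap.applyₗ (p₀ + a • q) : (P →ₗ[R] R) →ₗ[R] R)
  have hO : O ≠ ⊤ := by
    intro h
    have h1 : (1 : R) ∈ O := h ▸ Submodule.mem_top
    obtain ⟨ψ, hψ⟩ := h1
    exact hne ψ hψ
  obtain ⟨m, hm, hOm⟩ := Ideal.exists_le_maximal O hO
  apply hall ⟨m, hm.isPrime⟩
  ext l
  rw [red_apply, Pi.zero_apply, Ideal.algebraMap_residueField_eq_zero]
  apply hOm
  exact ⟨(LinearMap.proj l) ∘ₗ i, rfl⟩

end Proj

section Cancel

theorem nontrivial_of_ringKrullDim_eq {R : Type*} [CommRing R] (d : ℕ)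
    (h : ringKrullDim R = d) : Nontrivial R := by
  by_contra hn
  rw [not_nontrivial_iff_subsingleton] at hn
  rw [ringKrullDim_eq_bot_of_subsingleton] at h
  exact absurd h (by simp)

variable {R : Type u} [CommRing R]

/-- an isomorphism `A × R ≃ A' × R` fixing `(0,1)` induces `A ≃ A'`. -/
theorem nonempty_equiv_of_fix {A A' : Type*} [AddCommGroup A] [Module R A] [AddCommGroup A']
    [Module R A'] (g : (A × R) ≃ₗ[R] (A' × R)) (hg : g (0, 1) = (0, 1)) :
    Nonempty (A ≃ₗ[R] A') := by
  have hg' : g.symm (0, 1) = (0, 1) := by rw [← hg, g.symm_apply_apply]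
  let f : A →ₗ[R] A' := (LinearMap.fst R A' R) ∘ₗ g.toLinearMap ∘ₗ (LinearMap.inl R A R)
  let f' : A' →ₗ[R] A := (LinearMap.fst R A R) ∘ₗ g.symm.toLinearMap ∘ₗ (LinearMap.inl R A' R)
  refine ⟨LinearEquiv.ofLinear f f' ?_ ?_⟩
  · refine LinearMap.ext fun y => ?_
    show (g ((g.symm (y, 0)).1, 0)).1 = y
    have h1 : ((g.symm (y, 0)).1, (0 : R)) = g.symm (y, 0) - (g.symm (y, 0)).2 • (0, 1) := by
      ext <;> simp
    rw [h1, map_sub, map_smul, g.apply_symm_apply, hg]
    simp
  · refine LinearMap.ext fun x => ?_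
    show (g.symm ((g (x, 0)).1, 0)).1 = x
    have h1 : ((g (x, 0)).1, (0 : R)) = g (x, 0) - (g (x, 0)).2 • (0, 1) := by
      ext <;> simp
    rw [h1, map_sub, map_smul, g.symm_apply_apply, hg']
    simp

variable [IsNoetherianRing R]

/-- Bass cancellation of one free summand of rank one. -/
theorem cancel_one (d : ℕ) (hdim : ringKrullDim R ≤ d) {A : Type v} {A' : Type*}
    [AddCommGroup A] [Module R A] [Module.Finite R A] [Module.Projective R A]
    [AddCommGroup A'] [Module R A']
    (hrk : ∀ p : PrimeSpectrum R, d + 1 ≤ Module.rankAtStalk (R := R) A p)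
    (e : (A × R) ≃ₗ[R] (A' × R)) : Nonempty (A ≃ₗ[R] A') := by
  set z := e.symm (0, 1) with hz
  have hez : e z = (0, 1) := by rw [hz, e.apply_symm_apply]
  let Φ : A × R →ₗ[R] R := (LinearMap.snd R A' R) ∘ₗ e.toLinearMap
  have hΦ : Φ z = 1 := by
    show (e z).2 = 1
    rw [hez]
  have hu : Φ (0, 1) * z.2 + (Φ ∘ₗ LinearMap.inl R A R) z.1 = 1 := by
    have h1 : z = z.2 • ((0 : A), (1 : R)) + (z.1, 0) := by ext <;> simp
    have h2 : Φ z = z.2 * Φ (0, 1) + Φ (z.1, 0) := by
      conv_lhs => rw [h1]
      rw [map_add, map_smul, smul_eq_mul]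
    rw [hΦ] at h2
    rw [mul_comm]
    exact h2.symm
  obtain ⟨q, ψ, hψ⟩ := exists_unimodular_add_smul d hdim hrk z.2 z.1 (Φ (0, 1))
    (Φ ∘ₗ LinearMap.inl R A R) hu
  let τ₁ : (A × R) ≃ₗ[R] (A × R) := (LinearEquiv.prodComm R A R) ≪≫ₗ
    ((LinearEquiv.refl R R).skewProd (LinearEquiv.refl R A) (LinearMap.toSpanSingleton R A q)) ≪≫ₗ
    (LinearEquiv.prodComm R R A)
  let τ₂ : (A × R) ≃ₗ[R] (A × R) :=
    (LinearEquiv.refl R A).skewProd (LinearEquiv.refl R R) ((1 - z.2) • ψ)
  let τ₃ : (A × R) ≃ₗ[R] (A × R) := (LinearEquiv.prodComm R A R) ≪≫ₗ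
    ((LinearEquiv.refl R R).skewProd (LinearEquiv.refl R A)
      (LinearMap.toSpanSingleton R A (-(z.1 + z.2 • q)))) ≪≫ₗ
    (LinearEquiv.prodComm R R A)
  have h1 : τ₁ z = (z.1 + z.2 • q, z.2) := by
    simp [τ₁, LinearEquiv.skewProd_apply, LinearMap.toSpanSingleton_apply]
  have h2 : τ₂ (z.1 + z.2 • q, z.2) = (z.1 + z.2 • q, 1) := by
    simp [τ₂, LinearEquiv.skewProd_apply, hψ]
  have h3 : τ₃ (z.1 + z.2 • q, 1) = (0, 1) := by
    simp [τ₃, LinearEquiv.skewProd_apply, LinearMap.toSpanSingleton_apply]
  let τ := τ₁ ≪≫ₗ τ₂ ≪≫ₗ τ₃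
  have hτ : τ z = (0, 1) := by
    show τ₃ (τ₂ (τ₁ z)) = _
    rw [h1, h2, h3]
  exact nonempty_equiv_of_fix (τ.symm ≪≫ₗ e) (by
    show e (τ.symm (0, 1)) = (0, 1)
    rw [← hτ, τ.symm_apply_apply, hez])

/-- Bass cancellation. -/
theorem cancel (d : ℕ) (hdim : ringKrullDim R = d) {P : Type v} {P' : Type*}
    [AddCommGroup P] [Module R P] [Module.Finite R P] [Module.Projective R P]
    [AddCommGroup P'] [Module R P']
    (hrk : ∀ p : PrimeSpectrum R, d + 1 ≤ Module.rankAtStalk (R := R) P p) :
    ∀ m : ℕ, Nonempty ((P × (Fin m → R)) ≃ₗ[R] (P' × (Fin m → R))) → Nonempty (P ≃ₗ[R] P') := by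
  haveI := nontrivial_of_ringKrullDim_eq d hdim
  intro m
  induction m with
  | zero =>
    rintro ⟨e⟩
    exact ⟨(LinearEquiv.prodUnique (R := R) (M := P) (M₂ := Fin 0 → R)).symm ≪≫ₗ e ≪≫ₗ
      LinearEquiv.prodUnique⟩
  | succ m ih =>
    rintro ⟨e⟩
    apply ih
    let s : ((Fin m → R) × R) ≃ₗ[R] (Fin (m + 1) → R) :=
      (LinearEquiv.prodComm R _ _) ≪≫ₗ (Fin.consLinearEquiv R (fun _ : Fin (m + 1) => R))
    let e' : ((P × (Fin m → R)) × R) ≃ₗ[R] ((P' × (Fin m → R)) × R) :=
      (LinearEquiv.prodAssoc R P (Fin m → R) R) ≪≫ₗ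
        (LinearEquiv.prodCongr (LinearEquiv.refl R P) s) ≪≫ₗ e ≪≫ₗ
        (LinearEquiv.prodCongr (LinearEquiv.refl R P') s.symm) ≪≫ₗ
        (LinearEquiv.prodAssoc R P' (Fin m → R) R).symm
    refine cancel_one d hdim.le (A := P × (Fin m → R)) (fun p => ?_) e'
    rw [Module.rankAtStalk_prod, Pi.add_apply]
    have := hrk p
    omega

/-- Serre splitting, iterated. -/
theorem exists_equiv_prod_free (R : Type u) [CommRing R] [IsNoetherianRing R] (d : ℕ)
    (hdim : ringKrullDim R = d) (k : ℕ) :
    ∀ (P : Type u) [AddCommGroup P] [Module R P] [Module.Finite R P] [Module.Projective R P],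
      (∀ p : PrimeSpectrum R, Module.rankAtStalk (R := R) P p = d + k) →
      ∃ (P₀ : Type u) (_ : AddCommGroup P₀) (_ : Module R P₀),
        Nonempty (P ≃ₗ[R] (P₀ × (Fin k → R))) := by
  haveI := nontrivial_of_ringKrullDim_eq d hdim
  induction k with
  | zero =>
    intro P _ _ _ _ _
    exact ⟨P, inferInstance, inferInstance, ⟨(LinearEquiv.prodUnique).symm⟩⟩
  | succ k ih =>
    intro P _ _ _ _ hrk
    obtain ⟨q, ψ, hψ⟩ := exists_unimodular_add_smul (P := P) d hdim.le
      (fun p => by rw [hrk p]; omega) 1 0 1 0 (by simp)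
    have hψq : ψ q = 1 := by simpa using hψ
    let f : P →ₗ[R] (LinearMap.ker ψ × R) :=
      LinearMap.prod (LinearMap.codRestrict (LinearMap.ker ψ)
        (LinearMap.id - (LinearMap.toSpanSingleton R P q) ∘ₗ ψ)
        (fun x => by simp [LinearMap.mem_ker, hψq])) ψ
    let g : (LinearMap.ker ψ × R) →ₗ[R] P :=
      (LinearMap.ker ψ).subtype.coprod (LinearMap.toSpanSingleton R P q)
    have hfg : f ∘ₗ g = LinearMap.id := by
      refine LinearMap.ext fun ⟨y, r⟩ => ?_
      have hy : ψ (y : P) = 0 := y.2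
      ext
      · simp [f, g, hy, hψq]
      · simp [f, g, hy, hψq]
    have hgf : g ∘ₗ f = LinearMap.id := by
      refine LinearMap.ext fun x => ?_
      simp [f, g]
    let e₁ : P ≃ₗ[R] (LinearMap.ker ψ × R) := LinearEquiv.ofLinear f g hfg hgf
    haveI : Module.Projective R (LinearMap.ker ψ) :=
      Module.Projective.of_split (LinearMap.ker ψ).subtype ((LinearMap.fst R _ R) ∘ₗ f) (by
        refine LinearMap.ext fun y => ?_
        have h1 := LinearMap.congr_fun hfg (y, 0)
        have h2 : g (y, 0) = (y : P) := by simp [g]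
        simp only [LinearMap.comp_apply, h2, LinearMap.id_apply] at h1
        show (f (y : P)).1 = y
        rw [h1])
    have hrkK : ∀ p : PrimeSpectrum R, Module.rankAtStalk (R := R) (LinearMap.ker ψ) p = d + k := by
      intro p
      have h1 := congrFun (Module.rankAtStalk_eq_of_equiv e₁) p
      rw [Module.rankAtStalk_prod, Pi.add_apply, Module.rankAtStalk_self, hrk p] at h1
      simp only [Pi.one_apply] at h1
      omega
    obtain ⟨P₀, _, _, ⟨e₂⟩⟩ := ih (LinearMap.ker ψ) hrkK
    refine ⟨P₀, inferInstance, inferInstance, ⟨?_⟩⟩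
    exact e₁ ≪≫ₗ (LinearEquiv.prodCongr e₂ (LinearEquiv.refl R R)) ≪≫ₗ
      (LinearEquiv.prodAssoc R P₀ (Fin k → R) R) ≪≫ₗ
      (LinearEquiv.prodCongr (LinearEquiv.refl R P₀)
        ((LinearEquiv.prodComm R _ _) ≪≫ₗ (Fin.consLinearEquiv R (fun _ : Fin (k + 1) => R))))

end Cancel

end Groth.Agent.H13.EE
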