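import Groth.Agent.H13.EE

/-!
# Eisenbud–Evans basic elements, with a dimension function only required on `X`

Copy of `finite_exceptional`, `step`, `ee` of `H13/EE.lean` where the dimension function `δ` is
only assumed strictly decreasing at points of `X` (namespace `Groth.Agent.H13.EE`).
-/

set_option autoImplicit false
set_option linter.unusedSectionVars false
set_option linter.unusedVariables false
set_option linter.style.haveILetI false

universe u v

namespace Groth.Agent.H13.EE

open Module

section Rank2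

variable {R : Type u} [CommRing R] {ι : Type*} [Fintype ι] [DecidableEq ι]

theorem finite_exceptional' [IsNoetherianRing R] (X : Set (PrimeSpectrum R))
    (hX : ∀ p ∈ X, ∀ q : PrimeSpectrum R, q ≤ p → q ∈ X)
    (δ : PrimeSpectrum R → ℕ) (hδ : ∀ p ∈ X, ∀ q : PrimeSpectrum R, q < p → δ p < δ q)
    (u : ℕ) (v : Fin (u + 1) → ι → R)
    (H : ∀ p ∈ X, min (u + 1) (δ p + 1) ≤ rk p v) :
    {p : PrimeSpectrum R | p ∈ X ∧ rk p v = δ p + 1 ∧ rk p v ≤ u}.Finite := by
  have hcl : ∀ w : ℕ, ∃ I : Ideal R,
      {p : PrimeSpectrum R | rk p v ≤ w} = PrimeSpectrum.zeroLocus (I : Set R) :=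
    fun w => (PrimeSpectrum.isClosed_iff_zeroLocus_ideal _).mp (isClosed_setOf_rk_le v w)
  choose I hI using hcl
  have hfin : (⋃ w ∈ Finset.range (u + 1),
      {p : PrimeSpectrum R | p.asIdeal ∈ (I w).minimalPrimes}).Finite := by
    refine Set.Finite.biUnion (Finset.finite_toSet _) fun w _ => ?_
    refine Set.Finite.preimage ?_ ((I w).finite_minimalPrimes_of_isNoetherianRing R)
    intro p _ q _ hpq
    exact PrimeSpectrum.ext hpq
  refine hfin.subset ?_
  rintro p ⟨hpX, hp1, hp2⟩
  simp only [Set.mem_iUnion, Finset.mem_range, Set.mem_setOf_eq]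
  refine ⟨rk p v, by omega, ?_⟩
  have hpY : p ∈ PrimeSpectrum.zeroLocus (I (rk p v) : Set R) := by
    rw [← hI]
    show rk p v ≤ rk p v
    exact le_rfl
  have hle : I (rk p v) ≤ p.asIdeal := (PrimeSpectrum.mem_zeroLocus _ _).mp hpY
  obtain ⟨q, hqmin, hqle⟩ := Ideal.exists_minimalPrimes_le hle
  let q' : PrimeSpectrum R := ⟨q, hqmin.1.1⟩
  have hq'Y : rk q' v ≤ rk p v := by
    have : q' ∈ PrimeSpectrum.zeroLocus (I (rk p v) : Set R) :=
      (PrimeSpectrum.mem_zeroLocus _ _).mpr hqmin.1.2
    rw [← hI] at this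
    exact this
  have hq'le : q' ≤ p := hqle
  have hq'X := hX p hpX q' hq'le
  rcases eq_or_lt_of_le hq'le with heq | hlt
  · have hpq : p.asIdeal = q := by rw [← heq]
    rw [hpq]
    exact hqmin
  · have h1 := hδ p hpX q' hlt
    have h2 := H q' hq'X
    exfalso
    rcases le_total (u + 1) (δ q' + 1) with h | h
    · rw [min_eq_left h] at h2
      omega
    · rw [min_eq_right h] at h2
      omega


theorem step' [IsNoetherianRing R] (X : Set (PrimeSpectrum R))
    (hX : ∀ p ∈ X, ∀ q : PrimeSpectrum R, q ≤ p → q ∈ X)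
    (δ : PrimeSpectrum R → ℕ) (hδ : ∀ p ∈ X, ∀ q : PrimeSpectrum R, q < p → δ p < δ q)
    (u : ℕ) (v : Fin (u + 1) → ι → R)
    (H : ∀ p ∈ X, min (u + 1) (δ p + 1) ≤ rk p v) :
    ∃ a : Fin u → R, ∀ p ∈ X,
      min u (δ p + 1) ≤ rk p (fun i : Fin u => v (Fin.castSucc i) + a i • v (Fin.last u)) := by
  classical
  have hfin := finite_exceptional' X hX δ hδ u v H
  obtain ⟨a, ha⟩ := exists_fix u v _ hfin.toFinset rfl (fun p hp => by
    rw [Set.Finite.mem_toFinset] at hp
    exact hp.2.2)
  refine ⟨a, fun p hpX => ?_⟩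
  have hcs : ∀ i : Fin u, red p (v (Fin.castSucc i)) =
      red p (v (Fin.castSucc i) + a i • v (Fin.last u)) -
        algebraMap R p.asIdeal.ResidueField (a i) • red p (v (Fin.last u)) := by
    intro i
    rw [map_add, red_smul, add_sub_cancel_right]
  have hS1 : rk p v ≤ rk p (fun i : Fin u => v (Fin.castSucc i) + a i • v (Fin.last u)) + 1 := by
    unfold rk
    apply finrank_span_le_succ _ _ (red p (v (Fin.last u)))
    rintro _ ⟨j, rfl⟩
    refine Fin.lastCases ?_ (fun i => ?_) j
    · exact Submodule.mem_sup_right (Submodule.subset_span rfl)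
    · show red p (v (Fin.castSucc i)) ∈ _
      rw [hcs i]
      exact Submodule.sub_mem _ (Submodule.mem_sup_left (Submodule.subset_span ⟨i, rfl⟩))
        (Submodule.smul_mem _ _ (Submodule.mem_sup_right (Submodule.subset_span rfl)))
  have hm1 := min_le_left u (δ p + 1)
  have hm2 := min_le_right u (δ p + 1)
  by_cases hpE : p ∈ hfin.toFinset
  · have hmem := ha p hpE
    rw [Set.Finite.mem_toFinset] at hpE
    obtain ⟨_, hp1, hp2⟩ := hpE
    have hge : rk p v ≤ rk p (fun i : Fin u => v (Fin.castSucc i) + a i • v (Fin.last u)) := by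
      unfold rk
      apply Submodule.finrank_mono
      apply Submodule.span_le.mpr
      rintro _ ⟨j, rfl⟩
      refine Fin.lastCases ?_ (fun i => ?_) j
      · exact hmem
      · show red p (v (Fin.castSucc i)) ∈ _
        rw [hcs i]
        exact Submodule.sub_mem _ (Submodule.subset_span ⟨i, rfl⟩) (Submodule.smul_mem _ _ hmem)
    omega
  · rw [Set.Finite.mem_toFinset] at hpE
    have hH := H p hpX
    have hnot : ¬ (rk p v = δ p + 1 ∧ rk p v ≤ u) := fun h => hpE ⟨hpX, h⟩
    rcases le_total (u + 1) (δ p + 1) with h | h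
    · rw [min_eq_left h] at hH
      omega
    · rw [min_eq_right h] at hH
      omega


/-- Eisenbud–Evans: a family which is basic up to `δ + 1` on `X` has a combination
`v 0 + ∑ c_j v_j` which is non-zero at all points of `X`. -/
theorem ee' [IsNoetherianRing R] (X : Set (PrimeSpectrum R))
    (hX : ∀ p ∈ X, ∀ q : PrimeSpectrum R, q ≤ p → q ∈ X)
    (δ : PrimeSpectrum R → ℕ) (hδ : ∀ p ∈ X, ∀ q : PrimeSpectrum R, q < p → δ p < δ q) :
    ∀ (u : ℕ) (v : Fin (u + 1) → ι → R), (∀ p ∈ X, min (u + 1) (δ p + 1) ≤ rk p v) →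
      ∃ c : Fin (u + 1) → R, c 0 = 1 ∧ ∀ p ∈ X, red p (∑ j, c j • v j) ≠ 0 := by
  intro u
  induction u with
  | zero =>
    intro v H
    refine ⟨fun _ => 1, rfl, fun p hp h0 => ?_⟩
    have h1 := H p hp
    have h2 : rk p v = 0 := by
      unfold rk
      have : Submodule.span p.asIdeal.ResidueField (Set.range fun j => red p (v j)) = ⊥ := by
        rw [Submodule.span_eq_bot]
        rintro _ ⟨j, rfl⟩
        have hj : j = 0 := by
          apply Fin.ext
          have := j.isLt
          simp only [Fin.val_zero]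
          omega
        subst hj
        simpa using h0
      rw [this, finrank_bot]
    rw [h2] at h1
    rcases le_total (0 + 1) (δ p + 1) with h | h
    · rw [min_eq_left h] at h1
      omega
    · rw [min_eq_right h] at h1
      omega
  | succ u ih =>
    intro v H
    obtain ⟨a, ha⟩ := step' X hX δ hδ (u + 1) v H
    obtain ⟨c', hc'0, hc'⟩ :=
      ih (fun i => v (Fin.castSucc i) + a i • v (Fin.last (u + 1))) ha
    refine ⟨(Fin.snoc c' (∑ i, c' i * a i) : Fin (u + 1 + 1) → R), ?_, fun p hp => ?_⟩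
    · have : (0 : Fin (u + 1 + 1)) = Fin.castSucc 0 := rfl
      rw [this, Fin.snoc_castSucc]
      exact hc'0
    · have hsum : ∑ j, (Fin.snoc c' (∑ i, c' i * a i) : Fin (u + 1 + 1) → R) j • v j =
          ∑ i, c' i • (v (Fin.castSucc i) + a i • v (Fin.last (u + 1))) := by
        rw [Fin.sum_univ_castSucc]
        simp only [Fin.snoc_castSucc, Fin.snoc_last, smul_add, Finset.sum_add_distrib,
          Finset.sum_smul, smul_smul]
      rw [hsum]
      exact hc' p hp


end Rank2

end Groth.Agent.H13.EE
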