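import Groth.Agent.H13.EE2

/-!
# Eisenbud–Evans for finitely generated modules free in low codimension

Helper library (namespace `Groth.Agent.H13.EEMod`) for S13533: a finitely generated module over a
Noetherian ring which is free of rank `k + s` at all primes of height `≤ k` contains `s` elements
spanning a free submodule with quotient free of rank `k` at all primes of height `≤ k`
(provided the associated primes of the ring have height `≤ k`).
-/

set_option autoImplicit false
set_option linter.unusedSectionVars false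
set_option linter.unusedVariables false
set_option linter.style.haveILetI false

universe u v w

namespace Groth.Agent.H13.EEMod

open Module Groth.Agent.H13.EE

/-- Over a local ring, killing a unimodular element of a free module of rank `r' + 1` gives a free
module of rank `r'`. -/
theorem nonempty_quot_equiv {A : Type*} [CommRing A] [IsLocalRing A] {F : Type*} [AddCommGroup F]
    [Module A F] (r' : ℕ) (e : F ≃ₗ[A] (Fin (r' + 1) → A)) (y : F) (ψ : F →ₗ[A] A)
    (h : IsUnit (ψ y)) : Nonempty ((F ⧸ Submodule.span A {y}) ≃ₗ[A] (Fin r' → A)) := by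
  obtain ⟨u, hu⟩ := h
  set ui : A := ((u⁻¹ : Aˣ) : A) with hui
  have hui1 : ui * ψ y = 1 := by rw [← hu]; exact Units.inv_mul u
  let q : F →ₗ[A] F := LinearMap.id - ui • (ψ.smulRight y)
  have hq : ∀ v, q v = v - (ui * ψ v) • y := by
    intro v
    simp [q, LinearMap.smulRight_apply, smul_smul]
  have hψq : ∀ v, ψ (q v) = 0 := by
    intro v
    rw [hq, map_sub, map_smul, smul_eq_mul, mul_assoc, mul_comm (ψ v), ← mul_assoc, hui1, one_mul,
      sub_self]
  let K := LinearMap.ker ψ
  let π : F →ₗ[A] K := q.codRestrict K (fun v => LinearMap.mem_ker.mpr (hψq v))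
  have hπval : ∀ v, ((π v : K) : F) = q v := fun v => rfl
  have hπK : ∀ k : K, π k = k := by
    intro k
    apply Subtype.ext
    rw [hπval, hq, LinearMap.mem_ker.mp k.2, mul_zero, zero_smul, sub_zero]
  have hπy : π y = 0 := by
    apply Subtype.ext
    rw [hπval, hq, hui1, one_smul, sub_self]
    rfl
  have hsurj : Function.Surjective π := fun k => ⟨k, hπK k⟩
  have hker : LinearMap.ker π = Submodule.span A {y} := by
    apply le_antisymm
    · intro v hv
      have h0 : q v = 0 := by
        rw [← hπval, LinearMap.mem_ker.mp hv]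
        rfl
      rw [hq, sub_eq_zero] at h0
      rw [h0]
      exact Submodule.smul_mem _ _ (Submodule.subset_span rfl)
    · rw [Submodule.span_le, Set.singleton_subset_iff]
      exact LinearMap.mem_ker.mpr hπy
  let toProd : F →ₗ[A] K × A := π.prod ψ
  let ofProd : K × A →ₗ[A] F := K.subtype.coprod (ui • LinearMap.toSpanSingleton A F y)
  have hof : ∀ (k : K) (a : A), ofProd (k, a) = (k : F) + (ui * a) • y := by
    intro k a
    simp [ofProd, smul_smul]
  have h₂ : ∀ v, ofProd (toProd v) = v := by
    intro v
    show ofProd (π v, ψ v) = v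
    rw [hof, hπval, hq, sub_add_cancel]
  have h₁ : ∀ x, toProd (ofProd x) = x := by
    rintro ⟨k, a⟩
    rw [hof]
    apply Prod.ext
    · show π ((k : F) + (ui * a) • y) = k
      rw [map_add, map_smul, hπy, smul_zero, add_zero, hπK]
    · show ψ ((k : F) + (ui * a) • y) = a
      rw [map_add, map_smul, LinearMap.mem_ker.mp k.2, zero_add, smul_eq_mul, mul_comm ui a,
        mul_assoc, hui1, mul_one]
  let eP : F ≃ₗ[A] K × A :=
    LinearEquiv.ofLinearMap toProd ofProd (LinearMap.ext h₁) (LinearMap.ext h₂)
  haveI : Module.Free A F := Module.Free.of_equiv e.symm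
  haveI : Module.Finite A F := Module.Finite.equiv e.symm
  haveI : Module.Projective A K :=
    Module.Projective.of_split K.subtype π (LinearMap.ext hπK)
  haveI : Module.Finite A K := Module.Finite.of_surjective π hsurj
  haveI : Module.Free A K := Module.free_of_flat_of_isLocalRing
  have hrank : finrank A K = r' := by
    have h1 : finrank A F = r' + 1 := by
      rw [LinearEquiv.finrank_eq e, Module.finrank_fin_fun]
    have h2 : finrank A F = finrank A K + 1 := by
      rw [LinearEquiv.finrank_eq eP, Module.finrank_prod, Module.finrank_self]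
    omega
  have eK : K ≃ₗ[A] (Fin r' → A) :=
    LinearEquiv.ofFinrankEq K (Fin r' → A) (by rw [hrank, Module.finrank_fin_fun])
  exact ⟨((Submodule.quotEquivOfEq _ _ hker.symm).trans
    (π.quotKerEquivOfSurjective hsurj)).trans eK⟩

/-- Killing an element which is unimodular at `p` drops the local rank by one. -/
theorem nonempty_loc_quot_equiv {R : Type u} [CommRing R] (p : Ideal R) [p.IsPrime]
    {M : Type v} [AddCommGroup M] [Module R M] (r' : ℕ)
    (e : LocalizedModule p.primeCompl M ≃ₗ[Localization.AtPrime p]
      (Fin (r' + 1) → Localization.AtPrime p))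
    (m : M) (φ : M →ₗ[R] R) (hφ : φ m ∉ p) :
    Nonempty (LocalizedModule p.primeCompl (M ⧸ Submodule.span R {m}) ≃ₗ[Localization.AtPrime p]
      (Fin r' → Localization.AtPrime p)) := by
  let S := p.primeCompl
  let Rp := Localization.AtPrime p
  let f := LocalizedModule.mkLinearMap S M
  let ψ₀ : LocalizedModule S M →ₗ[R] Rp :=
    IsLocalizedModule.map S f (Algebra.linearMap R Rp) φ
  let ψ : LocalizedModule S M →ₗ[Rp] Rp := ψ₀.extendScalarsOfIsLocalization S Rp
  have hψ : ψ (f m) = algebraMap R Rp (φ m) := by
    show ψ₀ (f m) = _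
    exact IsLocalizedModule.map_apply S f (Algebra.linearMap R Rp) φ m
  have hunit : IsUnit (ψ (f m)) := by
    rw [hψ]
    exact IsLocalization.map_units Rp (⟨φ m, hφ⟩ : S)
  obtain ⟨e1⟩ := nonempty_quot_equiv r' e (f m) ψ hunit
  have hspan : (Submodule.span R {m}).localized S = Submodule.span Rp {f m} := by
    show (Submodule.span R {m}).localized' Rp S f = _
    rw [Submodule.localized'_span, Set.image_singleton]
  exact ⟨(localizedQuotientEquiv S (Submodule.span R {m})).symm.trans
    ((Submodule.quotEquivOfEq _ _ hspan).trans e1)⟩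

/-- Local freeness transfers along linear equivalences. -/
theorem nonempty_loc_equiv_of_equiv {R : Type u} [CommRing R] (p : Ideal R) [p.IsPrime]
    {M : Type v} [AddCommGroup M] [Module R M] {M' : Type w} [AddCommGroup M'] [Module R M']
    (eM : M ≃ₗ[R] M') (n : ℕ)
    (h : Nonempty (LocalizedModule p.primeCompl M ≃ₗ[Localization.AtPrime p]
      (Fin n → Localization.AtPrime p))) :
    Nonempty (LocalizedModule p.primeCompl M' ≃ₗ[Localization.AtPrime p]
      (Fin n → Localization.AtPrime p)) := by
  obtain ⟨e⟩ := h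
  exact ⟨(IsLocalizedModule.mapEquiv p.primeCompl (LocalizedModule.mkLinearMap p.primeCompl M')
    (LocalizedModule.mkLinearMap p.primeCompl M) (Localization.AtPrime p) eM.symm).trans e⟩

/-- If `M` is free of rank `r` at `p`, then the images of generators of `M` under generators of
the dual of `M` have rank at least `r` at `p`. -/
theorem le_rk {R : Type u} [CommRing R] (p : PrimeSpectrum R) {M : Type v} [AddCommGroup M]
    [Module R M] [Module.FinitePresentation R M] (r : ℕ)
    (e : LocalizedModule p.asIdeal.primeCompl M ≃ₗ[Localization.AtPrime p.asIdeal]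
      (Fin r → Localization.AtPrime p.asIdeal))
    {L : ℕ} (φ : Fin L → (M →ₗ[R] R)) (hφ : Submodule.span R (Set.range φ) = ⊤)
    {J : Type*} (g : J → M) (hg : Submodule.span R (Set.range g) = ⊤) :
    r ≤ rk p (fun n => LinearMap.pi φ (g n)) := by
  classical
  let S := p.asIdeal.primeCompl
  let Rp := Localization.AtPrime p.asIdeal
  let κ := p.asIdeal.ResidueField
  let f := LocalizedModule.mkLinearMap S M
  let W : Submodule κ (Fin L → κ) :=
    Submodule.span κ (Set.range fun n => red p (LinearMap.pi φ (g n)))
  have hmem : ∀ x : M, red p (LinearMap.pi φ x) ∈ W := by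
    intro x
    have hx : x ∈ Submodule.span R (Set.range g) := by rw [hg]; trivial
    induction hx using Submodule.span_induction with
    | mem x hx =>
      obtain ⟨n, rfl⟩ := hx
      exact Submodule.subset_span ⟨n, rfl⟩
    | zero => rw [map_zero, map_zero]; exact W.zero_mem
    | add x y _ _ hx hy => rw [map_add, map_add]; exact W.add_mem hx hy
    | smul a x _ hx => rw [map_smul, red_smul]; exact W.smul_mem _ hx
  have hx : ∀ i : Fin r, ∃ (x : M) (s : S),
      s • e.symm (Pi.single i (1 : Rp)) = f x := by
    intro i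
    obtain ⟨⟨x, s⟩, h⟩ := IsLocalizedModule.surj S f (e.symm (Pi.single i (1 : Rp)))
    exact ⟨x, s, h⟩
  choose x s hxs using hx
  have hh : ∀ i : Fin r, ∃ (h : M →ₗ[R] R) (t : S),
      ∀ y : M, algebraMap R Rp (h y) = (t : R) • (e (f y)) i := by
    intro i
    let β : M →ₗ[R] Rp :=
      ((LinearMap.proj i : (Fin r → Rp) →ₗ[Rp] Rp).restrictScalars R) ∘ₗ
        (e.toLinearMap.restrictScalars R) ∘ₗ f
    obtain ⟨h, t, ht⟩ :=
      Module.FinitePresentation.exists_lift_of_isLocalizedModule S (Algebra.linearMap R Rp) β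
    refine ⟨h, t, fun y => ?_⟩
    have := LinearMap.congr_fun ht y
    exact this
  choose h t hht using hh
  have hefx : ∀ j, e (f (x j)) =
      algebraMap R Rp (s j : R) • (Pi.single j (1 : Rp) : Fin r → Rp) := by
    intro j
    rw [← hxs j]
    have h1 : (s j • e.symm (Pi.single j (1 : Rp)) : LocalizedModule S M) =
        algebraMap R Rp (s j : R) • e.symm (Pi.single j (1 : Rp)) := by
      rw [algebraMap_smul]; rfl
    rw [h1, map_smul, e.apply_symm_apply]
  have hne : ∀ i j, i ≠ j → h i (x j) ∈ p.asIdeal := by
    intro i j hij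
    have h0 : algebraMap R Rp (h i (x j)) = 0 := by
      rw [hht, hefx, Pi.smul_apply, Pi.single_apply, if_neg hij, smul_zero, smul_zero]
    rw [← IsLocalization.AtPrime.to_map_mem_maximal_iff Rp p.asIdeal, h0]
    exact Ideal.zero_mem _
  have hdiag : ∀ i, h i (x i) ∉ p.asIdeal := by
    intro i hi
    have h1 : algebraMap R Rp (h i (x i)) = algebraMap R Rp ((t i : R) * (s i : R)) := by
      rw [hht, hefx, Pi.smul_apply, Pi.single_eq_same, smul_eq_mul, mul_one, Algebra.smul_def,
        map_mul]
    rw [← IsLocalization.AtPrime.to_map_mem_maximal_iff Rp p.asIdeal, h1,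
      IsLocalization.AtPrime.to_map_mem_maximal_iff Rp p.asIdeal] at hi
    exact (Ideal.mem_primeCompl_iff.mp (S.mul_mem (t i).2 (s i).2)) hi
  have ha : ∀ i : Fin r, ∃ a : Fin L → R, ∑ l, a l • φ l = h i := by
    intro i
    have : h i ∈ Submodule.span R (Set.range φ) := by rw [hφ]; trivial
    exact (Submodule.mem_span_range_iff_exists_fun R).mp this
  choose a haφ using ha
  let Λ : Fin r → ((Fin L → κ) →ₗ[κ] κ) := fun i =>
    ∑ l, algebraMap R κ (a i l) • (LinearMap.proj l : (Fin L → κ) →ₗ[κ] κ)
  have hΛ : ∀ i (y : M), Λ i (red p (LinearMap.pi φ y)) = algebraMap R κ (h i y) := by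
    intro i y
    rw [← haφ i]
    simp [Λ, red_apply, LinearMap.sum_apply, Algebra.smul_def]
    rfl
  have hli : LinearIndependent κ (fun j : Fin r => red p (LinearMap.pi φ (x j))) := by
    rw [Fintype.linearIndependent_iff]
    intro b hb i
    have h1 := congrArg (Λ i) hb
    rw [map_sum, map_zero] at h1
    simp only [map_smul, hΛ, smul_eq_mul] at h1
    rw [Finset.sum_eq_single i] at h1
    · have hnz : algebraMap R κ (h i (x i)) ≠ 0 := by
        rw [Ne, Ideal.algebraMap_residueField_eq_zero]
        exact hdiag i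
      exact (mul_eq_zero.mp h1).resolve_right hnz
    · intro j _ hji
      have h2 : algebraMap R κ (h i (x j)) = 0 :=
        Ideal.algebraMap_residueField_eq_zero.mpr (hne i j (Ne.symm hji))
      rw [h2, mul_zero]
    · intro hi
      exact absurd (Finset.mem_univ i) hi
  have hcard := finrank_span_eq_card hli
  have hle : Submodule.span κ (Set.range fun j : Fin r => red p (LinearMap.pi φ (x j))) ≤ W := by
    rw [Submodule.span_le]
    rintro _ ⟨j, rfl⟩
    exact hmem (x j)
  have hfin := Submodule.finrank_mono hle
  rw [hcard, Fintype.card_fin] at hfin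
  exact hfin

/-- The dual of a finite module over a Noetherian ring is finitely generated. -/
theorem exists_dual_gens {R : Type u} [CommRing R] [IsNoetherianRing R] (M : Type v)
    [AddCommGroup M] [Module R M] [Module.Finite R M] :
    ∃ (L : ℕ) (φ : Fin L → (M →ₗ[R] R)), Submodule.span R (Set.range φ) = ⊤ := by
  obtain ⟨n, f, hf⟩ := Module.Finite.exists_fin' R M
  have hinj : Function.Injective f.dualMap := LinearMap.dualMap_injective_of_surjective hf
  haveI : Module.Finite R (Module.Dual R M) := Module.Finite.of_injective f.dualMap hinj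
  exact Module.Finite.exists_fin (R := R) (M := M →ₗ[R] R)

/-- An element which is unimodular at all primes of height `≤ k` has zero annihilator if all
associated primes of the ring have height `≤ k`. -/
theorem smul_eq_zero_imp {R : Type u} [CommRing R] [IsNoetherianRing R] (k : ℕ)
    (hAss : ∀ p ∈ associatedPrimes R R, p.height ≤ k) {M : Type v} [AddCommGroup M] [Module R M]
    (m₁ : M)
    (hm₁ : ∀ p : PrimeSpectrum R, p.asIdeal.height ≤ k → ∃ φ : M →ₗ[R] R, φ m₁ ∉ p.asIdeal)
    (a : R) (ha : a • m₁ = 0) : a = 0 := by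
  by_contra hne
  obtain ⟨P, hP, hle⟩ := exists_le_isAssociatedPrime_of_isNoetherianRing (R := R) (M := R) a hne
  have hPprime : P.IsPrime := hP.isPrime
  obtain ⟨φ, hφ⟩ := hm₁ ⟨P, hPprime⟩ (hAss P hP)
  apply hφ
  apply hle
  rw [Submodule.mem_colon_singleton, Submodule.mem_bot, smul_eq_mul, mul_comm, ← smul_eq_mul,
    ← map_smul, ha, map_zero]

/-- Eisenbud–Evans: main inductive statement. -/
theorem main {R : Type u} [CommRing R] [IsNoetherianRing R] (k : ℕ)
    (hAss : ∀ p ∈ associatedPrimes R R, p.height ≤ k) :
    ∀ (s : ℕ) (M : Type v) [AddCommGroup M] [Module R M] [Module.Finite R M],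
      (∀ p : PrimeSpectrum R, p.asIdeal.height ≤ k →
        Nonempty (LocalizedModule p.asIdeal.primeCompl M ≃ₗ[Localization.AtPrime p.asIdeal]
          (Fin (k + s) → Localization.AtPrime p.asIdeal))) →
      ∃ m : Fin s → M, Function.Injective (Fintype.linearCombination R m) ∧
        ∀ p : PrimeSpectrum R, p.asIdeal.height ≤ k →
          Nonempty (LocalizedModule p.asIdeal.primeCompl (M ⧸ Submodule.span R (Set.range m))
            ≃ₗ[Localization.AtPrime p.asIdeal] (Fin k → Localization.AtPrime p.asIdeal)) := by
  intro s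
  induction s with
  | zero =>
    intro M _ _ _ hM
    refine ⟨Fin.elim0, Function.injective_of_subsingleton _, fun p hp => ?_⟩
    have hbot : Submodule.span R (Set.range (Fin.elim0 : Fin 0 → M)) = ⊥ := by
      rw [Set.range_eq_empty, Submodule.span_empty]
    exact nonempty_loc_equiv_of_equiv p.asIdeal (Submodule.quotEquivOfEqBot _ hbot).symm k
      (hM p hp)
  | succ s ih =>
    intro M _ _ _ hM
    haveI : Module.FinitePresentation R M := Module.finitePresentation_of_finite R M
    obtain ⟨L, φ, hφ⟩ := exists_dual_gens (R := R) M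
    obtain ⟨N, g0, hg0⟩ := Module.Finite.exists_fin (R := R) (M := M)
    let g : Fin (N + 1) → M := Fin.cons 0 g0
    have hg : Submodule.span R (Set.range g) = ⊤ := by
      rw [eq_top_iff, ← hg0]
      apply Submodule.span_mono
      rintro _ ⟨j, rfl⟩
      exact ⟨j.succ, by simp [g]⟩
    let X : Set (PrimeSpectrum R) := {p | p.asIdeal.height ≤ k}
    have hX : ∀ p ∈ X, ∀ q : PrimeSpectrum R, q ≤ p → q ∈ X := by
      intro p hp q hqp
      exact le_trans (Ideal.height_mono hqp) hp
    let δ : PrimeSpectrum R → ℕ := fun p => k - p.asIdeal.height.toNat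
    have hδ : ∀ p ∈ X, ∀ q : PrimeSpectrum R, q < p → δ p < δ q := by
      intro p hp q hqp
      have hlt : q.asIdeal.height < p.asIdeal.height :=
        Ideal.height_strict_mono_of_isPrime (I := q.asIdeal) (J := p.asIdeal) hqp
      have hp' : p.asIdeal.height ≤ (k : ℕ∞) := hp
      obtain ⟨a, ha⟩ := ENat.ne_top_iff_exists.mp (ne_top_of_le_ne_top (ENat.natCast_ne_top k) hp')
      obtain ⟨b, hb⟩ := ENat.ne_top_iff_exists.mp (ne_top_of_lt hlt)
      have hak : a ≤ k := by
        rw [← ha] at hp'
        exact_mod_cast hp'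
      have hba : b < a := by
        rw [← ha, ← hb] at hlt
        exact_mod_cast hlt
      show k - p.asIdeal.height.toNat < k - q.asIdeal.height.toNat
      rw [← ha, ← hb, ENat.toNat_natCast, ENat.toNat_natCast]
      omega
    let v : Fin (N + 1) → Fin L → R := fun n => LinearMap.pi φ (g n)
    have H : ∀ p ∈ X, min (N + 1) (δ p + 1) ≤ rk p v := by
      intro p hp
      obtain ⟨e⟩ := hM p hp
      have h1 : k + (s + 1) ≤ rk p v := le_rk p (k + (s + 1)) e φ hφ g hg
      have h2 : δ p ≤ k := Nat.sub_le _ _
      exact le_trans (min_le_right _ _) (by omega)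
    obtain ⟨c, -, hc⟩ := ee' X hX δ hδ N v H
    obtain ⟨m₁, hm₁def⟩ : ∃ m₁ : M, m₁ = ∑ j, c j • g j := ⟨_, rfl⟩
    have hm₁v : LinearMap.pi φ m₁ = ∑ j, c j • v j := by
      simp only [hm₁def, v, map_sum, map_smul]
    have hm₁ : ∀ p : PrimeSpectrum R, p.asIdeal.height ≤ k →
        ∃ ψ : M →ₗ[R] R, ψ m₁ ∉ p.asIdeal := by
      intro p hp
      have h1 := hc p hp
      rw [← hm₁v] at h1
      obtain ⟨l, hl⟩ := Function.ne_iff.mp h1
      refine ⟨φ l, fun hmem => hl ?_⟩
      rw [red_apply, Pi.zero_apply]
      exact Ideal.algebraMap_residueField_eq_zero.mpr hmem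
    let S0 : Submodule R M := Submodule.span R {m₁}
    have hM' : ∀ p : PrimeSpectrum R, p.asIdeal.height ≤ k →
        Nonempty (LocalizedModule p.asIdeal.primeCompl (M ⧸ S0)
          ≃ₗ[Localization.AtPrime p.asIdeal] (Fin (k + s) → Localization.AtPrime p.asIdeal)) := by
      intro p hp
      obtain ⟨e⟩ := hM p hp
      obtain ⟨ψ, hψ⟩ := hm₁ p hp
      exact nonempty_loc_quot_equiv p.asIdeal (k + s) e m₁ ψ hψ
    obtain ⟨m', hm'inj, hm'free⟩ := ih (M ⧸ S0) hM'
    have hlift : ∀ j : Fin s, ∃ y : M, S0.mkQ y = m' j :=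
      fun j => Submodule.mkQ_surjective S0 (m' j)
    choose mt hmt using hlift
    let m : Fin (s + 1) → M := Fin.cons m₁ mt
    refine ⟨m, ?_, ?_⟩
    · rw [injective_iff_map_eq_zero]
      intro a ha
      rw [Fintype.linearCombination_apply, Fin.sum_univ_succ] at ha
      have ha' : a 0 • m₁ + ∑ j : Fin s, a j.succ • mt j = 0 := by simpa [m] using ha
      have h0 : S0.mkQ m₁ = 0 := by
        rw [Submodule.mkQ_apply, Submodule.Quotient.mk_eq_zero]
        exact Submodule.subset_span rfl
      have h2 : Fintype.linearCombination R m' (fun j => a j.succ) = 0 := by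
        rw [Fintype.linearCombination_apply]
        have h1 := congrArg S0.mkQ ha'
        rw [map_add, map_smul, map_sum, map_zero, h0, smul_zero, zero_add] at h1
        rw [← h1]
        refine Finset.sum_congr rfl fun j _ => ?_
        rw [map_smul, hmt]
      have h3 : (fun j : Fin s => a j.succ) = 0 := hm'inj (by rw [h2, map_zero])
      have h4 : a 0 • m₁ = 0 := by
        have h5 : ∑ j : Fin s, a j.succ • mt j = 0 := by
          apply Finset.sum_eq_zero
          intro j _
          rw [show a j.succ = 0 from congrFun h3 j, zero_smul]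
        rw [h5, add_zero] at ha'
        exact ha'
      have h5 : a 0 = 0 := smul_eq_zero_imp k hAss m₁ hm₁ (a 0) h4
      funext j
      exact Fin.cases h5 (fun i => congrFun h3 i) j
    · intro p hp
      let T0 : Submodule R M := Submodule.span R (Set.range mt)
      have hmap : T0.map S0.mkQ = Submodule.span R (Set.range m') := by
        rw [Submodule.map_span]
        congr 1
        ext z
        constructor
        · rintro ⟨_, ⟨j, rfl⟩, rfl⟩
          exact ⟨j, (hmt j).symm⟩
        · rintro ⟨j, rfl⟩
          exact ⟨mt j, ⟨j, rfl⟩, hmt j⟩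
      have hsup : S0 ⊔ T0 = Submodule.span R (Set.range m) := by
        show Submodule.span R {m₁} ⊔ Submodule.span R (Set.range mt) =
          Submodule.span R (Set.range (Fin.cons m₁ mt : Fin (s + 1) → M))
        rw [Fin.range_cons, Submodule.span_insert]
      let E1 : ((M ⧸ S0) ⧸ Submodule.span R (Set.range m')) ≃ₗ[R]
          (M ⧸ Submodule.span R (Set.range m)) :=
        (Submodule.quotEquivOfEq _ _ hmap.symm).trans
          ((Submodule.quotientQuotientEquivQuotientSup S0 T0).trans
            (Submodule.quotEquivOfEq _ _ hsup))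
      exact nonempty_loc_equiv_of_equiv p.asIdeal E1 k (hm'free p hp)

end Groth.Agent.H13.EEMod
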