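import Mathlib
import Groth.Prelude.Def_W4c1famcyclesFFR

/-!
# Modules with a finite free resolution: localisation, freeness at associated primes

Helper library (namespace `Groth.Agent.H13.FFR`) for S14073.
-/

set_option autoImplicit false
set_option linter.unusedSectionVars false
set_option linter.unusedVariables false
set_option linter.style.haveILetI false

universe u

namespace Groth.Agent.H13.FFR

open Module TensorProduct

/-- A flexible version of `FamCyc.HasFiniteFreeResolutionLE`: the free modules and the syzygies are
arbitrary modules in the same universe. -/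
def FFR (A : Type u) [CommRing A] : ℕ → ∀ (M : Type u) [AddCommGroup M] [Module A M], Prop
  | 0, M, _, _ => Module.Free A M ∧ Module.Finite A M
  | n + 1, M, _, _ => ∃ (F K : Type u) (_ : AddCommGroup F) (_ : Module A F) (_ : AddCommGroup K)
      (_ : Module A K) (i : K →ₗ[A] F) (f : F →ₗ[A] M), Module.Free A F ∧ Module.Finite A F ∧
        Function.Injective i ∧ Function.Exact i f ∧ Function.Surjective f ∧ FFR A n K

theorem ffr_zero {A : Type u} [CommRing A] {M : Type u} [AddCommGroup M] [Module A M] :
    FFR A 0 M ↔ Module.Free A M ∧ Module.Finite A M := Iff.rfl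

theorem ffr_succ {A : Type u} [CommRing A] {n : ℕ} {M : Type u} [AddCommGroup M] [Module A M] :
    FFR A (n + 1) M ↔ ∃ (F K : Type u) (_ : AddCommGroup F) (_ : Module A F) (_ : AddCommGroup K)
      (_ : Module A K) (i : K →ₗ[A] F) (f : F →ₗ[A] M), Module.Free A F ∧ Module.Finite A F ∧
        Function.Injective i ∧ Function.Exact i f ∧ Function.Surjective f ∧ FFR A n K := Iff.rfl

theorem of_has {A : Type u} [CommRing A] : ∀ (n : ℕ) (M : Type u) [AddCommGroup M] [Module A M],
    FamCyc.HasFiniteFreeResolutionLE A n M → FFR A n M := by
  intro n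
  induction n with
  | zero => intro M _ _ h; exact h
  | succ n ih =>
    intro M _ _ h
    obtain ⟨k, f, hf, hK⟩ := h
    exact ⟨Fin k → A, LinearMap.ker f, inferInstance, inferInstance, inferInstance, inferInstance,
      (LinearMap.ker f).subtype, f, inferInstance, inferInstance, Subtype.val_injective,
      LinearMap.exact_subtype_ker_map f, hf, ih _ hK⟩

theorem finite {A : Type u} [CommRing A] : ∀ (n : ℕ) (M : Type u) [AddCommGroup M] [Module A M],
    FFR A n M → Module.Finite A M := by
  intro n
  cases n with
  | zero => intro M _ _ h; exact h.2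
  | succ n =>
    intro M _ _ h
    obtain ⟨F, K, _, _, _, _, i, f, hfree, hfin, hi, hex, hf, hK⟩ := h
    exact Module.Finite.of_surjective f hf

/-- Finite free resolutions localise. -/
theorem localized {A : Type u} [CommRing A] (S : Submonoid A) :
    ∀ (n : ℕ) (M : Type u) [AddCommGroup M] [Module A M],
      FFR A n M → FFR (Localization S) n (LocalizedModule S M) := by
  intro n
  induction n with
  | zero =>
    intro M _ _ h
    obtain ⟨hfree, hfin⟩ := h
    exact ⟨Module.free_of_isLocalizedModule S (LocalizedModule.mkLinearMap S M), inferInstance⟩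
  | succ n ih =>
    intro M _ _ h
    obtain ⟨F, K, _, _, _, _, i, f, hfree, hfin, hi, hex, hf, hK⟩ := h
    refine ⟨LocalizedModule S F, LocalizedModule S K, inferInstance, inferInstance, inferInstance,
      inferInstance, LocalizedModule.map S i, LocalizedModule.map S f,
      Module.free_of_isLocalizedModule S (LocalizedModule.mkLinearMap S F), inferInstance,
      LocalizedModule.map_injective S i hi, ?_, LocalizedModule.map_surjective S f hf, ih K hK⟩
    exact LocalizedModule.map_exact S i f hex

/-- Over a local ring whose maximal ideal kills a nonzero element, an injective map from a free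
module stays injective modulo the maximal ideal. -/
theorem lTensor_residueField_injective_of_socle {R : Type u} [CommRing R] [IsLocalRing R]
    (z : R) (hz : z ≠ 0) (hmz : ∀ a ∈ IsLocalRing.maximalIdeal R, a * z = 0)
    {K F : Type u} [AddCommGroup K] [Module R K] [AddCommGroup F] [Module R F] [Module.Free R K]
    (i : K →ₗ[R] F) (hi : Function.Injective i) :
    Function.Injective (i.lTensor (IsLocalRing.ResidueField R)) := by
  have hkill : ∀ (N : Type u) [AddCommGroup N] [Module R N],
      ∀ w ∈ (IsLocalRing.maximalIdeal R) • (⊤ : Submodule R N), z • w = 0 := by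
    intro N _ _ w hw
    refine Submodule.smul_induction_on hw (fun a ha w _ => ?_) (fun x y hx hy => ?_)
    · rw [smul_smul, mul_comm, hmz a ha, zero_smul]
    · rw [smul_add, hx, hy, add_zero]
  rw [injective_iff_map_eq_zero]
  intro x hx
  obtain ⟨v, rfl⟩ := TensorProduct.mk_surjective R K (IsLocalRing.ResidueField R)
    Ideal.Quotient.mk_surjective x
  have hx' : (1 : IsLocalRing.ResidueField R) ⊗ₜ[R] i v = 0 := by
    simpa using hx
  have h1 : i v ∈ (IsLocalRing.maximalIdeal R) • (⊤ : Submodule R F) := by
    rw [← Submodule.Quotient.mk_eq_zero,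
      ← TensorProduct.quotTensorEquivQuotSMul_mk_one_tmul (IsLocalRing.maximalIdeal R) (i v)]
    erw [hx']
    exact map_zero _
  have h2 : z • v = 0 := by
    apply hi
    rw [map_smul, map_zero]
    exact hkill F _ h1
  let b := Module.Free.chooseBasis R K
  have h3 : ∀ j, b.repr v j ∈ IsLocalRing.maximalIdeal R := by
    intro j
    by_contra hj
    have hu : IsUnit (b.repr v j) := by
      by_contra hnu
      exact hj ((IsLocalRing.mem_maximalIdeal _).mpr hnu)
    have h4 : z * b.repr v j = 0 := by
      have := congrArg (fun w => b.repr w j) h2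
      simpa using this
    exact hz ((IsUnit.mul_left_eq_zero hu).mp h4)
  have h5 : v ∈ (IsLocalRing.maximalIdeal R) • (⊤ : Submodule R K) := by
    rw [← b.linearCombination_repr v, Finsupp.linearCombination_apply]
    refine Submodule.sum_mem _ fun j _ => ?_
    exact Submodule.smul_mem_smul (h3 j) Submodule.mem_top
  have h6 : (1 : R ⧸ IsLocalRing.maximalIdeal R) ⊗ₜ[R] v =
      (0 : (R ⧸ IsLocalRing.maximalIdeal R) ⊗[R] K) := by
    apply (TensorProduct.quotTensorEquivQuotSMul K (IsLocalRing.maximalIdeal R)).injective
    rw [map_zero, TensorProduct.quotTensorEquivQuotSMul_mk_one_tmul, Submodule.Quotient.mk_eq_zero]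
    exact h5
  exact h6

/-- Over a local ring whose maximal ideal kills a nonzero element, modules with a finite free
resolution are free. -/
theorem free_of_socle {R : Type u} [CommRing R] [IsLocalRing R]
    (z : R) (hz : z ≠ 0) (hmz : ∀ a ∈ IsLocalRing.maximalIdeal R, a * z = 0) :
    ∀ (n : ℕ) (N : Type u) [AddCommGroup N] [Module R N], FFR R n N → Module.Free R N := by
  intro n
  induction n with
  | zero => intro N _ _ h; exact h.1
  | succ n ih =>
    intro N _ _ h
    obtain ⟨F, K, _, _, _, _, i, f, hfree, hfin, hi, hex, hf, hK⟩ := h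
    haveI : Module.Free R K := ih K hK
    haveI : Module.Finite R K := finite n K hK
    exact Module.free_of_lTensor_residueField_injective i f hf hex
      (lTensor_residueField_injective_of_socle z hz hmz i hi)

/-- The localisation at an associated prime has a nonzero element killed by the maximal ideal. -/
theorem exists_socle_of_ass {A : Type u} [CommRing A] [IsNoetherianRing A] (P : Ideal A)
    [P.IsPrime] (hP : P ∈ associatedPrimes A A) :
    ∃ z : Localization.AtPrime P, z ≠ 0 ∧
      ∀ a ∈ IsLocalRing.maximalIdeal (Localization.AtPrime P), a * z = 0 := by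
  obtain ⟨_, y, hy⟩ := isAssociatedPrime_iff.mp hP
  refine ⟨algebraMap A (Localization.AtPrime P) y, ?_, ?_⟩
  · intro h0
    rw [IsLocalization.map_eq_zero_iff P.primeCompl] at h0
    obtain ⟨s, hs⟩ := h0
    have hmem : (s : A) ∈ (⊥ : Submodule A A).colon {y} := by
      rw [Submodule.mem_colon_singleton, Submodule.mem_bot, smul_eq_mul]
      exact hs
    exact s.2 ((SetLike.ext_iff.mp hy (s : A)).mpr hmem)
  · intro a ha
    rw [← Localization.AtPrime.map_eq_maximalIdeal] at ha
    refine Submodule.span_induction (p := fun a _ => a * algebraMap A (Localization.AtPrime P) y = 0)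
      ?_ ?_ ?_ ?_ ha
    · rintro _ ⟨x, hx, rfl⟩
      have hxy : x * y = 0 := by
        have hx' : x ∈ (⊥ : Submodule A A).colon {y} := (SetLike.ext_iff.mp hy x).mp hx
        rw [Submodule.mem_colon_singleton, Submodule.mem_bot, smul_eq_mul] at hx'
        exact hx'
      rw [← map_mul, hxy, map_zero]
    · rw [zero_mul]
    · intro x y' _ _ hx hy'
      rw [add_mul, hx, hy', add_zero]
    · intro c x _ hx
      rw [smul_eq_mul, mul_assoc, hx, mul_zero]

/-- Modules with a finite free resolution are free at the associated primes of the ring. -/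
theorem free_localized_of_ass {A : Type u} [CommRing A] [IsNoetherianRing A] (P : Ideal A)
    [P.IsPrime] (hP : P ∈ associatedPrimes A A) (n : ℕ) (M : Type u) [AddCommGroup M] [Module A M]
    (hM : FFR A n M) :
    Module.Free (Localization.AtPrime P) (LocalizedModule P.primeCompl M) := by
  obtain ⟨z, hz, hmz⟩ := exists_socle_of_ass P hP
  exact free_of_socle z hz hmz n _ (localized P.primeCompl n M hM)

/-- An element vanishing in the localisations at all associated primes is zero. -/
theorem eq_zero_of_forall_ass {A : Type u} [CommRing A] [IsNoetherianRing A] (x : A)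
    (h : ∀ (P : Ideal A) [P.IsPrime], P ∈ associatedPrimes A A →
      algebraMap A (Localization.AtPrime P) x = 0) : x = 0 := by
  by_contra hx
  obtain ⟨P, hP, hle⟩ := exists_le_isAssociatedPrime_of_isNoetherianRing (R := A) (M := A) x hx
  haveI : P.IsPrime := hP.isPrime
  have h0 := h P hP
  rw [IsLocalization.map_eq_zero_iff P.primeCompl] at h0
  obtain ⟨s, hs⟩ := h0
  have : (s : A) ∈ P := by
    apply hle
    rw [Submodule.mem_colon_singleton, Submodule.mem_bot, smul_eq_mul]
    exact hs
  exact s.2 this

end Groth.Agent.H13.FFR
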