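import Groth.Agent.H13.FFRBasic

/-!
# The determinant of an endomorphism of a module with a finite free resolution

Helper library (namespace `Groth.Agent.H13.FFR`) for S14073: existence (via characteristic
polynomials, divided at the associated primes) and uniqueness.
-/

set_option autoImplicit false
set_option linter.unusedSectionVars false
set_option linter.unusedVariables false
set_option linter.style.haveILetI false

universe u

namespace Groth.Agent.H13.FFR

open Module TensorProduct Polynomial

/-- The characteristic polynomial of a free module commutes with localisation. -/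
theorem charpoly_localizedModule_map {A : Type u} [CommRing A] (S : Submonoid A) {F : Type u}
    [AddCommGroup F] [Module A F] [Module.Free A F] [Module.Finite A F]
    [Module.Free (Localization S) (LocalizedModule S F)] (ψ : F →ₗ[A] F) :
    (LocalizedModule.map S ψ).charpoly = ψ.charpoly.map (algebraMap A (Localization S)) := by
  let e : Localization S ⊗[A] F ≃ₗ[Localization S] LocalizedModule S F :=
    (IsLocalizedModule.isBaseChange S (Localization S) (LocalizedModule.mkLinearMap S F)).equiv
  have he : ∀ (a : Localization S) (m : F),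
      e (a ⊗ₜ m) = a • LocalizedModule.mkLinearMap S F m :=
    fun a m => IsBaseChange.equiv_tmul _ a m
  have hcomm : ∀ y, e (ψ.baseChange (Localization S) y) = LocalizedModule.map S ψ (e y) := by
    intro y
    induction y using TensorProduct.induction_on with
    | zero => simp
    | tmul a m =>
      rw [LinearMap.baseChange_tmul, he, he, map_smul, LocalizedModule.mkLinearMap_apply,
        LocalizedModule.mkLinearMap_apply, LocalizedModule.map_mk]
    | add x y hx hy => rw [map_add, map_add, hx, hy, map_add, map_add]
  have hconj : e.conj (ψ.baseChange (Localization S)) = LocalizedModule.map S ψ := by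
    apply LinearMap.ext
    intro x
    obtain ⟨y, rfl⟩ := e.surjective x
    rw [LinearEquiv.conj_apply_apply, e.symm_apply_apply, hcomm]
  rw [← hconj, LinearEquiv.charpoly_conj, LinearMap.charpoly_baseChange]

/-- The characteristic polynomial of a block triangular endomorphism. -/
theorem charpoly_tri {R : Type u} [CommRing R] {K M : Type u} [AddCommGroup K] [Module R K]
    [Module.Free R K] [Module.Finite R K] [AddCommGroup M] [Module R M] [Module.Free R M]
    [Module.Finite R M] (κ : K →ₗ[R] K) (β : M →ₗ[R] K) (φ : M →ₗ[R] M) :
    ((κ.coprod β).prod (φ ∘ₗ LinearMap.snd R K M)).charpoly = κ.charpoly * φ.charpoly := by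
  classical
  let b₁ := Module.Free.chooseBasis R K
  let b₂ := Module.Free.chooseBasis R M
  let b := b₁.prod b₂
  rw [← LinearMap.charpoly_toMatrix κ b₁, ← LinearMap.charpoly_toMatrix φ b₂,
    ← LinearMap.charpoly_toMatrix _ b]
  have hmat : LinearMap.toMatrix b b ((κ.coprod β).prod (φ ∘ₗ LinearMap.snd R K M)) =
      Matrix.fromBlocks (LinearMap.toMatrix b₁ b₁ κ) (LinearMap.toMatrix b₂ b₁ β) 0
        (LinearMap.toMatrix b₂ b₂ φ) := by
    ext (i | i) (j | j) <;> simp [LinearMap.toMatrix, b]
  rw [hmat, Matrix.charpoly_fromBlocks_zero₂₁]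

section SES

variable {R : Type u} [CommRing R] {K F M : Type u} [AddCommGroup K] [Module R K]
  [AddCommGroup F] [Module R F] [AddCommGroup M] [Module R M]
  (ι : K →ₗ[R] F) (π : F →ₗ[R] M)

theorem exists_splitting (hι : Function.Injective ι) (hex : Function.Exact ι π)
    (hπ : Function.Surjective π) [Module.Projective R M] :
    ∃ (s : M →ₗ[R] F) (r : F →ₗ[R] K), (∀ m, π (s m) = m) ∧ (∀ k, r (ι k) = k) ∧
      (∀ x, ι (r x) + s (π x) = x) ∧ (∀ m, r (s m) = 0) := by
  obtain ⟨s, hs⟩ := Module.projective_lifting_property π LinearMap.id hπ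
  have hs' : ∀ m, π (s m) = m := fun m => LinearMap.congr_fun hs m
  let q : F →ₗ[R] F := LinearMap.id - s ∘ₗ π
  have hq : ∀ x, q x = x - s (π x) := fun x => rfl
  have hqmem : ∀ x, q x ∈ LinearMap.range ι := by
    intro x
    have h0 : π (q x) = 0 := by rw [hq, map_sub, hs', sub_self]
    exact (hex (q x)).mp h0
  let eι := LinearEquiv.ofInjective ι hι
  let r : F →ₗ[R] K := eι.symm.toLinearMap ∘ₗ q.codRestrict (LinearMap.range ι) hqmem
  have hr : ∀ x, ι (r x) = q x := by
    intro x
    have h1 := eι.apply_symm_apply (q.codRestrict (LinearMap.range ι) hqmem x)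
    exact congrArg Subtype.val h1
  have hπι : ∀ k, π (ι k) = 0 := fun k => hex.apply_apply_eq_zero k
  refine ⟨s, r, hs', fun k => ?_, fun x => ?_, fun m => ?_⟩
  · apply hι
    rw [hr, hq, hπι, map_zero, sub_zero]
  · rw [hr, hq, sub_add_cancel]
  · apply hι
    rw [hr, hq, hs', sub_self, map_zero]

theorem free_finite_of_exact [IsLocalRing R] (hι : Function.Injective ι)
    (hex : Function.Exact ι π) (hπ : Function.Surjective π) [Module.Free R F] [Module.Finite R F]
    [Module.Free R M] : Module.Free R K ∧ Module.Finite R K := by
  obtain ⟨s, r, hs, hr, hsum, hrs⟩ := exists_splitting ι π hι hex hπ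
  haveI : Module.Finite R K := Module.Finite.of_surjective r (fun k => ⟨ι k, hr k⟩)
  haveI : Module.Projective R K := Module.Projective.of_split ι r (LinearMap.ext hr)
  exact ⟨Module.free_of_flat_of_isLocalRing, inferInstance⟩

theorem charpoly_of_exact (hι : Function.Injective ι) (hex : Function.Exact ι π)
    (hπ : Function.Surjective π) [Module.Free R F] [Module.Finite R F] [Module.Free R M]
    [Module.Finite R M] [Module.Free R K] [Module.Finite R K]
    (κ : K →ₗ[R] K) (ψ : F →ₗ[R] F) (φ : M →ₗ[R] M) (h1 : ∀ k, ι (κ k) = ψ (ι k))
    (h2 : ∀ x, π (ψ x) = φ (π x)) : ψ.charpoly = κ.charpoly * φ.charpoly := by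
  obtain ⟨s, r, hs, hr, hsum, hrs⟩ := exists_splitting ι π hι hex hπ
  have hπι : ∀ k, π (ι k) = 0 := fun k => hex.apply_apply_eq_zero k
  let e : (K × M) ≃ₗ[R] F := LinearEquiv.ofLinearMap (ι.coprod s) (r.prod π)
    (by
      apply LinearMap.ext
      intro x
      show ι (r x) + s (π x) = x
      exact hsum x)
    (by
      apply LinearMap.ext
      rintro ⟨k, m⟩
      show (r (ι k + s m), π (ι k + s m)) = (k, m)
      rw [map_add, map_add, hr, hrs, hπι, hs, add_zero, zero_add])
  have hθ : e.symm.conj ψ =
      (κ.coprod (r ∘ₗ ψ ∘ₗ s)).prod (φ ∘ₗ LinearMap.snd R K M) := by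
    apply LinearMap.ext
    rintro ⟨k, m⟩
    show (r (ψ (ι k + s m)), π (ψ (ι k + s m))) = (κ k + r (ψ (s m)), φ m)
    rw [map_add ψ, map_add r, map_add π, ← h1, hr, hπι, h2, hs, zero_add]
  rw [← LinearEquiv.charpoly_conj e.symm ψ, hθ, charpoly_tri]

end SES

variable {A : Type u} [CommRing A]

/-- `h` is the characteristic polynomial of `φ` at all primes where `M` is free. -/
def PGood (M : Type u) [AddCommGroup M] [Module A M] [Module.Finite A M] (φ : M →ₗ[A] M)
    (h : A[X]) : Prop :=
  ∀ (p : Ideal A) [p.IsPrime]
    [Module.Free (Localization.AtPrime p) (LocalizedModule p.primeCompl M)],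
    h.map (algebraMap A (Localization.AtPrime p)) = (LocalizedModule.map p.primeCompl φ).charpoly

theorem exists_charpoly [IsNoetherianRing A] :
    ∀ (n : ℕ) (M : Type u) [AddCommGroup M] [Module A M] [Module.Finite A M],
      FFR A n M → ∀ φ : M →ₗ[A] M, ∃ h : A[X], h.Monic ∧ PGood M φ h := by
  intro n
  induction n with
  | zero =>
    intro M _ _ _ hM φ
    obtain ⟨hfree, hfin⟩ := hM
    refine ⟨φ.charpoly, LinearMap.charpoly_monic φ, ?_⟩
    intro p _ _
    exact (charpoly_localizedModule_map p.primeCompl φ).symm
  | succ n ih =>
    intro M _ _ _ hM φ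
    have hM' := hM
    obtain ⟨F, K, _, _, _, _, i, f, hfree, hfin, hi, hex, hf, hK⟩ := hM
    haveI : Module.Finite A K := finite n K hK
    obtain ⟨ψ, hψ⟩ := Module.projective_lifting_property f (φ ∘ₗ f) hf
    have hψ' : ∀ x, f (ψ x) = φ (f x) := fun x => LinearMap.congr_fun hψ x
    have hfi : ∀ k, f (i k) = 0 := fun k => hex.apply_apply_eq_zero k
    have hmem : ∀ k, (ψ ∘ₗ i) k ∈ LinearMap.range i := by
      intro k
      apply (hex _).mp
      show f (ψ (i k)) = 0
      rw [hψ', hfi, map_zero]
    let ei := LinearEquiv.ofInjective i hi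
    let κ : K →ₗ[A] K := ei.symm.toLinearMap ∘ₗ (ψ ∘ₗ i).codRestrict (LinearMap.range i) hmem
    have hκ : ∀ k, i (κ k) = ψ (i k) := by
      intro k
      have h1 := ei.apply_symm_apply ((ψ ∘ₗ i).codRestrict (LinearMap.range i) hmem k)
      exact congrArg Subtype.val h1
    obtain ⟨g, hgm, hg⟩ := ih K hK κ
    have hGm : (ψ.charpoly).Monic := LinearMap.charpoly_monic ψ
    have hloc : ∀ (p : Ideal A) [p.IsPrime]
        [Module.Free (Localization.AtPrime p) (LocalizedModule p.primeCompl M)],
        (ψ.charpoly).map (algebraMap A (Localization.AtPrime p)) =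
          g.map (algebraMap A (Localization.AtPrime p)) *
            (LocalizedModule.map p.primeCompl φ).charpoly := by
      intro p _ _
      haveI : Module.Free (Localization.AtPrime p) (LocalizedModule p.primeCompl F) :=
        Module.free_of_isLocalizedModule p.primeCompl (LocalizedModule.mkLinearMap p.primeCompl F)
      have hι := LocalizedModule.map_injective p.primeCompl i hi
      have hπ := LocalizedModule.map_surjective p.primeCompl f hf
      have hex' : Function.Exact (LocalizedModule.map p.primeCompl i)
          (LocalizedModule.map p.primeCompl f) := LocalizedModule.map_exact p.primeCompl i f hex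
      obtain ⟨hKfree, hKfin⟩ := free_finite_of_exact (LocalizedModule.map p.primeCompl i)
        (LocalizedModule.map p.primeCompl f) hι hex' hπ
      haveI := hKfree
      have h1 : ∀ k, LocalizedModule.map p.primeCompl i (LocalizedModule.map p.primeCompl κ k) =
          LocalizedModule.map p.primeCompl ψ (LocalizedModule.map p.primeCompl i k) := by
        intro k
        induction k using LocalizedModule.induction_on with
        | h m s => simp only [LocalizedModule.map_mk, hκ]
      have h2 : ∀ x, LocalizedModule.map p.primeCompl f (LocalizedModule.map p.primeCompl ψ x) =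
          LocalizedModule.map p.primeCompl φ (LocalizedModule.map p.primeCompl f x) := by
        intro x
        induction x using LocalizedModule.induction_on with
        | h m s => simp only [LocalizedModule.map_mk, hψ']
      have h3 := charpoly_of_exact (LocalizedModule.map p.primeCompl i)
        (LocalizedModule.map p.primeCompl f) hι hex' hπ _ _ _ h1 h2
      rw [← charpoly_localizedModule_map p.primeCompl ψ, h3, hg p]
    have hrem : ψ.charpoly %ₘ g = 0 := by
      apply Polynomial.ext
      intro j
      rw [Polynomial.coeff_zero]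
      apply eq_zero_of_forall_ass
      intro P _ hP
      haveI : Module.Free (Localization.AtPrime P) (LocalizedModule P.primeCompl M) :=
        free_localized_of_ass P hP (n + 1) M hM'
      have hG := hloc P
      rw [← Polynomial.coeff_map, Polynomial.map_modByMonic _ hgm, hG,
        (Polynomial.modByMonic_eq_zero_iff_dvd (hgm.map _)).mpr (dvd_mul_right _ _),
        Polynomial.coeff_zero]
    have hdiv : ψ.charpoly = g * (ψ.charpoly /ₘ g) := by
      have h0 := Polynomial.modByMonic_add_div ψ.charpoly g
      rw [hrem, zero_add] at h0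
      exact h0.symm
    refine ⟨ψ.charpoly /ₘ g, ?_, ?_⟩
    · exact hgm.of_mul_monic_left (hdiv ▸ hGm)
    · intro p _ _
      have hG := hloc p
      have h4 : g.map (algebraMap A (Localization.AtPrime p)) *
          (ψ.charpoly /ₘ g).map (algebraMap A (Localization.AtPrime p)) =
          g.map (algebraMap A (Localization.AtPrime p)) *
            (LocalizedModule.map p.primeCompl φ).charpoly := by
        rw [← Polynomial.map_mul, ← hdiv, hG]
      exact (hgm.map _).isRegular.left h4

/-- Existence of the determinant. -/
theorem exists_det [IsNoetherianRing A] (n : ℕ) (M : Type u) [AddCommGroup M] [Module A M]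
    (hM : FFR A n M) (φ : M →ₗ[A] M) :
    ∃ a : A, ∀ (p : Ideal A) [p.IsPrime],
      Module.Free (Localization.AtPrime p) (LocalizedModule p.primeCompl M) →
        algebraMap A (Localization.AtPrime p) a =
          LinearMap.det (LocalizedModule.map p.primeCompl φ) := by
  haveI : Module.Finite A M := finite n M hM
  obtain ⟨h, hm, hh⟩ := exists_charpoly n M hM (-φ)
  refine ⟨h.coeff 0, ?_⟩
  intro p _ hfree
  haveI := hfree
  have h1 := hh p
  have h2 : algebraMap A (Localization.AtPrime p) (h.coeff 0) =
      (LocalizedModule.map p.primeCompl (-φ)).charpoly.coeff 0 := by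
    rw [← h1, Polynomial.coeff_map]
  rw [h2, map_neg]
  have h3 := LinearMap.det_eq_sign_charpoly_coeff (-(LocalizedModule.map p.primeCompl φ))
  have h4 : LinearMap.det (-(LocalizedModule.map p.primeCompl φ)) =
      (-1) ^ Module.finrank (Localization.AtPrime p) (LocalizedModule p.primeCompl M) *
        LinearMap.det (LocalizedModule.map p.primeCompl φ) := by
    rw [← neg_one_smul (Localization.AtPrime p) (LocalizedModule.map p.primeCompl φ),
      LinearMap.det_smul]
  have h5 : ((-1 : Localization.AtPrime p) ^
      Module.finrank (Localization.AtPrime p) (LocalizedModule p.primeCompl M)) *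
      ((-1) ^ Module.finrank (Localization.AtPrime p) (LocalizedModule p.primeCompl M)) = 1 := by
    rw [← mul_pow]
    simp
  linear_combination
    (-((-(LocalizedModule.map p.primeCompl φ)).charpoly.coeff 0 -
      LinearMap.det (LocalizedModule.map p.primeCompl φ))) * h5 +
    ((-1 : Localization.AtPrime p) ^
      Module.finrank (Localization.AtPrime p) (LocalizedModule p.primeCompl M)) * (h4 - h3)

/-- Uniqueness of the determinant. -/
theorem det_unique [IsNoetherianRing A] (n : ℕ) (M : Type u) [AddCommGroup M] [Module A M]
    (hM : FFR A n M) (φ : M →ₗ[A] M) (a a' : A)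
    (ha : ∀ (p : Ideal A) [p.IsPrime],
      Module.Free (Localization.AtPrime p) (LocalizedModule p.primeCompl M) →
        algebraMap A (Localization.AtPrime p) a =
          LinearMap.det (LocalizedModule.map p.primeCompl φ))
    (ha' : ∀ (p : Ideal A) [p.IsPrime],
      Module.Free (Localization.AtPrime p) (LocalizedModule p.primeCompl M) →
        algebraMap A (Localization.AtPrime p) a' =
          LinearMap.det (LocalizedModule.map p.primeCompl φ)) : a = a' := by
  rw [← sub_eq_zero]
  apply eq_zero_of_forall_ass
  intro P _ hP
  have hfree := free_localized_of_ass P hP n M hM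
  rw [map_sub, ha P hfree, ha' P hfree, sub_self]

end Groth.Agent.H13.FFR
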