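import Mathlib
import Groth.Prelude.Def_MoreMor
import Groth.Agent.H7.SpecResidue
import Groth.Agent.H2.RamFibre

/-!
# The fibre integral of `length × insep. degree` for a finite flat `Spec B ⟶ Spec R` is the rank
(helper13, for helper2 / S1421)
-/

set_option autoImplicit false
universe u
open AlgebraicGeometry CategoryTheory Limits

namespace Groth.Agent.H13.FibreIntegral

/-- A point of `Spec B` as a prime ideal. -/
abbrev toPS {B : CommRingCat.{u}} (q : ↥(Spec B)) : PrimeSpectrum B := q

/-- The fibre multiplicity of `Spec.map φ` at `q` is the ramification index of `q`. -/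
theorem ell_Spec {R B : CommRingCat.{u}} (φ : R ⟶ B) (q : PrimeSpectrum B) :
    (Module.length ↑((Spec B).presheaf.stalk q) (↑((Spec B).presheaf.stalk q) ⧸
      Ideal.map ((Spec.map φ).stalkMap q).hom
        (IsLocalRing.maximalIdeal ↑((Spec R).presheaf.stalk ((Spec.map φ) q))))).toNat =
      (letI := φ.hom.toAlgebra; q.asIdeal.ramificationIdx R) := by
  algebraize [φ.hom]
  rw [Ideal.ramificationIdx_def]
  congr 1
  let ψ : ↑((Spec B).presheaf.stalk q) ≃+* Localization.AtPrime q.asIdeal :=
    (Spec.stalkIso B q).commRingCatIsoToRingEquiv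
  let ψR : ↑((Spec R).presheaf.stalk ((Spec.map φ) q)) ≃+*
      Localization.AtPrime (PrimeSpectrum.comap φ.hom q).asIdeal :=
    (Spec.stalkIso R (PrimeSpectrum.comap φ.hom q)).commRingCatIsoToRingEquiv
  apply Groth.Agent.H2.RamFibre.length_quotient_eq_of_ringEquiv ψ
  rw [Ideal.map_map]
  have hcomm : (ψ : _ →+* _).comp ((Spec.map φ).stalkMap q).hom =
      (Localization.localRingHom (PrimeSpectrum.comap φ.hom q).asIdeal q.asIdeal φ.hom rfl).comp
        (ψR : _ →+* _) := by
    have h := Scheme.localRingHom_comp_stalkIso φ q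
    have h2 : (Spec.map φ).stalkMap q ≫ (Spec.stalkIso B q).hom =
        (Spec.stalkIso R (PrimeSpectrum.comap φ.hom q)).hom ≫
          (CommRingCat.ofHom <| Localization.localRingHom
            (PrimeSpectrum.comap φ.hom q).asIdeal q.asIdeal φ.hom rfl) := by
      have h' := (Iso.comp_inv_eq (Spec.stalkIso B q)).mp
        ((Category.assoc _ _ _).trans h)
      exact h'.symm
    have h3 := congrArg CommRingCat.Hom.hom h2
    exact h3
  have hmax : (IsLocalRing.maximalIdeal ↑((Spec R).presheaf.stalk ((Spec.map φ) q))).map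
      (ψR : _ →+* _) =
      IsLocalRing.maximalIdeal (Localization.AtPrime (PrimeSpectrum.comap φ.hom q).asIdeal) := by
    rw [Ideal.map_comap_of_equiv]
    have hloc : IsLocalHom (ψR.symm.toRingHom) :=
      ⟨fun a ha => (isLocalHom_equiv ψR.symm).map_nonunit a ha⟩
    exact ((IsLocalRing.local_hom_TFAE (ψR.symm.toRingHom)).out 0 4).mp hloc
  rw [hcomm, ← Ideal.map_map, hmax, ← IsLocalization.AtPrime.map_eq_maximalIdeal
    (PrimeSpectrum.comap φ.hom q).asIdeal, Ideal.map_map]
  congr 1
  ext x
  rw [RingHom.comp_apply]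
  erw [Localization.localRingHom_to_map]
  rw [IsScalarTower.algebraMap_apply R B (Localization.AtPrime q.asIdeal)]
  rfl

/-- The degree of the residue field extension of `Spec.map φ` at `q` is the inertia degree. -/
theorem deg_Spec {R B : CommRingCat.{u}} (φ : R ⟶ B) (q : PrimeSpectrum B) :
    (letI := ((Spec.map φ).residueFieldMap q).hom.toAlgebra
     Module.finrank ((Spec R).residueField ((Spec.map φ) q)) ((Spec B).residueField q)) =
      (letI := φ.hom.toAlgebra; q.asIdeal.inertiaDeg R) := by
  algebraize [φ.hom]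
  letI := Localization.AtPrime.algebraOfLiesOver (q.asIdeal.under R) q.asIdeal
  rw [Ideal.inertiaDeg_def]
  letI := ((Spec.map φ).residueFieldMap q).hom.toAlgebra
  let e₁ : ↑((Spec R).residueField ((Spec.map φ) q)) ≃+*
      (q.asIdeal.under R).ResidueField :=
    (Scheme.Spec.residueFieldIso R (Spec.map φ q)).commRingCatIsoToRingEquiv
  let e₂ : ↑((Spec B).residueField q) ≃+* q.asIdeal.ResidueField :=
    (Scheme.Spec.residueFieldIso B q).commRingCatIsoToRingEquiv
  apply Algebra.finrank_eq_of_equiv_equiv e₁ e₂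
  have h := Groth.Agent.H7.Spec_residueFieldMap_eq φ q
  have h2 := (Iso.inv_comp_eq _).mp h
  have h3 := congrArg CommRingCat.Hom.hom h2
  exact h3.symm

/-- One term of the fibre integral. -/
theorem term_eq {R B : CommRingCat.{u}} (φ : R ⟶ B) (q : ↥(Spec B)) :
    ((Module.length ↑((Spec B).presheaf.stalk q) (↑((Spec B).presheaf.stalk q) ⧸
      Ideal.map ((Spec.map φ).stalkMap q).hom
        (IsLocalRing.maximalIdeal ↑((Spec R).presheaf.stalk ((Spec.map φ) q))))).toNat : ℤ) *
      (letI := ((Spec.map φ).residueFieldMap q).hom.toAlgebra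
       (Field.finInsepDegree ((Spec R).residueField ((Spec.map φ) q))
        ((Spec B).residueField q) : ℤ)) *
      (letI := ((Spec.map φ).residueFieldMap q).hom.toAlgebra
       (Field.finSepDegree ((Spec R).residueField ((Spec.map φ) q))
        ((Spec B).residueField q) : ℤ)) =
    (letI := φ.hom.toAlgebra;
      (((toPS q).asIdeal.ramificationIdx R * (toPS q).asIdeal.inertiaDeg R : ℕ) : ℤ)) := by
  rw [← ell_Spec φ (toPS q), ← deg_Spec φ (toPS q)]
  letI := ((Spec.map φ).residueFieldMap q).hom.toAlgebra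
  rw [← Field.finSepDegree_mul_finInsepDegree]
  push_cast
  ring

/-- Flat-free version: the fibre integral of `length × insep. degree` along a finite
`Spec B ⟶ Spec R` at `p` is the dimension of the fibre ring `κ(p) ⊗ B`. -/
theorem fibreIntegral_SpecMap_fiber {R B : CommRingCat.{u}} (φ : R ⟶ B) (hfin : φ.hom.Finite)
    (p : Spec R) :
    MoreMor.fibreIntegral (Spec.map φ) (fun q =>
      ((Module.length ↑((Spec B).presheaf.stalk q) (↑((Spec B).presheaf.stalk q) ⧸ Ideal.map ((Spec.map φ).stalkMap q).hom (IsLocalRing.maximalIdeal ↑((Spec R).presheaf.stalk ((Spec.map φ) q))))).toNat : ℤ) *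
      (letI := ((Spec.map φ).residueFieldMap q).hom.toAlgebra
       (Field.finInsepDegree ((Spec R).residueField ((Spec.map φ) q)) ((Spec B).residueField q) : ℤ))) p
      = (letI := φ.hom.toAlgebra
         (Module.finrank (toPS p).asIdeal.ResidueField ((toPS p).asIdeal.Fiber B) : ℤ)) := by
  algebraize [φ.hom]
  unfold MoreMor.fibreIntegral
  simp only [term_eq]
  have hfinite : Finite ((toPS p).asIdeal.primesOver B) :=
    (Algebra.QuasiFinite.finite_primesOver (R := R) (S := B) (toPS p).asIdeal).to_subtype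
  letI := Fintype.ofFinite ((toPS p).asIdeal.primesOver B)
  let E : { u : ↥(Spec B) // (Spec.map φ) u = p } ≃ (toPS p).asIdeal.primesOver B :=
    { toFun := fun u => ⟨(toPS u.1).asIdeal, (toPS u.1).isPrime,
        ⟨(congrArg (fun x : ↥(Spec R) => (toPS x).asIdeal) u.2).symm⟩⟩
      invFun := fun Q => ⟨(⟨Q.1, Q.2.1⟩ : PrimeSpectrum B),
        PrimeSpectrum.ext (Q.2.2.over).symm⟩
      left_inv := fun u => rfl
      right_inv := fun Q => rfl }
  have hsum := finsum_eq_of_bijective E E.bijective
    (f := fun u : { u : ↥(Spec B) // (Spec.map φ) u = p } =>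
      (((toPS u.1).asIdeal.ramificationIdx R * (toPS u.1).asIdeal.inertiaDeg R : ℕ) : ℤ))
    (g := fun Q : (toPS p).asIdeal.primesOver B =>
      ((Q.1.ramificationIdx R * Q.1.inertiaDeg R : ℕ) : ℤ)) (fun u => rfl)
  rw [hsum, finsum_eq_sum_of_fintype, ← Nat.cast_sum,
    Ideal.sum_ramification_inertia_eq_finrank_fiber]

/-- (R2) The fibre integral of `length × insep. degree` along a finite flat `Spec B ⟶ Spec R`
is the rank of `B` at `p`. -/
theorem fibreIntegral_SpecMap {R B : CommRingCat.{u}} (φ : R ⟶ B) (hfin : φ.hom.Finite)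
    (hflat : φ.hom.Flat) (p : Spec R) :
    MoreMor.fibreIntegral (Spec.map φ) (fun q =>
      ((Module.length ↑((Spec B).presheaf.stalk q) (↑((Spec B).presheaf.stalk q) ⧸ Ideal.map ((Spec.map φ).stalkMap q).hom (IsLocalRing.maximalIdeal ↑((Spec R).presheaf.stalk ((Spec.map φ) q))))).toNat : ℤ) *
      (letI := ((Spec.map φ).residueFieldMap q).hom.toAlgebra
       (Field.finInsepDegree ((Spec R).residueField ((Spec.map φ) q)) ((Spec B).residueField q) : ℤ))) p
      = (φ.hom.finrank p : ℤ) := by
  rw [fibreIntegral_SpecMap_fiber φ hfin p]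
  algebraize [φ.hom]
  congr 1
  rw [Ideal.finrank_fiber_eq_rankAtStalk]
  rfl

end Groth.Agent.H13.FibreIntegral
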