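import Mathlib
import Groth.Agent.H48.PtFlat9

/-!
# Fibre-regular sequences and flatness, local core (helper13)

`R → T` local, `T` essentially of finite presentation, `N` a finitely presented `T`-module flat over
`R`, `t₁, …, t_m ∈ T` a sequence which is regular on `N / 𝔪_R N`.  Then `N / (t) N` is flat over `R`.
-/

set_option autoImplicit false
set_option linter.style.haveILetI false

universe u

namespace Groth.Agent.H13.FibreRegLocal

open IsLocalRing

section

variable {R T : Type u} [CommRing R] [CommRing T] [IsLocalRing R] [IsLocalRing T] [Algebra R T]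
  [IsLocalHom (algebraMap R T)]
  (S₀ : Type u) [CommRing S₀] [Algebra R S₀] [Algebra S₀ T] [IsScalarTower R S₀ T]
  (W : Submonoid S₀) [Algebra.FinitePresentation R S₀] [IsLocalization W T]

lemma range_lsmul {N : Type u} [AddCommGroup N] [Module T N] (g : T) :
    LinearMap.range (LinearMap.lsmul T N g) = (Ideal.span {g} • ⊤ : Submodule T N) := by
  apply le_antisymm
  · rintro _ ⟨y, rfl⟩
    exact Submodule.smul_mem_smul (Ideal.subset_span rfl) Submodule.mem_top
  · rw [Submodule.smul_le]
    intro r hr n _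
    obtain ⟨c, rfl⟩ := Ideal.mem_span_singleton'.mp hr
    exact ⟨c • n, by rw [LinearMap.lsmul_apply, smul_smul, mul_comm]⟩

lemma fp_quot {N : Type u} [AddCommGroup N] [Module T N] [Module.FinitePresentation T N]
    (𝔟 : Ideal T) (h𝔟 : 𝔟.FG) :
    Module.FinitePresentation T (N ⧸ (𝔟 • ⊤ : Submodule T N)) := by
  apply Module.finitePresentation_of_surjective (𝔟 • ⊤ : Submodule T N).mkQ
    (Submodule.mkQ_surjective _)
  rw [Submodule.ker_mkQ]
  exact Submodule.FG.smul h𝔟 (Module.Finite.fg_top)

include S₀ W in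
/-- One step. -/
theorem flat_quot_singleton {N : Type u} [AddCommGroup N] [Module T N] [Module R N]
    [IsScalarTower R T N] [Module.FinitePresentation T N] [Module.Flat R N] (g : T)
    (hreg : ∀ x : N, g • x ∈ (maximalIdeal R).map (algebraMap R T) • (⊤ : Submodule T N) →
      x ∈ (maximalIdeal R).map (algebraMap R T) • (⊤ : Submodule T N)) :
    Module.Flat R (N ⧸ (Ideal.span {g} • ⊤ : Submodule T N)) := by
  obtain ⟨-, hflat⟩ := Groth.Agent.H48.PtFlat.injective_and_flat_coker_of_local S₀ W
    (LinearMap.lsmul T N g) (fun x hx => hreg x hx)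
  exact Module.Flat.of_linearEquiv
    ((Submodule.quotEquivOfEq _ _ (range_lsmul g)).symm.restrictScalars R)

include S₀ W in
/-- The local core. -/
theorem flat_quot_of_fibre_regular : ∀ (m : ℕ) {N : Type u} [AddCommGroup N] [Module T N]
    [Module R N] [IsScalarTower R T N] [Module.FinitePresentation T N] [Module.Flat R N]
    (t : Fin m → T)
    (_ : ∀ (k : Fin m) (x : N),
      t k • x ∈ ((maximalIdeal R).map (algebraMap R T) ⊔ Ideal.span (t '' {j | j < k})) •
          (⊤ : Submodule T N) →
        x ∈ ((maximalIdeal R).map (algebraMap R T) ⊔ Ideal.span (t '' {j | j < k})) •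
          (⊤ : Submodule T N)),
    Module.Flat R (N ⧸ (Ideal.span (Set.range t) • ⊤ : Submodule T N)) := by
  intro m
  induction m with
  | zero =>
    intro N _ _ _ _ _ _ t _
    have h0 : (Ideal.span (Set.range t) • ⊤ : Submodule T N) = ⊥ := by
      have : Set.range t = ∅ := Set.range_eq_empty t
      rw [this, Ideal.span_empty, Submodule.bot_smul]
    exact Module.Flat.of_linearEquiv
      (((Submodule.quotEquivOfEq _ _ h0).trans (Submodule.quotEquivOfEqBot ⊥ rfl)).restrictScalars R)
  | succ m ih =>
    intro N _ _ _ _ _ _ t hreg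
    -- the first `m` elements
    obtain ⟨𝔟, h𝔟⟩ : ∃ 𝔟 : Ideal T, 𝔟 = Ideal.span (Set.range (t ∘ Fin.castSucc)) := ⟨_, rfl⟩
    have h𝔟fg : 𝔟.FG := by rw [h𝔟]; exact Submodule.fg_span (Set.finite_range _)
    have himg : ∀ k : Fin m, (t ∘ Fin.castSucc) '' {j : Fin m | j < k} =
        t '' {j : Fin (m + 1) | j < Fin.castSucc k} := by
      intro k
      ext z
      constructor
      · rintro ⟨j, hj, rfl⟩
        exact ⟨Fin.castSucc j, Fin.castSucc_lt_castSucc_iff.mpr hj, rfl⟩
      · rintro ⟨j', hj', rfl⟩
        have hlt : (j' : ℕ) < (k : ℕ) := hj'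
        refine ⟨⟨j', lt_trans hlt k.isLt⟩, hlt, ?_⟩
        rfl
    have hlast : t '' {j : Fin (m + 1) | j < Fin.last m} = Set.range (t ∘ Fin.castSucc) := by
      ext z
      constructor
      · rintro ⟨j', hj', rfl⟩
        have hlt : (j' : ℕ) < m := hj'
        exact ⟨⟨j', hlt⟩, rfl⟩
      · rintro ⟨j, rfl⟩
        exact ⟨Fin.castSucc j, Fin.castSucc_lt_last j, rfl⟩
    have hrange : Ideal.span (Set.range t) = 𝔟 ⊔ Ideal.span {t (Fin.last m)} := by
      rw [h𝔟, ← Ideal.span_union]
      congr 1
      ext z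
      constructor
      · rintro ⟨j, rfl⟩
        refine Fin.lastCases ?_ (fun i => ?_) j
        · exact Or.inr rfl
        · exact Or.inl ⟨i, rfl⟩
      · rintro (⟨i, rfl⟩ | h)
        · exact ⟨Fin.castSucc i, rfl⟩
        · rw [Set.mem_singleton_iff] at h
          exact ⟨Fin.last m, h.symm⟩
    have hflat1 : Module.Flat R (N ⧸ (𝔟 • ⊤ : Submodule T N)) := by
      rw [h𝔟]
      apply ih (t ∘ Fin.castSucc)
      intro k x hx
      rw [himg k] at hx ⊢
      exact hreg (Fin.castSucc k) x hx
    haveI := hflat1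
    haveI : Module.FinitePresentation T (N ⧸ (𝔟 • ⊤ : Submodule T N)) := fp_quot 𝔟 h𝔟fg
    -- the last element
    have hstep : Module.Flat R ((N ⧸ (𝔟 • ⊤ : Submodule T N)) ⧸
        (Ideal.span {t (Fin.last m)} • ⊤ : Submodule T (N ⧸ (𝔟 • ⊤ : Submodule T N)))) := by
      apply flat_quot_singleton S₀ W
      intro x' hx'
      obtain ⟨x, rfl⟩ := Submodule.mkQ_surjective _ x'
      have key : ∀ y : N, (𝔟 • ⊤ : Submodule T N).mkQ y ∈
          (maximalIdeal R).map (algebraMap R T) • (⊤ : Submodule T (N ⧸ (𝔟 • ⊤ : Submodule T N))) ↔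
          y ∈ ((maximalIdeal R).map (algebraMap R T) ⊔ 𝔟) • (⊤ : Submodule T N) := by
        intro y
        have h1 : (maximalIdeal R).map (algebraMap R T) •
            (⊤ : Submodule T (N ⧸ (𝔟 • ⊤ : Submodule T N))) =
            Submodule.map (𝔟 • ⊤ : Submodule T N).mkQ
              ((maximalIdeal R).map (algebraMap R T) • (⊤ : Submodule T N)) := by
          rw [Submodule.map_smul'', Submodule.map_top, Submodule.range_mkQ]
        rw [h1, Submodule.sup_smul]
        constructor
        · rintro ⟨z, hz, hzy⟩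
          have h2 : y - z ∈ (𝔟 • ⊤ : Submodule T N) := by
            rw [← Submodule.ker_mkQ (𝔟 • ⊤ : Submodule T N), LinearMap.mem_ker, map_sub, hzy,
              sub_self]
          have : y = z + (y - z) := by abel
          rw [this]
          exact Submodule.add_mem_sup hz h2
        · intro hy
          obtain ⟨z, hz, w, hw, rfl⟩ := Submodule.mem_sup.mp hy
          refine ⟨z, hz, ?_⟩
          rw [map_add]
          have : (𝔟 • ⊤ : Submodule T N).mkQ w = 0 := by
            rw [← LinearMap.mem_ker, Submodule.ker_mkQ]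
            exact hw
          rw [this, add_zero]
      have hx'' : (𝔟 • ⊤ : Submodule T N).mkQ (t (Fin.last m) • x) ∈
          (maximalIdeal R).map (algebraMap R T) •
            (⊤ : Submodule T (N ⧸ (𝔟 • ⊤ : Submodule T N))) := by
        rw [map_smul]
        exact hx'
      rw [key] at hx'' ⊢
      rw [h𝔟, ← hlast] at hx'' ⊢
      exact hreg (Fin.last m) x hx''
    -- third isomorphism theorem
    have hmap : Submodule.map (𝔟 • ⊤ : Submodule T N).mkQ
        (Ideal.span {t (Fin.last m)} • ⊤ : Submodule T N) =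
        (Ideal.span {t (Fin.last m)} • ⊤ : Submodule T (N ⧸ (𝔟 • ⊤ : Submodule T N))) := by
      rw [Submodule.map_smul'', Submodule.map_top, Submodule.range_mkQ]
    have hsup : (𝔟 • ⊤ : Submodule T N) ⊔ (Ideal.span {t (Fin.last m)} • ⊤ : Submodule T N) =
        (Ideal.span (Set.range t) • ⊤ : Submodule T N) := by
      rw [hrange, Submodule.sup_smul]
    let e1 := Submodule.quotientQuotientEquivQuotientSup (𝔟 • ⊤ : Submodule T N)
      (Ideal.span {t (Fin.last m)} • ⊤ : Submodule T N)
    let e2 := Submodule.quotEquivOfEq _ _ hmap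
    let e3 := Submodule.quotEquivOfEq _ _ hsup
    exact Module.Flat.of_linearEquiv (((e2.symm.trans e1).trans e3).symm.restrictScalars R)

end

end Groth.Agent.H13.FibreRegLocal
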