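import Mathlib
import Groth.Agent.H13.FibreRegLocal
import Groth.Agent.H66.GlobalCI2

/-!
# Fibre-regular sequences and flatness, global form (helper13)
-/

set_option autoImplicit false
set_option maxHeartbeats 400000
set_option linter.style.haveILetI false
universe u

open IsLocalRing Algebra

namespace Groth.Agent.H13.FibreRegFlat

/-- Flatness of `D_Q/(f)` for a sequence regular on the fibre. -/
theorem flat_localization_quot_of_fibre_regular {R D : Type u} [CommRing R] [CommRing D]
    [Algebra R D] [Module.Flat R D] [Algebra.FinitePresentation R D] {m : ℕ} (f : Fin m → D)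
    (Q : Ideal D) [Q.IsPrime]
    (hreg : ∀ (k : Fin m) (x : D),
      f k * x ∈ (Q.comap (algebraMap R D)).map (algebraMap R D) ⊔
          Ideal.span (f '' {j | j < k}) →
        x ∈ (Q.comap (algebraMap R D)).map (algebraMap R D) ⊔ Ideal.span (f '' {j | j < k})) :
    Module.Flat R (Localization.AtPrime Q ⧸
      Ideal.span (Set.range fun i => algebraMap D (Localization.AtPrime Q) (f i))) := by
  classical
  set p := Q.under R with hp
  haveI : Q.LiesOver p := ⟨rfl⟩
  let Rp := Localization.AtPrime p
  let Sp := Localization (algebraMapSubmonoid D p.primeCompl)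
  let Sq := Localization.AtPrime Q
  letI := Localization.AtPrime.algebraOfLiesOver p Q
  let φ : Sp →ₐ[D] Sq := IsLocalization.liftAlgHom (M := algebraMapSubmonoid D p.primeCompl)
        (f := Algebra.ofId _ _) (by
      rintro ⟨_, x, hx, rfl⟩
      simpa using! IsLocalization.map_units (M := Q.primeCompl) Sq ⟨algebraMap _ _ x,
        by simp_all [Q.over_def p]⟩)
  algebraize [φ.toRingHom]
  have : IsScalarTower R Sp Sq := .to₁₃₄ _ D _ _
  have : IsScalarTower Rp Sp Sq := .of_algebraMap_eq' <| by
    apply IsLocalization.ringHom_ext p.primeCompl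
    simp only [RingHom.comp_assoc, ← IsScalarTower.algebraMap_eq]
  have : IsLocalization (algebraMapSubmonoid Sp Q.primeCompl) Sq :=
    .isLocalization_of_submonoid_le _ _ (algebraMapSubmonoid D p.primeCompl) _
    (by rintro _ ⟨x, hx, rfl⟩; simp_all [Q.over_def p])
  have : FinitePresentation Rp Sp := by
    have : Algebra.IsPushout R Rp D Sp :=
      .symm <| Algebra.isPushout_of_isLocalization p.primeCompl _ _ _
    exact .equiv (Algebra.IsPushout.equiv R Rp D Sp)
  haveI : IsLocalHom (algebraMap Rp Sq) := by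
    rw [RingHom.algebraMap_toAlgebra]; infer_instance
  haveI : Module.Flat Rp Sq :=
    (Module.flat_iff_of_isLocalization Rp p.primeCompl Sq).mpr inferInstance
  set pD := p.map (algebraMap R D) with hpD
  set mS := (maximalIdeal Rp).map (algebraMap Rp Sq) with hmSdef
  have hmS : mS = pD.map (algebraMap D Sq) := by
    rw [hmSdef, hpD, ← Localization.AtPrime.map_eq_maximalIdeal, Ideal.map_map, Ideal.map_map,
      ← IsScalarTower.algebraMap_eq, ← IsScalarTower.algebraMap_eq]
  -- the sequence in `Sq`
  obtain ⟨t, ht⟩ : ∃ t : Fin m → Sq, t = fun i => algebraMap D Sq (f i) := ⟨_, rfl⟩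
  have htk : ∀ k, t k = algebraMap D Sq (f k) := fun k => by rw [ht]
  have himage : ∀ k : Fin m, Ideal.span (t '' {j | j < k}) =
      (Ideal.span (f '' {j | j < k})).map (algebraMap D Sq) := by
    intro k
    rw [Ideal.map_span, Set.image_image, ht]
  have hJ : ∀ k : Fin m, mS ⊔ Ideal.span (t '' {j | j < k}) =
      (pD ⊔ Ideal.span (f '' {j | j < k})).map (algebraMap D Sq) := by
    intro k
    rw [Ideal.map_sup, hmS, himage]
  have hlocal : ∀ (k : Fin m) (x : Sq),
      t k • x ∈ (mS ⊔ Ideal.span (t '' {j | j < k})) • (⊤ : Submodule Sq Sq) →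
        x ∈ (mS ⊔ Ideal.span (t '' {j | j < k})) • (⊤ : Submodule Sq Sq) := by
    intro k x hx
    rw [smul_eq_mul, Ideal.mul_top, hJ k] at hx ⊢
    obtain ⟨d, s, rfl⟩ := IsLocalization.exists_mk'_eq Q.primeCompl x
    rw [htk, smul_eq_mul, ← IsLocalization.mk'_one (M := Q.primeCompl) Sq (f k),
      ← IsLocalization.mk'_mul, one_mul,
      IsLocalization.mk'_mem_map_algebraMap_iff Q.primeCompl] at hx
    obtain ⟨s', hs', hmem⟩ := hx
    have h1 : f k * (s' * d) ∈ pD ⊔ Ideal.span (f '' {j | j < k}) := by
      have : f k * (s' * d) = s' * (f k * d) := by ring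
      rw [this]
      exact hmem
    have h2 := hreg k (s' * d) h1
    rw [IsLocalization.mk'_mem_map_algebraMap_iff Q.primeCompl]
    exact ⟨s', hs', h2⟩
  have hcore := Groth.Agent.H13.FibreRegLocal.flat_quot_of_fibre_regular (R := Rp) (T := Sq) Sp
    (algebraMapSubmonoid Sp Q.primeCompl) m (N := Sq) t hlocal
  haveI : Module.Flat R Rp := IsLocalization.flat Rp p.primeCompl
  have hcore' : Module.Flat R (Sq ⧸ (Ideal.span (Set.range t) • ⊤ : Submodule Sq Sq)) :=
    Module.Flat.trans R Rp _
  have heq : (Ideal.span (Set.range t) • ⊤ : Submodule Sq Sq) = Ideal.span (Set.range t) := by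
    rw [smul_eq_mul, Ideal.mul_top]
  rw [ht] at hcore' heq
  exact Module.Flat.of_linearEquiv ((Submodule.quotEquivOfEq _ _ heq).symm.restrictScalars R)

/-- **(FL2)** -/
theorem flat_atPrime_quot_of_fibre_regular {R D : Type u} [CommRing R] [CommRing D] [Algebra R D]
    [Module.Flat R D] [Algebra.FinitePresentation R D] {m : ℕ} (f : Fin m → D)
    (q : Ideal (D ⧸ Ideal.span (Set.range f))) [q.IsPrime]
    (hreg : ∀ (k : Fin m) (x : D),
      f k * x ∈ (q.comap (algebraMap R (D ⧸ Ideal.span (Set.range f)))).map (algebraMap R D) ⊔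
          Ideal.span (f '' {j | j < k}) →
        x ∈ (q.comap (algebraMap R (D ⧸ Ideal.span (Set.range f)))).map (algebraMap R D) ⊔
          Ideal.span (f '' {j | j < k})) :
    Module.Flat R (Localization.AtPrime q) := by
  classical
  let φ : D →ₐ[R] D ⧸ Ideal.span (Set.range f) := Ideal.Quotient.mkₐ R _
  have hφ : Function.Surjective φ := Ideal.Quotient.mkₐ_surjective R _
  obtain ⟨e⟩ := Groth.Agent.H66.GlobalCI.nonempty_atPrime_equiv_quot φ hφ q
  set Q := q.comap φ.toRingHom with hQ
  have hcomap : Q.comap (algebraMap R D) =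
      q.comap (algebraMap R (D ⧸ Ideal.span (Set.range f))) := by
    rw [hQ, Ideal.comap_comap]
    congr 1
  have hflat := flat_localization_quot_of_fibre_regular f Q (by rw [hcomap]; exact hreg)
  have hker : (RingHom.ker φ.toRingHom).map (algebraMap D (Localization.AtPrime Q)) =
      Ideal.span (Set.range fun i => algebraMap D (Localization.AtPrime Q) (f i)) := by
    have : RingHom.ker φ.toRingHom = Ideal.span (Set.range f) := Ideal.mk_ker
    rw [this, Ideal.map_span]
    congr 1
    ext z
    simp only [Set.mem_image, Set.mem_range]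
    constructor
    · rintro ⟨_, ⟨i, rfl⟩, rfl⟩
      exact ⟨i, rfl⟩
    · rintro ⟨i, rfl⟩
      exact ⟨f i, ⟨i, rfl⟩, rfl⟩
  rw [← hker] at hflat
  exact Module.Flat.of_linearEquiv e.toLinearEquiv

end Groth.Agent.H13.FibreRegFlat
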