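import Mathlib

/-!
# Tools for finite syntomic algebras over a local ring (towards Stacks 0FKX-type statements)
-/

open TensorProduct Function

namespace Groth.Agent.H13.FinSynt

universe u

section semilocal

variable {B : Type*} [CommRing B] {M : Type*} [AddCommGroup M] [Module B M]

/-- `M = N + 𝔪M` and `M = N + JM` imply `M = N + (𝔪J)M`. -/
lemma top_le_sup_mul_smul (N : Submodule B M) (I J : Ideal B)
    (hI : (⊤ : Submodule B M) ≤ N ⊔ I • ⊤) (hJ : (⊤ : Submodule B M) ≤ N ⊔ J • ⊤) :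
    (⊤ : Submodule B M) ≤ N ⊔ (I * J) • ⊤ := by
  have h1 : I • (⊤ : Submodule B M) ≤ N ⊔ (I * J) • ⊤ := by
    calc I • (⊤ : Submodule B M) ≤ I • (N ⊔ J • ⊤) := Submodule.smul_mono le_rfl hJ
      _ = I • N ⊔ I • (J • ⊤) := Submodule.smul_sup _ _ _
      _ ≤ N ⊔ (I * J) • ⊤ := by
        apply sup_le_sup Submodule.smul_le_right
        rw [Submodule.mul_smul]
  exact hI.trans (sup_le le_sup_left h1)

/-- Generation modulo every maximal ideal by `n` elements implies generation by `n` elements, over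
a semilocal ring. -/
theorem exists_span_eq_top_of_forall_maximal [Finite (MaximalSpectrum B)] [Module.Finite B M]
    (n : ℕ)
    (h : ∀ 𝔪 : MaximalSpectrum B, ∃ v : Fin n → M,
      (⊤ : Submodule B M) ≤ Submodule.span B (Set.range v) ⊔ 𝔪.asIdeal • ⊤) :
    ∃ v : Fin n → M, Submodule.span B (Set.range v) = ⊤ := by
  classical
  haveI : Fintype (MaximalSpectrum B) := Fintype.ofFinite _
  choose v hv using h
  have hcop : Pairwise (IsCoprime on fun i : MaximalSpectrum B ↦ i.asIdeal) := by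
    intro i j hij
    haveI := i.isMaximal
    haveI := j.isMaximal
    exact Ideal.isCoprime_of_isMaximal (fun h ↦ hij (MaximalSpectrum.ext h))
  have hcrt : ∀ i : MaximalSpectrum B, ∃ e : B, ∀ j : MaximalSpectrum B,
      e - (if j = i then 1 else 0) ∈ j.asIdeal :=
    fun i ↦ Ideal.exists_forall_sub_mem_ideal hcop (fun j ↦ if j = i then 1 else 0)
  choose e he using hcrt
  let w : Fin n → M := fun k ↦ ∑ i, e i • v i k
  have hw : ∀ j : MaximalSpectrum B,
      (⊤ : Submodule B M) ≤ Submodule.span B (Set.range w) ⊔ j.asIdeal • ⊤ := by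
    intro j
    refine (hv j).trans (sup_le ?_ le_sup_right)
    rw [Submodule.span_le]
    rintro _ ⟨k, rfl⟩
    have hdiff : v j k - w k ∈ j.asIdeal • (⊤ : Submodule B M) := by
      have : v j k - w k = ∑ i, ((if i = j then (1 : B) else 0) - e i) • v i k := by
        simp only [w, sub_smul, Finset.sum_sub_distrib, ite_smul, one_smul, zero_smul,
          Finset.sum_ite_eq', Finset.mem_univ, if_true]
      rw [this]
      refine Submodule.sum_mem _ fun i _ ↦ Submodule.smul_mem_smul ?_ Submodule.mem_top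
      have h1 := he i j
      have h2 : (if i = j then (1 : B) else 0) - e i = -(e i - (if j = i then 1 else 0)) := by
        by_cases hij : i = j
        · subst hij; simp
        · simp [hij, Ne.symm hij]
      rw [h2]
      exact (Ideal.neg_mem_iff _).mpr h1
    have : v j k = w k + (v j k - w k) := by abel
    rw [this]
    exact Submodule.add_mem _ (Submodule.mem_sup_left (Submodule.subset_span ⟨k, rfl⟩))
      (Submodule.mem_sup_right hdiff)
  refine ⟨w, ?_⟩
  have hprod : ∀ s : Finset (MaximalSpectrum B),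
      (⊤ : Submodule B M) ≤ Submodule.span B (Set.range w) ⊔ (∏ j ∈ s, j.asIdeal) • ⊤ := by
    intro s
    induction s using Finset.induction_on with
    | empty => simp
    | insert a s ha ih =>
      rw [Finset.prod_insert ha]
      exact top_le_sup_mul_smul _ _ _ (hw a) ih
  have hjac : (∏ j ∈ (Finset.univ : Finset (MaximalSpectrum B)), j.asIdeal) ≤
      Ideal.jacobson (⊥ : Ideal B) := by
    refine le_sInf ?_
    rintro J ⟨-, hJ⟩
    exact (Ideal.prod_le_inf).trans (Finset.inf_le (b := (⟨J, hJ⟩ : MaximalSpectrum B))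
      (Finset.mem_univ _))
  exact top_le_iff.mp (Submodule.le_of_le_smul_of_le_jacobson_bot
    (Module.finite_def.mp inferInstance) hjac (hprod Finset.univ))

end semilocal

section descent

variable {B : Type u} [CommRing B] {M : Type u} [AddCommGroup M] [Module B M]

/-- Generation modulo a maximal ideal descends from a principal localization. -/
theorem gen_of_gen_localized (g : B) (𝔪 : Ideal B) [h𝔪 : 𝔪.IsMaximal] (hg : g ∉ 𝔪) (n : ℕ)
    (h : ∃ v' : Fin n → LocalizedModule (Submonoid.powers g) M,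
      (⊤ : Submodule (Localization.Away g) (LocalizedModule (Submonoid.powers g) M)) ≤
        Submodule.span (Localization.Away g) (Set.range v') ⊔
          (𝔪.map (algebraMap B (Localization.Away g))) • ⊤) :
    ∃ v : Fin n → M, (⊤ : Submodule B M) ≤ Submodule.span B (Set.range v) ⊔ 𝔪 • ⊤ := by
  classical
  obtain ⟨v', hv'⟩ := h
  let f := LocalizedModule.mkLinearMap (Submonoid.powers g) M
  have hsurj : ∀ k, ∃ m : M, ∃ s : Submonoid.powers g, IsLocalizedModule.mk' f m s = v' k := by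
    intro k
    obtain ⟨⟨m, s⟩, hms⟩ := IsLocalizedModule.mk'_surjective (Submonoid.powers g) f (v' k)
    exact ⟨m, s, hms⟩
  choose v sv hvs using hsurj
  refine ⟨v, ?_⟩
  obtain ⟨N, hN⟩ : ∃ N : Submodule B M, N = Submodule.span B (Set.range v) ⊔ 𝔪 • ⊤ := ⟨_, rfl⟩
  rw [← hN]
  have h𝔪N : 𝔪 • (⊤ : Submodule B M) ≤ N := hN ▸ le_sup_right
  let NL : Submodule (Localization.Away g) (LocalizedModule (Submonoid.powers g) M) :=
    N.localized' (Localization.Away g) (Submonoid.powers g) f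
  have hle : Submodule.span (Localization.Away g) (Set.range v') ⊔
      (𝔪.map (algebraMap B (Localization.Away g))) • ⊤ ≤ NL := by
    apply sup_le
    · rw [Submodule.span_le]
      rintro _ ⟨k, rfl⟩
      refine (Submodule.mem_localized' _ _ _ _ _).mpr ⟨v k, ?_, sv k, hvs k⟩
      rw [hN]
      exact Submodule.mem_sup_left (Submodule.subset_span ⟨k, rfl⟩)
    · rw [Submodule.smul_le]
      intro r hr y _
      rw [Ideal.map] at hr
      induction hr using Submodule.span_induction with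
      | mem r hr =>
        obtain ⟨μ, hμ, rfl⟩ := hr
        obtain ⟨⟨m, s⟩, rfl⟩ := IsLocalizedModule.mk'_surjective (Submonoid.powers g) f y
        refine (Submodule.mem_localized' _ _ _ _ _).mpr ⟨μ • m, ?_, s, ?_⟩
        · exact h𝔪N (Submodule.smul_mem_smul hμ Submodule.mem_top)
        · simp only [Function.uncurry_apply_pair]
          rw [IsLocalizedModule.mk'_smul, algebraMap_smul]
      | zero => simp
      | add a b _ _ ha hb => rw [add_smul]; exact Submodule.add_mem _ ha hb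
      | smul t a _ ha => rw [smul_eq_mul, mul_smul]; exact Submodule.smul_mem _ _ ha
  intro x _
  have hx : f x ∈ NL := hle (hv' Submodule.mem_top)
  obtain ⟨n₀, hn₀, s, hs⟩ := (Submodule.mem_localized' _ _ _ _ _).mp hx
  rw [IsLocalizedModule.mk'_eq_iff, Submonoid.smul_def, ← map_smul] at hs
  obtain ⟨c, hc⟩ := (IsLocalizedModule.eq_iff_exists (Submonoid.powers g) f).mp hs
  obtain ⟨_, e1, rfl⟩ := c
  obtain ⟨_, e2, rfl⟩ := s
  have hgx : (g ^ (e1 + e2)) • x ∈ N := by
    have : (g ^ (e1 + e2)) • x = g ^ e1 • n₀ := by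
      rw [pow_add, mul_smul]
      exact hc.symm
    rw [this]
    exact N.smul_mem _ hn₀
  obtain ⟨y, i, hi, hyi⟩ := h𝔪.exists_inv hg
  have hmem : (y * g) ^ (e1 + e2) - 1 ∈ 𝔪 := by
    rw [← Ideal.Quotient.eq_zero_iff_mem, map_sub, map_pow, map_one]
    have : Ideal.Quotient.mk 𝔪 (y * g) = 1 := by
      rw [← map_one (Ideal.Quotient.mk 𝔪), ← hyi, map_add, Ideal.Quotient.eq_zero_iff_mem.mpr hi,
        add_zero]
    rw [this, one_pow, sub_self]
  have hx2 : x = (y ^ (e1 + e2)) • ((g ^ (e1 + e2)) • x) - ((y * g) ^ (e1 + e2) - 1) • x := by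
    rw [sub_smul, one_smul, mul_pow, mul_smul]
    abel
  rw [hx2]
  exact N.sub_mem (N.smul_mem _ hgx) (h𝔪N (Submodule.smul_mem_smul hmem Submodule.mem_top))

end descent

section count

variable {T : Type u} [CommRing T] (𝔪 : Ideal T) [h𝔪 : 𝔪.IsMaximal]
  {M N : Type u} [AddCommGroup M] [Module T M] [AddCommGroup N] [Module T N]

attribute [local instance] Ideal.Quotient.field

lemma exists_one_tmul_eq (z : (T ⧸ 𝔪) ⊗[T] M) : ∃ m : M, (1 : T ⧸ 𝔪) ⊗ₜ[T] m = z := by
  induction z using TensorProduct.induction_on with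
  | zero => exact ⟨0, by simp⟩
  | tmul q m =>
    obtain ⟨t, rfl⟩ := Ideal.Quotient.mk_surjective q
    refine ⟨t • m, ?_⟩
    rw [← TensorProduct.smul_tmul]
    congr 1
    rw [Algebra.smul_def, mul_one]
    rfl
  | add x y hx hy =>
    obtain ⟨a, rfl⟩ := hx
    obtain ⟨b, rfl⟩ := hy
    exact ⟨a + b, TensorProduct.tmul_add _ _ _⟩

lemma mem_smul_top_of_one_tmul_eq_zero (y : M) (hy : (1 : T ⧸ 𝔪) ⊗ₜ[T] y = 0) :
    y ∈ 𝔪 • (⊤ : Submodule T M) := by
  have h := congrArg (TensorProduct.quotTensorEquivQuotSMul M 𝔪) hy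
  rw [map_zero, ← map_one (Ideal.Quotient.mk 𝔪),
    TensorProduct.quotTensorEquivQuotSMul_mk_tmul, one_smul] at h
  exact (Submodule.Quotient.mk_eq_zero _).mp h

lemma span_one_tmul_eq_top {c : ℕ} (u : Fin c → N) (hu : Submodule.span T (Set.range u) = ⊤) :
    Submodule.span (T ⧸ 𝔪) (Set.range fun j ↦ (1 : T ⧸ 𝔪) ⊗ₜ[T] u j) = ⊤ := by
  have h1 : ∀ n : N, (1 : T ⧸ 𝔪) ⊗ₜ[T] n ∈
      Submodule.span (T ⧸ 𝔪) (Set.range fun j ↦ (1 : T ⧸ 𝔪) ⊗ₜ[T] u j) := by
    intro n
    have hn : n ∈ Submodule.span T (Set.range u) := hu ▸ Submodule.mem_top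
    induction hn using Submodule.span_induction with
    | mem x hx =>
      obtain ⟨j, rfl⟩ := hx
      exact Submodule.subset_span ⟨j, rfl⟩
    | zero => rw [TensorProduct.tmul_zero]; exact Submodule.zero_mem _
    | add x y _ _ hx hy => rw [TensorProduct.tmul_add]; exact Submodule.add_mem _ hx hy
    | smul t x _ hx =>
      rw [TensorProduct.tmul_smul, ← algebraMap_smul (T ⧸ 𝔪) t]
      exact Submodule.smul_mem _ _ hx
  rw [eq_top_iff]
  intro z _
  obtain ⟨m, rfl⟩ := exists_one_tmul_eq 𝔪 z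
  exact h1 m

/-- From a stable isomorphism to a bound on the number of generators modulo a maximal ideal. -/
theorem gen_of_equiv {a b c : ℕ} (hca : c ≤ a)
    (Φ : (M × (Fin a → T)) ≃ₗ[T] (N × (Fin b → T)))
    (u : Fin c → N) (hu : Submodule.span T (Set.range u) = ⊤) :
    ∃ v : Fin b → M, (⊤ : Submodule T M) ≤ Submodule.span T (Set.range v) ⊔ 𝔪 • ⊤ := by
  classical
  let κ := T ⧸ 𝔪
  let Ψ : κ ⊗[T] (M × (Fin a → T)) ≃ₗ[κ] κ ⊗[T] (N × (Fin b → T)) :=
    TensorProduct.AlgebraTensorModule.congr (LinearEquiv.refl κ κ) Φ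
  let e1 : κ ⊗[T] (M × (Fin a → T)) ≃ₗ[κ] (κ ⊗[T] M) × (Fin a → κ) :=
    (TensorProduct.prodRight T κ κ M (Fin a → T)).trans
      (LinearEquiv.prodCongr (LinearEquiv.refl κ _) (TensorProduct.piScalarRight T κ κ (Fin a)))
  let e2 : κ ⊗[T] (N × (Fin b → T)) ≃ₗ[κ] (κ ⊗[T] N) × (Fin b → κ) :=
    (TensorProduct.prodRight T κ κ N (Fin b → T)).trans
      (LinearEquiv.prodCongr (LinearEquiv.refl κ _) (TensorProduct.piScalarRight T κ κ (Fin b)))
  let Θ : ((κ ⊗[T] M) × (Fin a → κ)) ≃ₗ[κ] ((κ ⊗[T] N) × (Fin b → κ)) :=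
    e1.symm.trans (Ψ.trans e2)
  have hspanN := span_one_tmul_eq_top 𝔪 u hu
  haveI : Module.Finite κ (κ ⊗[T] N) := Module.finite_def.mpr
    ⟨Finset.univ.image (fun j ↦ (1 : κ) ⊗ₜ[T] u j), by
      rw [Finset.coe_image, Finset.coe_univ, Set.image_univ]; exact hspanN⟩
  let pr : ((κ ⊗[T] N) × (Fin b → κ)) →ₗ[κ] (κ ⊗[T] M) :=
    (LinearMap.fst κ (κ ⊗[T] M) (Fin a → κ)) ∘ₗ
      (Θ.symm : ((κ ⊗[T] N) × (Fin b → κ)) →ₗ[κ] ((κ ⊗[T] M) × (Fin a → κ)))
  haveI : Module.Finite κ (κ ⊗[T] M) :=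
    Module.Finite.of_surjective pr (fun z ↦ ⟨Θ (z, 0), by simp [pr]⟩)
  have hN : Module.finrank κ (κ ⊗[T] N) ≤ c := by
    have := finrank_le_of_span_eq_top hspanN
    simpa using this
  have hΘ := LinearEquiv.finrank_eq Θ
  rw [Module.finrank_prod, Module.finrank_prod, Module.finrank_fin_fun, Module.finrank_fin_fun]
    at hΘ
  have hM : Module.finrank κ (κ ⊗[T] M) ≤ b := by omega
  obtain ⟨d, hd⟩ : ∃ d, d = Module.finrank κ (κ ⊗[T] M) := ⟨_, rfl⟩
  let bs : Module.Basis (Fin d) κ (κ ⊗[T] M) := hd ▸ Module.finBasis κ (κ ⊗[T] M)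
  let w : Fin b → κ ⊗[T] M := fun k ↦ if h : k.val < d then bs ⟨k.val, h⟩ else 0
  have hw : Submodule.span κ (Set.range w) = ⊤ := by
    rw [eq_top_iff, ← bs.span_eq, Submodule.span_le]
    rintro _ ⟨i, rfl⟩
    refine Submodule.subset_span ⟨⟨i.val, lt_of_lt_of_le i.2 (hd ▸ hM)⟩, ?_⟩
    simp [w, i.2]
  choose v hv using fun k ↦ exists_one_tmul_eq 𝔪 (w k)
  refine ⟨v, ?_⟩
  intro x _
  have hx : (1 : κ) ⊗ₜ[T] x ∈ Submodule.span κ (Set.range w) := hw ▸ Submodule.mem_top
  obtain ⟨cb, hcb⟩ := (Submodule.mem_span_range_iff_exists_fun κ).mp hx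
  choose ct hct using fun k ↦ Ideal.Quotient.mk_surjective (cb k)
  have hzero : (1 : κ) ⊗ₜ[T] (x - ∑ k, ct k • v k) = 0 := by
    rw [TensorProduct.tmul_sub, TensorProduct.tmul_sum, ← hcb, sub_eq_zero]
    refine Finset.sum_congr rfl fun k _ ↦ ?_
    rw [TensorProduct.tmul_smul, hv, ← hct, ← algebraMap_smul (T ⧸ 𝔪) (ct k)]
    rfl
  have hy := mem_smul_top_of_one_tmul_eq_zero 𝔪 _ hzero
  have : x = ∑ k, ct k • v k + (x - ∑ k, ct k • v k) := by abel
  rw [this]
  exact Submodule.add_mem _ (Submodule.mem_sup_left (Submodule.sum_mem _ fun k _ ↦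
    Submodule.smul_mem _ _ (Submodule.subset_span ⟨k, rfl⟩))) (Submodule.mem_sup_right hy)

end count

section pres

open MvPolynomial

variable {A B : Type u} [CommRing A] [CommRing B] [Algebra A B] {n : ℕ}

/-- adding a variable -/
noncomputable abbrev inc (A : Type u) [CommRing A] (n : ℕ) :
    MvPolynomial (Fin n) A →ₐ[A] MvPolynomial (Fin (n + 1)) A := rename Fin.succ

/-- specialising the new variable to `1` -/
noncomputable abbrev spec (A : Type u) [CommRing A] (n : ℕ) :
    MvPolynomial (Fin (n + 1)) A →ₐ[A] MvPolynomial (Fin n) A :=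
  aeval (Fin.cons (1 : MvPolynomial (Fin n) A) X : Fin (n + 1) → MvPolynomial (Fin n) A)

lemma spec_inc (p : MvPolynomial (Fin n) A) : spec A n (inc A n p) = p := by
  have : (spec A n).comp (inc A n) = AlgHom.id A _ := by
    apply MvPolynomial.algHom_ext
    intro i
    simp [inc, spec]
  exact DFunLike.congr_fun this p

lemma sub_inc_spec_mem (h : MvPolynomial (Fin (n + 1)) A) :
    h - inc A n (spec A n h) ∈ Ideal.span {(X 0 - 1 : MvPolynomial (Fin (n + 1)) A)} := by
  induction h using MvPolynomial.induction_on with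
  | C a => simp [inc, spec]
  | add p q hp hq =>
    have : p + q - inc A n (spec A n (p + q)) =
        (p - inc A n (spec A n p)) + (q - inc A n (spec A n q)) := by
      rw [map_add, map_add]; ring
    rw [this]
    exact Ideal.add_mem _ hp hq
  | mul_X p i hp =>
    have hX : (X i : MvPolynomial (Fin (n + 1)) A) - inc A n (spec A n (X i)) ∈
        Ideal.span {(X 0 - 1 : MvPolynomial (Fin (n + 1)) A)} := by
      refine Fin.cases ?_ (fun j ↦ ?_) i
      · simp only [spec, inc, aeval_X, Fin.cons_zero, map_one]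
        exact Ideal.subset_span rfl
      · simp only [spec, inc, aeval_X, Fin.cons_succ, rename_X, sub_self]
        exact Ideal.zero_mem _
    have : p * X i - inc A n (spec A n (p * X i)) =
        (p - inc A n (spec A n p)) * X i +
          inc A n (spec A n p) * (X i - inc A n (spec A n (X i))) := by
      rw [map_mul, map_mul]; ring
    rw [this]
    exact Ideal.add_mem _ (Ideal.mul_mem_right _ _ hp) (Ideal.mul_mem_left _ _ hX)

/-- The square presentation obtained from generators of the conormal module (Stacks 0FKX). -/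
theorem exists_square_presentation (α : MvPolynomial (Fin n) A →ₐ[A] B)
    (hα : Function.Surjective α)
    (f : Fin n → MvPolynomial (Fin n) A) (g₀ : MvPolynomial (Fin n) A)
    (hf : ∀ j, α (f j) = 0) (hg₀ : α g₀ = 1)
    (hmul : ∀ x, α x = 0 → g₀ * x ∈ Ideal.span (Set.range f)) :
    ∃ F : Fin (n + 1) → MvPolynomial (Fin (n + 1)) A,
      Nonempty (B ≃ₐ[A] MvPolynomial (Fin (n + 1)) A ⧸ Ideal.span (Set.range F)) := by
  classical
  let y : MvPolynomial (Fin (n + 1)) A := X 0
  let F : Fin (n + 1) → MvPolynomial (Fin (n + 1)) A :=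
    Fin.cons (y * inc A n g₀ - 1) (fun j ↦ inc A n (f j))
  let φ : MvPolynomial (Fin (n + 1)) A →ₐ[A] B := α.comp (spec A n)
  have hφsurj : Function.Surjective φ := by
    intro b
    obtain ⟨p, rfl⟩ := hα b
    exact ⟨inc A n p, by simp only [φ, AlgHom.comp_apply, spec_inc]⟩
  obtain ⟨𝔞, h𝔞⟩ : ∃ 𝔞 : Ideal (MvPolynomial (Fin (n + 1)) A), 𝔞 = Ideal.span (Set.range F) :=
    ⟨_, rfl⟩
  have hF0 : y * inc A n g₀ - 1 ∈ 𝔞 := h𝔞 ▸ Ideal.subset_span ⟨0, by simp [F]⟩
  have hFs : ∀ j, inc A n (f j) ∈ 𝔞 := fun j ↦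
    h𝔞 ▸ Ideal.subset_span ⟨j.succ, by simp [F]⟩
  have hincf : ∀ z ∈ Ideal.span (Set.range f), inc A n z ∈ 𝔞 := by
    intro z hz
    induction hz using Submodule.span_induction with
    | mem z hz => obtain ⟨j, rfl⟩ := hz; exact hFs j
    | zero => rw [map_zero]; exact Ideal.zero_mem _
    | add a b _ _ ha hb => rw [map_add]; exact Ideal.add_mem _ ha hb
    | smul t a _ ha => rw [smul_eq_mul, map_mul]; exact Ideal.mul_mem_left _ _ ha
  have hI : ∀ x, α x = 0 → inc A n x ∈ 𝔞 := by
    intro x hx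
    have h1 := hincf _ (hmul x hx)
    have : inc A n x = y * inc A n (g₀ * x) - (y * inc A n g₀ - 1) * inc A n x := by
      rw [map_mul]; ring
    rw [this]
    exact Ideal.sub_mem _ (Ideal.mul_mem_left _ _ h1) (Ideal.mul_mem_right _ _ hF0)
  have hy : y - 1 ∈ 𝔞 := by
    have h1 : inc A n (g₀ - 1) ∈ 𝔞 := hI _ (by rw [map_sub, hg₀, map_one, sub_self])
    have : y - 1 = (y * inc A n g₀ - 1) - y * inc A n (g₀ - 1) := by
      rw [map_sub, map_one]; ring
    rw [this]
    exact Ideal.sub_mem _ hF0 (Ideal.mul_mem_left _ _ h1)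
  have hker : RingHom.ker φ.toRingHom = 𝔞 := by
    apply le_antisymm
    · intro h hh
      have h1 : α (spec A n h) = 0 := hh
      have h2 := hI _ h1
      have h3 : h - inc A n (spec A n h) ∈ 𝔞 :=
        (Ideal.span_le.mpr (by
          intro z hz
          rw [Set.mem_singleton_iff] at hz
          rw [hz]
          exact hy)) (sub_inc_spec_mem h)
      have : h = (h - inc A n (spec A n h)) + inc A n (spec A n h) := by ring
      rw [this]
      exact Ideal.add_mem _ h3 h2
    · rw [h𝔞, Ideal.span_le]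
      rintro _ ⟨i, rfl⟩
      refine Fin.cases ?_ (fun j ↦ ?_) i
      · show φ (F 0) = 0
        simp only [F, Fin.cons_zero, φ, AlgHom.comp_apply, map_sub, map_mul, map_one, spec_inc,
          hg₀, y]
        simp [spec]
      · show φ (F j.succ) = 0
        simp only [F, Fin.cons_succ, φ, AlgHom.comp_apply, spec_inc, hf]
  refine ⟨F, ⟨?_⟩⟩
  rw [← h𝔞, ← hker]
  exact (Ideal.quotientKerAlgEquivOfSurjective hφsurj).symm

end pres

end Groth.Agent.H13.FinSynt
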