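import Groth.Agent.H66.RelCI4
import Groth.Agent.H66.RelGCI5
import Groth.Agent.H13.Conormal
import Groth.Agent.H13.FinSynt

/-!
# Finite syntomic algebras over a local ring have a square presentation
-/

open TensorProduct MvPolynomial

namespace Groth.Agent.H13.FinSyntMain

universe u

open Groth.Agent.H13.FinSynt

section

variable (A B : Type u) [CommRing A] [CommRing B] [Algebra A B]

/-- a relative complete intersection presentation with as many equations as variables which is
finite is syntomic -/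
theorem isSyntomic_of_equiv [Module.Finite A B] (n : ℕ) (F : Fin n → MvPolynomial (Fin n) A)
    (e : B ≃ₐ[A] Synt.RelGCIRing A n n F) : Synt.IsSyntomic A B := by
  haveI : Module.Finite A (Synt.RelGCIRing A n n F) := Module.Finite.equiv e.toLinearEquiv
  have hrel : Synt.IsRelGCI A n n F := by
    intro p hnt
    refine ⟨le_rfl, ?_⟩
    haveI := hnt
    haveI : IsArtinianRing (p.asIdeal.Fiber (Synt.RelGCIRing A n n F)) := inferInstance
    rw [Nat.sub_self, Nat.cast_zero]
    exact ringKrullDimZero_iff_ringKrullDim_eq_zero.mp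
      (Ring.KrullDimLE.mk₀ fun I hI ↦ by
        haveI := hI
        exact @IsArtinianRing.isMaximal_of_isPrime
          (p.asIdeal.Fiber (Synt.RelGCIRing A n n F)) _ I hI _)
  exact Groth.Agent.H66.RelCI.isSyntomic_of_algEquiv e.symm
    (Groth.Agent.H66.RelGCI.isSyntomic_of_isRelGCI A n n F hrel)

variable {A B}

lemma isMaximal_map_away (g : B) (𝔪 : Ideal B) [h𝔪 : 𝔪.IsMaximal] (hg : g ∉ 𝔪) :
    (𝔪.map (algebraMap B (Localization.Away g))).IsMaximal := by
  have hdisj : Disjoint (Submonoid.powers g : Set B) (𝔪 : Set B) := by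
    rw [Set.disjoint_left]
    rintro _ ⟨k, rfl⟩ hk
    exact hg (h𝔪.isPrime.mem_of_pow_mem k hk)
  have hne : 𝔪.map (algebraMap B (Localization.Away g)) ≠ ⊤ :=
    (IsLocalization.map_algebraMap_ne_top_iff_disjoint (Submonoid.powers g) _ 𝔪).mpr hdisj
  refine Ideal.isMaximal_iff.mpr ⟨fun h1 ↦ hne ((Ideal.eq_top_iff_one _).mpr h1), ?_⟩
  intro K x hJK hxJ hxK
  by_contra h1
  have hKne : K ≠ ⊤ := fun h ↦ h1 (h ▸ Submodule.mem_top)
  have hcomap : 𝔪 ≤ K.under B := Ideal.le_comap_of_map_le hJK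
  have hcne : K.under B ≠ ⊤ := by
    intro h
    apply hKne
    rw [← IsLocalization.map_under (Submonoid.powers g) (Localization.Away g) K, h, Ideal.map_top]
  have heq : 𝔪 = K.under B := h𝔪.eq_of_le hcne hcomap
  have : K = 𝔪.map (algebraMap B (Localization.Away g)) := by
    rw [heq, IsLocalization.map_under (Submonoid.powers g) (Localization.Away g) K]
  exact hxJ (this ▸ hxK)

variable (A B)

lemma finite_maximalSpectrum [IsLocalRing A] [Module.Finite A B] : Finite (MaximalSpectrum B) := by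
  have hfin := Algebra.QuasiFinite.finite_primesOver (S := B) (IsLocalRing.maximalIdeal A)
  haveI := hfin.to_subtype
  let φ : MaximalSpectrum B → (IsLocalRing.maximalIdeal A).primesOver B := fun 𝔪 ↦
    ⟨𝔪.asIdeal, 𝔪.isMaximal.isPrime, ⟨by
      haveI := 𝔪.isMaximal
      have h := Ideal.isMaximal_comap_of_isIntegral_of_isMaximal (R := A) 𝔪.asIdeal
      exact (IsLocalRing.eq_maximalIdeal h).symm⟩⟩
  exact Finite.of_injective φ (fun a b h ↦ MaximalSpectrum.ext (congrArg Subtype.val h))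

set_option maxHeartbeats 800000 in
/-- **Finite syntomic over a local ring ⇒ square presentation.** -/
theorem exists_square_of_isSyntomic [IsLocalRing A] [Module.Finite A B]
    (h : Synt.IsSyntomic A B) :
    ∃ (n : ℕ) (F : Fin n → MvPolynomial (Fin n) A),
      Nonempty (B ≃ₐ[A] Synt.RelGCIRing A n n F) := by
  classical
  have hfp : Algebra.FinitePresentation A B := h.2.1
  haveI : Algebra.FiniteType A B := inferInstance
  obtain ⟨n, α, hα⟩ := Algebra.FiniteType.iff_quotient_mvPolynomial''.mp ‹Algebra.FiniteType A B›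
  have hIfg : (RingHom.ker α.toRingHom).FG :=
    Algebra.FinitePresentation.ker_fG_of_surjective α hα
  let Eα := Algebra.Extension.ofSurjective α hα
  have hker : Eα.ker = RingHom.ker α.toRingHom := rfl
  haveI : Module.Finite B Eα.Cotangent := Algebra.Extension.Cotangent.finite (hker ▸ hIfg)
  haveI := finite_maximalSpectrum A B
  have hgen : ∀ 𝔪 : MaximalSpectrum B, ∃ v : Fin n → Eα.Cotangent,
      (⊤ : Submodule B Eα.Cotangent) ≤ Submodule.span B (Set.range v) ⊔ 𝔪.asIdeal • ⊤ := by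
    intro 𝔪
    haveI := 𝔪.isMaximal
    obtain ⟨g, hg𝔪, n', c', F', hrel, ⟨e⟩⟩ :=
      Groth.Agent.H66.RelCI.exists_relGCI_of_isSyntomic h ⟨𝔪.asIdeal, 𝔪.isMaximal.isPrime⟩
    haveI hmax := isMaximal_map_away g 𝔪.asIdeal hg𝔪
    have hcn : c' ≤ n' := by
      let q' : Ideal (Synt.RelGCIRing A n' c' F') :=
        (𝔪.asIdeal.map (algebraMap B (Localization.Away g))).comap
          (e.symm : Synt.RelGCIRing A n' c' F' →+* Localization.Away g)
      haveI : q'.IsPrime := Ideal.comap_isPrime _ _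
      let p : Ideal A := q'.under A
      haveI : p.IsPrime := inferInstance
      haveI : q'.LiesOver p := ⟨rfl⟩
      have hne : Nonempty (PrimeSpectrum (p.Fiber (Synt.RelGCIRing A n' c' F'))) :=
        ⟨PrimeSpectrum.primesOverOrderIsoFiber A _ p ⟨q', inferInstance, inferInstance⟩⟩
      haveI := PrimeSpectrum.nonempty_iff_nontrivial.mp hne
      exact (hrel ⟨p, inferInstance⟩ inferInstance).1
    let β : MvPolynomial (Fin n') A →ₐ[A] Localization.Away g :=
      (e.symm : Synt.RelGCIRing A n' c' F' →ₐ[A] Localization.Away g).comp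
        (Ideal.Quotient.mkₐ A (Ideal.span (Set.range F')))
    have hβ : Function.Surjective β :=
      e.symm.surjective.comp (Ideal.Quotient.mkₐ_surjective A _)
    obtain ⟨Φ⟩ := Groth.Agent.H13.Conormal.main A B g n n' α hα β hβ
    let Eβ := Algebra.Extension.ofSurjective β hβ
    have hkerβ : Ideal.span (Set.range F') = Eβ.ker := by
      ext x
      show x ∈ _ ↔ β x = 0
      simp only [β, AlgHom.comp_apply, AlgEquiv.coe_toAlgHom, EmbeddingLike.map_eq_zero_iff,
        Ideal.Quotient.mkₐ_eq_mk, Ideal.Quotient.eq_zero_iff_mem]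
    have hu := Algebra.Extension.Cotangent.span_eq_top_of_span_eq_ker (P := Eβ) F' hkerβ
    obtain ⟨v', hv'⟩ := gen_of_equiv (𝔪.asIdeal.map (algebraMap B (Localization.Away g)))
      hcn Φ _ hu
    exact gen_of_gen_localized g 𝔪.asIdeal hg𝔪 n ⟨v', hv'⟩
  obtain ⟨v, hv⟩ := exists_span_eq_top_of_forall_maximal n hgen
  choose f hf using fun j ↦ Algebra.Extension.Cotangent.mk_surjective (v j)
  obtain ⟨𝔣, h𝔣⟩ : ∃ 𝔣 : Ideal Eα.Ring, 𝔣 = Ideal.span (Set.range fun j ↦ (f j).1) := ⟨_, rfl⟩
  have hdecomp : ∀ x ∈ Eα.ker, ∃ z ∈ 𝔣, x - z ∈ Eα.ker * Eα.ker := by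
    intro x hxk
    have hx' : Algebra.Extension.Cotangent.mk (P := Eα) ⟨x, hxk⟩ ∈
        Submodule.span B (Set.range v) := hv ▸ Submodule.mem_top
    obtain ⟨b, hb⟩ := (Submodule.mem_span_range_iff_exists_fun B).mp hx'
    choose p hp using fun j ↦ Eα.algebraMap_surjective (b j)
    refine ⟨((∑ j, p j • f j : Eα.ker) : Eα.Ring), ?_, ?_⟩
    · rw [AddSubmonoidClass.coe_finsetSum, h𝔣]
      refine Ideal.sum_mem _ fun j _ ↦ ?_
      rw [SetLike.val_smul, smul_eq_mul]
      exact Ideal.mul_mem_left _ _ (Ideal.subset_span ⟨j, rfl⟩)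
    · have h0 : Algebra.Extension.Cotangent.mk (P := Eα) (⟨x, hxk⟩ - ∑ j, p j • f j) = 0 := by
        rw [map_sub, sub_eq_zero, ← hb, map_sum]
        refine Finset.sum_congr rfl fun j _ ↦ ?_
        rw [map_smul, hf, ← hp j]
        exact (algebraMap_smul B (p j) (v j)).symm
      have h1 := (Algebra.Extension.Cotangent.mk_eq_zero_iff _).mp h0
      rw [sq] at h1
      simpa using h1
  obtain ⟨r, hr1, hr2⟩ := Submodule.exists_sub_one_mem_and_smul_eq_zero_of_fg_of_le_smul Eα.ker
    (Submodule.map (Submodule.mkQ 𝔣) Eα.ker)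
    (Submodule.FG.map (Submodule.mkQ 𝔣) (hker ▸ hIfg)) (by
      rw [← Submodule.map_smul'']
      rintro _ ⟨x, hx, rfl⟩
      obtain ⟨z, hz, hxz⟩ := hdecomp x hx
      refine ⟨x - z, hxz, ?_⟩
      rw [map_sub, Submodule.mkQ_apply, Submodule.mkQ_apply,
        (Submodule.Quotient.mk_eq_zero 𝔣).mpr hz, sub_zero])
  have hαr : algebraMap Eα.Ring B r = 1 := by
    have : algebraMap Eα.Ring B (r - 1) = 0 := RingHom.mem_ker.mp hr1
    rw [map_sub, map_one, sub_eq_zero] at this
    exact this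
  have hmul : ∀ x : Eα.Ring, algebraMap Eα.Ring B x = 0 → r * x ∈ Ideal.span
      (Set.range fun j ↦ (f j).1) := by
    intro x hx
    have hxI : x ∈ Eα.ker := RingHom.mem_ker.mpr hx
    have := hr2 (Submodule.mkQ 𝔣 x) ⟨x, hxI, rfl⟩
    rw [← map_smul, Submodule.mkQ_apply, Submodule.Quotient.mk_eq_zero, smul_eq_mul] at this
    exact h𝔣 ▸ this
  obtain ⟨F, hF⟩ := exists_square_presentation α hα
    (fun j ↦ (f j).1) r (fun j ↦ RingHom.mem_ker.mp (f j).2) hαr hmul
  exact ⟨n + 1, F, hF⟩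

end

end Groth.Agent.H13.FinSyntMain
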