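import Mathlib
import Groth.Prelude.Def_Found
import Groth.Agent.S0536
import Groth.Agent.Lead.CompleteNoetherian
import Groth.Agent.H24.FGSubLimit
import Groth.Agent.H24.QuotFGLimit

/-!
# Functorial approximation over Henselian pairs with regular completion (helper13)

Given Popescu's theorem (as a hypothesis `hP`, verbatim the statement of S0595), a functor
`F` on `A`-algebras commuting with filtered colimits satisfies: `F(A) → F(Â)` is injective and
the images of `F(A)` and `F(Â)` in `F(A/I)` agree.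
-/

set_option autoImplicit false
universe u
open CategoryTheory CategoryTheory.Limits

namespace Groth.Agent.H13.FunctApprox

open Groth.Agent.H24

section general

variable {A : Type u} [CommRing A]

/-- forget of `CommAlgCat A` factors through `Under`. -/
noncomputable def forgetIso :
    forget (CommAlgCat.{u} A) ≅
      (commAlgCatEquivUnder (.of A)).functor ⋙ Under.forget _ ⋙ forget CommRingCat.{u} :=
  NatIso.ofComponents (fun B => Iso.refl _) (by
    intro B B' f
    rfl)

theorem forget_preservesFiltered (J : Type u) [SmallCategory J] [IsFiltered J] :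
    PreservesColimitsOfShape J (forget (CommAlgCat.{u} A)) := by
  have : PreservesColimitsOfShape J (forget CommRingCat.{u}) := inferInstance
  have : PreservesColimitsOfShape J (Under.forget (CommRingCat.of A)) := inferInstance
  exact preservesColimitsOfShape_of_natIso (forgetIso (A := A)).symm

/-- All `A`-algebra maps out of `A` agree. -/
theorem algHom_self_eq {X : Type u} [CommRing X] [Algebra A X] (f g : A →ₐ[A] X) : f = g :=
  AlgHom.ext fun a => (f.commutes a).trans (g.commutes a).symm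

variable (F : CommAlgCat.{u} A ⥤ Type u)

theorem map_comp_apply {X Y Z : Type u} [CommRing X] [CommRing Y] [CommRing Z]
    [Algebra A X] [Algebra A Y] [Algebra A Z] (f : X →ₐ[A] Y) (g : Y →ₐ[A] Z)
    (x : F.obj (CommAlgCat.of A X)) :
    F.map (CommAlgCat.ofHom (g.comp f)) x =
      F.map (CommAlgCat.ofHom g) (F.map (CommAlgCat.ofHom f) x) := by
  rw [CommAlgCat.ofHom_comp, F.map_comp]
  rfl

theorem map_id_apply {X : Type u} [CommRing X] [Algebra A X]
    (x : F.obj (CommAlgCat.of A X)) :
    F.map (CommAlgCat.ofHom (AlgHom.id A X)) x = x := by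
  rw [CommAlgCat.ofHom_id, F.map_id]
  rfl

/-- Maps from `A` : `F(g) (F(ofId) x) = F(ofId) x`. -/
theorem map_ofId {X Y : Type u} [CommRing X] [CommRing Y] [Algebra A X] [Algebra A Y]
    (g : X →ₐ[A] Y) (x : F.obj (CommAlgCat.of A A)) :
    F.map (CommAlgCat.ofHom g) (F.map (CommAlgCat.ofHom (Algebra.ofId A X)) x) =
      F.map (CommAlgCat.ofHom (Algebra.ofId A Y)) x := by
  rw [← map_comp_apply, algHom_self_eq (g.comp (Algebra.ofId A X)) (Algebra.ofId A Y)]

variable [PreservesFilteredColimitsOfSize.{u, u} F]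

theorem exists_of_colimit {J : Type u} [SmallCategory J] [IsFiltered J]
    {D : J ⥤ CommAlgCat.{u} A} {c : Cocone D} (hc : IsColimit c) (y : F.obj c.pt) :
    ∃ (j : J) (x : F.obj (D.obj j)), F.map (c.ι.app j) x = y := by
  have h := isColimitOfPreserves F hc
  obtain ⟨j, x, hx⟩ := Types.jointly_surjective_of_isColimit h y
  exact ⟨j, x, hx⟩

theorem eq_of_colimit {J : Type u} [SmallCategory J] [IsFiltered J]
    {D : J ⥤ CommAlgCat.{u} A} {c : Cocone D} (hc : IsColimit c) (j : J)
    (x x' : F.obj (D.obj j)) (hxx : F.map (c.ι.app j) x = F.map (c.ι.app j) x') :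
    ∃ (k : J) (f : j ⟶ k), F.map (D.map f) x = F.map (D.map f) x' := by
  have h := isColimitOfPreserves F hc
  obtain ⟨k, f, hf⟩ := (Types.FilteredColimit.isColimit_eq_iff' h x x').1 hxx
  exact ⟨k, f, hf⟩

end general

section Sub

variable (A : Type u) [CommRing A] (Λ : Type u) [CommRing Λ] [Algebra A Λ]

/-- The diagram of finitely generated subalgebras, in `CommAlgCat A`. -/
noncomputable def subFunctor : FGSub A Λ ⥤ CommAlgCat.{u} A where
  obj E := CommAlgCat.of A E.1
  map {E E'} h := CommAlgCat.ofHom (Subalgebra.inclusion (S := E.1) (T := E'.1) (leOfHom h))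
  map_id E := by
    ext x
    rfl
  map_comp h h' := by
    ext x
    rfl

/-- The cocone of inclusions. -/
noncomputable def subCocone : Cocone (subFunctor A Λ) where
  pt := CommAlgCat.of A Λ
  ι :=
    { app := fun E => CommAlgCat.ofHom E.1.val
      naturality := fun E E' h => by
        ext x
        rfl }

/-- An algebra is the filtered colimit of its finitely generated subalgebras. -/
noncomputable def subCoconeIsColimit : IsColimit (subCocone A Λ) := by
  haveI := forget_preservesFiltered (A := A) (FGSub A Λ)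
  haveI : ReflectsColimit (subFunctor A Λ) (forget (CommAlgCat.{u} A)) :=
    reflectsColimit_of_reflectsIsomorphisms _ _
  apply isColimitOfReflects (forget (CommAlgCat.{u} A))
  apply Types.FilteredColimit.isColimitOf'
  · intro (x : Λ)
    have hfg : (Algebra.adjoin A ({x} : Set Λ)).FG := by
      have := Subalgebra.fg_adjoin_finset (R := A) ({x} : Finset Λ)
      simpa using this
    exact ⟨⟨Algebra.adjoin A {x}, hfg⟩,
      ⟨x, Algebra.subset_adjoin (Set.mem_singleton x)⟩, rfl⟩
  · intro E x y h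
    refine ⟨E, 𝟙 E, ?_⟩
    have hxy : x = y := Subtype.ext h
    rw [hxy]

end Sub

section Quot

variable (A : Type u) [CommRing A] (R : Type u) [CommRing R] [Algebra A R] (𝔞 : Ideal R)

/-- The diagram of quotients by finitely generated subideals, in `CommAlgCat A`. -/
noncomputable def quotFunctor : FGIdeal R 𝔞 ⥤ CommAlgCat.{u} A where
  obj I := CommAlgCat.of A (R ⧸ I.1)
  map {I J} h := CommAlgCat.ofHom (Ideal.Quotient.factorₐ A (leOfHom h))
  map_id I := by
    ext x
    obtain ⟨r, rfl⟩ := Ideal.Quotient.mk_surjective x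
    rfl
  map_comp h h' := by
    ext x
    obtain ⟨r, rfl⟩ := Ideal.Quotient.mk_surjective x
    rfl

/-- The cocone of quotient maps. -/
noncomputable def quotCocone : Cocone (quotFunctor A R 𝔞) where
  pt := CommAlgCat.of A (R ⧸ 𝔞)
  ι :=
    { app := fun I => CommAlgCat.ofHom (Ideal.Quotient.factorₐ A I.2.2)
      naturality := fun I J h => by
        ext x
        obtain ⟨r, rfl⟩ := Ideal.Quotient.mk_surjective x
        rfl }

/-- `R ⧸ 𝔞` is the filtered colimit of the `R ⧸ I`. -/
noncomputable def quotCoconeIsColimit : IsColimit (quotCocone A R 𝔞) := by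
  haveI := forget_preservesFiltered (A := A) (FGIdeal R 𝔞)
  haveI : ReflectsColimit (quotFunctor A R 𝔞) (forget (CommAlgCat.{u} A)) :=
    reflectsColimit_of_reflectsIsomorphisms _ _
  apply isColimitOfReflects (forget (CommAlgCat.{u} A))
  apply Types.FilteredColimit.isColimitOf'
  · intro (x : R ⧸ 𝔞)
    obtain ⟨r, rfl⟩ := Ideal.Quotient.mk_surjective x
    exact ⟨⟨⊥, Submodule.fg_bot, bot_le⟩, Ideal.Quotient.mk _ r, rfl⟩
  · intro I (x : R ⧸ I.1) (y : R ⧸ I.1) h
    obtain ⟨a, rfl⟩ := Ideal.Quotient.mk_surjective x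
    obtain ⟨b, rfl⟩ := Ideal.Quotient.mk_surjective y
    have hab : a - b ∈ 𝔞 := by
      have h' : Ideal.Quotient.mk 𝔞 a = Ideal.Quotient.mk 𝔞 b := h
      exact Ideal.Quotient.eq.mp h'
    refine ⟨⟨I.1 ⊔ Ideal.span {a - b}, Submodule.FG.sup I.2.1 (Submodule.fg_span_singleton _),
      sup_le I.2.2 ((Ideal.span_singleton_le_iff_mem _).mpr hab)⟩,
      homOfLE (show I.1 ≤ I.1 ⊔ Ideal.span {a - b} from le_sup_left), ?_⟩
    show Ideal.Quotient.mk (I.1 ⊔ Ideal.span {a - b}) a =
      Ideal.Quotient.mk (I.1 ⊔ Ideal.span {a - b}) b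
    rw [Ideal.Quotient.eq]
    exact Ideal.mem_sup_right (Ideal.subset_span rfl)

end Quot

section lemmas

variable {A : Type u} [CommRing A] (F : CommAlgCat.{u} A ⥤ Type u)
  [PreservesFilteredColimitsOfSize.{u, u} F] (Λ : Type u) [CommRing Λ] [Algebra A Λ]

/-- Every element of `F(Λ)` comes from a finitely presented algebra mapping to `Λ`. -/
theorem exists_fp_of_mem (y : F.obj (CommAlgCat.of A Λ)) :
    ∃ (C : Type u) (_ : CommRing C) (_ : Algebra A C) (_ : Algebra.FinitePresentation A C)
      (φ : C →ₐ[A] Λ) (yC : F.obj (CommAlgCat.of A C)),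
      F.map (CommAlgCat.ofHom φ) yC = y := by
  -- step 1: descend to a finitely generated subalgebra
  obtain ⟨E, yE, hyE⟩ := exists_of_colimit F (subCoconeIsColimit A Λ) y
  change F.map (CommAlgCat.ofHom E.1.val) yE = y at hyE
  change F.obj (CommAlgCat.of A E.1) at yE
  have : Algebra.FiniteType A E.1 := (Subalgebra.fg_iff_finiteType _).mp E.2
  obtain ⟨n, f', hf'⟩ := Algebra.FiniteType.iff_quotient_mvPolynomial''.mp
    (inferInstance : Algebra.FiniteType A E.1)
  let e : (MvPolynomial (Fin n) A ⧸ RingHom.ker f'.toRingHom) ≃ₐ[A] E.1 :=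
    Ideal.quotientKerAlgEquivOfSurjective hf'
  -- step 2: descend to a finitely presented quotient
  obtain ⟨J, yJ, hyJ⟩ := exists_of_colimit F
    (quotCoconeIsColimit A (MvPolynomial (Fin n) A) (RingHom.ker f'.toRingHom))
    (F.map (CommAlgCat.ofHom e.symm.toAlgHom) yE)
  change F.map (CommAlgCat.ofHom (Ideal.Quotient.factorₐ A J.2.2)) yJ = _ at hyJ
  change F.obj (CommAlgCat.of A (MvPolynomial (Fin n) A ⧸ J.1)) at yJ
  refine ⟨MvPolynomial (Fin n) A ⧸ J.1, inferInstance, inferInstance,
    Algebra.FinitePresentation.quotient J.2.1,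
    E.1.val.comp (e.toAlgHom.comp (Ideal.Quotient.factorₐ A J.2.2)), yJ, ?_⟩
  have he : e.toAlgHom.comp e.symm.toAlgHom = AlgHom.id A E.1 :=
    AlgHom.ext fun x => e.apply_symm_apply x
  have hee : F.map (CommAlgCat.ofHom e.toAlgHom) (F.map (CommAlgCat.ofHom e.symm.toAlgHom) yE) =
      yE := by
    rw [← map_comp_apply, he, map_id_apply]
  rw [map_comp_apply, map_comp_apply, hyJ, hee, hyE]

/-- Two elements of `F(A)` which agree in `F(Λ)` already agree in `F(C)` for some finitely
presented algebra `C` mapping to `Λ`. -/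
theorem exists_fp_of_eq (x x' : F.obj (CommAlgCat.of A A))
    (hxx : F.map (CommAlgCat.ofHom (Algebra.ofId A Λ)) x =
      F.map (CommAlgCat.ofHom (Algebra.ofId A Λ)) x') :
    ∃ (C : Type u) (_ : CommRing C) (_ : Algebra A C) (_ : Algebra.FinitePresentation A C)
      (_ : C →ₐ[A] Λ),
      F.map (CommAlgCat.ofHom (Algebra.ofId A C)) x =
        F.map (CommAlgCat.ofHom (Algebra.ofId A C)) x' := by
  -- step 1
  let E₀ : FGSub A Λ := ⟨⊥, Subalgebra.fg_bot⟩
  have h1 : F.map ((subCocone A Λ).ι.app E₀) (F.map (CommAlgCat.ofHom (Algebra.ofId A E₀.1)) x) =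
      F.map ((subCocone A Λ).ι.app E₀) (F.map (CommAlgCat.ofHom (Algebra.ofId A E₀.1)) x') := by
    change F.map (CommAlgCat.ofHom E₀.1.val) _ = F.map (CommAlgCat.ofHom E₀.1.val) _
    rw [map_ofId, map_ofId, hxx]
  obtain ⟨E, f, hf⟩ := eq_of_colimit F (subCoconeIsColimit A Λ) E₀ _ _ h1
  change F.map (CommAlgCat.ofHom (Subalgebra.inclusion (leOfHom f))) _ =
    F.map (CommAlgCat.ofHom (Subalgebra.inclusion (leOfHom f))) _ at hf
  rw [map_ofId, map_ofId] at hf
  have : Algebra.FiniteType A E.1 := (Subalgebra.fg_iff_finiteType _).mp E.2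
  obtain ⟨n, f', hf'⟩ := Algebra.FiniteType.iff_quotient_mvPolynomial''.mp
    (inferInstance : Algebra.FiniteType A E.1)
  let e : (MvPolynomial (Fin n) A ⧸ RingHom.ker f'.toRingHom) ≃ₐ[A] E.1 :=
    Ideal.quotientKerAlgEquivOfSurjective hf'
  -- step 2
  let J₀ : FGIdeal (MvPolynomial (Fin n) A) (RingHom.ker f'.toRingHom) :=
    ⟨⊥, Submodule.fg_bot, bot_le⟩
  have h2 : F.map ((quotCocone A (MvPolynomial (Fin n) A) (RingHom.ker f'.toRingHom)).ι.app J₀)
        (F.map (CommAlgCat.ofHom (Algebra.ofId A (MvPolynomial (Fin n) A ⧸ J₀.1))) x) =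
      F.map ((quotCocone A (MvPolynomial (Fin n) A) (RingHom.ker f'.toRingHom)).ι.app J₀)
        (F.map (CommAlgCat.ofHom (Algebra.ofId A (MvPolynomial (Fin n) A ⧸ J₀.1))) x') := by
    change F.map (CommAlgCat.ofHom (Ideal.Quotient.factorₐ A J₀.2.2)) _ =
      F.map (CommAlgCat.ofHom (Ideal.Quotient.factorₐ A J₀.2.2)) _
    rw [map_ofId, map_ofId]
    have := congrArg (F.map (CommAlgCat.ofHom e.symm.toAlgHom)) hf
    rw [map_ofId, map_ofId] at this
    exact this
  obtain ⟨J, g, hg⟩ := eq_of_colimit F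
    (quotCoconeIsColimit A (MvPolynomial (Fin n) A) (RingHom.ker f'.toRingHom)) J₀ _ _ h2
  change F.map (CommAlgCat.ofHom (Ideal.Quotient.factorₐ A (leOfHom g))) _ =
    F.map (CommAlgCat.ofHom (Ideal.Quotient.factorₐ A (leOfHom g))) _ at hg
  rw [map_ofId, map_ofId] at hg
  exact ⟨MvPolynomial (Fin n) A ⧸ J.1, inferInstance, inferInstance,
    Algebra.FinitePresentation.quotient J.2.1,
    E.1.val.comp (e.toAlgHom.comp (Ideal.Quotient.factorₐ A J.2.2)), hg⟩

end lemmas

section main

/-- Popescu's theorem, in the exact form of S0595. -/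
def PopescuStatement : Prop :=
  ∀ (R : Type u) [CommRing R] [IsNoetherianRing R] (Λ : Type u)
    [CommRing Λ] [IsNoetherianRing Λ] [Algebra R Λ] (_ : CAlg.IsRegularHom R Λ) (A : Type u)
    [CommRing A] [Algebra R A] [Algebra.FinitePresentation R A] (f : A →ₐ[R] Λ),
    ∃ (B : Type u) (_ : CommRing B) (_ : Algebra R B), Algebra.Smooth R B ∧
      ∃ (g : A →ₐ[R] B) (h : B →ₐ[R] Λ), h.comp g = f

variable (hP : PopescuStatement.{u})
variable (A : Type u) [CommRing A] [IsNoetherianRing A] (I : Ideal A) [HenselianRing A I]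
  (hreg : CAlg.IsRegularHom A (AdicCompletion I A))

include hP hreg in
/-- Key lemma: a map from a finitely presented algebra to the completion can be replaced by a map
to `A` which agrees modulo `I`. -/
theorem exists_lift (C : Type u) [CommRing C] [Algebra A C] [Algebra.FinitePresentation A C]
    (φ : C →ₐ[A] AdicCompletion I A) :
    ∃ ρ : C →ₐ[A] A, (Ideal.Quotient.mkₐ A I).comp ρ = (AdicCompletion.evalOneₐ I).comp φ := by
  have : IsNoetherianRing (AdicCompletion I A) :=
    Groth.Agent.Lead.isNoetherianRing_adicCompletion I (IsNoetherian.noetherian I)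
  obtain ⟨B, _, _, hsm, g, h, hgh⟩ := hP A (AdicCompletion I A) hreg C φ
  have := hsm
  obtain ⟨τ, hτ⟩ := Groth.Agent.S0536.result A B A I ((AdicCompletion.evalOneₐ I).comp h)
  refine ⟨τ.comp g, ?_⟩
  rw [← AlgHom.comp_assoc, hτ, AlgHom.comp_assoc, hgh]

include hP hreg in
theorem main (F : CommAlgCat.{u} A ⥤ Type u) [PreservesFilteredColimitsOfSize.{u, u} F] :
    Function.Injective (F.map (CommAlgCat.ofHom (Algebra.ofId A (AdicCompletion I A)))) ∧
    ∀ xbar : F.obj (CommAlgCat.of A (A ⧸ I)),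
      (∃ x : F.obj (CommAlgCat.of A A), F.map (CommAlgCat.ofHom (Ideal.Quotient.mkₐ A I)) x = xbar) ↔
      (∃ y : F.obj (CommAlgCat.of A (AdicCompletion I A)),
        F.map (CommAlgCat.ofHom (AdicCompletion.evalOneₐ I)) y = xbar) := by
  refine ⟨?_, fun xbar => ⟨?_, ?_⟩⟩
  · intro x x' hxx
    obtain ⟨C, _, _, _, φ, hC⟩ := exists_fp_of_eq F (AdicCompletion I A) x x' hxx
    obtain ⟨ρ, -⟩ := exists_lift hP A I hreg C φ
    have key : ∀ z : F.obj (CommAlgCat.of A A),
        F.map (CommAlgCat.ofHom ρ) (F.map (CommAlgCat.ofHom (Algebra.ofId A C)) z) = z := by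
      intro z
      rw [← map_comp_apply, algHom_self_eq (ρ.comp (Algebra.ofId A C)) (AlgHom.id A A),
        map_id_apply]
    rw [← key x, hC, key x']
  · rintro ⟨x, rfl⟩
    refine ⟨F.map (CommAlgCat.ofHom (Algebra.ofId A (AdicCompletion I A))) x, ?_⟩
    rw [← map_comp_apply,
      algHom_self_eq ((AdicCompletion.evalOneₐ I).comp (Algebra.ofId A (AdicCompletion I A)))
        (Ideal.Quotient.mkₐ A I)]
  · rintro ⟨y, rfl⟩
    obtain ⟨C, _, _, _, φ, yC, rfl⟩ := exists_fp_of_mem F (AdicCompletion I A) y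
    obtain ⟨ρ, hρ⟩ := exists_lift hP A I hreg C φ
    refine ⟨F.map (CommAlgCat.ofHom ρ) yC, ?_⟩
    rw [← map_comp_apply, hρ, map_comp_apply]

end main

end Groth.Agent.H13.FunctApprox
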