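import Mathlib

/-!
# Geometric irreducibility of field extensions

Library for S2150 and relatives (helper13).

Main results:
* `isDomain_tensor_of_isAlgClosed`: over an algebraically closed field, the tensor product of two
  field extensions is a domain.
* `ker_mapOfCompatibleSMul_le_nilradical`: for a purely inseparable extension `F/E`, the kernel of
  `R ⊗[E] S → R ⊗[F] S` consists of nilpotent elements.
* `irreducible_map_of_sepClosed_in`, `isField_tensor_of_simple_sep`, `injective_lift_of_sepClosed`: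
  if `k` is separably closed in `K`, separable algebraic extensions of `k` are linearly disjoint
  from `K`.
* `nilradical_isPrime_tensor_of_sepClosed_in`: if `k` is separably closed in `K` then for every field
  extension `k'/k` the nilradical of `k' ⊗[k] K` is prime.
* `mem_range_of_forall_nilradical_isPrime`: the converse.
-/

namespace Groth.Agent.H13.GeomIrr

open Polynomial TensorProduct IntermediateField

/-! ### Generalities -/

theorem nilradical_isPrime_of_ker_le {T D : Type*} [CommRing T] [CommRing D] [IsDomain D]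
    (φ : T →+* D) (h : RingHom.ker φ ≤ nilradical T) : (nilradical T).IsPrime := by
  have heq : nilradical T = RingHom.ker φ := by
    refine le_antisymm (fun x hx => ?_) h
    rw [RingHom.mem_ker]
    exact ((mem_nilradical.1 hx).map φ).eq_zero
  rw [heq]
  exact RingHom.ker_isPrime φ

theorem nilradical_isPrime_of_injective {T T' : Type*} [CommRing T] [CommRing T']
    (f : T →+* T') (hf : Function.Injective f) (h : (nilradical T').IsPrime) :
    (nilradical T).IsPrime := by
  have heq : nilradical T = Ideal.comap f (nilradical T') := by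
    ext x
    rw [Ideal.mem_comap, mem_nilradical, mem_nilradical]
    constructor
    · intro hx
      exact hx.map f
    · rintro ⟨n, hn⟩
      refine ⟨n, hf ?_⟩
      rw [map_pow, hn, map_zero]
  rw [heq]
  haveI := h
  exact Ideal.comap_isPrime f _

theorem injective_of_isField {A B : Type*} [CommRing A] [CommRing B] [Nontrivial B]
    (hA : IsField A) (f : A →+* B) : Function.Injective f := by
  rw [injective_iff_map_eq_zero]
  intro x hx
  by_contra hne
  obtain ⟨y, hy⟩ := hA.mul_inv_cancel hne
  have := congrArg f hy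
  rw [map_mul, hx, zero_mul, map_one] at this
  exact zero_ne_one this

theorem map_injective_of_injective {k A B M : Type*} [Field k] [CommRing A] [CommRing B]
    [CommRing M] [Algebra k A] [Algebra k B] [Algebra k M]
    (f : A →ₐ[k] B) (hf : Function.Injective f) :
    Function.Injective (Algebra.TensorProduct.map f (AlgHom.id k M)) := by
  have h1 : Function.Injective (LinearMap.rTensor M f.toLinearMap) :=
    Module.Flat.rTensor_preserves_injective_linearMap f.toLinearMap hf
  have h2 : ⇑(Algebra.TensorProduct.map f (AlgHom.id k M)) =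
      ⇑(LinearMap.rTensor M f.toLinearMap) := by
    ext z
    induction z using TensorProduct.induction_on with
    | zero => simp
    | tmul a b => simp
    | add a b ha hb => rw [map_add, map_add, ha, hb]
  rw [h2]
  exact h1

/-! ### Points of finitely generated algebras over an algebraically closed field -/

theorem exists_point_of_isMaximal (k : Type*) [Field k] [IsAlgClosed k] (R : Type*) [CommRing R]
    [Algebra k R] [Algebra.FiniteType k R] (𝔫 : Ideal R) (h𝔫 : 𝔫.IsMaximal) :
    ∃ x : R →ₐ[k] k, ∀ f ∈ 𝔫, x f = 0 := by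
  let _ := Ideal.Quotient.field 𝔫
  have hft : Algebra.FiniteType k (R ⧸ 𝔫) :=
    Algebra.FiniteType.of_surjective (Ideal.Quotient.mkₐ k 𝔫) (Ideal.Quotient.mkₐ_surjective k 𝔫)
  have hfin : Module.Finite k (R ⧸ 𝔫) := finite_of_finite_type_of_isJacobsonRing k (R ⧸ 𝔫)
  have hint : Algebra.IsIntegral k (R ⧸ 𝔫) := Algebra.IsIntegral.of_finite k _
  have hbij : Function.Bijective (algebraMap k (R ⧸ 𝔫)) :=
    IsAlgClosed.algebraMap_bijective_of_isIntegral
  let e : k ≃ₐ[k] (R ⧸ 𝔫) := AlgEquiv.ofBijective (Algebra.ofId k (R ⧸ 𝔫)) hbij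
  refine ⟨(e.symm : (R ⧸ 𝔫) →ₐ[k] k).comp (Ideal.Quotient.mkₐ k 𝔫), ?_⟩
  intro f hf
  have h0 : Ideal.Quotient.mkₐ k 𝔫 f = 0 := by
    rw [Ideal.Quotient.mkₐ_eq_mk]
    exact Ideal.Quotient.eq_zero_iff_mem.mpr hf
  simp only [AlgHom.comp_apply, h0, map_zero]

theorem isNilpotent_of_forall_point (k : Type*) [Field k] [IsAlgClosed k] (A : Type*)
    [CommRing A] [Algebra k A] [Algebra.FiniteType k A] (d : A)
    (h : ∀ g : A →ₐ[k] k, g d = 0) : IsNilpotent d := by
  have hJ : IsJacobsonRing A := isJacobsonRing_of_finiteType (A := k) (B := A)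
  have hjac : (nilradical A).jacobson = nilradical A := hJ.out (Ideal.radical_isRadical _)
  rw [← mem_nilradical, ← hjac, Ideal.jacobson, Submodule.mem_sInf]
  rintro 𝔫 ⟨_, h𝔫max⟩
  obtain ⟨x, hx⟩ := exists_point_of_isMaximal k A 𝔫 h𝔫max
  have hker : 𝔫 = RingHom.ker (x : A →+* k) :=
    h𝔫max.eq_of_le (RingHom.ker_ne_top _) (fun f hf => hx f hf)
  rw [hker]
  exact h x

/-! ### Tensor products of fields over an algebraically closed field -/

theorem mul_eq_zero_tensor_of_finiteType {F R M : Type*} [Field F] [IsAlgClosed F]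
    [CommRing R] [IsDomain R] [Algebra F R] [Algebra.FiniteType F R] [Field M] [Algebra F M]
    (a b : R ⊗[F] M) (hab : a * b = 0) : a = 0 ∨ b = 0 := by
  classical
  by_contra hne
  rw [not_or] at hne
  obtain ⟨ha, hb⟩ := hne
  let 𝓑 := Module.Free.chooseBasis F M
  let 𝓑R := Algebra.TensorProduct.basis R 𝓑
  have hex : ∀ x : R ⊗[F] M, x ≠ 0 → ∃ s, 𝓑R.repr x s ≠ 0 := by
    intro x hx
    by_contra hcon
    rw [not_exists] at hcon
    apply hx
    apply 𝓑R.repr.injective
    ext s
    rw [map_zero, Finsupp.zero_apply]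
    exact not_not.1 (hcon s)
  obtain ⟨s₀, hs₀⟩ := hex a ha
  obtain ⟨t₀, ht₀⟩ := hex b hb
  have key : ∀ (χ : R →ₐ[F] F) (x : R ⊗[F] M) (s : _),
      𝓑.repr ((Algebra.TensorProduct.lid F M)
        ((Algebra.TensorProduct.map χ (AlgHom.id F M)) x)) s = χ (𝓑R.repr x s) := by
    intro χ x s
    induction x using TensorProduct.induction_on with
    | zero => simp
    | tmul r m =>
      rw [Algebra.TensorProduct.map_tmul, Algebra.TensorProduct.lid_tmul,
        Algebra.TensorProduct.basis_repr_tmul]
      simp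
    | add x y hx hy =>
      rw [map_add, map_add, map_add, Finsupp.add_apply, hx, hy, map_add, Finsupp.add_apply,
        map_add]
  have hzero : ∀ χ : R →ₐ[F] F, χ (𝓑R.repr a s₀ * 𝓑R.repr b t₀) = 0 := by
    intro χ
    have h1 : (Algebra.TensorProduct.lid F M) ((Algebra.TensorProduct.map χ (AlgHom.id F M)) a) *
        (Algebra.TensorProduct.lid F M) ((Algebra.TensorProduct.map χ (AlgHom.id F M)) b) = 0 := by
      rw [← map_mul, ← map_mul, hab, map_zero, map_zero]
    rcases mul_eq_zero.1 h1 with h2 | h2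
    · have h3 := key χ a s₀
      rw [h2, map_zero, Finsupp.zero_apply] at h3
      rw [map_mul, ← h3, zero_mul]
    · have h3 := key χ b t₀
      rw [h2, map_zero, Finsupp.zero_apply] at h3
      rw [map_mul, ← h3, mul_zero]
  have hnil := isNilpotent_of_forall_point F R _ hzero
  exact mul_ne_zero hs₀ ht₀ hnil.eq_zero

/-- Over an algebraically closed field, the tensor product of two field extensions is a domain. -/
theorem isDomain_tensor_of_isAlgClosed (F L M : Type*) [Field F] [IsAlgClosed F] [Field L]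
    [Field M] [Algebra F L] [Algebra F M] : IsDomain (L ⊗[F] M) := by
  classical
  haveI : Nontrivial (L ⊗[F] M) :=
    Algebra.TensorProduct.nontrivial_of_algebraMap_injective_of_isDomain F L M
      (algebraMap F L).injective (algebraMap F M).injective
  haveI : NoZeroDivisors (L ⊗[F] M) := by
    constructor
    intro a b hab
    obtain ⟨Sa, hSa⟩ := TensorProduct.exists_finset a
    obtain ⟨Sb, hSb⟩ := TensorProduct.exists_finset b
    let G : Finset L := Sa.image Prod.fst ∪ Sb.image Prod.fst
    let R : Subalgebra F L := Algebra.adjoin F (G : Set L)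
    haveI : Algebra.FiniteType F R :=
      (Subalgebra.fg_iff_finiteType _).1 (Subalgebra.fg_adjoin_finset G)
    have hmemA : ∀ i ∈ Sa, i.1 ∈ R := fun i hi => Algebra.subset_adjoin (by
      rw [Finset.mem_coe]
      exact Finset.mem_union_left _ (Finset.mem_image_of_mem _ hi))
    have hmemB : ∀ i ∈ Sb, i.1 ∈ R := fun i hi => Algebra.subset_adjoin (by
      rw [Finset.mem_coe]
      exact Finset.mem_union_right _ (Finset.mem_image_of_mem _ hi))
    let a₀ : R ⊗[F] M := ∑ i ∈ Sa.attach, (⟨i.1.1, hmemA i.1 i.2⟩ : R) ⊗ₜ[F] i.1.2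
    let b₀ : R ⊗[F] M := ∑ i ∈ Sb.attach, (⟨i.1.1, hmemB i.1 i.2⟩ : R) ⊗ₜ[F] i.1.2
    let j : R ⊗[F] M →ₐ[F] L ⊗[F] M := Algebra.TensorProduct.map R.val (AlgHom.id F M)
    have hj : Function.Injective j := map_injective_of_injective R.val Subtype.val_injective
    have hja : j a₀ = a := by
      rw [hSa]
      simp only [a₀, j, map_sum, Algebra.TensorProduct.map_tmul, Subalgebra.coe_val, AlgHom.coe_id,
        id]
      exact Finset.sum_attach Sa (fun i => i.1 ⊗ₜ[F] i.2)
    have hjb : j b₀ = b := by
      rw [hSb]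
      simp only [b₀, j, map_sum, Algebra.TensorProduct.map_tmul, Subalgebra.coe_val, AlgHom.coe_id,
        id]
      exact Finset.sum_attach Sb (fun i => i.1 ⊗ₜ[F] i.2)
    have h0 : a₀ * b₀ = 0 := hj (by rw [map_mul, hja, hjb, hab, map_zero])
    rcases mul_eq_zero_tensor_of_finiteType a₀ b₀ h0 with h | h
    · left
      rw [← hja, h, map_zero]
    · right
      rw [← hjb, h, map_zero]
  exact NoZeroDivisors.to_isDomain _

/-! ### Purely inseparable base change has nil kernel -/

theorem ker_mapOfCompatibleSMul_le_nilradical (E F R S : Type*) [Field E] [Field F] [Algebra E F]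
    [IsPurelyInseparable E F] [CommRing R] [CommRing S] [Algebra E R] [Algebra F R]
    [IsScalarTower E F R] [Algebra E S] [Algebra F S] [IsScalarTower E F S]
    [Nontrivial (R ⊗[E] S)] :
    RingHom.ker (Algebra.TensorProduct.mapOfCompatibleSMul F E F R S).toRingHom ≤
      nilradical (R ⊗[E] S) := by
  intro x hx
  rw [RingHom.mem_ker] at hx
  have hx' : x ∈ LinearMap.ker (TensorProduct.mapOfCompatibleSMul F E F R S) := by
    rw [LinearMap.mem_ker]
    exact hx
  rw [TensorProduct.AlgebraTensorModule.ker_mapOfCompatibleSMul] at hx'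
  have hu : ∀ c : F, (algebraMap F R c) ⊗ₜ[E] (1 : S) - (1 : R) ⊗ₜ[E] (algebraMap F S c) ∈
      nilradical (R ⊗[E] S) := by
    intro c
    let q := ringExpChar E
    haveI : ExpChar E q := ringExpChar.expChar E
    obtain ⟨n, e, he⟩ := IsPurelyInseparable.pow_mem E q c
    haveI : ExpChar (R ⊗[E] S) q :=
      expChar_of_injective_algebraMap (algebraMap E (R ⊗[E] S)).injective q
    rw [mem_nilradical]
    refine ⟨q ^ n, ?_⟩
    rw [sub_pow_expChar_pow, Algebra.TensorProduct.tmul_pow, Algebra.TensorProduct.tmul_pow,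
      one_pow, one_pow, ← map_pow, ← map_pow, ← he, ← IsScalarTower.algebraMap_apply,
      ← IsScalarTower.algebraMap_apply, Algebra.algebraMap_eq_smul_one,
      Algebra.algebraMap_eq_smul_one (A := S), TensorProduct.smul_tmul, sub_self]
  clear hx
  induction hx' using Submodule.span_induction with
  | mem y hy =>
    obtain ⟨c, m, n, rfl⟩ := hy
    have heq : (c • m) ⊗ₜ[E] n - m ⊗ₜ[E] (c • n) = (m ⊗ₜ[E] n) *
        ((algebraMap F R c) ⊗ₜ[E] (1 : S) - (1 : R) ⊗ₜ[E] (algebraMap F S c)) := by
      rw [mul_sub, Algebra.TensorProduct.tmul_mul_tmul, Algebra.TensorProduct.tmul_mul_tmul,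
        mul_one, mul_one, Algebra.smul_def, Algebra.smul_def, mul_comm m, mul_comm n]
    rw [heq]
    exact Ideal.mul_mem_left _ _ (hu c)
  | zero => exact zero_mem _
  | add y z _ _ hy hz => exact add_mem hy hz
  | smul c y _ hy =>
    rw [Algebra.smul_def]
    exact Ideal.mul_mem_left _ _ hy

/-! ### Separable extensions and separably closed subfields -/

theorem isSeparable_coeff_of_dvd {k K : Type*} [Field k] [Field K] [Algebra k K]
    {p : k[X]} (hp : p.Separable) {g : K[X]} (hgm : g.Monic)
    (hgd : g ∣ p.map (algebraMap k K)) (n : ℕ) : IsSeparable k (g.coeff n) := by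
  let L := AlgebraicClosure K
  let sc : IntermediateField k L := separableClosure k L
  let g' : L[X] := g.map (algebraMap K L)
  have hg'm : g'.Monic := hgm.map _
  have hroots : ∀ a ∈ g'.roots, a ∈ (algebraMap sc L).range := by
    intro a ha
    have ha0 : g'.eval a = 0 := (Polynomial.mem_roots'.1 ha).2
    have hpa : Polynomial.aeval a p = 0 := by
      obtain ⟨c, hc⟩ := hgd
      have h1 : (p.map (algebraMap k K)).map (algebraMap K L) = g' * c.map (algebraMap K L) := by
        rw [hc, Polynomial.map_mul]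
      rw [Polynomial.map_map, ← IsScalarTower.algebraMap_eq] at h1
      rw [← Polynomial.eval_map_algebraMap, h1, Polynomial.eval_mul, ha0, zero_mul]
    have hsep : IsSeparable k a := hp.of_dvd (minpoly.dvd k a hpa)
    exact ⟨⟨a, mem_separableClosure_iff.2 hsep⟩, rfl⟩
  have hlift : g' ∈ Polynomial.lifts (algebraMap sc L) :=
    (IsAlgClosed.splits g').mem_lift_of_roots_mem_range hg'm _ hroots
  rw [Polynomial.lifts_iff_coeff_lifts] at hlift
  obtain ⟨s, hs⟩ := hlift n
  have h1 : IsSeparable k (algebraMap K L (g.coeff n)) := by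
    have h2 : algebraMap K L (g.coeff n) = (s : L) := by
      rw [← Polynomial.coeff_map]
      exact hs.symm
    rw [h2]
    exact mem_separableClosure_iff.1 s.2
  exact IsSeparable.of_algHom (IsScalarTower.toAlgHom k K L) h1

/-- If `k` is separably closed in `K`, a monic irreducible separable polynomial over `k` stays
irreducible over `K`. -/
theorem irreducible_map_of_sepClosed_in {k K : Type*} [Field k] [Field K] [Algebra k K]
    (h : ∀ y : K, IsSeparable k y → y ∈ Set.range (algebraMap k K))
    {p : k[X]} (hpm : p.Monic) (hp : Irreducible p) (hps : p.Separable) :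
    Irreducible (p.map (algebraMap k K)) := by
  have hnu : ¬ IsUnit (p.map (algebraMap k K)) := by
    intro hu
    have h0 := natDegree_eq_zero_of_isUnit hu
    rw [natDegree_map] at h0
    exact hp.not_isUnit (hpm.isUnit_iff.mpr (hpm.natDegree_eq_zero.mp h0))
  obtain ⟨g, hgm, hgi, hgd⟩ := Polynomial.exists_monic_irreducible_factor _ hnu
  have hlift : g ∈ Polynomial.lifts (algebraMap k K) := by
    rw [Polynomial.lifts_iff_coeff_lifts]
    intro n
    exact h _ (isSeparable_coeff_of_dvd hps hgm hgd n)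
  obtain ⟨g₀, hg₀, -, hg₀m⟩ := Polynomial.lifts_and_natDegree_eq_and_monic hlift hgm
  have hdvd : g₀ ∣ p := by
    rw [← Polynomial.map_dvd_map' (algebraMap k K), hg₀]
    exact hgd
  obtain ⟨c, hc⟩ := hdvd
  have hg₀nu : ¬ IsUnit g₀ := by
    intro hu
    have : IsUnit (g₀.map (algebraMap k K)) := hu.map (Polynomial.mapRingHom _)
    rw [hg₀] at this
    exact hgi.not_isUnit this
  have hcu : IsUnit c := (hp.isUnit_or_isUnit hc).resolve_left hg₀nu
  have hassoc : Associated g₀ p := by
    obtain ⟨u, rfl⟩ := hcu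
    exact ⟨u, hc.symm⟩
  have : g₀ = p := Polynomial.eq_of_monic_of_associated hg₀m hpm hassoc
  rw [← this, hg₀]
  exact hgi

/-- If `k` is separably closed in `K` and `k' = k(α)` is a simple separable extension, then
`K ⊗[k] k'` is a field. -/
theorem isField_tensor_of_simple_sep {k K k' : Type*} [Field k] [Field K] [Field k'] [Algebra k K]
    [Algebra k k'] (h : ∀ y : K, IsSeparable k y → y ∈ Set.range (algebraMap k K)) (α : k')
    (hαs : IsSeparable k α) (htop : k⟮α⟯ = ⊤) : IsField (K ⊗[k] k') := by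
  classical
  have hα : IsIntegral k α := hαs.isIntegral
  have hpm : (minpoly k α).Monic := minpoly.monic hα
  have hpi : Irreducible (minpoly k α) := minpoly.irreducible hα
  have hqi : Irreducible ((minpoly k α).map (algebraMap k K)) :=
    irreducible_map_of_sepClosed_in h hpm hpi hαs
  haveI : Fact (Irreducible ((minpoly k α).map (algebraMap k K))) := ⟨hqi⟩
  have hq0 : (minpoly k α).map (algebraMap k K) ≠ 0 := hqi.ne_zero
  have hfr : Module.finrank k k' = (minpoly k α).natDegree := by
    rw [← IntermediateField.finrank_top', ← htop]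
    exact IntermediateField.adjoin.finrank hα
  haveI : FiniteDimensional k k' := by
    apply Module.finite_of_finrank_pos
    rw [hfr]
    exact minpoly.natDegree_pos hα
  haveI : Nontrivial (K ⊗[k] k') :=
    Algebra.TensorProduct.nontrivial_of_algebraMap_injective_of_isDomain k K k'
      (algebraMap k K).injective (algebraMap k k').injective
  have hx : Polynomial.aeval ((1 : K) ⊗ₜ[k] α) ((minpoly k α).map (algebraMap k K)) = 0 := by
    rw [Polynomial.aeval_map_algebraMap]
    have : ((1 : K) ⊗ₜ[k] α) = (Algebra.TensorProduct.includeRight : k' →ₐ[k] K ⊗[k] k') α := rfl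
    rw [this, Polynomial.aeval_algHom_apply, minpoly.aeval, map_zero]
  let f : AdjoinRoot ((minpoly k α).map (algebraMap k K)) →ₐ[K] K ⊗[k] k' :=
    AdjoinRoot.liftAlgHom _ (Algebra.ofId K _) ((1 : K) ⊗ₜ[k] α) (by
      rw [Polynomial.aeval_def] at hx
      exact hx)
  have hinj : Function.Injective f := f.toRingHom.injective
  have hdim : Module.finrank K (AdjoinRoot ((minpoly k α).map (algebraMap k K))) =
      Module.finrank K (K ⊗[k] k') := by
    rw [Module.finrank_baseChange, hfr, (AdjoinRoot.powerBasis hq0).finrank,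
      AdjoinRoot.powerBasis_dim, Polynomial.natDegree_map]
  haveI : FiniteDimensional K (AdjoinRoot ((minpoly k α).map (algebraMap k K))) :=
    (AdjoinRoot.powerBasis hq0).finite
  haveI : FiniteDimensional K (K ⊗[k] k') := Module.Finite.base_change k K k'
  have hsurj : Function.Surjective f :=
    (LinearMap.injective_iff_surjective_of_finrank_eq_finrank (f := f.toLinearMap) hdim).mp hinj
  let e : AdjoinRoot ((minpoly k α).map (algebraMap k K)) ≃+* K ⊗[k] k' :=
    RingEquiv.ofBijective f ⟨hinj, hsurj⟩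
  exact e.symm.toMulEquiv.isField (Field.toIsField _)

/-- If `k` is separably closed in `K` and `E/k` is separable algebraic, then `E ⊗[k] K` embeds into
any field containing both. -/
theorem injective_lift_of_sepClosed {k E K Ω : Type*} [Field k] [Field E] [Field K] [Field Ω]
    [Algebra k E] [Algebra k K] [Algebra k Ω] [Algebra E Ω] [Algebra K Ω]
    [IsScalarTower k E Ω] [IsScalarTower k K Ω] [Algebra.IsSeparable k E]
    (hK : ∀ α : K, IsSeparable k α → α ∈ Set.range (algebraMap k K)) :
    Function.Injective (Algebra.TensorProduct.lift (Algebra.ofId E Ω)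
      (IsScalarTower.toAlgHom k K Ω) (fun _ _ => Commute.all _ _) : E ⊗[k] K →ₐ[E] Ω) := by
  classical
  set μ : E ⊗[k] K →ₐ[E] Ω := Algebra.TensorProduct.lift (Algebra.ofId E Ω)
      (IsScalarTower.toAlgHom k K Ω) (fun _ _ => Commute.all _ _) with hμdef
  rw [injective_iff_map_eq_zero]
  intro x hx
  obtain ⟨M', hM', hxM⟩ := TensorProduct.exists_finite_submodule_left_of_setFinite {x}
    (Set.finite_singleton x)
  obtain ⟨S, hS⟩ := Module.Finite.iff_fg.1 hM'
  let E₀ : IntermediateField k E := IntermediateField.adjoin k (S : Set E)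
  haveI : FiniteDimensional k E₀ := IntermediateField.finiteDimensional_adjoin
    (fun y _ => (Algebra.IsSeparable.isSeparable k y).isIntegral)
  have hle' : Submodule.span k (S : Set E) ≤ Subalgebra.toSubmodule E₀.toSubalgebra :=
    Submodule.span_le.2 (IntermediateField.subset_adjoin k _)
  have hle : ∀ m ∈ M', m ∈ E₀ := by
    intro m hm
    rw [← hS] at hm
    exact hle' hm
  let incl : M' →ₗ[k] E₀ :=
    { toFun := fun m => ⟨m.1, hle m.1 m.2⟩
      map_add' := fun _ _ => rfl
      map_smul' := fun _ _ => rfl }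
  let j : E₀ ⊗[k] K →ₐ[k] E ⊗[k] K := Algebra.TensorProduct.map E₀.val (AlgHom.id k K)
  have hj : ∀ z : M' ⊗[k] K, j (incl.rTensor K z) = M'.subtype.rTensor K z := by
    intro z
    induction z using TensorProduct.induction_on with
    | zero => simp
    | tmul m b => simp [j, incl]
    | add a b ha hb => simp only [map_add, ha, hb]
  obtain ⟨z, hz⟩ : x ∈ LinearMap.range (M'.subtype.rTensor K) := hxM (Set.mem_singleton x)
  let x₀ : E₀ ⊗[k] K := incl.rTensor K z
  have hx₀ : j x₀ = x := by
    rw [← hz]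
    exact hj z
  obtain ⟨β, hβ⟩ := Field.exists_primitive_element k E₀
  have hfield : IsField (K ⊗[k] E₀) :=
    isField_tensor_of_simple_sep hK β (Algebra.IsSeparable.isSeparable k β) hβ
  have hfield' : IsField (E₀ ⊗[k] K) :=
    (Algebra.TensorProduct.comm k E₀ K).toMulEquiv.isField hfield
  let μ₀ : E₀ ⊗[k] K →+* Ω := μ.toRingHom.comp j.toRingHom
  have hμ₀ : Function.Injective μ₀ := by
    rw [injective_iff_map_eq_zero]
    intro y hy
    by_contra hne
    obtain ⟨w, hw⟩ := hfield'.mul_inv_cancel hne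
    have h1 := congrArg μ₀ hw
    rw [map_mul, hy, zero_mul, map_one] at h1
    exact zero_ne_one h1
  have hx₀0 : x₀ = 0 := hμ₀ (by
    rw [map_zero]
    show μ (j x₀) = 0
    rw [hx₀, hx])
  rw [← hx₀, hx₀0, map_zero]

/-! ### The core statement -/

theorem core {k E F K Ω₁ Ω₂ : Type*} [Field k] [Field E] [Field F] [Field K] [Field Ω₁]
    [Field Ω₂] [Algebra k E] [Algebra E F] [Algebra k K]
    [Algebra F Ω₁] [Algebra F Ω₂] [Algebra E Ω₁] [Algebra E Ω₂]
    [IsScalarTower E F Ω₁] [IsScalarTower E F Ω₂]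
    [Algebra k Ω₁] [Algebra k Ω₂] [IsScalarTower k E Ω₁] [IsScalarTower k E Ω₂]
    [Algebra K Ω₂] [IsScalarTower k K Ω₂]
    [IsAlgClosed F] [IsPurelyInseparable E F] [Algebra.IsSeparable k E]
    (hK : ∀ α : K, IsSeparable k α → α ∈ Set.range (algebraMap k K)) :
    (nilradical (Ω₁ ⊗[k] K)).IsPrime := by
  haveI : IsDomain (Ω₁ ⊗[F] Ω₂) := isDomain_tensor_of_isAlgClosed F Ω₁ Ω₂
  haveI : Nontrivial (Ω₁ ⊗[E] Ω₂) :=
    Algebra.TensorProduct.nontrivial_of_algebraMap_injective_of_isDomain E Ω₁ Ω₂
      (algebraMap E Ω₁).injective (algebraMap E Ω₂).injective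
  let π : Ω₁ ⊗[E] Ω₂ →ₐ[F] Ω₁ ⊗[F] Ω₂ := Algebra.TensorProduct.mapOfCompatibleSMul F E F Ω₁ Ω₂
  have hπ : RingHom.ker π.toRingHom ≤ nilradical (Ω₁ ⊗[E] Ω₂) :=
    ker_mapOfCompatibleSMul_le_nilradical E F Ω₁ Ω₂
  let μ : E ⊗[k] K →ₐ[E] Ω₂ := Algebra.TensorProduct.lift (Algebra.ofId E Ω₂)
      (IsScalarTower.toAlgHom k K Ω₂) (fun _ _ => Commute.all _ _)
  have hμ : Function.Injective μ := injective_lift_of_sepClosed hK
  let ιlin : Ω₁ ⊗[k] K →ₗ[E] Ω₁ ⊗[E] Ω₂ :=
    (LinearMap.lTensor Ω₁ μ.toLinearMap) ∘ₗ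
      (TensorProduct.AlgebraTensorModule.cancelBaseChange k E E Ω₁ K).symm.toLinearMap
  have hιinj : Function.Injective ιlin :=
    (Module.Flat.lTensor_preserves_injective_linearMap μ.toLinearMap hμ).comp
      (LinearEquiv.injective _)
  have hιtmul : ∀ (a : Ω₁) (b : K), ιlin (a ⊗ₜ[k] b) = a ⊗ₜ[E] (algebraMap K Ω₂ b) := by
    intro a b
    simp [ιlin, μ]
  let ι : Ω₁ ⊗[k] K →ₐ[E] Ω₁ ⊗[E] Ω₂ :=
    Algebra.TensorProduct.algHomOfLinearMapTensorProduct ιlin
      (by
        intro a₁ a₂ b₁ b₂
        rw [hιtmul, hιtmul, hιtmul, map_mul, Algebra.TensorProduct.tmul_mul_tmul])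
      (by
        rw [hιtmul, map_one, Algebra.TensorProduct.one_def])
  have hιinj' : Function.Injective ι := fun x y hxy => hιinj hxy
  let φ : Ω₁ ⊗[k] K →+* Ω₁ ⊗[F] Ω₂ := π.toRingHom.comp ι.toRingHom
  refine nilradical_isPrime_of_ker_le φ ?_
  intro x hx
  have h1 : ι x ∈ RingHom.ker π.toRingHom := hx
  obtain ⟨n, hn⟩ := mem_nilradical.1 (hπ h1)
  refine mem_nilradical.2 ⟨n, hιinj' ?_⟩
  rw [map_pow, hn, map_zero]

end Groth.Agent.H13.GeomIrr
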