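import Mathlib
import Groth.Agent.H13.GeomIrr

/-!
# Geometric irreducibility of a polynomial

* `isDomain_iff`: `K ⊗ k[T]/(F)` is a domain iff `F` is irreducible over `K`.
* `isDomain_of_isAlgClosed`: if `Ω ⊗ B` is a domain for an algebraically closed `Ω/k`, then
  `K ⊗ B` is a domain for every field extension `K/k`.
* `geomIntegral_iff`: `Spec B → Spec k` geometrically integral iff all `K ⊗ B` domains.
-/

namespace Groth.Agent.H13.GeomIrrPoly

open TensorProduct CategoryTheory AlgebraicGeometry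

universe u

section Poly

variable {k : Type u} [Field k] {n : ℕ} (F : MvPolynomial (Fin n) k)

theorem nonempty_tensorEquiv (K : Type u) [Field K] [Algebra k K] :
    Nonempty (K ⊗[k] (MvPolynomial (Fin n) k ⧸ Ideal.span {F}) ≃+*
      MvPolynomial (Fin n) K ⧸ Ideal.span {MvPolynomial.map (algebraMap k K) F}) := by
  have h : (MvPolynomial.algebraTensorAlgEquiv k K) ((1 : K) ⊗ₜ[k] F) =
      MvPolynomial.map (algebraMap k K) F := by
    rw [MvPolynomial.algebraTensorAlgEquiv_tmul, one_smul]
  refine ⟨(Algebra.TensorProduct.tensorQuotientEquiv (R := k) K (MvPolynomial (Fin n) k) K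
    (Ideal.span {F})).toRingEquiv.trans
    (Ideal.quotientEquiv _ _ (MvPolynomial.algebraTensorAlgEquiv k K).toRingEquiv ?_)⟩
  simp only [Ideal.map_span, Set.image_singleton]
  rw [← h]
  rfl

theorem isDomain_iff (hF : F ≠ 0) (K : Type u) [Field K] [Algebra k K] :
    IsDomain (K ⊗[k] (MvPolynomial (Fin n) k ⧸ Ideal.span {F})) ↔
      Irreducible (MvPolynomial.map (algebraMap k K) F) := by
  obtain ⟨e⟩ := nonempty_tensorEquiv F K
  have hFK : MvPolynomial.map (algebraMap k K) F ≠ 0 := by
    intro h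
    exact hF (MvPolynomial.map_injective _ (algebraMap k K).injective (by rw [h, map_zero]))
  rw [UniqueFactorizationMonoid.irreducible_iff_prime, ← Ideal.span_singleton_prime hFK,
    ← Ideal.Quotient.isDomain_iff_prime]
  constructor
  · intro h
    haveI := h
    exact Function.Injective.isDomain e.symm e.symm.injective
  · intro h
    haveI := h
    exact Function.Injective.isDomain e e.injective

end Poly

section Geom

variable (k : Type u) [Field k]

theorem exists_compositum (K Ω : Type u) [Field K] [Field Ω] [Algebra k K] [Algebra k Ω] :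
    ∃ (L : Type u) (_ : Field L) (_ : Algebra k L), Nonempty (K →ₐ[k] L) ∧ Nonempty (Ω →ₐ[k] L) := by
  haveI : Nontrivial (K ⊗[k] Ω) :=
    Algebra.TensorProduct.nontrivial_of_algebraMap_injective_of_isDomain k K Ω
      (algebraMap k K).injective (algebraMap k Ω).injective
  obtain ⟨m, hm⟩ := Ideal.exists_maximal (K ⊗[k] Ω)
  haveI := hm
  letI : Field ((K ⊗[k] Ω) ⧸ m) := Ideal.Quotient.field m
  exact ⟨(K ⊗[k] Ω) ⧸ m, inferInstance, inferInstance,
    ⟨(Ideal.Quotient.mkₐ k m).comp Algebra.TensorProduct.includeLeft⟩,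
    ⟨(Ideal.Quotient.mkₐ k m).comp Algebra.TensorProduct.includeRight⟩⟩

theorem isDomain_of_tower (B : Type u) [CommRing B] [Algebra k B] (Ω L : Type u) [Field Ω]
    [Field L] [Algebra k Ω] [IsAlgClosed Ω] [Algebra k L] [Algebra Ω L] [IsScalarTower k Ω L]
    [IsDomain (Ω ⊗[k] B)] : IsDomain (L ⊗[k] B) := by
  haveI : IsDomain (FractionRing (Ω ⊗[k] B) ⊗[Ω] L) :=
    GeomIrr.isDomain_tensor_of_isAlgClosed Ω (FractionRing (Ω ⊗[k] B)) L
  have hD1 : IsDomain ((Ω ⊗[k] B) ⊗[Ω] L) :=
    Function.Injective.isDomain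
      (Algebra.TensorProduct.map (IsScalarTower.toAlgHom Ω (Ω ⊗[k] B) (FractionRing (Ω ⊗[k] B)))
        (AlgHom.id Ω L)).toRingHom
      (GeomIrr.map_injective_of_injective _
        (IsFractionRing.injective (Ω ⊗[k] B) (FractionRing (Ω ⊗[k] B))))
  have hD2 : IsDomain (L ⊗[Ω] (Ω ⊗[k] B)) :=
    Function.Injective.isDomain (Algebra.TensorProduct.comm Ω L (Ω ⊗[k] B))
      (Algebra.TensorProduct.comm Ω L (Ω ⊗[k] B)).injective
  exact Function.Injective.isDomain
    (Algebra.TensorProduct.cancelBaseChange k Ω Ω L B).symm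
    (Algebra.TensorProduct.cancelBaseChange k Ω Ω L B).symm.injective

theorem isDomain_of_algHom (B : Type u) [CommRing B] [Algebra k B] (K L : Type u) [Field K]
    [Field L] [Algebra k K] [Algebra k L] (i : K →ₐ[k] L) [IsDomain (L ⊗[k] B)] :
    IsDomain (K ⊗[k] B) :=
  Function.Injective.isDomain (Algebra.TensorProduct.map i (AlgHom.id k B)).toRingHom
    (GeomIrr.map_injective_of_injective i i.toRingHom.injective)

theorem isDomain_of_isAlgClosed (B : Type u) [CommRing B] [Algebra k B] (Ω : Type u) [Field Ω]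
    [Algebra k Ω] [IsAlgClosed Ω] (hΩ : IsDomain (Ω ⊗[k] B)) (K : Type u) [Field K]
    [Algebra k K] : IsDomain (K ⊗[k] B) := by
  obtain ⟨L, _, _, ⟨iK⟩, ⟨iΩ⟩⟩ := exists_compositum k K Ω
  letI : Algebra Ω L := iΩ.toRingHom.toAlgebra
  haveI : IsScalarTower k Ω L := IsScalarTower.of_algebraMap_eq (fun x => (iΩ.commutes x).symm)
  haveI := hΩ
  haveI : IsDomain (L ⊗[k] B) := isDomain_of_tower k B Ω L
  exact isDomain_of_algHom k B K L iK

theorem geomIntegral_iff (B : Type u) [CommRing B] [Algebra k B] :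
    GeometricallyIntegral (Spec.map (CommRingCat.ofHom (algebraMap k B))) ↔
      ∀ (K : Type u) [Field K] [Algebra k K], IsDomain (K ⊗[k] B) := by
  rw [_root_.AlgebraicGeometry.geometricallyIntegral_iff]
  constructor
  · intro hf K _ _
    have h1 : IsIntegral (Limits.pullback (Spec.map (CommRingCat.ofHom (algebraMap k K)))
        (Spec.map (CommRingCat.ofHom (algebraMap k B)))) :=
      pullback_of_geometrically' hf K (Spec.map (CommRingCat.ofHom (algebraMap k K)))
    obtain ⟨x⟩ := h1.nonempty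
    haveI : Nonempty ↥(Spec (CommRingCat.of (K ⊗[k] B))) := ⟨(pullbackSpecIso k K B).hom.base x⟩
    haveI : IsIntegral (Spec (CommRingCat.of (K ⊗[k] B))) :=
      isIntegral_of_isOpenImmersion (pullbackSpecIso k K B).inv
    exact (affine_isIntegral_iff (CommRingCat.of (K ⊗[k] B))).mp inferInstance
  · intro H
    rw [geometrically_iff_of_commRing]
    intro K _ _ Y fst snd h
    haveI : IsDomain (K ⊗[k] B) := H K
    haveI hdom : IsDomain (B ⊗[k] K) :=
      Function.Injective.isDomain (Algebra.TensorProduct.comm k B K)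
        (Algebra.TensorProduct.comm k B K).injective
    haveI : IsDomain ↑(CommRingCat.of (B ⊗[k] K)) := hdom
    haveI hI : IsIntegral (Spec (CommRingCat.of (B ⊗[k] K))) := inferInstance
    let e : Y ≅ Spec (CommRingCat.of (B ⊗[k] K)) := h.isoPullback ≪≫ pullbackSpecIso k B K
    obtain ⟨x⟩ := hI.nonempty
    haveI : Nonempty ↥Y := ⟨e.inv.base x⟩
    exact isIntegral_of_isOpenImmersion e.hom

end Geom

end Groth.Agent.H13.GeomIrrPoly
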