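import Mathlib
import Groth.Prelude.Def_Wider
import Groth.Prelude.Def_CAlg
import Groth.Agent.H82.ExtBC

/-! (T1b) for helper55's S17760 squad: flat base change for `Abelian.Ext` with a finite first
argument, with plain tensor products. -/

set_option autoImplicit false
universe u
open IsLocalRing CategoryTheory Opposite

namespace Groth.Agent.H13.HLT

open Groth.Agent.H82 Groth.Agent.H82.TorBC Groth.Agent.H82.ExtBC

attribute [local instance] Groth.Agent.H82.ExtBC.extModule

/-- (T1b) flat base change for `Abelian.Ext` with a finite first argument, with plain tensor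
products. -/
theorem ext_baseChange (R : Type u) [CommRing R] [IsNoetherianRing R] (R' : Type u) [CommRing R']
    [Algebra R R'] [Module.Flat R R'] (M₁ N : Type u) [AddCommGroup M₁] [Module R M₁]
    [Module.Finite R M₁] [AddCommGroup N] [Module R N] (i : ℕ) :
    Nonempty (TensorProduct R R' (Abelian.Ext (ModuleCat.of R M₁) (ModuleCat.of R N) i) ≃ₗ[R']
      Abelian.Ext (ModuleCat.of R' (TensorProduct R R' M₁))
        (ModuleCat.of R' (TensorProduct R R' N)) i) := by
  have h : IsBaseChange R' (l R R' (ModuleCat.of R M₁) N i) := isBaseChange_l R R' N i M₁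
  let iX : ModuleCat.of R' (TensorProduct R R' M₁) ≅ (E R R').obj (ModuleCat.of R M₁) :=
    (bcEquiv R R' M₁).toModuleIso
  let iY : (E R R').obj (ModuleCat.of R N) ≅ ModuleCat.of R' (TensorProduct R R' N) :=
    (bcEquiv R R' N).toModuleIso.symm
  exact ⟨h.equiv ≪≫ₗ extCongr iX iY i⟩

end Groth.Agent.H13.HLT
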