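import Mathlib
import Groth.Prelude.Def_Hens2
import Groth.Agent.H3.PH3

/-!
# Henselian Weierstrass preparation: basic facts on a henselization `B` of `(R[t], (t))`

`eps : B → R` (evaluation at `t = 0`), units, expansions modulo `t ^ n`, and the
"universal property trick": a henselian `R[t]`-algebra `C` mapping to a quotient `B ⧸ 𝔞`
compatibly with `R[t]` surjects.
-/

set_option autoImplicit false
set_option linter.unusedSimpArgs false
set_option linter.unusedVariables false
set_option linter.style.haveILetI false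
set_option linter.unusedSectionVars false
universe u

namespace Groth.Agent.H13.HW

open Polynomial IsLocalRing

/-- The universal property trick. -/
theorem surjective_of_comp_eq {A : Type u} [CommRing A] (I : Ideal A) {B : Type u} [CommRing B]
    [Algebra A B] (hB : Hens2.IsPairHenselization A I B) (𝔞 : Ideal B) (C : Type u) [CommRing C]
    [Algebra A C] (hC : HenselianRing C (I.map (algebraMap A C))) (j : C →+* B ⧸ 𝔞)
    (hj : j.comp (algebraMap A C) = (Ideal.Quotient.mk 𝔞).comp (algebraMap A B)) :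
    Function.Surjective j := by
  obtain ⟨ρ, hρ, -⟩ := hB.2 C _ (algebraMap A C) hC le_rfl
  haveI := hB.1
  have hQ : HenselianRing (B ⧸ 𝔞) (I.map ((Ideal.Quotient.mk 𝔞).comp (algebraMap A B))) := by
    rw [← Ideal.map_map]
    exact Groth.Agent.H3.henselianRing_map_of_surjective (Ideal.Quotient.mk 𝔞)
      Ideal.Quotient.mk_surjective _
  obtain ⟨g, -, hguniq⟩ :=
    hB.2 (B ⧸ 𝔞) _ ((Ideal.Quotient.mk 𝔞).comp (algebraMap A B)) hQ le_rfl
  have h1 : j.comp ρ = g := hguniq _ (by
    show (j.comp ρ).comp (algebraMap A B) = _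
    rw [RingHom.comp_assoc, hρ, hj])
  have h2 : Ideal.Quotient.mk 𝔞 = g := hguniq _ rfl
  intro y
  obtain ⟨b, rfl⟩ := Ideal.Quotient.mk_surjective y
  exact ⟨ρ b, by rw [← RingHom.comp_apply, h1, ← h2]⟩

/-- Splitting a polynomial at degree `n`. -/
theorem poly_split {R : Type*} [CommRing R] (p : R[X]) (n : ℕ) :
    ∃ q : R[X], p = (∑ i ∈ Finset.range n, C (p.coeff i) * X ^ i) + X ^ n * q := by
  have h : X ^ n ∣ p - ∑ i ∈ Finset.range n, C (p.coeff i) * X ^ i := by
    rw [Polynomial.X_pow_dvd_iff]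
    intro d hd
    rw [coeff_sub, finsetSum_coeff]
    simp only [coeff_C_mul, coeff_X_pow]
    rw [Finset.sum_eq_single d]
    · simp
    · intro b _ hb
      rw [if_neg (Ne.symm hb), mul_zero]
    · intro hd'
      exact absurd (Finset.mem_range.mpr hd) hd'
  obtain ⟨q, hq⟩ := h
  exact ⟨q, by rw [← hq]; ring⟩

section

variable {R : Type u} [CommRing R] {B : Type u} [CommRing B] [Algebra R B] [Algebra R[X] B]
  [IsScalarTower R R[X] B]

/-- `B` is a henselization of `(R[t], (t))`. -/
abbrev IsHT (R : Type u) [CommRing R] (B : Type u) [CommRing B] [Algebra R[X] B] : Prop :=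
  Hens2.IsPairHenselization R[X] (Ideal.span {(X : R[X])}) B

theorem map_span_X (C : Type*) [CommRing C] [Algebra R[X] C] :
    (Ideal.span {(X : R[X])}).map (algebraMap R[X] C) = Ideal.span {algebraMap R[X] C X} := by
  rw [Ideal.map_span, Set.image_singleton]

theorem t_mem_jacobson (hB : IsHT R B) :
    algebraMap R[X] B X ∈ Ideal.jacobson (⊥ : Ideal B) :=
  hB.1.jac (Ideal.mem_map_of_mem _ (Ideal.mem_span_singleton_self X))

theorem isUnit_one_add_t_mul (hB : IsHT R B) (c : B) :
    IsUnit (1 + algebraMap R[X] B X * c) := by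
  have := Ideal.mem_jacobson_bot.mp (t_mem_jacobson hB) c
  rwa [add_comm] at this

theorem exists_eps (hB : IsHT R B) :
    ∃ ε : B →+* R, ∀ p : R[X], ε (algebraMap R[X] B p) = p.eval 0 := by
  have hI : (Ideal.span {(X : R[X])}).map (Polynomial.evalRingHom (0 : R)) ≤ (⊥ : Ideal R) := by
    rw [Ideal.map_span, Set.image_singleton, Ideal.span_le, Set.singleton_subset_iff]
    simp
  obtain ⟨g, hg, -⟩ :=
    hB.2 R ⊥ (Polynomial.evalRingHom 0) Groth.Agent.H3.henselianRing_bot hI
  exact ⟨g, fun p => by simpa using RingHom.congr_fun hg p⟩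

/-- Evaluation at `t = 0`. -/
noncomputable def eps (hB : IsHT R B) : B →+* R := (exists_eps hB).choose

theorem eps_algebraMap (hB : IsHT R B) (p : R[X]) :
    eps hB (algebraMap R[X] B p) = p.eval 0 := (exists_eps hB).choose_spec p

theorem eps_R (hB : IsHT R B) (r : R) : eps hB (algebraMap R B r) = r := by
  rw [IsScalarTower.algebraMap_apply R R[X] B, eps_algebraMap]
  simp

theorem eps_t (hB : IsHT R B) : eps hB (algebraMap R[X] B X) = 0 := by
  rw [eps_algebraMap, eval_X]

theorem exists_eq_add_t_mul (hB : IsHT R B) (b : B) :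
    ∃ (p : R[X]) (b' : B), b = algebraMap R[X] B p + algebraMap R[X] B X * b' := by
  obtain ⟨p, hp⟩ := Groth.Agent.H3.PH.exists_sub_mem_map_of_isPairHenselization
    (Ideal.span {(X : R[X])}) B hB b
  rw [map_span_X, Ideal.mem_span_singleton'] at hp
  obtain ⟨b', hb'⟩ := hp
  exact ⟨p, b', by rw [mul_comm, hb']; ring⟩

theorem exists_eq_add_t_pow_mul (hB : IsHT R B) (n : ℕ) (b : B) :
    ∃ (p : R[X]) (b' : B), b = algebraMap R[X] B p + (algebraMap R[X] B X) ^ n * b' := by
  induction n with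
  | zero => exact ⟨0, b, by simp⟩
  | succ n ih =>
    obtain ⟨p, b₁, h1⟩ := ih
    obtain ⟨q, b₂, h2⟩ := exists_eq_add_t_mul hB b₁
    refine ⟨p + X ^ n * q, b₂, ?_⟩
    rw [h1, h2, map_add, map_mul, map_pow]
    ring

theorem exists_eq_t_mul_of_eps_eq_zero (hB : IsHT R B) (b : B) (h : eps hB b = 0) :
    ∃ b', b = algebraMap R[X] B X * b' := by
  obtain ⟨p, b', hb⟩ := exists_eq_add_t_mul hB b
  have h1 : p.eval 0 = 0 := by
    have := congrArg (eps hB) hb
    rw [h, map_add, map_mul, eps_algebraMap, eps_algebraMap, eval_X, zero_mul, add_zero] at this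
    exact this.symm
  obtain ⟨q, rfl⟩ : X ∣ p := by
    rw [Polynomial.X_dvd_iff, Polynomial.coeff_zero_eq_eval_zero]
    exact h1
  exact ⟨algebraMap R[X] B q + b', by rw [hb, map_mul]; ring⟩

theorem isUnit_of_isUnit_eps (hB : IsHT R B) (b : B) (h : IsUnit (eps hB b)) : IsUnit b := by
  obtain ⟨r, hr⟩ := h
  have h0 : eps hB (b - algebraMap R B (r : R)) = 0 := by rw [map_sub, eps_R, hr, sub_self]
  obtain ⟨b', hb'⟩ := exists_eq_t_mul_of_eps_eq_zero hB _ h0
  have hu : IsUnit (algebraMap R B (r : R)) := r.isUnit.map (algebraMap R B)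
  obtain ⟨v, hv⟩ := hu
  have hb : b = (v : B) * (1 + algebraMap R[X] B X * ((↑v⁻¹ : B) * b')) := by
    have h3 : b = (v : B) + algebraMap R[X] B X * b' := by rw [hv, ← hb']; ring
    have h4 : (v : B) * (↑v⁻¹ : B) = 1 := Units.mul_inv v
    calc b = (v : B) + algebraMap R[X] B X * b' := h3
      _ = (v : B) + ((v : B) * (↑v⁻¹ : B)) * (algebraMap R[X] B X * b') := by rw [h4, one_mul]
      _ = (v : B) * (1 + algebraMap R[X] B X * ((↑v⁻¹ : B) * b')) := by ring
  rw [hb]
  exact v.isUnit.mul (isUnit_one_add_t_mul hB _)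

theorem X_pow_dvd_of_algebraMap_mem (hB : IsHT R B) (n : ℕ) (p : R[X])
    (h : algebraMap R[X] B p ∈ Ideal.span {(algebraMap R[X] B X) ^ n}) : X ^ n ∣ p := by
  have hbij := Groth.Agent.H3.PH.quotientMap_pow_bijective (Ideal.span {(X : R[X])}) B hB n
  have h0 : Ideal.quotientMap (((Ideal.span {(X : R[X])}) ^ n).map (algebraMap R[X] B))
      (algebraMap R[X] B) Ideal.le_comap_map
      (Ideal.Quotient.mk ((Ideal.span {(X : R[X])}) ^ n) p) = 0 := by
    rw [Ideal.quotientMap_mk, Ideal.Quotient.eq_zero_iff_mem, Ideal.span_singleton_pow,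
      Ideal.map_span, Set.image_singleton, map_pow]
    exact h
  have h1 := hbij.1 (h0.trans (map_zero _).symm)
  rw [Ideal.Quotient.eq_zero_iff_mem, Ideal.span_singleton_pow, Ideal.mem_span_singleton] at h1
  exact h1

end

section Local

variable {R : Type u} [CommRing R] [IsLocalRing R] {B : Type u} [CommRing B] [Algebra R B]
  [Algebra R[X] B] [IsScalarTower R R[X] B]

theorem eps_mem_of_mem (hB : IsHT R B) {x : B}
    (hx : x ∈ (maximalIdeal R).map (algebraMap R B)) : eps hB x ∈ maximalIdeal R := by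
  have : (maximalIdeal R).map (algebraMap R B) ≤ (maximalIdeal R).comap (eps hB) := by
    rw [Ideal.map_le_iff_le_comap]
    intro m hm
    rw [Ideal.mem_comap, Ideal.mem_comap, eps_R]
    exact hm
  exact this hx

theorem isUnit_of_eps_notMem (hB : IsHT R B) (b : B) (h : eps hB b ∉ maximalIdeal R) :
    IsUnit b :=
  isUnit_of_isUnit_eps hB b (by
    by_contra hcon
    exact h ((IsLocalRing.mem_maximalIdeal _).mpr hcon))

theorem isUnit_one_add_of_mem (hB : IsHT R B) {x : B}
    (hx : x ∈ (maximalIdeal R).map (algebraMap R B)) : IsUnit (1 + x) := by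
  apply isUnit_of_eps_notMem hB
  intro hcon
  rw [map_add, map_one] at hcon
  have h1 := eps_mem_of_mem hB hx
  have h2 : (1 : R) ∈ maximalIdeal R := by
    have := Ideal.sub_mem _ hcon h1
    rwa [add_sub_cancel_right] at this
  exact (Ideal.ne_top_iff_one _).mp (IsLocalRing.maximalIdeal.isMaximal R).ne_top h2

theorem exists_poly_of_mem_mB (hB : IsHT R B) (n : ℕ) {x : B}
    (hx : x ∈ (maximalIdeal R).map (algebraMap R B)) :
    ∃ (p : R[X]) (b' : B), (∀ i, p.coeff i ∈ maximalIdeal R) ∧
      x = algebraMap R[X] B p + (algebraMap R[X] B X) ^ n * b' := by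
  have hx' : x ∈ Submodule.span B (algebraMap R B '' (maximalIdeal R : Set R)) := hx
  clear hx
  induction hx' using Submodule.span_induction with
  | mem x hx =>
    obtain ⟨m, hm, rfl⟩ := hx
    refine ⟨C m, 0, fun i => ?_, ?_⟩
    · rw [coeff_C]
      split_ifs
      · exact hm
      · exact zero_mem _
    · rw [mul_zero, add_zero, IsScalarTower.algebraMap_apply R R[X] B]
      rfl
  | zero => exact ⟨0, 0, by simp, by simp⟩
  | add x y _ _ hx hy =>
    obtain ⟨p, b1, hp, h1⟩ := hx
    obtain ⟨q, b2, hq, h2⟩ := hy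
    exact ⟨p + q, b1 + b2, fun i => by rw [coeff_add]; exact add_mem (hp i) (hq i),
      by rw [h1, h2, map_add]; ring⟩
  | smul a x _ hx =>
    obtain ⟨p, b1, hp, h1⟩ := hx
    obtain ⟨q, b2, h2⟩ := exists_eq_add_t_pow_mul hB n a
    refine ⟨q * p, b2 * algebraMap R[X] B p + algebraMap R[X] B q * b1 +
      (algebraMap R[X] B X) ^ n * b2 * b1, fun i => ?_, ?_⟩
    · rw [coeff_mul]
      exact Ideal.sum_mem _ fun c _ => Ideal.mul_mem_left _ _ (hp _)
    · rw [smul_eq_mul, h1, h2, map_mul]
      ring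

theorem algebraMap_mem_of_coeff_mem (C' : Type*) [CommRing C'] [Algebra R C'] [Algebra R[X] C']
    [IsScalarTower R R[X] C'] (p : R[X]) (h : ∀ i, p.coeff i ∈ maximalIdeal R) :
    algebraMap R[X] C' p ∈ (maximalIdeal R).map (algebraMap R C') := by
  rw [p.as_sum_range_C_mul_X_pow, map_sum]
  refine Ideal.sum_mem _ fun i _ => ?_
  rw [map_mul]
  refine Ideal.mul_mem_right _ _ ?_
  have : algebraMap R[X] C' (C (p.coeff i)) = algebraMap R C' (p.coeff i) := by
    rw [IsScalarTower.algebraMap_apply R R[X] C']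
    rfl
  rw [this]
  exact Ideal.mem_map_of_mem _ (h i)

theorem coeff_mem_of_algebraMap_mem (hB : IsHT R B) (n : ℕ) (p : R[X])
    (h : algebraMap R[X] B p ∈ (maximalIdeal R).map (algebraMap R B) ⊔
      Ideal.span {(algebraMap R[X] B X) ^ n}) :
    ∀ i < n, p.coeff i ∈ maximalIdeal R := by
  obtain ⟨x, hx, y, hy, hxy⟩ := Submodule.mem_sup.mp h
  obtain ⟨p', b', hp', hx'⟩ := exists_poly_of_mem_mB hB n hx
  obtain ⟨c, hc⟩ := Ideal.mem_span_singleton'.mp hy
  have h1 : algebraMap R[X] B (p - p') ∈ Ideal.span {(algebraMap R[X] B X) ^ n} := by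
    rw [Ideal.mem_span_singleton']
    refine ⟨b' + c, ?_⟩
    rw [map_sub, ← hxy, hx', ← hc]
    ring
  have h2 := X_pow_dvd_of_algebraMap_mem hB n _ h1
  intro i hi
  have h3 := (Polynomial.X_pow_dvd_iff.mp h2) i hi
  rw [coeff_sub, sub_eq_zero] at h3
  rw [h3]
  exact hp' i

/-- If the coefficients of `p` below `n` are in `𝔪`, the image of `p` lies in `𝔪B + t^n B`. -/
theorem algebraMap_mem_sup_of_coeff_mem (C' : Type*) [CommRing C'] [Algebra R C']
    [Algebra R[X] C'] [IsScalarTower R R[X] C'] (n : ℕ) (p : R[X])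
    (h : ∀ i < n, p.coeff i ∈ maximalIdeal R) :
    algebraMap R[X] C' p ∈ (maximalIdeal R).map (algebraMap R C') ⊔
      Ideal.span {(algebraMap R[X] C' X) ^ n} := by
  obtain ⟨q, hq⟩ := poly_split p n
  rw [hq, map_add]
  refine Submodule.add_mem_sup ?_ ?_
  · apply algebraMap_mem_of_coeff_mem
    intro i
    rw [finsetSum_coeff]
    refine Ideal.sum_mem _ fun j hj => ?_
    rw [coeff_C_mul]
    exact Ideal.mul_mem_right _ _ (h j (Finset.mem_range.mp hj))
  · rw [map_mul, map_pow]
    exact Ideal.mul_mem_right _ _ (Ideal.mem_span_singleton_self _)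

end Local

section Hens

variable {R : Type u} [CommRing R] [HenselianLocalRing R]

theorem henselianRing_of_finite (C : Type u) [CommRing C] [Algebra R C] [Algebra R[X] C]
    [IsScalarTower R R[X] C] [Module.Finite R C] (d : ℕ)
    (hd : (algebraMap R[X] C X) ^ d ∈ (maximalIdeal R).map (algebraMap R C)) :
    HenselianRing C ((Ideal.span {(X : R[X])}).map (algebraMap R[X] C)) := by
  haveI : Algebra.IsIntegral R C := Algebra.IsIntegral.of_finite R C
  haveI h1 : HenselianRing C ((maximalIdeal R).map (algebraMap R C)) :=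
    Groth.Agent.H3.henselianRing_map_of_isIntegral (maximalIdeal R) C
  haveI h2 : HenselianRing C ((maximalIdeal R).map (algebraMap R C)).radical :=
    (Groth.Agent.H3.henselianRing_radical_iff _).mpr h1
  apply Groth.Agent.H3.henselianRing_of_le _ ((maximalIdeal R).map (algebraMap R C)).radical
  rw [Ideal.map_span, Set.image_singleton, Ideal.span_le, Set.singleton_subset_iff]
  exact ⟨d, hd⟩

end Hens

end Groth.Agent.H13.HW
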