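import Groth.Agent.H13.HWBasic

/-!
# Distinguished polynomials: `R[t]/(P) ≃ B/(P)`
-/

set_option autoImplicit false
set_option linter.unusedSimpArgs false
set_option linter.unusedVariables false
set_option linter.style.haveILetI false
set_option linter.unusedSectionVars false
universe u

namespace Groth.Agent.H13.HW

open Polynomial IsLocalRing

theorem dist_pow_mem {R : Type*} [CommRing R] [IsLocalRing R] (P : R[X]) (hP : P.Monic)
    (hc : ∀ i < P.natDegree, P.coeff i ∈ maximalIdeal R)
    (C' : Type*) [CommRing C'] [Algebra R C'] [Algebra R[X] C'] [IsScalarTower R R[X] C']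
    (h0 : algebraMap R[X] C' P = 0) :
    (algebraMap R[X] C' X) ^ P.natDegree ∈ (maximalIdeal R).map (algebraMap R C') := by
  have h1 := hP.as_sum
  have h2 : algebraMap R[X] C' P = (algebraMap R[X] C' X) ^ P.natDegree +
      ∑ i ∈ Finset.range P.natDegree,
        algebraMap R C' (P.coeff i) * (algebraMap R[X] C' X) ^ i := by
    conv_lhs => rw [h1]
    rw [map_add, map_pow, map_sum]
    congr 1
    refine Finset.sum_congr rfl fun i _ => ?_
    rw [map_mul, map_pow, IsScalarTower.algebraMap_apply R R[X] C']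
    rfl
  rw [h0] at h2
  have h3 : (algebraMap R[X] C' X) ^ P.natDegree =
      -∑ i ∈ Finset.range P.natDegree,
        algebraMap R C' (P.coeff i) * (algebraMap R[X] C' X) ^ i :=
    eq_neg_of_add_eq_zero_left h2.symm
  rw [h3]
  refine Ideal.neg_mem_iff _ |>.mpr (Ideal.sum_mem _ fun i hi =>
    Ideal.mul_mem_right _ _ (Ideal.mem_map_of_mem _ (hc i (Finset.mem_range.mp hi))))

variable {R : Type u} [CommRing R] [HenselianLocalRing R] {B : Type u} [CommRing B] [Algebra R B]
  [Algebra R[X] B] [IsScalarTower R R[X] B]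

theorem dist_quotient (hB : IsHT R B) (P : R[X]) (hP : P.Monic)
    (hc : ∀ i < P.natDegree, P.coeff i ∈ maximalIdeal R) :
    (∀ b : B, ∃ q : R[X], algebraMap R[X] B q - b ∈ Ideal.span {algebraMap R[X] B P}) ∧
    (∀ q : R[X], algebraMap R[X] B q ∈ Ideal.span {algebraMap R[X] B P} →
      q ∈ Ideal.span {P}) := by
  haveI : Module.Finite R (R[X] ⧸ Ideal.span {P}) := hP.finite_adjoinRoot
  have h0 : algebraMap R[X] (R[X] ⧸ Ideal.span {P}) P = 0 := by
    rw [Ideal.Quotient.algebraMap_eq]
    exact Ideal.Quotient.eq_zero_iff_mem.mpr (Ideal.mem_span_singleton_self P)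
  have hC : HenselianRing (R[X] ⧸ Ideal.span {P})
      ((Ideal.span {(X : R[X])}).map (algebraMap R[X] (R[X] ⧸ Ideal.span {P}))) :=
    henselianRing_of_finite _ P.natDegree (dist_pow_mem P hP hc _ h0)
  constructor
  · let j : (R[X] ⧸ Ideal.span {P}) →+* B ⧸ Ideal.span {algebraMap R[X] B P} :=
      Ideal.quotientMap _ (algebraMap R[X] B) (by
        rw [Ideal.span_le, Set.singleton_subset_iff]
        exact Ideal.mem_comap.mpr (Ideal.mem_span_singleton_self _))
    have hj : j.comp (algebraMap R[X] (R[X] ⧸ Ideal.span {P})) =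
        (Ideal.Quotient.mk _).comp (algebraMap R[X] B) := by
      refine RingHom.ext fun p => ?_
      rw [RingHom.comp_apply, RingHom.comp_apply, Ideal.Quotient.algebraMap_eq,
        Ideal.quotientMap_mk]
    have hsurj := surjective_of_comp_eq _ hB _ _ hC j hj
    intro b
    obtain ⟨c, hc'⟩ := hsurj (Ideal.Quotient.mk _ b)
    obtain ⟨q, rfl⟩ := Ideal.Quotient.mk_surjective c
    refine ⟨q, ?_⟩
    rw [Ideal.quotientMap_mk] at hc'
    exact Ideal.Quotient.eq.mp hc'
  · obtain ⟨ρ, hρ, -⟩ := hB.2 _ _ (algebraMap R[X] (R[X] ⧸ Ideal.span {P})) hC le_rfl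
    have hρ' : ∀ p, ρ (algebraMap R[X] B p) = algebraMap R[X] (R[X] ⧸ Ideal.span {P}) p :=
      fun p => RingHom.congr_fun hρ p
    intro q hq
    obtain ⟨c, hc'⟩ := Ideal.mem_span_singleton'.mp hq
    have h1 := congrArg ρ hc'
    rw [map_mul, hρ', hρ', h0, mul_zero, Ideal.Quotient.algebraMap_eq] at h1
    exact Ideal.Quotient.eq_zero_iff_mem.mp h1.symm

end Groth.Agent.H13.HW
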