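import Groth.Agent.H13.HWNbhd
import Groth.Agent.H3.HenselSplit

/-!
# Finiteness of `B ⧸ (t ^ d + μ)` over `R` and the normal form `f = μ + t ^ d * u`
-/

set_option autoImplicit false
set_option linter.unusedSimpArgs false
set_option linter.unusedVariables false
set_option linter.style.haveILetI false
set_option linter.unusedSectionVars false
universe u

namespace Groth.Agent.H13.HW

open Polynomial IsLocalRing TensorProduct

/-- Quasi-finiteness at a prime from finiteness of the whole fibre. -/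
theorem quasiFiniteAt_of_finite_fiber {R S : Type u} [CommRing R] [CommRing S] [Algebra R S]
    [Algebra.FiniteType R S] (q : Ideal S) [q.IsPrime]
    (h : Module.Finite (q.under R).ResidueField ((q.under R).Fiber S)) :
    Algebra.QuasiFiniteAt R q := by
  let q' : PrimeSpectrum S := ⟨q, inferInstance⟩
  let p := q'.comap (algebraMap R S)
  let e := PrimeSpectrum.preimageHomeomorphFiber R S p
  haveI : Module.Finite p.asIdeal.ResidueField (p.asIdeal.Fiber S) := h
  haveI : q.LiesOver p.asIdeal := ⟨rfl⟩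
  exact .of_quasiFiniteAt_residueField p.asIdeal q (e ⟨q', rfl⟩).asIdeal
    congr($(e.symm_apply_apply ⟨q', rfl⟩).1.asIdeal)

theorem finite_fiber_of_span {R S : Type*} [CommRing R] [CommRing S] [Algebra R S]
    (𝔭 : Ideal R) [𝔭.IsPrime] (G : Finset S)
    (h : ∀ x : S, x ∈ Submodule.span R (G : Set S) ⊔ 𝔭 • (⊤ : Submodule R S)) :
    Module.Finite 𝔭.ResidueField (𝔭.Fiber S) := by
  classical
  refine ⟨⟨G.image (fun g => (1 : 𝔭.ResidueField) ⊗ₜ[R] g), ?_⟩⟩
  rw [eq_top_iff]
  rintro z -
  have key : ∀ (x : S) (c : 𝔭.ResidueField), c ⊗ₜ[R] x ∈ Submodule.span 𝔭.ResidueField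
      ((G.image (fun g => (1 : 𝔭.ResidueField) ⊗ₜ[R] g) : Finset (𝔭.Fiber S)) :
        Set (𝔭.Fiber S)) := by
    intro x c
    obtain ⟨x₀, hx₀, y, hy, rfl⟩ := Submodule.mem_sup.mp (h x)
    rw [TensorProduct.tmul_add]
    refine Submodule.add_mem _ ?_ ?_
    · revert c
      refine Submodule.span_induction (p := fun x _ => ∀ c : 𝔭.ResidueField, c ⊗ₜ[R] x ∈
        Submodule.span 𝔭.ResidueField
          ((G.image (fun g => (1 : 𝔭.ResidueField) ⊗ₜ[R] g) : Finset (𝔭.Fiber S)) :
            Set (𝔭.Fiber S))) ?_ ?_ ?_ ?_ hx₀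
      · intro g hg c
        have : c ⊗ₜ[R] g = c • ((1 : 𝔭.ResidueField) ⊗ₜ[R] g) := by
          rw [TensorProduct.smul_tmul', smul_eq_mul, mul_one]
        rw [this]
        exact Submodule.smul_mem _ _ (Submodule.subset_span
          (Finset.mem_coe.mpr (Finset.mem_image_of_mem _ hg)))
      · intro c
        rw [TensorProduct.tmul_zero]
        exact zero_mem _
      · intro a b _ _ ha hb c
        rw [TensorProduct.tmul_add]
        exact add_mem (ha c) (hb c)
      · intro r a _ ha c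
        rw [← TensorProduct.smul_tmul]
        exact ha (r • c)
    · have hy0 : ∀ c : 𝔭.ResidueField, c ⊗ₜ[R] y = 0 := by
        refine Submodule.smul_induction_on
          (p := fun y => ∀ c : 𝔭.ResidueField, c ⊗ₜ[R] y = 0) hy ?_ ?_
        · intro m hm s _ c
          rw [← TensorProduct.smul_tmul, Algebra.smul_def,
            Ideal.algebraMap_residueField_eq_zero.mpr hm, zero_mul, TensorProduct.zero_tmul]
        · intro a b ha hb c
          rw [TensorProduct.tmul_add, ha c, hb c, add_zero]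
      rw [hy0 c]
      exact zero_mem _
  induction z using TensorProduct.induction_on with
  | zero => exact zero_mem _
  | tmul c x => exact key x c
  | add a b ha hb => exact add_mem ha hb

variable {R : Type u} [CommRing R] [HenselianLocalRing R] {B : Type u} [CommRing B] [Algebra R B]
  [Algebra R[X] B] [IsScalarTower R R[X] B]

theorem isNoetherianRing_quotient_map {A₁ : Type u} [CommRing A₁] [Algebra R A₁]
    [Algebra.FiniteType R A₁] :
    IsNoetherianRing (A₁ ⧸ (maximalIdeal R).map (algebraMap R A₁)) := by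
  haveI : IsNoetherianRing (ResidueField R ⊗[R] A₁) :=
    Algebra.FiniteType.isNoetherianRing (ResidueField R) (ResidueField R ⊗[R] A₁)
  let f₁ : ResidueField R →ₐ[R] (A₁ ⧸ (maximalIdeal R).map (algebraMap R A₁)) :=
    Ideal.Quotient.liftₐ (maximalIdeal R)
      (Algebra.ofId R (A₁ ⧸ (maximalIdeal R).map (algebraMap R A₁))) (fun m hm => by
        show algebraMap R (A₁ ⧸ (maximalIdeal R).map (algebraMap R A₁)) m = 0
        rw [IsScalarTower.algebraMap_apply R A₁ (A₁ ⧸ (maximalIdeal R).map (algebraMap R A₁)),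
          Ideal.Quotient.algebraMap_eq]
        exact Ideal.Quotient.eq_zero_iff_mem.mpr (Ideal.mem_map_of_mem _ hm))
  let g₁ : ResidueField R ⊗[R] A₁ →ₐ[R] (A₁ ⧸ (maximalIdeal R).map (algebraMap R A₁)) :=
    Algebra.TensorProduct.lift f₁ (Ideal.Quotient.mkₐ R _) (fun _ _ => Commute.all _ _)
  exact isNoetherianRing_of_surjective _ _ g₁.toRingHom (fun x => by
    obtain ⟨a, rfl⟩ := Ideal.Quotient.mk_surjective x
    exact ⟨1 ⊗ₜ a, by simp [g₁]⟩)

theorem exists_not_mem_sup_pow (hB : IsHT R B) (f : B)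
    (hf : f ∉ (maximalIdeal R).map (algebraMap R B)) :
    ∃ n : ℕ, f ∉ (maximalIdeal R).map (algebraMap R B) ⊔
      Ideal.span {(algebraMap R[X] B X) ^ n} := by
  by_contra hcon
  push Not at hcon
  obtain ⟨N, hN⟩ := exists_nbhd hB {f}
  obtain ⟨a, ha⟩ := hN f (Finset.mem_singleton_self f)
  haveI hft : Algebra.FiniteType R N.A :=
    Algebra.FiniteType.trans (S := R[X]) inferInstance inferInstance
  haveI : IsNoetherianRing (N.A ⧸ (maximalIdeal R).map (algebraMap R N.A)) :=
    isNoetherianRing_quotient_map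
  have hmem : ∀ n, a ∈ (maximalIdeal R).map (algebraMap R N.A) ⊔
      Ideal.span {(algebraMap R[X] N.A X) ^ n} := by
    intro n
    obtain ⟨p, a', hpa⟩ := N.exists_eq_add_t_pow_mul n a
    have h1 : algebraMap R[X] B p ∈ (maximalIdeal R).map (algebraMap R B) ⊔
        Ideal.span {(algebraMap R[X] B X) ^ n} := by
      have h2 := hcon n
      have h3 : f = algebraMap R[X] B p + (algebraMap R[X] B X) ^ n * N.φ a' := by
        rw [← ha, hpa, map_add, map_mul, map_pow, N.φ.commutes, N.φ.commutes]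
      have h4 : algebraMap R[X] B p = f - (algebraMap R[X] B X) ^ n * N.φ a' := by
        rw [h3]; ring
      rw [h4]
      exact Ideal.sub_mem _ h2 (Ideal.mem_sup_right
        (Ideal.mul_mem_right _ _ (Ideal.mem_span_singleton_self _)))
    have h5 := coeff_mem_of_algebraMap_mem hB n p h1
    have h6 := algebraMap_mem_sup_of_coeff_mem N.A n p h5
    rw [hpa]
    exact Ideal.add_mem _ h6 (Ideal.mem_sup_right
      (Ideal.mul_mem_right _ _ (Ideal.mem_span_singleton_self _)))
  have hK : Ideal.Quotient.mk ((maximalIdeal R).map (algebraMap R N.A)) a ∈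
      (⨅ i : ℕ, (Ideal.span {Ideal.Quotient.mk ((maximalIdeal R).map (algebraMap R N.A))
        (algebraMap R[X] N.A X)}) ^ i •
        (⊤ : Submodule (N.A ⧸ (maximalIdeal R).map (algebraMap R N.A))
          (N.A ⧸ (maximalIdeal R).map (algebraMap R N.A)))) := by
    rw [Submodule.mem_iInf]
    intro n
    rw [Ideal.smul_eq_mul, Ideal.mul_top, Ideal.span_singleton_pow]
    obtain ⟨x, hx, y, hy, hxy⟩ := Submodule.mem_sup.mp (hmem n)
    obtain ⟨c, hc⟩ := Ideal.mem_span_singleton'.mp hy
    rw [← hxy, map_add, Ideal.Quotient.eq_zero_iff_mem.mpr hx, zero_add, ← hc, map_mul, map_pow]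
    exact Ideal.mul_mem_left _ _ (Ideal.mem_span_singleton_self _)
  obtain ⟨⟨r, hr⟩, hra⟩ := (Ideal.mem_iInf_smul_pow_eq_bot_iff _ _).mp hK
  obtain ⟨c, hc⟩ := Ideal.mem_span_singleton'.mp hr
  obtain ⟨c', rfl⟩ := Ideal.Quotient.mk_surjective c
  have h7 : c' * algebraMap R[X] N.A X * a - a ∈ (maximalIdeal R).map (algebraMap R N.A) := by
    rw [← Ideal.Quotient.eq, map_mul, map_mul, hc]
    exact hra
  have h8 := N.φ_mem h7
  rw [map_sub, map_mul, map_mul, N.φ.commutes, ha] at h8
  have hu : IsUnit (1 + algebraMap R[X] B X * (-(N.φ c'))) := isUnit_one_add_t_mul hB _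
  obtain ⟨v, hv⟩ := hu
  apply hf
  have h9 : f = ↑v⁻¹ * (-(N.φ c' * algebraMap R[X] B X * f - f)) := by
    rw [Units.eq_inv_mul_iff_mul_eq, hv]
    ring
  rw [h9]
  exact Ideal.mul_mem_left _ _ ((Ideal.neg_mem_iff _).mpr h8)

/-- Normal form of an element outside `𝔪B`. -/
theorem exists_normal_form (hB : IsHT R B) (f : B)
    (hf : f ∉ (maximalIdeal R).map (algebraMap R B)) :
    ∃ (d : ℕ) (u μ : B), IsUnit u ∧ μ ∈ (maximalIdeal R).map (algebraMap R B) ∧
      f = μ + (algebraMap R[X] B X) ^ d * u := by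
  classical
  obtain ⟨n, hn⟩ := exists_not_mem_sup_pow hB f hf
  obtain ⟨p, b', hpb⟩ := exists_eq_add_t_pow_mul hB n f
  have hex : ∃ i, i < n ∧ p.coeff i ∉ maximalIdeal R := by
    by_contra hcon
    push Not at hcon
    apply hn
    rw [hpb]
    exact Ideal.add_mem _ (algebraMap_mem_sup_of_coeff_mem B n p hcon)
      (Ideal.mem_sup_right (Ideal.mul_mem_right _ _ (Ideal.mem_span_singleton_self _)))
  obtain ⟨hdn, hdc⟩ := Nat.find_spec hex
  have hmin : ∀ i < Nat.find hex, p.coeff i ∈ maximalIdeal R := fun i hi => by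
    by_contra hcon
    exact Nat.find_min hex hi ⟨lt_trans hi hdn, hcon⟩
  obtain ⟨q, hq⟩ := poly_split p (Nat.find hex)
  have hq0 : q.coeff 0 = p.coeff (Nat.find hex) := by
    have h1 := congrArg (fun r => r.coeff (Nat.find hex)) hq
    simp only [coeff_add] at h1
    have h2 : (∑ i ∈ Finset.range (Nat.find hex), C (p.coeff i) * X ^ i).coeff (Nat.find hex)
        = 0 := by
      rw [finsetSum_coeff]
      refine Finset.sum_eq_zero fun i hi => ?_
      rw [coeff_C_mul, coeff_X_pow,
        if_neg (by have := Finset.mem_range.mp hi; omega), mul_zero]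
    have h3 : (X ^ (Nat.find hex) * q).coeff (Nat.find hex) = q.coeff 0 := by
      have := coeff_X_pow_mul q (Nat.find hex) 0
      rwa [zero_add] at this
    rw [h2, h3, zero_add] at h1
    exact h1.symm
  refine ⟨Nat.find hex, algebraMap R[X] B q + (algebraMap R[X] B X) ^ (n - Nat.find hex) * b',
    algebraMap R[X] B (∑ i ∈ Finset.range (Nat.find hex), C (p.coeff i) * X ^ i), ?_, ?_, ?_⟩
  · apply isUnit_of_eps_notMem hB
    rw [map_add, map_mul, map_pow, eps_t, zero_pow (Nat.sub_ne_zero_of_lt hdn), zero_mul,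
      add_zero, eps_algebraMap, ← coeff_zero_eq_eval_zero, hq0]
    exact hdc
  · apply algebraMap_mem_of_coeff_mem
    intro i
    rw [finsetSum_coeff]
    refine Ideal.sum_mem _ fun j hj => ?_
    rw [coeff_C_mul]
    exact Ideal.mul_mem_right _ _ (hmin j (Finset.mem_range.mp hj))
  · have hpow : (algebraMap R[X] B X) ^ n =
        (algebraMap R[X] B X) ^ (Nat.find hex) * (algebraMap R[X] B X) ^ (n - Nat.find hex) := by
      rw [← pow_add]
      congr 1
      omega
    have hp' : algebraMap R[X] B p = algebraMap R[X] B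
        ((∑ i ∈ Finset.range (Nat.find hex), C (p.coeff i) * X ^ i) +
          X ^ (Nat.find hex) * q) := congrArg _ hq
    rw [hpb, hp', hpow, map_add, map_mul, map_pow]
    ring

theorem finite_quotient_aux (hB : IsHT R B) (N : Nbhd hB) (d : ℕ) (hd : 0 < d) (μ' : N.A)
    (hμ'mem : μ' ∈ (maximalIdeal R).map (algebraMap R N.A)) :
    Module.Finite R (B ⧸ Ideal.span {N.φ ((algebraMap R[X] N.A X) ^ d + μ')}) := by
  classical
  set t₁ := algebraMap R[X] N.A X with ht₁
  set g₁ : N.A := t₁ ^ d + μ' with hg₁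
  haveI hftA : Algebra.FiniteType R N.A :=
    Algebra.FiniteType.trans (S := R[X]) inferInstance inferInstance
  haveI hftS : Algebra.FiniteType R (N.A ⧸ Ideal.span {g₁}) :=
    Algebra.FiniteType.of_surjective (Ideal.Quotient.mkₐ R (Ideal.span {g₁}))
      (Ideal.Quotient.mkₐ_surjective R _)
  have hχμ : N.chi μ' ∈ maximalIdeal R := by
    rw [Nbhd.chi_apply]
    exact eps_mem_of_mem hB (N.φ_mem hμ'mem)
  have hχg : (IsLocalRing.residue R) (N.chi g₁) = 0 := by
    rw [hg₁, map_add, map_pow, ht₁, N.chi_algebraMap, eval_X, zero_pow hd.ne', zero_add]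
    exact (IsLocalRing.residue_eq_zero_iff _).mpr hχμ
  let ψ : (N.A ⧸ Ideal.span {g₁}) →+* ResidueField R :=
    Ideal.Quotient.lift _ ((IsLocalRing.residue R).comp N.chi) (by
      intro a ha
      obtain ⟨c', rfl⟩ := Ideal.mem_span_singleton'.mp ha
      rw [map_mul, RingHom.comp_apply, RingHom.comp_apply, hχg, mul_zero])
  haveI hqprime : (RingHom.ker ψ).IsPrime := RingHom.ker_isPrime ψ
  have hψR : ∀ r : R, ψ (algebraMap R (N.A ⧸ Ideal.span {g₁}) r) = IsLocalRing.residue R r := by
    intro r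
    show ψ (Ideal.Quotient.mk _ (algebraMap R N.A r)) = _
    rw [Ideal.Quotient.lift_mk, RingHom.comp_apply, N.chi_R]
  haveI hlies : (RingHom.ker ψ).LiesOver (maximalIdeal R) := ⟨by
    ext r
    rw [Ideal.under_def, Ideal.mem_comap, RingHom.mem_ker, hψR,
      IsLocalRing.residue_eq_zero_iff]⟩
  -- the fibre is finite
  have hfib : Module.Finite ((RingHom.ker ψ).under R).ResidueField
      (((RingHom.ker ψ).under R).Fiber (N.A ⧸ Ideal.span {g₁})) := by
    apply finite_fiber_of_span ((RingHom.ker ψ).under R)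
      ((Finset.range d).image (fun i => (Ideal.Quotient.mk (Ideal.span {g₁}) t₁) ^ i))
    intro x
    obtain ⟨y, rfl⟩ := Ideal.Quotient.mk_surjective x
    obtain ⟨p, y', hy⟩ := N.exists_eq_add_t_pow_mul d y
    obtain ⟨q', hq'⟩ := poly_split p d
    have hcoef : ∀ i, algebraMap R[X] N.A (C (p.coeff i) * X ^ i) =
        algebraMap R N.A (p.coeff i) * t₁ ^ i := fun i => by
      rw [map_mul, map_pow, IsScalarTower.algebraMap_apply R R[X] N.A]
      rfl
    have hp' : algebraMap R[X] N.A p = algebraMap R[X] N.A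
        ((∑ i ∈ Finset.range d, C (p.coeff i) * X ^ i) + X ^ d * q') := congrArg _ hq'
    have h1 : y = (∑ i ∈ Finset.range d, algebraMap R N.A (p.coeff i) * t₁ ^ i) +
        t₁ ^ d * (algebraMap R[X] N.A q' + y') := by
      rw [hy, hp', map_add, map_sum, map_mul, map_pow]
      simp only [hcoef]
      ring
    have h2 : Ideal.Quotient.mk (Ideal.span {g₁}) (t₁ ^ d * (algebraMap R[X] N.A q' + y')) =
        Ideal.Quotient.mk _ (-(μ' * (algebraMap R[X] N.A q' + y'))) := by
      rw [Ideal.Quotient.eq, Ideal.mem_span_singleton']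
      exact ⟨algebraMap R[X] N.A q' + y', by rw [hg₁]; ring⟩
    rw [h1, map_add, map_sum, h2]
    refine Submodule.add_mem_sup ?_ ?_
    · refine Submodule.sum_mem _ fun i hi => ?_
      have : Ideal.Quotient.mk (Ideal.span {g₁}) (algebraMap R N.A (p.coeff i) * t₁ ^ i) =
          (p.coeff i) • (Ideal.Quotient.mk (Ideal.span {g₁}) t₁) ^ i := by
        rw [map_mul, map_pow, Algebra.smul_def]
        rfl
      rw [this]
      exact Submodule.smul_mem _ _ (Submodule.subset_span
        (Finset.mem_coe.mpr (Finset.mem_image_of_mem _ hi)))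
    · have h3 : Ideal.Quotient.mk (Ideal.span {g₁})
          (-(μ' * (algebraMap R[X] N.A q' + y'))) ∈
          (maximalIdeal R).map (algebraMap R (N.A ⧸ Ideal.span {g₁})) := by
        have := Ideal.mem_map_of_mem (Ideal.Quotient.mk (Ideal.span {g₁}))
          ((Ideal.neg_mem_iff _).mpr (Ideal.mul_mem_right (algebraMap R[X] N.A q' + y') _ hμ'mem))
        rw [Ideal.map_map] at this
        exact this
      have h4 : (maximalIdeal R) • (⊤ : Submodule R (N.A ⧸ Ideal.span {g₁})) ≤
          ((RingHom.ker ψ).under R) • ⊤ :=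
        Submodule.smul_mono_left (le_of_eq hlies.over)
      apply h4
      rw [Ideal.smul_top_eq_map]
      exact h3
  haveI : Algebra.QuasiFiniteAt R (RingHom.ker ψ) := quasiFiniteAt_of_finite_fiber _ hfib
  obtain ⟨e, he_idem, he_notin, he_fin, -⟩ :=
    Groth.Agent.H3.exists_idempotent_finite_of_quasiFiniteAt (R := R) (RingHom.ker ψ)
  haveI := he_fin
  -- `t ^ d ∈ 𝔪 C`
  have hpowC : (algebraMap R[X] ((N.A ⧸ Ideal.span {g₁}) ⧸ Ideal.span {1 - e}) X) ^ d ∈
      (maximalIdeal R).map (algebraMap R ((N.A ⧸ Ideal.span {g₁}) ⧸ Ideal.span {1 - e})) := by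
    have h1 : algebraMap R[X] ((N.A ⧸ Ideal.span {g₁}) ⧸ Ideal.span {1 - e}) X =
        Ideal.Quotient.mk _ (Ideal.Quotient.mk (Ideal.span {g₁}) t₁) := rfl
    have h2 : Ideal.Quotient.mk (Ideal.span {g₁}) (t₁ ^ d) = Ideal.Quotient.mk _ (-μ') := by
      rw [Ideal.Quotient.eq, Ideal.mem_span_singleton']
      exact ⟨1, by rw [hg₁]; ring⟩
    rw [h1, ← map_pow, ← map_pow, h2]
    have := Ideal.mem_map_of_mem ((Ideal.Quotient.mk (Ideal.span {1 - e})).comp
      (Ideal.Quotient.mk (Ideal.span {g₁}))) ((Ideal.neg_mem_iff _).mpr hμ'mem)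
    rw [Ideal.map_map] at this
    exact this
  have hC := henselianRing_of_finite ((N.A ⧸ Ideal.span {g₁}) ⧸ Ideal.span {1 - e}) d hpowC
  -- the map to `B ⧸ (g)`
  let j₁ : (N.A ⧸ Ideal.span {g₁}) →+* B ⧸ Ideal.span {N.φ g₁} :=
    Ideal.Quotient.lift _ ((Ideal.Quotient.mk (Ideal.span {N.φ g₁})).comp N.φ.toRingHom) (by
      intro a ha
      obtain ⟨c', rfl⟩ := Ideal.mem_span_singleton'.mp ha
      show Ideal.Quotient.mk _ (N.φ (c' * g₁)) = 0
      rw [map_mul]
      exact Ideal.Quotient.eq_zero_iff_mem.mpr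
        (Ideal.mul_mem_left _ _ (Ideal.mem_span_singleton_self _)))
  obtain ⟨et, het⟩ := Ideal.Quotient.mk_surjective e
  have hunit : IsUnit (N.φ et) := by
    apply isUnit_of_eps_notMem hB
    intro hcon
    apply he_notin
    rw [RingHom.mem_ker, ← het]
    show (IsLocalRing.residue R) (N.chi et) = 0
    exact (IsLocalRing.residue_eq_zero_iff _).mpr hcon
  have h1e : N.φ (1 - et) ∈ Ideal.span {N.φ g₁} := by
    have h1 : et * et - et ∈ Ideal.span {g₁} := by
      rw [← Ideal.Quotient.eq, map_mul, het]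
      exact he_idem.eq
    obtain ⟨c', hc'⟩ := Ideal.mem_span_singleton'.mp h1
    have h2 := congrArg N.φ hc'
    rw [map_mul, map_sub, map_mul] at h2
    obtain ⟨v, hv⟩ := hunit
    have hvinv : (↑v⁻¹ : B) * N.φ et = 1 := by rw [← hv]; exact Units.inv_mul v
    have h3 : N.φ (1 - et) = -(↑v⁻¹ * N.φ c') * N.φ g₁ := by
      rw [map_sub, map_one]
      calc 1 - N.φ et = -(↑v⁻¹ * (N.φ et * N.φ et - N.φ et)) := by
            have : (↑v⁻¹ : B) * (N.φ et * N.φ et - N.φ et) =
                ((↑v⁻¹ : B) * N.φ et) * N.φ et - (↑v⁻¹ : B) * N.φ et := by ring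
            rw [this, hvinv]
            ring
        _ = -(↑v⁻¹ * N.φ c') * N.φ g₁ := by rw [← h2]; ring
    rw [h3]
    exact Ideal.mul_mem_left _ _ (Ideal.mem_span_singleton_self _)
  let j : ((N.A ⧸ Ideal.span {g₁}) ⧸ Ideal.span {1 - e}) →+* B ⧸ Ideal.span {N.φ g₁} :=
    Ideal.Quotient.lift _ j₁ (by
      intro a ha
      obtain ⟨c', rfl⟩ := Ideal.mem_span_singleton'.mp ha
      rw [map_mul]
      have : j₁ (1 - e) = 0 := by
        rw [← het, ← map_one (Ideal.Quotient.mk (Ideal.span {g₁})), ← map_sub]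
        show Ideal.Quotient.mk _ (N.φ (1 - et)) = 0
        exact Ideal.Quotient.eq_zero_iff_mem.mpr h1e
      rw [this, mul_zero])
  have hj : j.comp (algebraMap R[X] ((N.A ⧸ Ideal.span {g₁}) ⧸ Ideal.span {1 - e})) =
      (Ideal.Quotient.mk _).comp (algebraMap R[X] B) := by
    refine RingHom.ext fun p => ?_
    show Ideal.Quotient.mk _ (N.φ (algebraMap R[X] N.A p)) = _
    rw [N.φ.commutes]
    rfl
  have hsurj := surjective_of_comp_eq _ hB _ _ hC j hj
  let l : ((N.A ⧸ Ideal.span {g₁}) ⧸ Ideal.span {1 - e}) →ₗ[R] (B ⧸ Ideal.span {N.φ g₁}) :=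
    { toFun := j
      map_add' := map_add j
      map_smul' := fun r c' => by
        have e1 : r • c' = algebraMap R _ r * c' := Algebra.smul_def r c'
        have e2 : r • j c' = algebraMap R _ r * j c' := Algebra.smul_def r (j c')
        simp only [RingHom.id_apply]
        rw [e1, e2, map_mul]
        congr 1
        rw [IsScalarTower.algebraMap_apply R R[X]
            ((N.A ⧸ Ideal.span {g₁}) ⧸ Ideal.span {1 - e}),
          IsScalarTower.algebraMap_apply R R[X] (B ⧸ Ideal.span {N.φ g₁})]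
        exact RingHom.congr_fun hj _ }
  exact Module.Finite.of_surjective l hsurj

theorem finite_quotient (hB : IsHT R B) (d : ℕ) (μ : B)
    (hμ : μ ∈ (maximalIdeal R).map (algebraMap R B)) :
    Module.Finite R (B ⧸ Ideal.span {(algebraMap R[X] B X) ^ d + μ}) := by
  classical
  rcases Nat.eq_zero_or_pos d with rfl | hd
  · have hu : IsUnit ((algebraMap R[X] B X) ^ 0 + μ) := by
      rw [pow_zero]
      exact isUnit_one_add_of_mem hB hμ
    have : Ideal.span {(algebraMap R[X] B X) ^ 0 + μ} = ⊤ := Ideal.span_singleton_eq_top.mpr hu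
    rw [this]
    haveI : Subsingleton (B ⧸ (⊤ : Ideal B)) := Ideal.Quotient.subsingleton_iff.mpr rfl
    infer_instance
  have hμ' : μ ∈ Submodule.span B (algebraMap R B '' (maximalIdeal R : Set R)) := hμ
  obtain ⟨T, hT, c, hc⟩ := (Submodule.mem_span_image_iff_exists_fun B).mp hμ'
  obtain ⟨N, hN⟩ := exists_nbhd hB (Finset.univ.image c)
  choose γ hγ using fun i : T => hN (c i) (Finset.mem_image_of_mem c (Finset.mem_univ i))
  have hμ'mem : (∑ i : T, γ i * algebraMap R N.A (i : R)) ∈
      (maximalIdeal R).map (algebraMap R N.A) :=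
    Ideal.sum_mem _ fun i _ => Ideal.mul_mem_left _ _ (Ideal.mem_map_of_mem _ (hT i.2))
  have hφμ' : N.φ (∑ i : T, γ i * algebraMap R N.A (i : R)) = μ := by
    rw [map_sum, ← hc]
    refine Finset.sum_congr rfl fun i _ => ?_
    rw [map_mul, hγ, N.φ_R, smul_eq_mul]
  have h := finite_quotient_aux hB N d hd _ hμ'mem
  rw [map_add, map_pow, N.φ.commutes, hφμ'] at h
  exact h

end Groth.Agent.H13.HW
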