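import Groth.Agent.H13.HWBasic

/-!
# Étale neighbourhoods of the section `t = 0` mapping to `B`, shrunk so that `ker χ = (t)`
-/

set_option autoImplicit false
set_option linter.unusedSimpArgs false
set_option linter.unusedVariables false
set_option linter.style.haveILetI false
set_option linter.unusedSectionVars false
universe u

namespace Groth.Agent.H13.HW

open Polynomial IsLocalRing

variable {R : Type u} [CommRing R] {B : Type u} [CommRing B] [Algebra R B] [Algebra R[X] B]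
  [IsScalarTower R R[X] B]

theorem exists_etale_rep (hB : IsHT R B) (s : Finset B) :
    ∃ (A₁ : Type u) (_ : CommRing A₁) (_ : Algebra R[X] A₁) (_ : Algebra.Etale R[X] A₁)
      (φ : A₁ →ₐ[R[X]] B), ∀ b ∈ s, ∃ a, φ a = b := by
  classical
  obtain ⟨e⟩ := Groth.Agent.H3.PH.nonempty_algEquiv_of_isPairHenselization
    (Ideal.span {(X : R[X])}) _ B
    (Groth.Agent.H3.PH.isPairHenselization_H R[X] (Ideal.span {(X : R[X])})) hB
  obtain ⟨Y, hY⟩ := Groth.Agent.H3.PH.exists_rep_finset R[X]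
    (R[X] ⧸ Ideal.span {(X : R[X])}) (s.image e.symm)
  refine ⟨Y.A, inferInstance, inferInstance, inferInstance,
    (e : _ →ₐ[R[X]] B).comp (Groth.Agent.H3.PH.ιₐ R[X] _ Y), fun b hb => ?_⟩
  obtain ⟨a, ha⟩ := hY (e.symm b) (Finset.mem_image_of_mem _ hb)
  refine ⟨a, ?_⟩
  show e (Groth.Agent.H3.PH.ι R[X] _ Y a) = b
  rw [ha, e.apply_symm_apply]

/-- An étale neighbourhood with `ker χ = (t)`. -/
structure Nbhd (hB : IsHT R B) : Type (u + 1) where
  A : Type u
  [cr : CommRing A]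
  [algX : Algebra R[X] A]
  [algR : Algebra R A]
  [tower : IsScalarTower R R[X] A]
  [etale : Algebra.Etale R[X] A]
  φ : A →ₐ[R[X]] B
  ker_le : ∀ y : A, eps hB (φ y) = 0 → y ∈ Ideal.span {algebraMap R[X] A X}

attribute [instance] Nbhd.cr Nbhd.algX Nbhd.algR Nbhd.tower Nbhd.etale

theorem exists_nbhd_of_etale (hB : IsHT R B) (A₁ : Type u) [CommRing A₁] [Algebra R[X] A₁]
    [Algebra.Etale R[X] A₁] (φ : A₁ →ₐ[R[X]] B) :
    ∃ (N : Nbhd hB) (θ : A₁ →+* N.A), ∀ a, N.φ (θ a) = φ a := by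
  classical
  set t₁ : A₁ := algebraMap R[X] A₁ X with ht₁
  let χ : A₁ →+* R := (eps hB).comp φ.toRingHom
  have hχalg : ∀ p : R[X], χ (algebraMap R[X] A₁ p) = p.eval 0 := fun p => by
    show eps hB (φ (algebraMap R[X] A₁ p)) = _
    rw [φ.commutes, eps_algebraMap]
  let φ₁ : A₁ →ₐ[R[X]] (A₁ ⧸ Ideal.span {t₁}) := Ideal.Quotient.mkₐ R[X] _
  have hX0 : algebraMap R[X] (A₁ ⧸ Ideal.span {t₁}) X = 0 := by
    show Ideal.Quotient.mk _ (algebraMap R[X] A₁ X) = 0
    exact Ideal.Quotient.eq_zero_iff_mem.mpr (Ideal.mem_span_singleton_self _)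
  have hkill : ∀ p : R[X], algebraMap R[X] (A₁ ⧸ Ideal.span {t₁}) p =
      algebraMap R[X] (A₁ ⧸ Ideal.span {t₁}) (C (p.eval 0)) := by
    intro p
    have h1 : p = X * p.divX + C (p.eval 0) := by
      rw [← coeff_zero_eq_eval_zero]
      exact (X_mul_divX_add p).symm
    conv_lhs => rw [h1]
    rw [map_add, map_mul, hX0, zero_mul, zero_add]
  let ψ₁ : A₁ →ₐ[R[X]] (A₁ ⧸ Ideal.span {t₁}) :=
    { toRingHom := (algebraMap R[X] (A₁ ⧸ Ideal.span {t₁})).comp (C.comp χ)
      commutes' := fun p => by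
        show algebraMap R[X] (A₁ ⧸ Ideal.span {t₁}) (C (χ (algebraMap R[X] A₁ p))) =
          algebraMap R[X] (A₁ ⧸ Ideal.span {t₁}) p
        rw [hχalg, ← hkill] }
  obtain ⟨e', he', hK⟩ := Groth.Agent.H3.PH.exists_idempotent_coequalizer (R := R[X]) A₁
    (A₁ ⧸ Ideal.span {t₁}) φ₁ ψ₁
  obtain ⟨et, het⟩ := Ideal.Quotient.mk_surjective e'
  have hχt : χ t₁ = 0 := by rw [ht₁, hχalg, eval_X]
  let χbar : (A₁ ⧸ Ideal.span {t₁}) →+* R := Ideal.Quotient.lift _ χ (by
    intro a ha
    obtain ⟨c, rfl⟩ := Ideal.mem_span_singleton'.mp ha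
    rw [map_mul, hχt, mul_zero])
  have hχbar_alg : ∀ p, χbar (algebraMap R[X] (A₁ ⧸ Ideal.span {t₁}) p) = p.eval 0 := fun p => by
    show χbar (Ideal.Quotient.mk _ (algebraMap R[X] A₁ p)) = _
    rw [Ideal.Quotient.lift_mk, hχalg]
  have hgen : ∀ a : A₁, χbar (φ₁ a - ψ₁ a) = 0 := by
    intro a
    rw [map_sub]
    show χbar (Ideal.Quotient.mk _ a) -
      χbar (algebraMap R[X] (A₁ ⧸ Ideal.span {t₁}) (C (χ a))) = 0
    rw [Ideal.Quotient.lift_mk, hχbar_alg, eval_C, sub_self]
  have hle : Ideal.span (Set.range fun a : A₁ => φ₁ a - ψ₁ a) ≤ RingHom.ker χbar := by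
    rw [Ideal.span_le]
    rintro _ ⟨a, rfl⟩
    exact (RingHom.mem_ker).mpr (hgen a)
  have h1e : χbar (1 - e') = 0 := by
    have : (1 - e') ∈ Ideal.span {1 - e'} := Ideal.mem_span_singleton_self _
    rw [← hK] at this
    exact RingHom.mem_ker.mp (hle this)
  have hχet : χ et = 1 := by
    have h2 : χbar e' = 1 := by
      rw [map_sub, map_one, sub_eq_zero] at h1e
      exact h1e.symm
    rw [← het, Ideal.Quotient.lift_mk] at h2
    exact h2
  have hidem : et * et - et ∈ Ideal.span {t₁} := by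
    rw [← Ideal.Quotient.eq, map_mul, het]
    exact he'.eq
  have hker : ∀ y : A₁, χ y = 0 → ∃ z z' : A₁, y = (1 - et) * z + t₁ * z' := by
    intro y hy
    have h1 : φ₁ y - ψ₁ y ∈ Ideal.span {1 - e'} := by
      rw [← hK]
      exact Ideal.subset_span ⟨y, rfl⟩
    have h2 : ψ₁ y = 0 := by
      show algebraMap R[X] (A₁ ⧸ Ideal.span {t₁}) (C (χ y)) = 0
      rw [hy, map_zero, map_zero]
    rw [h2, sub_zero] at h1
    obtain ⟨c, hc⟩ := Ideal.mem_span_singleton'.mp h1
    obtain ⟨z, rfl⟩ := Ideal.Quotient.mk_surjective c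
    have h3 : y - (1 - et) * z ∈ Ideal.span {t₁} := by
      rw [← Ideal.Quotient.eq]
      show φ₁ y = _
      rw [← hc, map_mul, map_sub, map_one, het, mul_comm]
    obtain ⟨z', hz'⟩ := Ideal.mem_span_singleton'.mp h3
    exact ⟨z, z', by rw [mul_comm t₁, hz']; ring⟩
  -- the localization
  haveI : Algebra.Etale R[X] (Localization.Away et) :=
    Algebra.Etale.comp R[X] A₁ (Localization.Away et)
  letI algR₂ : Algebra R (Localization.Away et) :=
    ((algebraMap R[X] (Localization.Away et)).comp (algebraMap R R[X])).toAlgebra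
  haveI tw₂ : IsScalarTower R R[X] (Localization.Away et) :=
    IsScalarTower.of_algebraMap_eq (fun _ => rfl)
  have hu : IsUnit (φ.toRingHom et) := isUnit_of_isUnit_eps hB _ (by
    show IsUnit (χ et)
    rw [hχet]
    exact isUnit_one)
  let φ₂r : Localization.Away et →+* B := IsLocalization.Away.lift et (g := φ.toRingHom) hu
  have hφ₂r : ∀ a, φ₂r (algebraMap A₁ (Localization.Away et) a) = φ a :=
    fun a => IsLocalization.Away.lift_eq et hu a
  let φ₂ : Localization.Away et →ₐ[R[X]] B :=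
    { toRingHom := φ₂r
      commutes' := fun p => by
        show φ₂r (algebraMap R[X] (Localization.Away et) p) = _
        rw [IsScalarTower.algebraMap_apply R[X] A₁ (Localization.Away et), hφ₂r, φ.commutes] }
  refine ⟨{ A := Localization.Away et, φ := φ₂, ker_le := ?_ },
    algebraMap A₁ (Localization.Away et), hφ₂r⟩
  intro y' hy'
  obtain ⟨n, y, hy⟩ := IsLocalization.Away.surj et y'
  obtain ⟨v, hv⟩ := IsLocalization.Away.algebraMap_isUnit (S := Localization.Away et) et
  have hχy : χ y = 0 := by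
    have h1 := congrArg φ₂r hy
    rw [map_mul, map_pow, hφ₂r, hφ₂r] at h1
    have h2 := congrArg (eps hB) h1
    have h3 : eps hB (φ₂r y') = 0 := hy'
    rw [map_mul, h3, zero_mul] at h2
    exact h2.symm
  obtain ⟨z, z', hzz⟩ := hker y hχy
  obtain ⟨c, hc⟩ := Ideal.mem_span_singleton'.mp hidem
  have ht₂ : algebraMap R[X] (Localization.Away et) X =
      algebraMap A₁ (Localization.Away et) t₁ :=
    IsScalarTower.algebraMap_apply R[X] A₁ (Localization.Away et) X
  have e1 : algebraMap A₁ (Localization.Away et) (1 - et) ∈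
      Ideal.span {algebraMap R[X] (Localization.Away et) X} := by
    have h1 : (1 - et) * et = -(c * t₁) := by rw [hc]; ring
    have h2 := congrArg (algebraMap A₁ (Localization.Away et)) h1
    rw [map_mul, map_neg, map_mul, ← hv, ← ht₂] at h2
    have h3 : algebraMap A₁ (Localization.Away et) (1 - et) =
        -(algebraMap A₁ (Localization.Away et) c * algebraMap R[X] (Localization.Away et) X) *
          (↑v⁻¹ : Localization.Away et) := by
      rw [Units.eq_mul_inv_iff_mul_eq]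
      exact h2
    rw [h3, Ideal.mem_span_singleton']
    exact ⟨-(algebraMap A₁ (Localization.Away et) c) * (↑v⁻¹ : Localization.Away et), by ring⟩
  have e2 : y' = algebraMap A₁ (Localization.Away et) y *
      (↑(v ^ n)⁻¹ : Localization.Away et) := by
    rw [Units.eq_mul_inv_iff_mul_eq, Units.val_pow_eq_pow_val, hv]
    exact hy
  rw [e2, hzz, map_add, map_mul, map_mul]
  refine Ideal.mul_mem_right _ _ (Ideal.add_mem _ (Ideal.mul_mem_right _ _ e1) ?_)
  rw [← ht₂]
  exact Ideal.mul_mem_right _ _ (Ideal.mem_span_singleton_self _)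

theorem exists_nbhd (hB : IsHT R B) (s : Finset B) :
    ∃ N : Nbhd hB, ∀ b ∈ s, ∃ a : N.A, N.φ a = b := by
  obtain ⟨A₁, _, _, _, φ, hφ⟩ := exists_etale_rep hB s
  obtain ⟨N, θ, hθ⟩ := exists_nbhd_of_etale hB A₁ φ
  exact ⟨N, fun b hb => by
    obtain ⟨a, ha⟩ := hφ b hb
    exact ⟨θ a, by rw [hθ, ha]⟩⟩

namespace Nbhd

variable {hB : IsHT R B} (N : Nbhd hB)

theorem φ_R (r : R) : N.φ (algebraMap R N.A r) = algebraMap R B r := by
  rw [IsScalarTower.algebraMap_apply R R[X] N.A, N.φ.commutes,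
    ← IsScalarTower.algebraMap_apply]

/-- The point. -/
noncomputable def chi : N.A →+* R := (eps hB).comp N.φ.toRingHom

theorem chi_apply (y : N.A) : N.chi y = eps hB (N.φ y) := rfl

theorem chi_algebraMap (p : R[X]) : N.chi (algebraMap R[X] N.A p) = p.eval 0 := by
  rw [chi_apply, N.φ.commutes, eps_algebraMap]

theorem chi_R (r : R) : N.chi (algebraMap R N.A r) = r := by
  rw [chi_apply, φ_R, eps_R]

theorem exists_eq_add_t_mul (y : N.A) :
    ∃ (p : R[X]) (y' : N.A), y = algebraMap R[X] N.A p + algebraMap R[X] N.A X * y' := by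
  have h0 : eps hB (N.φ (y - algebraMap R[X] N.A (C (N.chi y)))) = 0 := by
    rw [map_sub, map_sub, ← chi_apply, ← chi_apply, chi_algebraMap, eval_C, sub_self]
  obtain ⟨c, hc⟩ := Ideal.mem_span_singleton'.mp (N.ker_le _ h0)
  exact ⟨C (N.chi y), c, by rw [mul_comm, hc]; ring⟩

theorem exists_eq_add_t_pow_mul (n : ℕ) (y : N.A) :
    ∃ (p : R[X]) (y' : N.A), y = algebraMap R[X] N.A p + (algebraMap R[X] N.A X) ^ n * y' := by
  induction n with
  | zero => exact ⟨0, y, by simp⟩
  | succ n ih =>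
    obtain ⟨p, b₁, h1⟩ := ih
    obtain ⟨q, b₂, h2⟩ := N.exists_eq_add_t_mul b₁
    refine ⟨p + X ^ n * q, b₂, ?_⟩
    rw [h1, h2, map_add, map_mul, map_pow]
    ring

theorem φ_mem [IsLocalRing R] {y : N.A} (hy : y ∈ (maximalIdeal R).map (algebraMap R N.A)) :
    N.φ y ∈ (maximalIdeal R).map (algebraMap R B) := by
  have h : (maximalIdeal R).map (algebraMap R N.A) ≤
      ((maximalIdeal R).map (algebraMap R B)).comap N.φ.toRingHom := by
    rw [Ideal.map_le_iff_le_comap]
    intro m hm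
    rw [Ideal.mem_comap, Ideal.mem_comap]
    show N.φ (algebraMap R N.A m) ∈ _
    rw [φ_R]
    exact Ideal.mem_map_of_mem _ hm
  exact h hy

end Nbhd

end Groth.Agent.H13.HW
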