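import Groth.Agent.H13.HWFinite
import Groth.Agent.H13.HWDist

/-!
# Henselian Weierstrass preparation for a henselization of `(R[t], (t))`
-/

set_option autoImplicit false
set_option linter.unusedSimpArgs false
set_option linter.unusedVariables false
set_option linter.style.haveILetI false
set_option linter.unusedSectionVars false
universe u

namespace Groth.Agent.H13.HW

open Polynomial IsLocalRing

variable {R : Type u} [CommRing R] [HenselianLocalRing R] {B : Type u} [CommRing B] [Algebra R B]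
  [Algebra R[X] B] [IsScalarTower R R[X] B]

theorem exists_factor (hB : IsHT R B) (f : B) (hfin : Module.Finite R (B ⧸ Ideal.span {f}))
    (d : ℕ) (u μ : B) (hu : IsUnit u) (hμ : μ ∈ (maximalIdeal R).map (algebraMap R B))
    (hf : f = μ + (algebraMap R[X] B X) ^ d * u) :
    ∃ (P : R[X]) (v : Bˣ), P.Monic ∧ (∀ i < P.natDegree, P.coeff i ∈ maximalIdeal R) ∧
      f = algebraMap R[X] B P * (v : B) := by
  classical
  obtain ⟨w, hw⟩ := hu
  have hmapR : ∀ x : B, x ∈ (maximalIdeal R).map (algebraMap R B) →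
      Ideal.Quotient.mk (Ideal.span {f}) x ∈
        (maximalIdeal R) • (⊤ : Submodule R (B ⧸ Ideal.span {f})) := by
    intro x hx
    rw [Ideal.smul_top_eq_map]
    have := Ideal.mem_map_of_mem (Ideal.Quotient.mk (Ideal.span {f})) hx
    rw [Ideal.map_map] at this
    exact this
  -- Nakayama
  have hNak : (⊤ : Submodule R (B ⧸ Ideal.span {f})) ≤
      Submodule.span R (Set.range fun i : Fin d =>
        Ideal.Quotient.mk (Ideal.span {f}) ((algebraMap R[X] B X) ^ (i : ℕ))) := by
    apply Submodule.le_of_le_smul_of_le_jacobson_bot (I := maximalIdeal R)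
      Module.Finite.fg_top (IsLocalRing.maximalIdeal_le_jacobson _)
    rintro x -
    obtain ⟨b, rfl⟩ := Ideal.Quotient.mk_surjective x
    obtain ⟨p, b', hb⟩ := exists_eq_add_t_pow_mul hB d b
    obtain ⟨q, hq⟩ := poly_split p d
    have hcoef : ∀ i, algebraMap R[X] B (C (p.coeff i) * X ^ i) =
        algebraMap R B (p.coeff i) * (algebraMap R[X] B X) ^ i := fun i => by
      rw [map_mul, map_pow, IsScalarTower.algebraMap_apply R R[X] B]
      rfl
    have hp' : algebraMap R[X] B p = algebraMap R[X] B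
        ((∑ i ∈ Finset.range d, C (p.coeff i) * X ^ i) + X ^ d * q) := congrArg _ hq
    have h1 : b = (∑ i ∈ Finset.range d,
        algebraMap R B (p.coeff i) * (algebraMap R[X] B X) ^ i) +
        (algebraMap R[X] B X) ^ d * (algebraMap R[X] B q + b') := by
      rw [hb, hp', map_add, map_sum, map_mul, map_pow]
      simp only [hcoef]
      ring
    have hwinv : (w : B) * (↑w⁻¹ : B) = 1 := Units.mul_inv w
    have h2 : (algebraMap R[X] B X) ^ d * (algebraMap R[X] B q + b') =
        f * ((↑w⁻¹ : B) * (algebraMap R[X] B q + b')) -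
          μ * ((↑w⁻¹ : B) * (algebraMap R[X] B q + b')) := by
      rw [hf, ← hw]
      have : (μ + (algebraMap R[X] B X) ^ d * (w : B)) *
          ((↑w⁻¹ : B) * (algebraMap R[X] B q + b')) -
          μ * ((↑w⁻¹ : B) * (algebraMap R[X] B q + b')) =
          (algebraMap R[X] B X) ^ d * ((w : B) * (↑w⁻¹ : B)) * (algebraMap R[X] B q + b') := by
        ring
      rw [this, hwinv, mul_one]
    rw [h1, map_add, map_sum, h2, map_sub]
    refine Submodule.add_mem_sup ?_ ?_
    · refine Submodule.sum_mem _ fun i hi => ?_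
      have : Ideal.Quotient.mk (Ideal.span {f})
          (algebraMap R B (p.coeff i) * (algebraMap R[X] B X) ^ i) =
          (p.coeff i) • Ideal.Quotient.mk (Ideal.span {f}) ((algebraMap R[X] B X) ^ i) := by
        rw [map_mul, Algebra.smul_def]
        rfl
      rw [this]
      exact Submodule.smul_mem _ _ (Submodule.subset_span ⟨⟨i, Finset.mem_range.mp hi⟩, rfl⟩)
    · have h3 : Ideal.Quotient.mk (Ideal.span {f})
          (f * ((↑w⁻¹ : B) * (algebraMap R[X] B q + b'))) = 0 :=
        Ideal.Quotient.eq_zero_iff_mem.mpr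
          (Ideal.mul_mem_right _ _ (Ideal.mem_span_singleton_self _))
      rw [h3, zero_sub]
      exact Submodule.neg_mem _ (hmapR _ (Ideal.mul_mem_right _ _ hμ))
  have hmem := hNak (Submodule.mem_top (x := Ideal.Quotient.mk (Ideal.span {f})
    ((algebraMap R[X] B X) ^ d)))
  obtain ⟨c, hc⟩ := (Submodule.mem_span_range_iff_exists_fun R).mp hmem
  have hdeg : degree (∑ i : Fin d, C (c i) * X ^ (i : ℕ)) < (d : WithBot ℕ) :=
    degree_sum_fin_lt c
  have hmonic : (X ^ d - ∑ i : Fin d, C (c i) * X ^ (i : ℕ)).Monic := monic_X_pow_sub hdeg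
  have hnat : (X ^ d - ∑ i : Fin d, C (c i) * X ^ (i : ℕ)).natDegree = d := by
    apply natDegree_eq_of_degree_eq_some
    rw [degree_sub_eq_left_of_degree_lt (by rw [degree_X_pow]; exact hdeg), degree_X_pow]
  have hPB : algebraMap R[X] B (X ^ d - ∑ i : Fin d, C (c i) * X ^ (i : ℕ)) =
      (algebraMap R[X] B X) ^ d -
        ∑ i : Fin d, algebraMap R B (c i) * (algebraMap R[X] B X) ^ (i : ℕ) := by
    rw [map_sub, map_pow, map_sum]
    congr 1
    refine Finset.sum_congr rfl fun i _ => ?_
    rw [map_mul, map_pow, IsScalarTower.algebraMap_apply R R[X] B]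
    rfl
  have hPmem : algebraMap R[X] B (X ^ d - ∑ i : Fin d, C (c i) * X ^ (i : ℕ)) ∈
      Ideal.span {f} := by
    rw [← Ideal.Quotient.eq_zero_iff_mem, hPB, map_sub, map_sum, ← hc, sub_eq_zero]
    refine Finset.sum_congr rfl fun i _ => ?_
    rw [map_mul, Algebra.smul_def]
    rfl
  obtain ⟨v, hv⟩ := Ideal.mem_span_singleton'.mp hPmem
  -- coefficients
  have hvf : v * f = v * μ + (algebraMap R[X] B X) ^ d * (v * u) := by rw [hf, ← hw]; ring
  have hcoefm : ∀ i < d, (X ^ d - ∑ i : Fin d, C (c i) * X ^ (i : ℕ)).coeff i ∈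
      maximalIdeal R := by
    apply coeff_mem_of_algebraMap_mem hB d
    rw [← hv, hvf, ← hw]
    exact Submodule.add_mem_sup (Ideal.mul_mem_left _ _ hμ)
      (Ideal.mul_mem_right _ _ (Ideal.mem_span_singleton_self _))
  -- `v` is a unit
  have hvu : IsUnit v := by
    obtain ⟨z, hz⟩ := exists_eq_t_mul_of_eps_eq_zero hB
      (v * u - algebraMap R B (eps hB v * eps hB u)) (by
        rw [map_sub, map_mul, eps_R, sub_self])
    have h1 : algebraMap R[X] B ((X ^ d - ∑ i : Fin d, C (c i) * X ^ (i : ℕ)) -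
        C (eps hB v * eps hB u) * X ^ d) ∈ (maximalIdeal R).map (algebraMap R B) ⊔
        Ideal.span {(algebraMap R[X] B X) ^ (d + 1)} := by
      have h2 : algebraMap R[X] B ((X ^ d - ∑ i : Fin d, C (c i) * X ^ (i : ℕ)) -
          C (eps hB v * eps hB u) * X ^ d) =
          v * μ + (algebraMap R[X] B X) ^ (d + 1) * z := by
        have h3 : algebraMap R[X] B (C (eps hB v * eps hB u)) =
            algebraMap R B (eps hB v * eps hB u) := by
          rw [IsScalarTower.algebraMap_apply R R[X] B]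
          rfl
        rw [map_sub, ← hv, hvf, map_mul, map_pow, h3, pow_succ]
        have h4 : v * u = algebraMap R B (eps hB v * eps hB u) + algebraMap R[X] B X * z := by
          rw [← hz]; ring
        rw [h4]
        ring
      rw [h2]
      exact Submodule.add_mem_sup (Ideal.mul_mem_left _ _ hμ)
        (Ideal.mul_mem_right _ _ (Ideal.mem_span_singleton_self _))
    have h5 := coeff_mem_of_algebraMap_mem hB (d + 1) _ h1 d (Nat.lt_succ_self d)
    rw [coeff_sub, coeff_C_mul, coeff_X_pow, if_pos rfl, mul_one] at h5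
    have h6 : (X ^ d - ∑ i : Fin d, C (c i) * X ^ (i : ℕ)).coeff d = 1 := by
      have := hmonic.coeff_natDegree
      rwa [hnat] at this
    rw [h6] at h5
    have h7 : eps hB v * eps hB u ∉ maximalIdeal R := by
      intro hcon
      have : (1 : R) ∈ maximalIdeal R := by
        have := Ideal.add_mem _ h5 hcon
        rwa [sub_add_cancel] at this
      exact (Ideal.ne_top_iff_one _).mp (IsLocalRing.maximalIdeal.isMaximal R).ne_top this
    have h8 : IsUnit (eps hB v * eps hB u) := by
      by_contra hcon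
      exact h7 ((IsLocalRing.mem_maximalIdeal _).mpr hcon)
    exact isUnit_of_isUnit_eps hB v (isUnit_of_mul_isUnit_left h8)
  obtain ⟨v', hv'⟩ := hvu
  refine ⟨X ^ d - ∑ i : Fin d, C (c i) * X ^ (i : ℕ), v'⁻¹, hmonic, ?_, ?_⟩
  · rw [hnat]
    exact hcoefm
  · rw [Units.eq_mul_inv_iff_mul_eq, hv', mul_comm]
    exact hv

theorem weierstrass (hB : IsHT R B) (f : B) (hf : f ∉ (maximalIdeal R).map (algebraMap R B)) :
    (∃! Pu : R[X] × Bˣ, Pu.1.Monic ∧
        (∀ i : ℕ, i < Pu.1.natDegree → Pu.1.coeff i ∈ IsLocalRing.maximalIdeal R) ∧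
        f = algebraMap R[X] B Pu.1 * (Pu.2 : B)) ∧
    (∀ (P : R[X]) (u : Bˣ), P.Monic →
        (∀ i : ℕ, i < P.natDegree → P.coeff i ∈ IsLocalRing.maximalIdeal R) →
        f = algebraMap R[X] B P * (u : B) →
      (∀ b : B, ∃ q : R[X], algebraMap R[X] B q - b ∈ Ideal.span {f}) ∧
      (∀ q : R[X], algebraMap R[X] B q ∈ Ideal.span {f} → q ∈ Ideal.span {P})) := by
  have part2 : ∀ (P : R[X]) (u : Bˣ), P.Monic →
        (∀ i : ℕ, i < P.natDegree → P.coeff i ∈ IsLocalRing.maximalIdeal R) →
        f = algebraMap R[X] B P * (u : B) →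
      (∀ b : B, ∃ q : R[X], algebraMap R[X] B q - b ∈ Ideal.span {f}) ∧
      (∀ q : R[X], algebraMap R[X] B q ∈ Ideal.span {f} → q ∈ Ideal.span {P}) := by
    intro P u hP hc hfP
    have hspan : Ideal.span {f} = Ideal.span {algebraMap R[X] B P} := by
      rw [hfP]
      exact Ideal.span_singleton_mul_right_unit u.isUnit _
    rw [hspan]
    exact dist_quotient hB P hP hc
  refine ⟨?_, part2⟩
  -- existence
  obtain ⟨d, u, μ, hu, hμ, hfe⟩ := exists_normal_form hB f hf
  have hfin : Module.Finite R (B ⧸ Ideal.span {f}) := by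
    obtain ⟨w, hw⟩ := hu
    have h := finite_quotient hB d (μ * (↑w⁻¹ : B)) (Ideal.mul_mem_right _ _ hμ)
    have e : (algebraMap R[X] B X) ^ d + μ * (↑w⁻¹ : B) = f * (↑w⁻¹ : B) := by
      rw [hfe, ← hw, add_mul, mul_assoc, Units.mul_inv, mul_one, add_comm]
    rw [e, Ideal.span_singleton_mul_right_unit (Units.isUnit _)] at h
    exact h
  obtain ⟨P, v, hP, hc, hfP⟩ := exists_factor hB f hfin d u μ hu hμ hfe
  refine ⟨(P, v), ⟨hP, hc, hfP⟩, ?_⟩
  rintro ⟨P', v'⟩ ⟨hP', hc', hfP'⟩
  simp only at hP' hc' hfP'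
  haveI : Module.Flat R[X] B :=
    Groth.Agent.H3.PH.flat_of_isPairHenselization (Ideal.span {(X : R[X])}) B hB
  -- `P ∣ P'` and `P' ∣ P`
  have hdvd1 : P ∣ P' := by
    have h1 : algebraMap R[X] B P' ∈ Ideal.span {f} := by
      rw [Ideal.mem_span_singleton']
      refine ⟨(↑v'⁻¹ : B), ?_⟩
      rw [hfP', mul_comm, mul_assoc, Units.mul_inv, mul_one]
    exact Ideal.mem_span_singleton.mp ((part2 P v hP hc hfP).2 P' h1)
  have hdvd2 : P' ∣ P := by
    have h1 : algebraMap R[X] B P ∈ Ideal.span {f} := by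
      rw [Ideal.mem_span_singleton']
      refine ⟨(↑v⁻¹ : B), ?_⟩
      rw [hfP, mul_comm, mul_assoc, Units.mul_inv, mul_one]
    exact Ideal.mem_span_singleton.mp ((part2 P' v' hP' hc' hfP').2 P h1)
  have hPP : P' = P := by
    obtain ⟨h, hh⟩ := hdvd1
    obtain ⟨h', hh'⟩ := hdvd2
    have hh0 : h ≠ 0 := by
      rintro rfl
      rw [mul_zero] at hh
      exact hP'.ne_zero hh
    have hh0' : h' ≠ 0 := by
      rintro rfl
      rw [mul_zero] at hh'
      exact hP.ne_zero hh'
    have hd1 : P'.natDegree = P.natDegree + h.natDegree := by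
      rw [hh]; exact hP.natDegree_mul' hh0
    have hd2 : P.natDegree = P'.natDegree + h'.natDegree := by
      rw [hh']; exact hP'.natDegree_mul' hh0'
    have hhm : h.Monic := hP.of_mul_monic_left (by rw [← hh]; exact hP')
    have hh1 : h = 1 := eq_one_of_monic_natDegree_zero hhm (by omega)
    rw [hh, hh1, mul_one]
  have hreg : IsSMulRegular B (algebraMap R[X] B P) :=
    IsSMulRegular.of_flat (S := B) hP.isRegular.left.isSMulRegular
  have hvv : (v' : B) = (v : B) := by
    apply hreg
    show algebraMap R[X] B P • (v' : B) = algebraMap R[X] B P • (v : B)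
    rw [smul_eq_mul, smul_eq_mul, ← hfP, ← hPP, ← hfP']
  exact Prod.ext hPP (Units.ext hvv)

end Groth.Agent.H13.HW
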