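import Mathlib
import Groth.Prelude.Def_Hens2
import Groth.Agent.H3.PH3
import Groth.Agent.H3.Hensel4

/-!
# Exactness is detected on henselizations at the primes containing the ideal of a Henselian pair
-/

set_option autoImplicit false
set_option linter.unusedSimpArgs false
set_option linter.unusedVariables false
set_option linter.style.haveILetI false
set_option linter.unusedSectionVars false
universe u

open TensorProduct

namespace Groth.Agent.H13.HensExact

/-- If `g y = 0`, the colon ideal `𝔠 = (range f : y)` is contained in a prime `m ⊇ I`, and the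
sequence becomes exact after base change to a henselization `H` of `(A_m, I A_m)`, we get a
contradiction. -/
theorem false_of_exact {A : Type u} [CommRing A] (I : Ideal A) {M' M M'' : Type u}
    [AddCommGroup M'] [Module A M'] [AddCommGroup M] [Module A M] [AddCommGroup M'']
    [Module A M''] (f : M' →ₗ[A] M) (g : M →ₗ[A] M'') (m : Ideal A) [m.IsPrime] (hIm : I ≤ m)
    (H : Type u) [CommRing H] [Algebra (Localization.AtPrime m) H] [Algebra A H]
    [IsScalarTower A (Localization.AtPrime m) H]
    (hH : Hens2.IsPairHenselization (Localization.AtPrime m)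
      (I.map (algebraMap A (Localization.AtPrime m))) H)
    (hex : Function.Exact (f.baseChange H) (g.baseChange H)) (y : M) (hy : g y = 0)
    (𝔠 : Ideal A) (hmem : ∀ a, a ∈ 𝔠 ↔ a • y ∈ LinearMap.range f) (h𝔠m : 𝔠 ≤ m) : False := by
  classical
  haveI : Module.Flat (Localization.AtPrime m) H :=
    Groth.Agent.H3.PH.flat_of_isPairHenselization _ H hH
  haveI : Module.Flat A H := Module.Flat.trans A (Localization.AtPrime m) H
  have hle : (I.map (algebraMap A (Localization.AtPrime m))).map
      (IsLocalRing.residue (Localization.AtPrime m)) ≤ ⊥ := by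
    rw [Ideal.map_map, Ideal.map_le_iff_le_comap]
    intro a ha
    rw [Ideal.mem_comap, Ideal.mem_bot]
    show IsLocalRing.residue _ (algebraMap A _ a) = 0
    rw [IsLocalRing.residue_eq_zero_iff,
      IsLocalization.AtPrime.to_map_mem_maximal_iff (Localization.AtPrime m) m a]
    exact hIm ha
  obtain ⟨χ, hχ, -⟩ := hH.2 (IsLocalRing.ResidueField (Localization.AtPrime m)) ⊥
    (IsLocalRing.residue _) Groth.Agent.H3.henselianRing_bot hle
  have hχA : ∀ a ∈ m, χ (algebraMap A H a) = 0 := by
    intro a ha
    rw [IsScalarTower.algebraMap_apply A (Localization.AtPrime m) H]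
    have h1 := RingHom.congr_fun hχ (algebraMap A _ a)
    rw [RingHom.comp_apply] at h1
    rw [h1, IsLocalRing.residue_eq_zero_iff,
      IsLocalization.AtPrime.to_map_mem_maximal_iff (Localization.AtPrime m) m a]
    exact ha
  have hπf : (LinearMap.range f).mkQ.comp f = 0 := by
    ext z
    show Submodule.Quotient.mk (f z) = 0
    exact (Submodule.Quotient.mk_eq_zero _).mpr (LinearMap.mem_range_self f z)
  obtain ⟨w, hw⟩ := (hex ((1 : H) ⊗ₜ[A] y)).mp (by
    rw [LinearMap.baseChange_tmul, hy, TensorProduct.tmul_zero])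
  have h1 : (1 : H) ⊗ₜ[A] ((LinearMap.range f).mkQ y) = 0 := by
    have h2 : (LinearMap.range f).mkQ.baseChange H (f.baseChange H w) = 0 := by
      rw [← LinearMap.comp_apply, ← LinearMap.baseChange_comp, hπf, LinearMap.baseChange_zero,
        LinearMap.zero_apply]
    rw [hw, LinearMap.baseChange_tmul] at h2
    exact h2
  have hker : 𝔠 ≤ LinearMap.ker (LinearMap.toSpanSingleton A _ ((LinearMap.range f).mkQ y)) := by
    intro a ha
    rw [LinearMap.mem_ker, LinearMap.toSpanSingleton_apply, ← map_smul]
    exact (Submodule.Quotient.mk_eq_zero _).mpr ((hmem a).mp ha)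
  have hker' : LinearMap.ker (LinearMap.toSpanSingleton A _ ((LinearMap.range f).mkQ y)) ≤ 𝔠 := by
    intro a ha
    rw [LinearMap.mem_ker, LinearMap.toSpanSingleton_apply, ← map_smul] at ha
    exact (hmem a).mpr ((Submodule.Quotient.mk_eq_zero _).mp ha)
  have hjinj : Function.Injective
      (Submodule.liftQ 𝔠 (LinearMap.toSpanSingleton A _ ((LinearMap.range f).mkQ y)) hker) := by
    rw [← LinearMap.ker_eq_bot]
    exact Submodule.ker_liftQ_eq_bot _ _ _ hker'
  have hinj := Module.Flat.lTensor_preserves_injective_linearMap (M := H) _ hjinj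
  have h3 : (1 : H) ⊗ₜ[A] (Ideal.Quotient.mk 𝔠 1) = 0 := by
    apply hinj
    rw [LinearMap.lTensor_tmul, map_zero]
    have h4 : Submodule.liftQ 𝔠 (LinearMap.toSpanSingleton A _ ((LinearMap.range f).mkQ y)) hker
        (Ideal.Quotient.mk 𝔠 1) = (LinearMap.range f).mkQ y := by
      show Submodule.liftQ 𝔠 _ hker (Submodule.Quotient.mk 1) = _
      rw [Submodule.liftQ_apply, LinearMap.toSpanSingleton_apply, one_smul]
    rw [h4]
    exact h1
  have h4 : (1 : H) ∈ 𝔠 • (⊤ : Submodule A H) := by
    have h5 := congr_arg (TensorProduct.tensorQuotEquivQuotSMul H 𝔠) h3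
    rw [TensorProduct.tensorQuotEquivQuotSMul_tmul_mk, map_zero, one_smul,
      Submodule.Quotient.mk_eq_zero] at h5
    exact h5
  have h5 : ∀ h ∈ 𝔠 • (⊤ : Submodule A H), χ h = 0 := by
    intro h hh
    refine Submodule.smul_induction_on hh ?_ ?_
    · intro a ha h' _
      rw [Algebra.smul_def, map_mul, hχA a (h𝔠m ha), zero_mul]
    · intro x z hx hz
      rw [map_add, hx, hz, add_zero]
  have h6 := h5 1 h4
  rw [map_one] at h6
  exact one_ne_zero h6

end Groth.Agent.H13.HensExact
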