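import Groth.Agent.H13.HWPrep

/-!
# Ideals of `R[s]` and of `R{t}[1/t]` avoiding the special fibre (Henselian version)

`B` is a henselization of `(R[t], (t))`, `L = B[1/t]`, `ψ : R[s] → L` sends `s` to `t⁻¹`.
-/

set_option autoImplicit false
set_option linter.unusedSimpArgs false
set_option linter.unusedVariables false
set_option linter.style.haveILetI false
set_option linter.unusedSectionVars false
universe u

namespace Groth.Agent.H13.HensIdeals

open Polynomial IsLocalRing
open Groth.Agent.H13.HW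

variable {R : Type u} [CommRing R] [HenselianLocalRing R] {B : Type u} [CommRing B] [Algebra R B]
  [Algebra R[X] B] [IsScalarTower R R[X] B]

theorem exists_retraction (hB : IsHT R B) (P : R[X]) (hP : P.Monic)
    (hc : ∀ i < P.natDegree, P.coeff i ∈ maximalIdeal R) :
    ∃ ρ : B →+* R[X] ⧸ Ideal.span {P},
      ∀ p, ρ (algebraMap R[X] B p) = Ideal.Quotient.mk _ p := by
  haveI : Module.Finite R (R[X] ⧸ Ideal.span {P}) := hP.finite_adjoinRoot
  have h0 : algebraMap R[X] (R[X] ⧸ Ideal.span {P}) P = 0 := by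
    rw [Ideal.Quotient.algebraMap_eq]
    exact Ideal.Quotient.eq_zero_iff_mem.mpr (Ideal.mem_span_singleton_self P)
  have hC : HenselianRing (R[X] ⧸ Ideal.span {P})
      ((Ideal.span {(X : R[X])}).map (algebraMap R[X] (R[X] ⧸ Ideal.span {P}))) :=
    henselianRing_of_finite _ P.natDegree (dist_pow_mem P hP hc _ h0)
  obtain ⟨ρ, hρ, -⟩ := hB.2 _ _ (algebraMap R[X] (R[X] ⧸ Ideal.span {P})) hC le_rfl
  exact ⟨ρ, fun p => by
    have := RingHom.congr_fun hρ p
    rw [Ideal.Quotient.algebraMap_eq] at this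
    exact this⟩

section

variable (ψ : R[X] →ₐ[R] Localization.Away (algebraMap R[X] B X))

theorem psi_C (r : R) : ψ (C r) =
    algebraMap B (Localization.Away (algebraMap R[X] B X)) (algebraMap R B r) := by
  rw [← IsScalarTower.algebraMap_apply R B (Localization.Away (algebraMap R[X] B X))]
  exact ψ.commutes r

theorem map_maximal_eq (m : Ideal R) :
    (m.map (algebraMap R R[X])).map ψ.toRingHom =
      m.map (algebraMap R (Localization.Away (algebraMap R[X] B X))) := by
  rw [Ideal.map_map]
  congr 1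
  ext r
  exact ψ.commutes r

theorem algebraMap_eq_eval₂ (p : R[X]) :
    algebraMap B (Localization.Away (algebraMap R[X] B X)) (algebraMap R[X] B p) =
      eval₂ (algebraMap R (Localization.Away (algebraMap R[X] B X)))
        (algebraMap B (Localization.Away (algebraMap R[X] B X)) (algebraMap R[X] B X)) p := by
  have := aeval_algHom_apply
    ((IsScalarTower.toAlgHom R B (Localization.Away (algebraMap R[X] B X))).comp
      (IsScalarTower.toAlgHom R R[X] B)) X p
  rw [aeval_X_left_apply] at this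
  rw [← aeval_def]
  exact this.symm

theorem psi_eq_eval₂ (p : R[X]) :
    ψ p = eval₂ (algebraMap R (Localization.Away (algebraMap R[X] B X))) (ψ X) p := by
  have := aeval_algHom_apply ψ X p
  rw [aeval_X_left_apply] at this
  rw [← aeval_def]
  exact this.symm

/-- Part 1: the quotient map is bijective for ideals comaximal with the special fibre. -/
theorem quotientMap_bijective (hB : IsHT R B)
    (hψ : ψ X * algebraMap B (Localization.Away (algebraMap R[X] B X))
      (algebraMap R[X] B X) = 1) (I : Ideal R[X])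
    (hI : I ⊔ (maximalIdeal R).map (algebraMap R R[X]) = ⊤) :
    Function.Bijective
      (Ideal.quotientMap (I.map ψ.toRingHom) ψ.toRingHom Ideal.le_comap_map) := by
  classical
  obtain ⟨f, hfI, μ, hμ, hfμ⟩ :=
    Submodule.mem_sup.mp (hI ▸ Submodule.mem_top : (1 : R[X]) ∈ I ⊔ _)
  rw [algebraMap_eq, Ideal.mem_map_C_iff] at hμ
  have hfc : ∀ i, f.coeff i = (1 : R[X]).coeff i - μ.coeff i := by
    intro i; rw [← hfμ]; simp
  have hf0 : IsUnit (f.coeff 0) := by
    rw [hfc 0, coeff_one_zero]
    exact isUnit_one_sub_self_of_mem_nonunits _ ((mem_maximalIdeal _).mp (hμ 0))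
  have hfi : ∀ i, 0 < i → f.coeff i ∈ maximalIdeal R := by
    intro i hi
    rw [hfc i, coeff_one, if_neg (by omega), zero_sub]
    exact (Ideal.neg_mem_iff _).mpr (hμ i)
  set sbar : R[X] ⧸ I := Ideal.Quotient.mk I X with hsbar
  have hfs : aeval sbar f = 0 := by
    have := aeval_algHom_apply (Ideal.Quotient.mkₐ R I) X f
    rw [aeval_X_left_apply] at this
    change aeval sbar f = Ideal.Quotient.mk I f at this
    rw [this]
    exact Ideal.Quotient.eq_zero_iff_mem.mpr hfI
  obtain ⟨u₀, hu₀⟩ := hf0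
  have hsunit : IsUnit sbar := by
    have h1 : Ideal.Quotient.mk I (divX f) * sbar + algebraMap R (R[X] ⧸ I) (f.coeff 0) = 0 := by
      have : Ideal.Quotient.mk I (divX f * X + C (f.coeff 0)) = 0 := by
        rw [divX_mul_X_add]; exact Ideal.Quotient.eq_zero_iff_mem.mpr hfI
      rw [map_add, map_mul] at this
      exact this
    refine IsUnit.of_mul_eq_one
      (-(Ideal.Quotient.mk I (divX f)) * algebraMap R (R[X] ⧸ I) (↑u₀⁻¹ : R)) ?_
    have h2 : Ideal.Quotient.mk I (divX f) * sbar = - algebraMap R (R[X] ⧸ I) (f.coeff 0) :=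
      eq_neg_of_add_eq_zero_left h1
    have h3 : algebraMap R (R[X] ⧸ I) (f.coeff 0) * algebraMap R (R[X] ⧸ I) (↑u₀⁻¹ : R) = 1 := by
      rw [← map_mul, ← hu₀]; simp
    calc sbar * (-(Ideal.Quotient.mk I (divX f)) * algebraMap R (R[X] ⧸ I) (↑u₀⁻¹ : R))
        = -(Ideal.Quotient.mk I (divX f) * sbar) * algebraMap R (R[X] ⧸ I) (↑u₀⁻¹ : R) := by ring
      _ = 1 := by rw [h2, neg_neg, h3]
  let _ : Invertible sbar := hsunit.invertible
  set y : R[X] ⧸ I := ⅟sbar with hy
  have hgy : aeval y (reverse f) = 0 := by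
    rw [aeval_def, hy, eval₂_reverse_eq_zero_iff, ← aeval_def]; exact hfs
  -- the distinguished polynomial
  have hrevN : (reverse f).coeff f.natDegree = f.coeff 0 := by
    rw [coeff_reverse, revAt_le le_rfl, Nat.sub_self]
  have hrevdeg : (reverse f).natDegree = f.natDegree :=
    le_antisymm (reverse_natDegree_le f)
      (le_natDegree_of_ne_zero (by rw [hrevN, ← hu₀]; exact u₀.ne_zero))
  have hlc : (↑u₀⁻¹ : R) * (reverse f).leadingCoeff = 1 := by
    rw [leadingCoeff, hrevdeg, hrevN, ← hu₀]; simp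
  have hPmonic : (C (↑u₀⁻¹ : R) * reverse f).Monic :=
    monic_C_mul_of_mul_leadingCoeff_eq_one hlc
  have hPdeg : (C (↑u₀⁻¹ : R) * reverse f).natDegree = f.natDegree := by
    rw [natDegree_C_mul_of_mul_ne_zero (by rw [hlc]; exact one_ne_zero), hrevdeg]
  have hPc : ∀ i < (C (↑u₀⁻¹ : R) * reverse f).natDegree,
      (C (↑u₀⁻¹ : R) * reverse f).coeff i ∈ maximalIdeal R := by
    intro i hi
    rw [hPdeg] at hi
    rw [coeff_C_mul, coeff_reverse, revAt_le hi.le]
    exact Ideal.mul_mem_left _ _ (hfi _ (by omega))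
  have hPy : aeval y (C (↑u₀⁻¹ : R) * reverse f) = 0 := by rw [map_mul, hgy, mul_zero]
  obtain ⟨ρ, hρ⟩ := exists_retraction hB _ hPmonic hPc
  let κ : R[X] ⧸ Ideal.span {C (↑u₀⁻¹ : R) * reverse f} →+* R[X] ⧸ I :=
    Ideal.Quotient.lift _ (aeval y : R[X] →ₐ[R] R[X] ⧸ I).toRingHom (by
      intro a ha
      obtain ⟨c, rfl⟩ := Ideal.mem_span_singleton'.mp ha
      show aeval y (c * (C (↑u₀⁻¹ : R) * reverse f)) = 0
      rw [map_mul, hPy, mul_zero])
  have hθB : ∀ p : R[X], κ (ρ (algebraMap R[X] B p)) = aeval y p := fun p => by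
    rw [hρ, Ideal.Quotient.lift_mk]
    rfl
  have hu : IsUnit ((κ.comp ρ) (algebraMap R[X] B X)) := by
    show IsUnit (κ (ρ (algebraMap R[X] B X)))
    rw [hθB, aeval_X, hy]
    exact isUnit_of_invertible _
  let θ : Localization.Away (algebraMap R[X] B X) →+* R[X] ⧸ I :=
    IsLocalization.Away.lift (algebraMap R[X] B X) hu
  have hθ : ∀ b : B, θ (algebraMap B (Localization.Away (algebraMap R[X] B X)) b) = κ (ρ b) :=
    fun b => IsLocalization.Away.lift_eq _ hu b
  have hθX : θ (ψ X) = sbar := by
    have h1 : θ (ψ X) * y = 1 := by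
      have := congr_arg θ hψ
      rw [map_mul, map_one, hθ, hθB, aeval_X] at this
      exact this
    calc θ (ψ X) = θ (ψ X) * (y * sbar) := by rw [hy, invOf_mul_self, mul_one]
      _ = sbar := by rw [← mul_assoc, h1, one_mul]
  have halgR : ∀ r : R, algebraMap R B r = algebraMap R[X] B (C r) := fun r => by
    rw [IsScalarTower.algebraMap_apply R R[X] B]
    rfl
  have hθψ : θ.comp ψ.toRingHom = Ideal.Quotient.mk I := by
    refine Polynomial.ringHom_ext (fun r => ?_) ?_
    · change θ (ψ (C r)) = _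
      rw [psi_C, hθ, halgR, hθB, aeval_C]
      rfl
    · exact hθX
  have hθψ' : ∀ a, θ (ψ a) = Ideal.Quotient.mk I a := fun a => RingHom.congr_fun hθψ a
  have hker : ∀ a ∈ I.map ψ.toRingHom, θ a = 0 := by
    intro a ha
    have hle : I.map ψ.toRingHom ≤ RingHom.ker θ := by
      rw [Ideal.map_le_iff_le_comap]
      intro i hi
      change θ (ψ i) = 0
      rw [hθψ']
      exact Ideal.Quotient.eq_zero_iff_mem.mpr hi
    exact hle ha
  let θbar : Localization.Away (algebraMap R[X] B X) ⧸ I.map ψ.toRingHom →+* R[X] ⧸ I :=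
    Ideal.Quotient.lift _ θ hker
  -- `P` lies in `I L`
  have hTψ : algebraMap B (Localization.Away (algebraMap R[X] B X)) (algebraMap R[X] B X) *
      ψ X = 1 := by rw [mul_comm]; exact hψ
  have hrevL : algebraMap B (Localization.Away (algebraMap R[X] B X))
      (algebraMap R[X] B (reverse f)) =
      ψ f * (algebraMap B (Localization.Away (algebraMap R[X] B X))
        (algebraMap R[X] B X)) ^ f.natDegree := by
    let _ : Invertible (ψ X) := ⟨_, hTψ, hψ⟩
    have h1 := eval₂_reverse_mul_pow
      (algebraMap R (Localization.Away (algebraMap R[X] B X))) (ψ X) f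
    have hinv : ⅟(ψ X) = algebraMap B (Localization.Away (algebraMap R[X] B X))
        (algebraMap R[X] B X) := rfl
    rw [hinv, ← algebraMap_eq_eval₂, ← psi_eq_eval₂] at h1
    rw [← h1, mul_assoc, ← mul_pow, hψ, one_pow, mul_one]
  have hPBL : algebraMap B (Localization.Away (algebraMap R[X] B X))
      (algebraMap R[X] B (C (↑u₀⁻¹ : R) * reverse f)) ∈ I.map ψ.toRingHom := by
    rw [map_mul, map_mul, hrevL]
    exact Ideal.mul_mem_left _ _ (Ideal.mul_mem_right _ _ (Ideal.mem_map_of_mem ψ.toRingHom hfI))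
  have hpoly : ((Ideal.quotientMap (I.map ψ.toRingHom) ψ.toRingHom Ideal.le_comap_map).comp
      (aeval y : R[X] →ₐ[R] R[X] ⧸ I).toRingHom) =
      ((Ideal.Quotient.mk (I.map ψ.toRingHom)).comp
        (algebraMap B (Localization.Away (algebraMap R[X] B X)))).comp (algebraMap R[X] B) := by
    refine Polynomial.ringHom_ext (fun r => ?_) ?_
    · change Ideal.quotientMap (I.map ψ.toRingHom) ψ.toRingHom Ideal.le_comap_map
        (aeval y (C r)) = Ideal.Quotient.mk _
          (algebraMap B (Localization.Away (algebraMap R[X] B X)) (algebraMap R[X] B (C r)))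
      rw [aeval_C]
      change Ideal.quotientMap (I.map ψ.toRingHom) ψ.toRingHom Ideal.le_comap_map
        (Ideal.Quotient.mk I (C r)) = _
      rw [Ideal.quotientMap_mk]
      change Ideal.Quotient.mk _ (ψ (C r)) = _
      rw [psi_C, halgR]
    · change Ideal.quotientMap (I.map ψ.toRingHom) ψ.toRingHom Ideal.le_comap_map
        (aeval y X) = Ideal.Quotient.mk _
          (algebraMap B (Localization.Away (algebraMap R[X] B X)) (algebraMap R[X] B X))
      rw [aeval_X]
      set Q := Ideal.quotientMap (I.map ψ.toRingHom) ψ.toRingHom Ideal.le_comap_map with hQ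
      have e1 : Q y * Q sbar = 1 := by rw [← map_mul, hy, invOf_mul_self, map_one]
      have e2 : Q sbar = Ideal.Quotient.mk _ (ψ X) := by
        rw [hsbar, hQ, Ideal.quotientMap_mk]; rfl
      have e3 : Ideal.Quotient.mk (I.map ψ.toRingHom) (ψ X) *
          Ideal.Quotient.mk _ (algebraMap B (Localization.Away (algebraMap R[X] B X))
            (algebraMap R[X] B X)) = 1 := by
        rw [← map_mul, hψ, map_one]
      calc Q y = Q y * (Q sbar * Ideal.Quotient.mk _
            (algebraMap B (Localization.Away (algebraMap R[X] B X)) (algebraMap R[X] B X))) := by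
            rw [e2, e3, mul_one]
        _ = Ideal.Quotient.mk _
            (algebraMap B (Localization.Away (algebraMap R[X] B X)) (algebraMap R[X] B X)) := by
            rw [← mul_assoc, e1, one_mul]
  have hcomp : (Ideal.quotientMap (I.map ψ.toRingHom) ψ.toRingHom Ideal.le_comap_map).comp θ =
      Ideal.Quotient.mk (I.map ψ.toRingHom) := by
    refine IsLocalization.ringHom_ext (Submonoid.powers (algebraMap R[X] B X)) ?_
    refine RingHom.ext fun b => ?_
    obtain ⟨q, hq⟩ := (dist_quotient hB _ hPmonic hPc).1 b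
    obtain ⟨c, hc⟩ := Ideal.mem_span_singleton'.mp hq
    have hb : b = algebraMap R[X] B q -
        c * algebraMap R[X] B (C (↑u₀⁻¹ : R) * reverse f) := by rw [hc]; ring
    show Ideal.quotientMap (I.map ψ.toRingHom) ψ.toRingHom Ideal.le_comap_map
        (θ (algebraMap B (Localization.Away (algebraMap R[X] B X)) b)) =
      Ideal.Quotient.mk _ (algebraMap B (Localization.Away (algebraMap R[X] B X)) b)
    rw [hθ]
    have hl : κ (ρ b) = aeval y q := by
      rw [hb, map_sub ρ, map_mul ρ, map_sub κ, map_mul κ, hθB, hθB, hPy, mul_zero, sub_zero]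
    have hr : Ideal.Quotient.mk (I.map ψ.toRingHom)
        (algebraMap B (Localization.Away (algebraMap R[X] B X)) b) =
        Ideal.Quotient.mk (I.map ψ.toRingHom)
          (algebraMap B (Localization.Away (algebraMap R[X] B X)) (algebraMap R[X] B q)) := by
      rw [Ideal.Quotient.eq, hb, ← map_sub]
      have : algebraMap R[X] B q - c * algebraMap R[X] B (C (↑u₀⁻¹ : R) * reverse f) -
          algebraMap R[X] B q = -c * algebraMap R[X] B (C (↑u₀⁻¹ : R) * reverse f) := by ring
      rw [this, map_mul]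
      exact Ideal.mul_mem_left _ _ hPBL
    rw [hl, hr]
    exact RingHom.congr_fun hpoly q
  rw [Function.bijective_iff_has_inverse]
  refine ⟨θbar, ?_, ?_⟩
  · intro c
    obtain ⟨a, rfl⟩ := Ideal.Quotient.mk_surjective c
    rw [Ideal.quotientMap_mk]
    change θbar (Ideal.Quotient.mk _ (ψ a)) = _
    rw [Ideal.Quotient.lift_mk, hθψ']
  · intro b
    obtain ⟨l, rfl⟩ := Ideal.Quotient.mk_surjective b
    rw [Ideal.Quotient.lift_mk]
    exact RingHom.congr_fun hcomp l

/-- Part 1, all three conclusions. -/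
theorem part1 (hB : IsHT R B)
    (hψ : ψ X * algebraMap B (Localization.Away (algebraMap R[X] B X))
      (algebraMap R[X] B X) = 1) (I : Ideal R[X])
    (hI : I ⊔ (maximalIdeal R).map (algebraMap R R[X]) = ⊤) :
    (I.map ψ.toRingHom).comap ψ.toRingHom = I ∧
      I.map ψ.toRingHom ⊔ (maximalIdeal R).map
        (algebraMap R (Localization.Away (algebraMap R[X] B X))) = ⊤ ∧
      Function.Bijective
        (Ideal.quotientMap (I.map ψ.toRingHom) ψ.toRingHom Ideal.le_comap_map) := by
  have hbij := quotientMap_bijective ψ hB hψ I hI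
  refine ⟨le_antisymm ?_ Ideal.le_comap_map, ?_, hbij⟩
  · intro x hx
    have h1 : Ideal.quotientMap (I.map ψ.toRingHom) ψ.toRingHom Ideal.le_comap_map
        (Ideal.Quotient.mk I x) = 0 := by
      rw [Ideal.quotientMap_mk]
      exact Ideal.Quotient.eq_zero_iff_mem.mpr hx
    have h2 := hbij.1 (h1.trans (map_zero _).symm)
    exact Ideal.Quotient.eq_zero_iff_mem.mp h2
  · rw [← map_maximal_eq ψ, ← Ideal.map_sup, hI, Ideal.map_top]

/-- An ideal of `L` comaximal with the special fibre contains a distinguished polynomial. -/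
theorem exists_dist_mem (hB : IsHT R B) (J : Ideal (Localization.Away (algebraMap R[X] B X)))
    (hJ : J ⊔ (maximalIdeal R).map
      (algebraMap R (Localization.Away (algebraMap R[X] B X))) = ⊤) :
    ∃ g : R[X], g.Monic ∧ (∀ i < g.natDegree, g.coeff i ∈ maximalIdeal R) ∧
      algebraMap B (Localization.Away (algebraMap R[X] B X)) (algebraMap R[X] B g) ∈ J := by
  classical
  obtain ⟨j, hj, μ, hμ, hjμ⟩ :=
    Submodule.mem_sup.mp (hJ ▸ Submodule.mem_top :
      (1 : Localization.Away (algebraMap R[X] B X)) ∈ J ⊔ _)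
  rw [IsScalarTower.algebraMap_eq R B (Localization.Away (algebraMap R[X] B X)), ← Ideal.map_map,
    IsLocalization.mem_map_algebraMap_iff
      (Submonoid.powers (algebraMap R[X] B X))
      (Localization.Away (algebraMap R[X] B X))] at hμ
  obtain ⟨⟨⟨μ', hμ'⟩, s⟩, hμs⟩ := hμ
  simp only at hμs
  obtain ⟨n, hn⟩ := s.2
  have hn' : (algebraMap R[X] B X) ^ n = (s : B) := hn
  have hh : algebraMap B (Localization.Away (algebraMap R[X] B X))
      ((algebraMap R[X] B X) ^ n + (-μ')) ∈ J := by
    have hj' : j = 1 - μ := by rw [← hjμ]; ring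
    have : algebraMap B (Localization.Away (algebraMap R[X] B X))
        ((algebraMap R[X] B X) ^ n + (-μ')) =
        j * algebraMap B (Localization.Away (algebraMap R[X] B X)) s := by
      rw [map_add, map_neg, ← hμs, hj', hn']; ring
    rw [this]
    exact J.mul_mem_right _ hj
  have hμn : -μ' ∈ (maximalIdeal R).map (algebraMap R B) := (Ideal.neg_mem_iff _).mpr hμ'
  have hfin := finite_quotient hB n (-μ') hμn
  obtain ⟨P, v, hP, hc, hfP⟩ := exists_factor hB _ hfin n 1 (-μ') isUnit_one hμn (by ring)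
  refine ⟨P, hP, hc, ?_⟩
  rw [hfP, map_mul] at hh
  exact (Ideal.mul_unit_mem_iff_mem J
    (v.isUnit.map (algebraMap B (Localization.Away (algebraMap R[X] B X))))).mp hh

/-- Part 2. -/
theorem part2 (hB : IsHT R B)
    (hψ : ψ X * algebraMap B (Localization.Away (algebraMap R[X] B X))
      (algebraMap R[X] B X) = 1) (J : Ideal (Localization.Away (algebraMap R[X] B X)))
    (hJ : J ⊔ (maximalIdeal R).map
      (algebraMap R (Localization.Away (algebraMap R[X] B X))) = ⊤) :
    (J.comap ψ.toRingHom).map ψ.toRingHom = J ∧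
      J.comap ψ.toRingHom ⊔ (maximalIdeal R).map (algebraMap R R[X]) = ⊤ := by
  classical
  obtain ⟨g, hgm, hgc, hgJ⟩ := exists_dist_mem hB J hJ
  have hglow : ∀ i, i ≠ g.natDegree → g.coeff i ∈ maximalIdeal R := by
    intro i hi
    rcases lt_or_gt_of_ne hi with h | h
    · exact hgc i h
    · rw [coeff_eq_zero_of_natDegree_lt h]
      exact zero_mem _
  set T : Localization.Away (algebraMap R[X] B X) :=
    algebraMap B (Localization.Away (algebraMap R[X] B X)) (algebraMap R[X] B X) with hT
  let _ : Invertible T := ⟨ψ X, hψ, by rw [mul_comm]; exact hψ⟩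
  have hinv : ⅟T = ψ X := rfl
  have hψrev : ψ (reverse g) * T ^ g.natDegree =
      algebraMap B (Localization.Away (algebraMap R[X] B X)) (algebraMap R[X] B g) := by
    rw [psi_eq_eval₂ ψ (reverse g), algebraMap_eq_eval₂ g, ← hinv]
    exact eval₂_reverse_mul_pow (algebraMap R (Localization.Away (algebraMap R[X] B X))) T g
  have hTunit : IsUnit (T ^ g.natDegree) := (isUnit_of_invertible T).pow _
  have hrevJ : reverse g ∈ J.comap ψ.toRingHom := by
    change ψ (reverse g) ∈ J
    rw [← Ideal.mul_unit_mem_iff_mem J hTunit, hψrev]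
    exact hgJ
  have hrev1 : 1 - reverse g ∈ (maximalIdeal R).map (algebraMap R R[X]) := by
    rw [algebraMap_eq, Ideal.mem_map_C_iff]
    intro n
    rw [coeff_sub, coeff_reverse]
    by_cases hn : n = 0
    · subst hn
      rw [coeff_one_zero, revAt_le (Nat.zero_le _), Nat.sub_zero, ← leadingCoeff, hgm.leadingCoeff,
        sub_self]
      exact Ideal.zero_mem _
    · rw [coeff_one, if_neg hn, zero_sub, Ideal.neg_mem_iff]
      refine hglow _ ?_
      intro hcon
      apply hn
      have h1 : revAt g.natDegree (revAt g.natDegree n) = n := revAt_invol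
      rw [hcon, revAt_le le_rfl, Nat.sub_self] at h1
      exact h1.symm
  have hsup : J.comap ψ.toRingHom ⊔ (maximalIdeal R).map (algebraMap R R[X]) = ⊤ := by
    rw [Ideal.eq_top_iff_one]
    have : (1 : R[X]) = reverse g + (1 - reverse g) := by ring
    rw [this]
    exact Submodule.add_mem_sup hrevJ hrev1
  refine ⟨le_antisymm Ideal.map_comap_le ?_, hsup⟩
  intro l hl
  obtain ⟨c, hc⟩ := (quotientMap_bijective ψ hB hψ (J.comap ψ.toRingHom) hsup).2
    (Ideal.Quotient.mk _ l)
  obtain ⟨a, rfl⟩ := Ideal.Quotient.mk_surjective c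
  rw [Ideal.quotientMap_mk, Ideal.Quotient.eq] at hc
  change ψ a - l ∈ _ at hc
  have hc' : ψ a - l ∈ J := Ideal.map_comap_le hc
  have ha : ψ a ∈ J := by
    have := J.add_mem hc' hl
    rwa [sub_add_cancel] at this
  have ha' : ψ a ∈ (J.comap ψ.toRingHom).map ψ.toRingHom :=
    Ideal.mem_map_of_mem ψ.toRingHom (show a ∈ J.comap ψ.toRingHom from ha)
  have := Ideal.sub_mem _ ha' hc
  rwa [sub_sub_cancel] at this

end

end Groth.Agent.H13.HensIdeals
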