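import Mathlib
import Groth.Agent.H13.Bass

/-!
# Local Horrocks theorem (elementary generator-trading proof)

`A` local, `P` a finitely generated projective `A[X]`-module which becomes free of rank `n`
after inverting a monic polynomial (expressed without localization: maps `α`, `β` with
`α ∘ β = h^k`, `β ∘ α = h^k`). Then `P` is free of rank `n`.
-/

set_option autoImplicit false
set_option linter.unusedSectionVars false
set_option linter.unusedVariables false
set_option linter.style.haveILetI false

universe u

open Polynomial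

namespace Groth.Agent.H13.Horrocks

section MV

variable {ι : Type*} [Fintype ι] [DecidableEq ι] {R M : Type*} [CommRing R] [AddCommGroup M]
  [Module R M]

/-- a square matrix acting on a vector of module elements -/
def mv (N : Matrix ι ι R) (v : ι → M) : ι → M := fun j => ∑ i, N j i • v i

theorem mv_mul (N N' : Matrix ι ι R) (v : ι → M) : mv (N * N') v = mv N (mv N' v) := by
  funext j
  simp only [mv, Matrix.mul_apply, Finset.sum_smul, Finset.smul_sum, mul_smul]
  exact Finset.sum_comm

theorem mv_smul_one (c : R) (v : ι → M) : mv (c • (1 : Matrix ι ι R)) v = c • v := by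
  funext j
  simp only [mv, Matrix.smul_apply, Matrix.one_apply, smul_eq_mul, mul_ite, mul_one, mul_zero,
    ite_smul, zero_smul, Pi.smul_apply]
  rw [Finset.sum_ite_eq]
  simp

theorem det_smul_eq (N : Matrix ι ι R) (v : ι → M) :
    N.det • v = mv N.adjugate (mv N v) := by
  rw [← mv_mul, Matrix.adjugate_mul, mv_smul_one]

end MV

section Local

variable {A : Type u} [CommRing A]
variable {P : Type u} [AddCommGroup P] [Module A[X] P] [Module A P] [IsScalarTower A A[X] P]

theorem C_smul' (a : A) (x : P) : (C a : A[X]) • x = a • x := by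
  rw [Polynomial.C_eq_algebraMap, algebraMap_smul]

/-- an `A`-submodule stable under `X` is stable under all polynomials -/
theorem smul_mem_of_X_stable (S : Submodule A P) (hS : ∀ x ∈ S, (X : A[X]) • x ∈ S)
    (b : A[X]) {x : P} (hx : x ∈ S) : b • x ∈ S := by
  induction b using Polynomial.induction_on' with
  | add p q hp hq => rw [add_smul]; exact S.add_mem hp hq
  | monomial n a =>
    rw [← Polynomial.C_mul_X_pow_eq_monomial, mul_smul, C_smul']
    refine S.smul_mem a ?_
    induction n with
    | zero => simpa using hx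
    | succ n ih => rw [pow_succ', mul_smul]; exact hS _ ih

/-- the `A`-submodule generated by the `A[X]`-span of `p` and the `A`-span of `w`. -/
noncomputable def G (A : Type u) [CommRing A] {P : Type u} [AddCommGroup P] [Module A[X] P] [Module A P]
    [IsScalarTower A A[X] P] {n r : ℕ} (p : Fin n → P) (w : Fin r → P) : Submodule A P :=
  (Submodule.span A[X] (Set.range p)).restrictScalars A ⊔ Submodule.span A (Set.range w)

theorem span_le_of_X_stable {n : ℕ} (p : Fin n → P) (S : Submodule A P)
    (hS : ∀ x ∈ S, (X : A[X]) • x ∈ S) (hp : ∀ i, p i ∈ S) :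
    ∀ x ∈ Submodule.span A[X] (Set.range p), x ∈ S := by
  intro x hx
  induction hx using Submodule.span_induction with
  | mem y hy => obtain ⟨i, rfl⟩ := hy; exact hp i
  | zero => exact S.zero_mem
  | add y z _ _ hy hz => exact S.add_mem hy hz
  | smul b y _ hy => exact smul_mem_of_X_stable (A := A) S hS b hy

theorem eq_top_of_stable {n r : ℕ} (p : Fin n → P) (w : Fin r → P) (hG : G A p w = ⊤)
    (S : Submodule A P) (hS : ∀ x ∈ S, (X : A[X]) • x ∈ S) (hp : ∀ i, p i ∈ S)
    (hw : ∀ j, w j ∈ S) : S = ⊤ := by
  rw [eq_top_iff, ← hG]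
  refine sup_le ?_ (Submodule.span_le.mpr (by rintro _ ⟨j, rfl⟩; exact hw j))
  intro x hx
  exact span_le_of_X_stable p S hS hp x hx

/-- Division by `X - τ`. -/
theorem division {n r : ℕ} (p : Fin n → P) (τ : Matrix (Fin r) (Fin r) A) (ℓ : Fin r → P)
    (hℓ : ∀ j, ℓ j ∈ Submodule.span A[X] (Set.range p)) :
    ∃ (m : Fin r → P) (c : Fin r → Fin n → A),
      (∀ j, m j ∈ Submodule.span A[X] (Set.range p)) ∧
      ∀ j, ℓ j - ((X : A[X]) • m j - ∑ i, τ j i • m i) = ∑ i, c j i • p i := by
  classical
  let L := Submodule.span A[X] (Set.range p)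
  -- the set of good vectors, as an `A`-submodule
  let U : Submodule A (Fin r → P) :=
    { carrier := {v | ∃ (m : Fin r → P) (c : Fin r → Fin n → A), (∀ j, m j ∈ L) ∧
        ∀ j, v j - ((X : A[X]) • m j - ∑ i, τ j i • m i) = ∑ i, c j i • p i}
      zero_mem' := ⟨0, 0, fun j => L.zero_mem, fun j => by simp⟩
      add_mem' := by
        rintro v v' ⟨m, c, hm, h⟩ ⟨m', c', hm', h'⟩
        refine ⟨m + m', c + c', fun j => L.add_mem (hm j) (hm' j), fun j => ?_⟩
        have e1 : (v + v') j - ((X : A[X]) • (m + m') j - ∑ i, τ j i • (m + m') i) =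
            (v j - ((X : A[X]) • m j - ∑ i, τ j i • m i)) +
            (v' j - ((X : A[X]) • m' j - ∑ i, τ j i • m' i)) := by
          simp only [Pi.add_apply, smul_add, Finset.sum_add_distrib]
          abel
        rw [e1, h j, h' j]
        simp only [Pi.add_apply, add_smul, Finset.sum_add_distrib]
      smul_mem' := by
        rintro a v ⟨m, c, hm, h⟩
        refine ⟨a • m, a • c, fun j => ?_, fun j => ?_⟩
        · show a • m j ∈ L
          rw [← C_smul']; exact L.smul_mem _ (hm j)
        · have e1 : (a • v) j - ((X : A[X]) • (a • m) j - ∑ i, τ j i • (a • m) i) =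
              a • (v j - ((X : A[X]) • m j - ∑ i, τ j i • m i)) := by
            simp only [Pi.smul_apply, smul_sub, Finset.smul_sum]
            congr 2
            · rw [smul_comm]
            · refine Finset.sum_congr rfl fun i _ => ?_
              rw [smul_comm]
          rw [e1, h j, Finset.smul_sum]
          refine Finset.sum_congr rfl fun i _ => ?_
          simp [mul_smul] }
  have hUX : ∀ v ∈ U, (X : A[X]) • v ∈ U := by
    rintro v ⟨m, c, hm, h⟩
    refine ⟨fun j => (X : A[X]) • m j + ∑ i, c j i • p i,
      fun j k => ∑ i, τ j i * c i k, fun j => ?_, fun j => ?_⟩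
    · refine L.add_mem (L.smul_mem _ (hm j)) (Submodule.sum_mem _ fun i _ => ?_)
      rw [← C_smul']
      exact L.smul_mem _ (Submodule.subset_span ⟨i, rfl⟩)
    · have hv : v j = ((X : A[X]) • m j - ∑ i, τ j i • m i) + ∑ i, c j i • p i := by
        rw [← h j]; abel
      have e1 : ((X : A[X]) • v) j - ((X : A[X]) • ((X : A[X]) • m j + ∑ i, c j i • p i) -
          ∑ i, τ j i • ((X : A[X]) • m i + ∑ k, c i k • p k)) =
          ∑ i, τ j i • ∑ k, c i k • p k := by
        rw [Pi.smul_apply, hv]
        simp only [smul_add, smul_sub, Finset.sum_add_distrib, Finset.smul_sum]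
        have e2 : ∀ i, τ j i • (X : A[X]) • m i = (X : A[X]) • τ j i • m i := fun i => by
          rw [smul_comm]
        simp only [e2]
        abel
      rw [e1]
      simp only [Finset.smul_sum, Finset.sum_smul, mul_smul]
      exact Finset.sum_comm
  have hUB : ∀ (b : A[X]) (v : Fin r → P), v ∈ U → b • v ∈ U :=
    fun b v hv => smul_mem_of_X_stable U hUX b hv
  have hsingle : ∀ (j₁ : Fin r) (y : P), y ∈ L → Pi.single j₁ y ∈ U := by
    intro j₁ y hy
    induction hy using Submodule.span_induction with
    | mem y hy =>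
      obtain ⟨i₁, rfl⟩ := hy
      refine ⟨0, fun j i => if j = j₁ ∧ i = i₁ then 1 else 0, fun j => L.zero_mem, fun j => ?_⟩
      by_cases hj : j = j₁
      · subst hj
        simp
      · simp [hj]
    | zero => rw [Pi.single_zero]; exact U.zero_mem
    | add y z _ _ hy hz => rw [Pi.single_add]; exact U.add_mem hy hz
    | smul b y _ hy =>
      have : Pi.single j₁ (b • y) = b • (Pi.single j₁ y : Fin r → P) := by
        funext j
        by_cases hj : j = j₁
        · subst hj; simp
        · simp [hj]
      rw [this]; exact hUB b _ hy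
  have hℓU : ℓ ∈ U := by
    have : ℓ = ∑ j, Pi.single j (ℓ j) := by
      funext j'
      simp [Finset.sum_apply, Pi.single_apply]
    rw [this]
    exact Submodule.sum_mem _ fun j _ => hsingle j (ℓ j) (hℓ j)
  obtain ⟨m, c, hm, h⟩ := hℓU
  exact ⟨m, c, hm, h⟩

variable [IsLocalRing A]

/-- `P / 𝔪 P` is torsion free over `k[X]`, for projective `P`. -/
theorem mem_smul_top_of_monic_smul [Module.Projective A[X] P] (x : P) (h : A[X])
    (hh : h.Monic)
    (hx : h • x ∈ (Ideal.map (C : A →+* A[X]) (IsLocalRing.maximalIdeal A)) •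
      (⊤ : Submodule A[X] P)) :
    x ∈ (Ideal.map (C : A →+* A[X]) (IsLocalRing.maximalIdeal A)) • (⊤ : Submodule A[X] P) := by
  obtain ⟨I, hI⟩ : ∃ I : Ideal A[X], I = Ideal.map (C : A →+* A[X]) (IsLocalRing.maximalIdeal A) :=
    ⟨_, rfl⟩
  rw [← hI] at hx ⊢
  haveI : I.IsPrime := by rw [hI]; exact Ideal.isPrime_map_C_of_isPrime
  have hhI : h ∉ I := by
    intro hmem
    rw [hI] at hmem
    have h1 := Ideal.mem_map_C_iff.mp hmem h.natDegree
    rw [hh.coeff_natDegree] at h1
    exact (Ideal.ne_top_iff_one _).mp (IsLocalRing.maximalIdeal.isMaximal A).ne_top h1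
  apply Groth.Agent.H13.Bass.mem_smul_top_of_O_le I x
  intro r hr
  obtain ⟨φ, rfl⟩ := Groth.Agent.H13.Bass.mem_O.mp hr
  have h1 : φ (h • x) ∈ I := by
    refine Submodule.smul_induction_on hx (fun i hi y _ => ?_) (fun y z hy hz => ?_)
    · rw [map_smul]; exact I.mul_mem_right _ hi
    · rw [map_add]; exact I.add_mem hy hz
  rw [map_smul, smul_eq_mul] at h1
  exact (Ideal.IsPrime.mem_or_mem ‹_› h1).resolve_left hhI

theorem claim [Module.Projective A[X] P] (n : ℕ) :
    ∀ (r : ℕ) (p : Fin n → P) (w : Fin r → P), G A p w = ⊤ →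
      ∃ p' : Fin n → P, Submodule.span A[X] (Set.range p') = ⊤ := by
  classical
  intro r
  induction r with
  | zero =>
    intro p w hG
    refine ⟨p, ?_⟩
    rw [eq_top_iff]
    intro x _
    have hx : x ∈ G A p w := by rw [hG]; exact Submodule.mem_top
    rw [G, Set.range_eq_empty w, Submodule.span_empty, sup_bot_eq] at hx
    exact hx
  | succ r ih =>
    intro p w hG
    obtain ⟨L, hL⟩ : ∃ L : Submodule A[X] P, L = Submodule.span A[X] (Set.range p) := ⟨_, rfl⟩
    -- Step 1: relations
    have hrel : ∀ j, ∃ ℓ ∈ L, ∃ t : Fin (r + 1) → A,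
        (X : A[X]) • w j = ℓ + ∑ i, t i • w i := by
      intro j
      have hx : (X : A[X]) • w j ∈ G A p w := by rw [hG]; exact Submodule.mem_top
      obtain ⟨ℓ, hℓ, y, hy, hsum⟩ := Submodule.mem_sup.mp hx
      obtain ⟨t, ht⟩ := (Submodule.mem_span_range_iff_exists_fun A).mp hy
      exact ⟨ℓ, hL ▸ hℓ, t, by rw [ht, hsum]⟩
    choose ℓ hℓ τ' hτ' using hrel
    let τ : Matrix (Fin (r + 1)) (Fin (r + 1)) A := Matrix.of τ'
    -- Step 2: division
    obtain ⟨m, c, hm, hmc⟩ := division p τ ℓ (fun j => hL ▸ hℓ j)
    let w' : Fin (r + 1) → P := fun j => w j - m j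
    have hw'rel : ∀ j, (X : A[X]) • w' j - ∑ i, τ j i • w' i = ∑ i, c j i • p i := by
      intro j
      rw [← hmc j]
      show (X : A[X]) • (w j - m j) - ∑ i, τ' j i • (w i - m i) = _
      rw [smul_sub, hτ' j]
      simp only [smul_sub, Finset.sum_sub_distrib]
      show _ = ℓ j - ((X : A[X]) • m j - ∑ i, τ' j i • m i)
      abel
    have hGw' : G A p w' = ⊤ := by
      rw [eq_top_iff, ← hG]
      refine sup_le le_sup_left (Submodule.span_le.mpr ?_)
      rintro _ ⟨j, rfl⟩
      have : w j = m j + w' j := by simp [w']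
      rw [this]
      exact Submodule.add_mem _ (Submodule.mem_sup_left (hm j))
        (Submodule.mem_sup_right (Submodule.subset_span ⟨j, rfl⟩))
    obtain ⟨I, hI⟩ : ∃ I : Ideal A[X],
      I = Ideal.map (C : A →+* A[X]) (IsLocalRing.maximalIdeal A) := ⟨_, rfl⟩
    by_cases hc : ∀ j i, c j i ∈ IsLocalRing.maximalIdeal A
    · -- Case A
      refine ⟨p, ?_⟩
      -- (i) each `w' j` lies in `I • ⊤`
      have hy : ∀ j, mv (Matrix.charmatrix τ) w' j ∈ I • (⊤ : Submodule A[X] P) := by
        intro j
        have e1 : mv (Matrix.charmatrix τ) w' j =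
            (X : A[X]) • w' j - ∑ i, τ j i • w' i := by
          simp only [mv, Matrix.charmatrix_apply, sub_smul, Finset.sum_sub_distrib,
            Matrix.diagonal_apply, ite_smul, zero_smul, Finset.sum_ite_eq, Finset.mem_univ,
            if_true, C_smul']
        rw [e1, hw'rel j]
        refine Submodule.sum_mem _ fun i _ => ?_
        rw [← C_smul']
        exact Submodule.smul_mem_smul (hI ▸ Ideal.mem_map_of_mem _ (hc j i)) Submodule.mem_top
      have hw'I : ∀ j, w' j ∈ I • (⊤ : Submodule A[X] P) := by
        intro j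
        rw [hI]
        apply mem_smul_top_of_monic_smul (w' j) τ.charpoly (Matrix.charpoly_monic τ)
        rw [← hI]
        have e2 := congrFun (det_smul_eq (Matrix.charmatrix τ) w') j
        rw [Pi.smul_apply] at e2
        rw [Matrix.charpoly, e2]
        exact Submodule.sum_mem _ fun k _ => Submodule.smul_mem _ _ (hy k)
      -- (ii) Nakayama
      have hIsub : ∀ i ∈ I, ∀ z : P, i • z ∈
          (L.restrictScalars A) ⊔ (IsLocalRing.maximalIdeal A) • Submodule.span A (Set.range w') := by
        intro i hi
        rw [hI, Ideal.map] at hi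
        induction hi using Submodule.span_induction with
        | mem i hi =>
          obtain ⟨μ, hμ, rfl⟩ := hi
          intro z
          have hz : z ∈ G A p w' := by rw [hGw']; exact Submodule.mem_top
          obtain ⟨l, hl, y, hy', rfl⟩ := Submodule.mem_sup.mp hz
          rw [C_smul', smul_add]
          refine Submodule.add_mem _ (Submodule.mem_sup_left ?_) (Submodule.mem_sup_right ?_)
          · rw [hL]; exact Submodule.smul_mem _ μ hl
          · exact Submodule.smul_mem_smul hμ hy'
        | zero => intro z; rw [zero_smul]; exact Submodule.zero_mem _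
        | add i i' _ _ hi hi' => intro z; rw [add_smul]; exact Submodule.add_mem _ (hi z) (hi' z)
        | smul b i _ hi =>
          intro z
          rw [smul_eq_mul, mul_comm, mul_smul]
          exact hi (b • z)
      have hN' : Submodule.span A (Set.range w') ≤ L.restrictScalars A := by
        refine Submodule.le_of_le_smul_of_le_jacobson_bot
          (Submodule.fg_span (Set.finite_range w')) (IsLocalRing.maximalIdeal_le_jacobson ⊥) ?_
        rw [Submodule.span_le]
        rintro _ ⟨j, rfl⟩
        refine Submodule.smul_induction_on (hw'I j) (fun i hi z _ => hIsub i hi z)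
          (fun y z hy hz => Submodule.add_mem _ hy hz)
      rw [eq_top_iff]
      intro x _
      have hx : x ∈ G A p w' := by rw [hGw']; exact Submodule.mem_top
      obtain ⟨l, hl, y, hy', rfl⟩ := Submodule.mem_sup.mp hx
      have hy'' : y ∈ L := hN' hy'
      have hl' : l ∈ L := by rw [hL]; exact hl
      rw [← hL]
      exact L.add_mem hl' hy''
    · -- Case B
      push Not at hc
      obtain ⟨j₀, i₀, hu⟩ := hc
      have hunit : IsUnit (c j₀ i₀) := by
        by_contra hnu
        exact hu ((IsLocalRing.mem_maximalIdeal _).mpr hnu)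
      obtain ⟨u, hu'⟩ := hunit
      let p'' : Fin n → P := Function.update p i₀ (w' j₀)
      let w'' : Fin r → P := fun j => w' (j₀.succAbove j)
      apply ih p'' w''
      obtain ⟨S, hS⟩ : ∃ S : Submodule A P, S = G A p'' w'' := ⟨_, rfl⟩
      rw [← hS]
      have hp''S : ∀ i, p'' i ∈ S := fun i => by
        rw [hS]; exact Submodule.mem_sup_left (Submodule.subset_span ⟨i, rfl⟩)
      have hXp'' : (X : A[X]) • w' j₀ ∈ S := by
        rw [hS]
        refine Submodule.mem_sup_left ?_
        have : w' j₀ = p'' i₀ := by simp [p'']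
        rw [this]
        exact Submodule.smul_mem (Submodule.span A[X] (Set.range p'')) (X : A[X])
          (Submodule.subset_span ⟨i₀, rfl⟩)
      have hwS : ∀ j, w' j ∈ S := by
        intro j
        by_cases hj : j = j₀
        · rw [hj]
          have : w' j₀ = p'' i₀ := by simp [p'']
          rw [this]; exact hp''S i₀
        · obtain ⟨j', rfl⟩ := Fin.exists_succAbove_eq hj
          rw [hS]
          exact Submodule.mem_sup_right
            (Submodule.subset_span (⟨j', rfl⟩ : w' (j₀.succAbove j') ∈ Set.range w''))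
      have hpS' : ∀ i, i ≠ i₀ → p i ∈ S := by
        intro i hi
        have : p i = p'' i := by simp [p'', Function.update_of_ne hi]
        rw [this]; exact hp''S i
      have hpS : ∀ i, p i ∈ S := by
        intro i
        by_cases hi : i = i₀
        · rw [hi]
          have e1 := hw'rel j₀
          rw [← Finset.add_sum_erase _ _ (Finset.mem_univ i₀)] at e1
          have e2 : p i₀ = (↑u⁻¹ : A) • ((X : A[X]) • w' j₀ - ∑ i, τ j₀ i • w' i -
              ∑ i ∈ Finset.univ.erase i₀, c j₀ i • p i) := by
            rw [e1, add_sub_cancel_right, ← hu', smul_smul, Units.inv_mul, one_smul]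
          rw [e2]
          refine S.smul_mem _ (S.sub_mem (S.sub_mem hXp'' ?_) ?_)
          · exact Submodule.sum_mem _ fun i _ => S.smul_mem _ (hwS i)
          · exact Submodule.sum_mem _ fun i hi' =>
              S.smul_mem _ (hpS' i (Finset.ne_of_mem_erase hi'))
        · exact hpS' i hi
      have hstable : ∀ x ∈ S, (X : A[X]) • x ∈ S := by
        intro x hx
        rw [hS] at hx
        obtain ⟨l, hl, y, hy', rfl⟩ := Submodule.mem_sup.mp hx
        rw [smul_add]
        refine S.add_mem ?_ ?_
        · rw [hS]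
          exact Submodule.mem_sup_left
            (Submodule.smul_mem (Submodule.span A[X] (Set.range p'')) (X : A[X]) hl)
        · clear hx
          induction hy' using Submodule.span_induction with
          | mem y hy =>
            obtain ⟨j, rfl⟩ := hy
            have e1 := hw'rel (j₀.succAbove j)
            have e2 : (X : A[X]) • w'' j = ∑ i, τ (j₀.succAbove j) i • w' i +
                ∑ i, c (j₀.succAbove j) i • p i := by
              rw [← e1]; abel
            rw [e2]
            exact S.add_mem (Submodule.sum_mem _ fun i _ => S.smul_mem _ (hwS i))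
              (Submodule.sum_mem _ fun i _ => S.smul_mem _ (hpS i))
          | zero => rw [smul_zero]; exact S.zero_mem
          | add y z _ _ hy hz => rw [smul_add]; exact S.add_mem hy hz
          | smul a y _ hy => rw [smul_comm]; exact S.smul_mem _ hy
      exact eq_top_of_stable p w' hGw' S hstable hpS hwS

theorem horrocks_local_aux [Module.Finite A[X] P] [Module.Projective A[X] P]
    (h : A[X]) (hh : h.Monic) (n k : ℕ)
    (α : P →ₗ[A[X]] (Fin n → A[X])) (β : (Fin n → A[X]) →ₗ[A[X]] P)
    (hαβ : ∀ v, α (β v) = h ^ k • v) (hβα : ∀ x, β (α x) = h ^ k • x) :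
    Nonempty ((Fin n → A[X]) ≃ₗ[A[X]] P) := by
  classical
  obtain ⟨s, g, hg⟩ := Module.Finite.exists_fin (R := A[X]) (M := P)
  obtain ⟨H, hH⟩ : ∃ H : A[X], H = h ^ k := ⟨_, rfl⟩
  have hHm : H.Monic := hH ▸ hh.pow k
  let D := H.natDegree
  let p : Fin n → P := fun i => β (Pi.single i 1)
  let w : Fin (D * s) → P := fun t =>
    (X : A[X]) ^ ((finProdFinEquiv.symm t).1 : ℕ) • g (finProdFinEquiv.symm t).2
  have hβmem : ∀ v, β v ∈ Submodule.span A[X] (Set.range p) := by
    intro v
    have : v = ∑ i, v i • (Pi.single i (1 : A[X]) : Fin n → A[X]) := by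
      funext j
      simp [Finset.sum_apply, Pi.single_apply]
    rw [this, map_sum]
    refine Submodule.sum_mem _ fun i _ => ?_
    rw [map_smul]
    exact Submodule.smul_mem _ _ (Submodule.subset_span ⟨i, rfl⟩)
  have hG : G A p w = ⊤ := by
    rw [eq_top_iff]
    intro x _
    have hx : x ∈ Submodule.span A[X] (Set.range g) := by rw [hg]; exact Submodule.mem_top
    obtain ⟨b, rfl⟩ := (Submodule.mem_span_range_iff_exists_fun A[X]).mp hx
    refine Submodule.sum_mem _ fun t _ => ?_
    -- b t • g t
    have hdiv := Polynomial.modByMonic_add_div (b t) H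
    rw [← hdiv, add_smul]
    refine Submodule.add_mem _ (Submodule.mem_sup_right ?_) (Submodule.mem_sup_left ?_)
    · -- remainder part
      by_cases hr0 : b t %ₘ H = 0
      · rw [hr0, zero_smul]; exact Submodule.zero_mem _
      · have hdeg : (b t %ₘ H).natDegree < D := by
          haveI : Nontrivial A[X] := ⟨⟨_, _, hr0⟩⟩
          haveI : Nontrivial A := Polynomial.nontrivial_iff.mp inferInstance
          have := Polynomial.degree_modByMonic_lt (b t) hHm
          exact (Polynomial.natDegree_lt_natDegree_iff hr0).mpr this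
        rw [Polynomial.as_sum_range' (b t %ₘ H) D hdeg, Finset.sum_smul]
        refine Submodule.sum_mem _ fun d hd => ?_
        rw [← Polynomial.C_mul_X_pow_eq_monomial, mul_smul, C_smul']
        refine Submodule.smul_mem _ _ (Submodule.subset_span ?_)
        refine ⟨finProdFinEquiv (⟨d, Finset.mem_range.mp hd⟩, t), ?_⟩
        show (X : A[X]) ^ ((finProdFinEquiv.symm (finProdFinEquiv
          ((⟨d, Finset.mem_range.mp hd⟩ : Fin D), t))).1 : ℕ) • g (finProdFinEquiv.symm
          (finProdFinEquiv ((⟨d, Finset.mem_range.mp hd⟩ : Fin D), t))).2 = _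
        rw [Equiv.symm_apply_apply]
    · -- multiple of H
      rw [mul_smul]
      have : H • ((b t /ₘ H) • g t) = β (α ((b t /ₘ H) • g t)) := by
        rw [hβα, hH]
      rw [this]
      exact hβmem _
  obtain ⟨p', hp'⟩ := claim n (D * s) p w hG
  let π : (Fin n → A[X]) →ₗ[A[X]] P := Fintype.linearCombination A[X] p'
  have hπsurj : Function.Surjective π := by
    rw [← LinearMap.range_eq_top, Fintype.range_linearCombination, hp']
  obtain ⟨γ, hγ⟩ := Module.projective_lifting_property π β hπsurj
  let U : (Fin n → A[X]) →ₗ[A[X]] (Fin n → A[X]) := α ∘ₗ π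
  have hUV : U ∘ₗ γ = H • LinearMap.id := by
    apply LinearMap.ext
    intro v
    show α (π (γ v)) = H • v
    have : π (γ v) = β v := LinearMap.congr_fun hγ v
    rw [this, hαβ, hH]
  have hmat : LinearMap.toMatrix' U * LinearMap.toMatrix' γ = H • (1 : Matrix (Fin n) (Fin n) A[X]) := by
    rw [← LinearMap.toMatrix'_comp, hUV, map_smul, LinearMap.toMatrix'_id]
  have hdet : (LinearMap.toMatrix' γ).det * (LinearMap.toMatrix' U).det = H ^ n := by
    rw [mul_comm, ← Matrix.det_mul, hmat, Matrix.det_smul, Matrix.det_one, mul_one,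
      Fintype.card_fin]
  have hreg : IsLeftRegular (LinearMap.toMatrix' U).det := by
    have h1 : IsLeftRegular (H ^ n) := (hHm.pow n).isRegular.left
    rw [← hdet] at h1
    exact IsLeftRegular.of_mul h1
  have hUinj : Function.Injective U := by
    rw [← LinearMap.ker_eq_bot, LinearMap.ker_eq_bot']
    intro v hv
    have h1 : (LinearMap.toMatrix' U).mulVec v = 0 := by
      rw [LinearMap.toMatrix'_mulVec]; exact hv
    have h2 : ((LinearMap.toMatrix' U).adjugate * LinearMap.toMatrix' U).mulVec v = 0 := by
      rw [← Matrix.mulVec_mulVec, h1, Matrix.mulVec_zero]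
    rw [Matrix.adjugate_mul, Matrix.smul_mulVec, Matrix.one_mulVec] at h2
    funext i
    have h3 := congrFun h2 i
    simp only [Pi.smul_apply, smul_eq_mul, Pi.zero_apply] at h3
    exact hreg (by simpa using h3)
  have hπinj : Function.Injective π := by
    intro v v' hvv'
    apply hUinj
    show α (π v) = α (π v')
    rw [hvv']
  exact ⟨LinearEquiv.ofBijective π ⟨hπinj, hπsurj⟩⟩

end Local

section Main

variable {A : Type u} [CommRing A] [IsLocalRing A]
variable {P : Type u} [AddCommGroup P] [Module A[X] P]

/-- **Local Horrocks theorem**, localization-free form. -/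
theorem horrocks_local [Module.Finite A[X] P] [Module.Projective A[X] P]
    (h : A[X]) (hh : h.Monic) (n k : ℕ)
    (α : P →ₗ[A[X]] (Fin n → A[X])) (β : (Fin n → A[X]) →ₗ[A[X]] P)
    (hαβ : ∀ v, α (β v) = h ^ k • v) (hβα : ∀ x, β (α x) = h ^ k • x) :
    Nonempty ((Fin n → A[X]) ≃ₗ[A[X]] P) := by
  letI : Module A P := Module.compHom P (C : A →+* A[X])
  haveI : IsScalarTower A A[X] P := ⟨fun a b x => by
    show (a • b) • x = (C a : A[X]) • (b • x)
    rw [Polynomial.smul_eq_C_mul, mul_smul]⟩
  exact horrocks_local_aux h hh n k α β hαβ hβα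

end Main

end Groth.Agent.H13.Horrocks
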