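import Mathlib

/-!
# Quillen patching, in matrix form (the `Y`-form of the Quillen ideal)
-/

set_option autoImplicit false
set_option linter.unusedSectionVars false
set_option linter.unusedVariables false
set_option linter.style.haveILetI false

universe u

open Polynomial

namespace Groth.Agent.H13.Horrocks

section Rel

variable {R R' : Type*} [CommRing R] [CommRing R'] {m m' m'' : ℕ}

/-- the ranges of the idempotents `E`, `E'` are isomorphic, in matrix form -/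
def Rel (E : Matrix (Fin m) (Fin m) R) (E' : Matrix (Fin m') (Fin m') R) : Prop :=
  ∃ (a : Matrix (Fin m') (Fin m) R) (b : Matrix (Fin m) (Fin m') R),
    a * b = E' ∧ b * a = E ∧ E' * a = a ∧ E * b = b

theorem Rel.refl (E : Matrix (Fin m) (Fin m) R) (hE : E * E = E) : Rel E E :=
  ⟨E, E, hE, hE, hE, hE⟩

theorem Rel.symm {E : Matrix (Fin m) (Fin m) R} {E' : Matrix (Fin m') (Fin m') R}
    (h : Rel E E') : Rel E' E := by
  obtain ⟨a, b, hab, hba, ha, hb⟩ := h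
  exact ⟨b, a, hba, hab, hb, ha⟩

theorem Rel.trans {E : Matrix (Fin m) (Fin m) R} {E' : Matrix (Fin m') (Fin m') R}
    {E'' : Matrix (Fin m'') (Fin m'') R} (h : Rel E E') (h' : Rel E' E'') : Rel E E'' := by
  obtain ⟨a, b, hab, hba, ha, hb⟩ := h
  obtain ⟨a', b', hab', hba', ha', hb'⟩ := h'
  refine ⟨a' * a, b * b', ?_, ?_, ?_, ?_⟩
  · rw [Matrix.mul_assoc, ← Matrix.mul_assoc a b b', hab, hb', hab']
  · rw [Matrix.mul_assoc, ← Matrix.mul_assoc b' a' a, hba', ha, hba]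
  · rw [← Matrix.mul_assoc, ha']
  · rw [← Matrix.mul_assoc, hb]

theorem Rel.map {E : Matrix (Fin m) (Fin m) R} {E' : Matrix (Fin m') (Fin m') R}
    (f : R →+* R') (h : Rel E E') : Rel (E.map f) (E'.map f) := by
  obtain ⟨a, b, hab, hba, ha, hb⟩ := h
  refine ⟨a.map f, b.map f, ?_, ?_, ?_, ?_⟩
  · rw [← Matrix.map_mul, hab]
  · rw [← Matrix.map_mul, hba]
  · rw [← Matrix.map_mul, ha]
  · rw [← Matrix.map_mul, hb]

variable {k l : ℕ}

theorem mcomp {R'' : Type*} [CommRing R''] (f : R →+* R') (g : R' →+* R'')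
    (M : Matrix (Fin k) (Fin l) R) : (M.map f).map g = M.map (g.comp f) := by
  ext i j; simp

theorem msmul (f : R →+* R') (c : R) (M : Matrix (Fin k) (Fin l) R) :
    (c • M).map f = f c • M.map f := by
  ext i j; simp

theorem madd (f : R →+* R') (M N : Matrix (Fin k) (Fin l) R) :
    (M + N).map f = M.map f + N.map f := by
  ext i j; simp

theorem msub (f : R →+* R') (M N : Matrix (Fin k) (Fin l) R) :
    (M - N).map f = M.map f - N.map f := by
  ext i j; simp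

end Rel

section Subst

variable {A : Type u} [CommRing A]

/-- `X ↦ X + cY` (the outer variable is `Y`) -/
noncomputable def σ (c : A) : A[X] →+* A[X][X] :=
  eval₂RingHom ((C : A[X] →+* A[X][X]).comp C) (C X + C (C c) * X)

/-- `p(X) ↦ p(X + cY)` on coefficients, `Y ↦ Y` -/
noncomputable def ρ (c : A) : A[X][X] →+* A[X][X] := eval₂RingHom (σ c) X

/-- `Y ↦ aY` -/
noncomputable def μ (a : A) : A[X][X] →+* A[X][X] := eval₂RingHom C (C (C a) * X)

/-- `X ↦ 0`, `Y ↦ X` -/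
noncomputable def ε : A[X][X] →+* A[X] :=
  eval₂RingHom ((C : A →+* A[X]).comp (evalRingHom 0)) X

/-- `Y ↦ 0` -/
noncomputable def ev0 : A[X][X] →+* A[X] := evalRingHom 0

@[simp] theorem σ_C (c a : A) : σ c (C a) = C (C a) := by simp [σ]
@[simp] theorem σ_X (c : A) : σ c X = C X + C (C c) * X := by simp [σ]
@[simp] theorem ρ_C (c : A) (p : A[X]) : ρ c (C p) = σ c p := by simp [ρ]
@[simp] theorem ρ_X (c : A) : ρ c X = X := by simp [ρ]
@[simp] theorem μ_C (a : A) (p : A[X]) : μ a (C p) = C p := by simp [μ]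
@[simp] theorem μ_X (a : A) : μ a X = C (C a) * X := by simp [μ]
@[simp] theorem ε_C (p : A[X]) : (ε (C p) : A[X]) = C (p.eval 0) := by simp [ε]
@[simp] theorem ε_X : (ε (X : A[X][X]) : A[X]) = X := by simp [ε]
@[simp] theorem ev0_C (p : A[X]) : ev0 (C p) = p := by simp [ev0]
@[simp] theorem ev0_X : ev0 (X : A[X][X]) = 0 := by simp [ev0]

theorem σ_zero : σ (0 : A) = C := by
  apply Polynomial.ringHom_ext
  · intro a; simp
  · simp

theorem ρ_comp_σ (c c' : A) : (ρ c).comp (σ c') = σ (c + c') := by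
  apply Polynomial.ringHom_ext
  · intro a; simp
  · simp only [RingHom.comp_apply, σ_X, map_add, map_mul, ρ_C, ρ_X, σ_C]
    ring

theorem μ_comp_σ (a c : A) : (μ a).comp (σ c) = σ (a * c) := by
  apply Polynomial.ringHom_ext
  · intro a'; simp
  · simp only [RingHom.comp_apply, σ_X, map_add, map_mul, μ_C, μ_X]
    ring

theorem ε_comp_σ_one : (ε : A[X][X] →+* A[X]).comp (σ 1) = RingHom.id _ := by
  apply Polynomial.ringHom_ext
  · intro a; simp
  · simp

theorem ε_comp_σ_zero :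
    (ε : A[X][X] →+* A[X]).comp (σ 0) = (C : A →+* A[X]).comp (evalRingHom 0) := by
  rw [σ_zero]
  ext p
  · simp
  · simp

theorem ev0_comp_σ (c : A) : (ev0 : A[X][X] →+* A[X]).comp (σ c) = RingHom.id _ := by
  apply Polynomial.ringHom_ext
  · intro a; simp
  · simp

theorem σ_comp_C (c : A) : (σ c).comp (C : A →+* A[X]) = (C : A[X] →+* A[X][X]).comp C := by
  ext a; simp

section BaseChange

variable {A' : Type u} [CommRing A'] (φ : A →+* A')

theorem map_comp_σ (c : A) :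
    (mapRingHom (mapRingHom φ)).comp (σ c) = (σ (φ c)).comp (mapRingHom φ) := by
  apply Polynomial.ringHom_ext
  · intro a; simp
  · simp

theorem map_comp_μ (a : A) :
    (mapRingHom (mapRingHom φ)).comp (μ a) = (μ (φ a)).comp (mapRingHom (mapRingHom φ)) := by
  apply Polynomial.ringHom_ext
  · intro p; simp
  · simp

theorem map_comp_ev0 :
    (mapRingHom φ).comp (ev0 : A[X][X] →+* A[X]) = ev0.comp (mapRingHom (mapRingHom φ)) := by
  apply Polynomial.ringHom_ext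
  · intro p; simp
  · simp

end BaseChange

end Subst

section QuillenIdeal

variable {A : Type u} [CommRing A] {m : ℕ}

/-- The Quillen ideal of an idempotent matrix over `A[X]`: those `c` with
`E(X) ∼ E(X + cY)` over `A[X,Y]`. -/
noncomputable def Q (E : Matrix (Fin m) (Fin m) A[X]) (hE : E * E = E) : Ideal A where
  carrier := {c | Rel (E.map (σ 0)) (E.map (σ c))}
  zero_mem' := Rel.refl _ (by rw [← Matrix.map_mul, hE])
  add_mem' := by
    intro c c' h h'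
    have h2 := h'.map (ρ c)
    rw [mcomp, mcomp, ρ_comp_σ, ρ_comp_σ, add_zero] at h2
    exact h.trans h2
  smul_mem' := by
    intro a c h
    have h2 := h.map (μ a)
    rw [mcomp, mcomp, μ_comp_σ, μ_comp_σ, mul_zero] at h2
    exact h2

theorem mem_Q {E : Matrix (Fin m) (Fin m) A[X]} {hE : E * E = E} {c : A} :
    c ∈ Q E hE ↔ Rel (E.map (σ 0)) (E.map (σ c)) := Iff.rfl

theorem rel_of_one_mem_Q {E : Matrix (Fin m) (Fin m) A[X]} {hE : E * E = E}
    (h : (1 : A) ∈ Q E hE) : Rel (E.map ((C : A →+* A[X]).comp (evalRingHom 0))) E := by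
  have h2 := (mem_Q.mp h).map ε
  rw [mcomp, mcomp, ε_comp_σ_one, ε_comp_σ_zero] at h2
  simpa using h2

end QuillenIdeal

section LocLike

/-- `ψ : R → R'` behaves like the localization at `T`. -/
structure LocLike {R R' : Type*} [CommRing R] [CommRing R'] (T : Submonoid R) (ψ : R →+* R') :
    Prop where
  surj : ∀ x : R', ∃ t ∈ T, ∃ y : R, ψ y = ψ t * x
  inj : ∀ y : R, ψ y = 0 → ∃ t ∈ T, t * y = 0

variable {R R' : Type*} [CommRing R] [CommRing R'] {T : Submonoid R} {ψ : R →+* R'}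

theorem LocLike.of_isLocalization (S : Submonoid R) (R'' : Type*) [CommRing R''] [Algebra R R'']
    [IsLocalization S R''] : LocLike S (algebraMap R R'') where
  surj x := by
    obtain ⟨⟨y, s⟩, h⟩ := IsLocalization.surj S x
    exact ⟨s, s.2, y, by rw [← h, mul_comm]⟩
  inj y hy := by
    obtain ⟨s, hs⟩ := (IsLocalization.map_eq_zero_iff S R'' y).mp hy
    exact ⟨s, s.2, hs⟩

theorem LocLike.polynomial (h : LocLike T ψ) :
    LocLike (T.map (C : R →+* R[X])) (mapRingHom ψ) where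
  surj x := by
    induction x using Polynomial.induction_on' with
    | add p q hp hq =>
      obtain ⟨t, ht, y, hy⟩ := hp
      obtain ⟨t', ht', y', hy'⟩ := hq
      refine ⟨t * t', mul_mem ht ht', t' * y + t * y', ?_⟩
      rw [map_add, map_mul, map_mul, hy, hy', map_mul]; ring
    | monomial n r =>
      obtain ⟨t, ht, y, hy⟩ := h.surj r
      refine ⟨C t, ⟨t, ht, rfl⟩, monomial n y, ?_⟩
      simp only [coe_mapRingHom, map_monomial, hy, map_C]
      rw [C_mul_monomial]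
  inj y hy := by
    classical
    have hc : ∀ i, ψ (y.coeff i) = 0 := fun i => by
      have h1 := congrArg (fun p => p.coeff i) hy
      simpa using h1
    choose t ht hty using fun i => h.inj (y.coeff i) (hc i)
    refine ⟨C (∏ i ∈ y.support, t i), ⟨_, prod_mem fun i _ => ht i, rfl⟩, ?_⟩
    ext i
    rw [coeff_C_mul, coeff_zero]
    by_cases hi : i ∈ y.support
    · rw [← Finset.prod_erase_mul _ _ hi, mul_assoc, hty, mul_zero]
    · rw [notMem_support_iff.mp hi, mul_zero]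

theorem LocLike.surj_fin (h : LocLike T ψ) {ι : Type*} [Fintype ι] [DecidableEq ι]
    (x : ι → R') : ∃ t ∈ T, ∃ y : ι → R, ∀ i, ψ (y i) = ψ t * x i := by
  choose t ht y hy using fun i => h.surj (x i)
  refine ⟨∏ i, t i, prod_mem fun i _ => ht i,
    fun i => (∏ j ∈ Finset.univ.erase i, t j) * y i, fun i => ?_⟩
  rw [map_mul, hy, ← mul_assoc, ← map_mul, Finset.prod_erase_mul _ _ (Finset.mem_univ i)]

theorem LocLike.inj_fin (h : LocLike T ψ) {ι : Type*} [Fintype ι] [DecidableEq ι]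
    (y : ι → R) (hy : ∀ i, ψ (y i) = 0) : ∃ t ∈ T, ∀ i, t * y i = 0 := by
  choose t ht hty using fun i => h.inj (y i) (hy i)
  refine ⟨∏ i, t i, prod_mem fun i _ => ht i, fun i => ?_⟩
  rw [← Finset.prod_erase_mul _ _ (Finset.mem_univ i), mul_assoc, hty, mul_zero]

end LocLike

section DivX

variable {K K' : Type*} [CommRing K] [CommRing K'] {m : ℕ}

/-- a matrix over `K[X]` vanishing at `0` is `X` times its `divX`. -/
theorem eq_X_smul_divX (M : Matrix (Fin m) (Fin m) K[X])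
    (h : M.map (evalRingHom (0 : K)) = 0) : M = (X : K[X]) • M.map divX := by
  ext i j : 1
  have h1 : (M i j).eval 0 = 0 := by
    have := congrFun (congrFun h i) j
    simpa using this
  have h2 := Polynomial.divX_mul_X_add (M i j)
  rw [Polynomial.coeff_zero_eq_eval_zero, h1, C_0, add_zero] at h2
  rw [Matrix.smul_apply, Matrix.map_apply, smul_eq_mul, mul_comm, h2]

theorem eq_zero_of_X_smul_eq_zero (M : Matrix (Fin m) (Fin m) K[X])
    (h : (X : K[X]) • M = 0) : M = 0 := by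
  ext i j : 1
  have h1 := congrFun (congrFun h i) j
  simp only [Matrix.smul_apply, smul_eq_mul, Matrix.zero_apply] at h1
  rw [Matrix.zero_apply]
  exact (Polynomial.isRegular_X (R := K)).left (by show X * M i j = X * 0; rw [h1, mul_zero])

end DivX

section Lifting

variable {A : Type u} [CommRing A] {m : ℕ}

theorem mid {R : Type*} [CommRing R] {k l : ℕ} (M : Matrix (Fin k) (Fin l) R) :
    M.map (RingHom.id R) = M := by
  ext i j; simp

theorem exists_mem_Q_of_rel_localization (S : Submonoid A) (A' : Type u) [CommRing A']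
    [Algebra A A'] [IsLocalization S A'] (E : Matrix (Fin m) (Fin m) A[X]) (hE : E * E = E)
    (h : Rel (E.map (mapRingHom (algebraMap A A')))
      ((E.map (mapRingHom (algebraMap A A'))).map
        ((C : A' →+* A'[X]).comp (evalRingHom 0)))) :
    ∃ s ∈ S, s ∈ Q E hE := by
  classical
  obtain ⟨φ, hφ⟩ : ∃ φ : A →+* A', φ = algebraMap A A' := ⟨_, rfl⟩
  obtain ⟨φ₁, hφ₁⟩ : ∃ φ₁ : A[X] →+* A'[X], φ₁ = mapRingHom φ := ⟨_, rfl⟩
  obtain ⟨φ₂, hφ₂⟩ : ∃ φ₂ : A[X][X] →+* A'[X][X], φ₂ = mapRingHom φ₁ := ⟨_, rfl⟩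
  rw [← hφ, ← hφ₁] at h
  obtain ⟨E₁, hE₁⟩ : ∃ E₁ : Matrix (Fin m) (Fin m) A'[X], E₁ = E.map φ₁ := ⟨_, rfl⟩
  rw [← hE₁] at h
  have hE₁idem : E₁ * E₁ = E₁ := by rw [hE₁, ← Matrix.map_mul, hE]
  obtain ⟨a₁, b₁, hab, hba, ha, hb⟩ := h
  obtain ⟨e₁, he₁⟩ : ∃ e₁ : Matrix (Fin m) (Fin m) A'[X],
    e₁ = E₁.map ((C : A' →+* A'[X]).comp (evalRingHom 0)) := ⟨_, rfl⟩
  rw [← he₁] at hab ha
  have hbe : b₁ * e₁ = b₁ := by rw [← hab, ← Matrix.mul_assoc, hba, hb]
  have haE : a₁ * E₁ = a₁ := by rw [← hba, ← Matrix.mul_assoc, hab, ha]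
  have hconst : ∀ c : A', e₁.map (σ c) = e₁.map (σ 0) := by
    intro c
    rw [he₁, mcomp, mcomp, ← RingHom.comp_assoc, ← RingHom.comp_assoc, σ_comp_C, σ_comp_C]
  -- the isomorphism `E₁(X) ∼ E₁(X+Y)` over `A'[X,Y]`
  obtain ⟨u, hu⟩ : ∃ u : Matrix (Fin m) (Fin m) A'[X][X],
    u = b₁.map (σ 0) * a₁.map (σ 1) := ⟨_, rfl⟩
  obtain ⟨v, hv⟩ : ∃ v : Matrix (Fin m) (Fin m) A'[X][X],
    v = b₁.map (σ 1) * a₁.map (σ 0) := ⟨_, rfl⟩
  have huv : u * v = E₁.map (σ 0) := by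
    calc u * v = b₁.map (σ 0) * (a₁.map (σ 1) * b₁.map (σ 1)) * a₁.map (σ 0) := by
          rw [hu, hv]; simp only [Matrix.mul_assoc]
      _ = b₁.map (σ 0) * e₁.map (σ 1) * a₁.map (σ 0) := by rw [← Matrix.map_mul, hab]
      _ = b₁.map (σ 0) * e₁.map (σ 0) * a₁.map (σ 0) := by rw [hconst 1]
      _ = (b₁ * e₁ * a₁).map (σ 0) := by rw [Matrix.map_mul, Matrix.map_mul]
      _ = E₁.map (σ 0) := by rw [hbe, hba]
  have hvu : v * u = E₁.map (σ 1) := by
    calc v * u = b₁.map (σ 1) * (a₁.map (σ 0) * b₁.map (σ 0)) * a₁.map (σ 1) := by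
          rw [hu, hv]; simp only [Matrix.mul_assoc]
      _ = b₁.map (σ 1) * e₁.map (σ 0) * a₁.map (σ 1) := by rw [← Matrix.map_mul, hab]
      _ = b₁.map (σ 1) * e₁.map (σ 1) * a₁.map (σ 1) := by rw [hconst 1]
      _ = (b₁ * e₁ * a₁).map (σ 1) := by rw [Matrix.map_mul, Matrix.map_mul]
      _ = E₁.map (σ 1) := by rw [hbe, hba]
  have hEu : E₁.map (σ 0) * u = u := by
    rw [hu, ← Matrix.mul_assoc, ← Matrix.map_mul, hb]
  have huE : u * E₁.map (σ 1) = u := by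
    rw [hu, Matrix.mul_assoc, ← Matrix.map_mul, haE]
  have hEv : E₁.map (σ 1) * v = v := by
    rw [hv, ← Matrix.mul_assoc, ← Matrix.map_mul, hb]
  have hvE : v * E₁.map (σ 0) = v := by
    rw [hv, Matrix.mul_assoc, ← Matrix.map_mul, haE]
  have hE0' : ∀ c : A', (E₁.map (σ c)).map ev0 = E₁ := by
    intro c; rw [mcomp, ev0_comp_σ, mid]
  have hu0 : u.map ev0 = E₁ := by
    rw [hu, Matrix.map_mul, mcomp, mcomp, ev0_comp_σ, ev0_comp_σ, mid, mid, hba]
  have hv0 : v.map ev0 = E₁ := by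
    rw [hv, Matrix.map_mul, mcomp, mcomp, ev0_comp_σ, ev0_comp_σ, mid, mid, hba]
  -- divide by `Y`
  have hdu : (u - E₁.map (σ 0)).map (evalRingHom (0 : A'[X])) = 0 := by
    have := hE0' 0
    rw [msub]
    show u.map ev0 - (E₁.map (σ 0)).map ev0 = 0
    rw [hu0, this, sub_self]
  have hdv : (v - E₁.map (σ 0)).map (evalRingHom (0 : A'[X])) = 0 := by
    have := hE0' 0
    rw [msub]
    show v.map ev0 - (E₁.map (σ 0)).map ev0 = 0
    rw [hv0, this, sub_self]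
  obtain ⟨ρu, hρu⟩ : ∃ ρu : Matrix (Fin m) (Fin m) A'[X][X],
    ρu = (u - E₁.map (σ 0)).map divX := ⟨_, rfl⟩
  obtain ⟨ρv, hρv⟩ : ∃ ρv : Matrix (Fin m) (Fin m) A'[X][X],
    ρv = (v - E₁.map (σ 0)).map divX := ⟨_, rfl⟩
  have hu_eq : u = E₁.map (σ 0) + (X : A'[X][X]) • ρu := by
    have := eq_X_smul_divX _ hdu
    rw [← hρu] at this
    rw [← this]; abel
  have hv_eq : v = E₁.map (σ 0) + (X : A'[X][X]) • ρv := by
    have := eq_X_smul_divX _ hdv
    rw [← hρv] at this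
    rw [← this]; abel
  -- lifting denominators
  have hLL : LocLike ((S.map (C : A →+* A[X])).map (C : A[X] →+* A[X][X])) φ₂ := by
    rw [hφ₂, hφ₁, hφ]
    exact ((LocLike.of_isLocalization S A').polynomial).polynomial
  obtain ⟨t, ht, y, hy⟩ := hLL.surj_fin
    (Sum.elim (fun ij : Fin m × Fin m => ρu ij.1 ij.2) (fun ij : Fin m × Fin m => ρv ij.1 ij.2))
  obtain ⟨_, ⟨s₁, hs₁, rfl⟩, rfl⟩ := ht
  obtain ⟨s', hs'⟩ : ∃ s' : A', s' = φ s₁ := ⟨_, rfl⟩
  have hφ₂CC : ∀ a : A, φ₂ (C (C a)) = C (C (φ a)) := by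
    intro a; rw [hφ₂, hφ₁]; simp
  have hφ₂X : φ₂ X = X := by rw [hφ₂]; simp
  obtain ⟨ru, hru⟩ : ∃ ru : Matrix (Fin m) (Fin m) A[X][X],
    ru = Matrix.of fun i j => y (Sum.inl (i, j)) := ⟨_, rfl⟩
  obtain ⟨rv, hrv⟩ : ∃ rv : Matrix (Fin m) (Fin m) A[X][X],
    rv = Matrix.of fun i j => y (Sum.inr (i, j)) := ⟨_, rfl⟩
  have hruφ : ru.map φ₂ = (C (C s') : A'[X][X]) • ρu := by
    ext i j : 1
    have := hy (Sum.inl (i, j))
    rw [hφ₂CC, ← hs'] at this
    simp [hru, this]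
  have hrvφ : rv.map φ₂ = (C (C s') : A'[X][X]) • ρv := by
    ext i j : 1
    have := hy (Sum.inr (i, j))
    rw [hφ₂CC, ← hs'] at this
    simp [hrv, this]
  have hφμ : ∀ a : A, φ₂.comp (μ a) = (μ (φ a)).comp φ₂ := by
    intro a; rw [hφ₂, hφ₁]; exact map_comp_μ φ a
  have hφσ : ∀ c : A, φ₂.comp (σ c) = (σ (φ c)).comp φ₁ := by
    intro c; rw [hφ₂, hφ₁]; exact map_comp_σ φ c
  have hφev : φ₁.comp (ev0 : A[X][X] →+* A[X]) = ev0.comp φ₂ := by
    rw [hφ₂, hφ₁]; exact map_comp_ev0 φ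
  have hEσ : ∀ c : A, (E.map (σ c)).map φ₂ = E₁.map (σ (φ c)) := by
    intro c; rw [mcomp, hφσ, ← mcomp, hE₁]
  have hEσμ : ∀ c : A', (E₁.map (σ c)).map (μ s') = E₁.map (σ (s' * c)) := by
    intro c; rw [mcomp, μ_comp_σ]
  have hEidem : ∀ c : A, E.map (σ c) * E.map (σ c) = E.map (σ c) := by
    intro c; rw [← Matrix.map_mul, hE]
  have hE0 : ∀ c : A, (E.map (σ c)).map ev0 = E := by
    intro c; rw [mcomp, ev0_comp_σ, mid]
  -- the candidate lifts
  obtain ⟨U₁, hU₁⟩ : ∃ U₁ : Matrix (Fin m) (Fin m) A[X][X],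
    U₁ = E.map (σ 0) + (X : A[X][X]) • ru.map (μ s₁) := ⟨_, rfl⟩
  obtain ⟨V₁, hV₁⟩ : ∃ V₁ : Matrix (Fin m) (Fin m) A[X][X],
    V₁ = E.map (σ 0) + (X : A[X][X]) • rv.map (μ s₁) := ⟨_, rfl⟩
  have hE0φ : (E.map (σ 0)).map φ₂ = E₁.map (σ 0) := by rw [hEσ, map_zero]
  have hU₁φ : U₁.map φ₂ = u.map (μ s') := by
    have e1 : (ru.map (μ s₁)).map φ₂ = (C (C s') : A'[X][X]) • ρu.map (μ s') := by
      rw [mcomp, hφμ, ← mcomp, hruφ, msmul, μ_C, ← hs']
    have e3 : u.map (μ s') = E₁.map (σ 0) + (C (C s') * X : A'[X][X]) • ρu.map (μ s') := by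
      rw [hu_eq, madd, msmul, hEσμ, mul_zero, μ_X]
    rw [hU₁, madd, msmul, e1, hE0φ, hφ₂X, e3, smul_smul, mul_comm]
  have hV₁φ : V₁.map φ₂ = v.map (μ s') := by
    have e1 : (rv.map (μ s₁)).map φ₂ = (C (C s') : A'[X][X]) • ρv.map (μ s') := by
      rw [mcomp, hφμ, ← mcomp, hrvφ, msmul, μ_C, ← hs']
    have e3 : v.map (μ s') = E₁.map (σ 0) + (C (C s') * X : A'[X][X]) • ρv.map (μ s') := by
      rw [hv_eq, madd, msmul, hEσμ, mul_zero, μ_X]
    rw [hV₁, madd, msmul, e1, hE0φ, hφ₂X, e3, smul_smul, mul_comm]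
  obtain ⟨U, hU⟩ : ∃ U : Matrix (Fin m) (Fin m) A[X][X],
    U = E.map (σ 0) * U₁ * E.map (σ s₁) := ⟨_, rfl⟩
  obtain ⟨V, hV⟩ : ∃ V : Matrix (Fin m) (Fin m) A[X][X],
    V = E.map (σ s₁) * V₁ * E.map (σ 0) := ⟨_, rfl⟩
  have hUφ : U.map φ₂ = u.map (μ s') := by
    rw [hU, Matrix.map_mul, Matrix.map_mul, hEσ, hEσ, hU₁φ, map_zero, ← hs']
    have e0 : E₁.map (σ 0) = (E₁.map (σ 0)).map (μ s') := by rw [hEσμ, mul_zero]
    have e1 : E₁.map (σ s') = (E₁.map (σ 1)).map (μ s') := by rw [hEσμ, mul_one]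
    rw [e0, e1, ← Matrix.map_mul, ← Matrix.map_mul, hEu, huE]
  have hVφ : V.map φ₂ = v.map (μ s') := by
    rw [hV, Matrix.map_mul, Matrix.map_mul, hEσ, hEσ, hV₁φ, map_zero, ← hs']
    have e0 : E₁.map (σ 0) = (E₁.map (σ 0)).map (μ s') := by rw [hEσμ, mul_zero]
    have e1 : E₁.map (σ s') = (E₁.map (σ 1)).map (μ s') := by rw [hEσμ, mul_one]
    rw [e0, e1, ← Matrix.map_mul, ← Matrix.map_mul, hEv, hvE]
  have hU₁0 : U₁.map ev0 = E := by
    rw [hU₁, madd, msmul, hE0, ev0_X, zero_smul, add_zero]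
  have hV₁0 : V₁.map ev0 = E := by
    rw [hV₁, madd, msmul, hE0, ev0_X, zero_smul, add_zero]
  have hU0 : U.map ev0 = E := by
    rw [hU, Matrix.map_mul, Matrix.map_mul, hE0, hE0, hU₁0, hE, hE]
  have hV0 : V.map ev0 = E := by
    rw [hV, Matrix.map_mul, Matrix.map_mul, hE0, hE0, hV₁0, hE, hE]
  -- the defects
  obtain ⟨δ, hδ⟩ : ∃ δ : Matrix (Fin m) (Fin m) A[X][X], δ = U * V - E.map (σ 0) := ⟨_, rfl⟩
  obtain ⟨δ₂, hδ₂⟩ : ∃ δ₂ : Matrix (Fin m) (Fin m) A[X][X], δ₂ = V * U - E.map (σ s₁) :=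
    ⟨_, rfl⟩
  have hδφ : δ.map φ₂ = 0 := by
    rw [hδ, msub, Matrix.map_mul, hUφ, hVφ, ← Matrix.map_mul, huv, hEσ, hEσμ, map_zero, mul_zero,
      sub_self]
  have hδ₂φ : δ₂.map φ₂ = 0 := by
    rw [hδ₂, msub, Matrix.map_mul, hUφ, hVφ, ← Matrix.map_mul, hvu, hEσ, hEσμ, mul_one, ← hs',
      sub_self]
  have hδ0 : δ.map (evalRingHom (0 : A[X])) = 0 := by
    show δ.map ev0 = 0
    rw [hδ, msub, Matrix.map_mul, hU0, hV0, hE0, hE, sub_self]
  have hδ₂0 : δ₂.map (evalRingHom (0 : A[X])) = 0 := by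
    show δ₂.map ev0 = 0
    rw [hδ₂, msub, Matrix.map_mul, hU0, hV0, hE0, hE, sub_self]
  have hδX := eq_X_smul_divX δ hδ0
  have hδ₂X := eq_X_smul_divX δ₂ hδ₂0
  have hdδφ : (δ.map divX).map φ₂ = 0 := by
    apply eq_zero_of_X_smul_eq_zero
    have : ((X : A[X][X]) • δ.map divX).map φ₂ = 0 := by rw [← hδX, hδφ]
    rw [msmul, hφ₂X] at this
    exact this
  have hdδ₂φ : (δ₂.map divX).map φ₂ = 0 := by
    apply eq_zero_of_X_smul_eq_zero
    have : ((X : A[X][X]) • δ₂.map divX).map φ₂ = 0 := by rw [← hδ₂X, hδ₂φ]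
    rw [msmul, hφ₂X] at this
    exact this
  obtain ⟨t₂, ht₂, hkill⟩ := hLL.inj_fin
    (Sum.elim (fun ij : Fin m × Fin m => (δ.map divX) ij.1 ij.2)
      (fun ij : Fin m × Fin m => (δ₂.map divX) ij.1 ij.2))
    (by
      rintro (⟨i, j⟩ | ⟨i, j⟩)
      · have := congrFun (congrFun hdδφ i) j
        simpa using this
      · have := congrFun (congrFun hdδ₂φ i) j
        simpa using this)
  obtain ⟨_, ⟨s₂, hs₂, rfl⟩, rfl⟩ := ht₂
  have hk1 : (C (C s₂) : A[X][X]) • δ.map divX = 0 := by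
    ext i j : 1
    have := hkill (Sum.inl (i, j))
    simpa using this
  have hk2 : (C (C s₂) : A[X][X]) • δ₂.map divX = 0 := by
    ext i j : 1
    have := hkill (Sum.inr (i, j))
    simpa using this
  have hδμ : δ.map (μ s₂) = 0 := by
    rw [hδX, msmul, μ_X, mul_comm, ← smul_smul]
    have : (C (C s₂) : A[X][X]) • (δ.map divX).map (μ s₂) =
        ((C (C s₂) : A[X][X]) • δ.map divX).map (μ s₂) := by
      rw [msmul, μ_C]
    rw [this, hk1]
    ext i j; simp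
  have hδ₂μ : δ₂.map (μ s₂) = 0 := by
    rw [hδ₂X, msmul, μ_X, mul_comm, ← smul_smul]
    have : (C (C s₂) : A[X][X]) • (δ₂.map divX).map (μ s₂) =
        ((C (C s₂) : A[X][X]) • δ₂.map divX).map (μ s₂) := by
      rw [msmul, μ_C]
    rw [this, hk2]
    ext i j; simp
  have hEσμ' : ∀ c : A, (E.map (σ c)).map (μ s₂) = E.map (σ (s₂ * c)) := by
    intro c; rw [mcomp, μ_comp_σ]
  refine ⟨s₂ * s₁, S.mul_mem hs₂ hs₁, ?_⟩
  rw [mem_Q]
  refine ⟨V.map (μ s₂), U.map (μ s₂), ?_, ?_, ?_, ?_⟩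
  · have : V * U = E.map (σ s₁) + δ₂ := by rw [hδ₂]; abel
    rw [← Matrix.map_mul, this, madd, hδ₂μ, add_zero, hEσμ']
  · have : U * V = E.map (σ 0) + δ := by rw [hδ]; abel
    rw [← Matrix.map_mul, this, madd, hδμ, add_zero, hEσμ', mul_zero]
  · rw [← hEσμ', ← Matrix.map_mul]
    congr 1
    rw [hV, ← Matrix.mul_assoc, ← Matrix.mul_assoc, hEidem]
  · have : E.map (σ 0) = (E.map (σ 0)).map (μ s₂) := by rw [hEσμ', mul_zero]
    rw [this, ← Matrix.map_mul]
    congr 1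
    rw [hU, ← Matrix.mul_assoc, ← Matrix.mul_assoc, hEidem]

end Lifting

end Groth.Agent.H13.Horrocks
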