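import Mathlib
import Groth.Agent.H13.HorrocksLocal
import Groth.Agent.H13.Quillen

/-!
# Affine Horrocks (Quillen's global version), in matrix form
-/

set_option autoImplicit false
set_option linter.unusedSectionVars false
set_option linter.unusedVariables false
set_option linter.style.haveILetI false

universe u

open Polynomial

namespace Groth.Agent.H13.Horrocks

section IsoToMats

variable {R : Type u} [CommRing R] {m n : ℕ}

/-- the range of an idempotent matrix is projective -/
theorem projective_range (E : Matrix (Fin m) (Fin m) R) (hE : E * E = E) :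
    Module.Projective R (LinearMap.range (Matrix.toLin' E)) := by
  refine Module.Projective.of_split (LinearMap.range (Matrix.toLin' E)).subtype
    (Matrix.toLin' E).rangeRestrict ?_
  apply LinearMap.ext
  rintro ⟨x, y, rfl⟩
  apply Subtype.ext
  show Matrix.toLin' E (Matrix.toLin' E y) = Matrix.toLin' E y
  rw [← Matrix.toLin'_mul_apply, hE]

theorem mem_range_iff (E : Matrix (Fin m) (Fin m) R) (hE : E * E = E) (x : Fin m → R) :
    x ∈ LinearMap.range (Matrix.toLin' E) ↔ Matrix.toLin' E x = x := by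
  constructor
  · rintro ⟨y, rfl⟩
    rw [← Matrix.toLin'_mul_apply, hE]
  · intro h; exact ⟨x, h⟩

/-- An isomorphism of `R^n` with the range of `E` gives matrices. -/
theorem mats_of_equiv (E : Matrix (Fin m) (Fin m) R) (hE : E * E = E)
    (e : (Fin n → R) ≃ₗ[R] LinearMap.range (Matrix.toLin' E)) :
    ∃ (a : Matrix (Fin n) (Fin m) R) (b : Matrix (Fin m) (Fin n) R), a * b = 1 ∧ b * a = E := by
  refine ⟨LinearMap.toMatrix' (e.symm.toLinearMap ∘ₗ (Matrix.toLin' E).rangeRestrict),
    LinearMap.toMatrix' ((LinearMap.range (Matrix.toLin' E)).subtype ∘ₗ e.toLinearMap), ?_, ?_⟩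
  · rw [← LinearMap.toMatrix'_comp, ← LinearMap.toMatrix'_id]
    congr 1
    apply LinearMap.ext
    intro v
    show e.symm ((Matrix.toLin' E).rangeRestrict ((e v : LinearMap.range (Matrix.toLin' E)) :
      Fin m → R)) = v
    have h1 : (Matrix.toLin' E).rangeRestrict ((e v : LinearMap.range (Matrix.toLin' E)) :
        Fin m → R) = e v := by
      apply Subtype.ext
      exact (mem_range_iff E hE _).mp (e v).2
    rw [h1, LinearEquiv.symm_apply_apply]
  · rw [← LinearMap.toMatrix'_comp]
    conv_rhs => rw [← LinearMap.toMatrix'_toLin' E]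
    congr 1
    apply LinearMap.ext
    intro v
    show ((e (e.symm ((Matrix.toLin' E).rangeRestrict v)) : LinearMap.range (Matrix.toLin' E)) :
      Fin m → R) = Matrix.toLin' E v
    rw [LinearEquiv.apply_symm_apply]
    rfl

/-- Over a local ring the range of an idempotent matrix is free. -/
theorem mats_of_isLocalRing [IsLocalRing R] (e : Matrix (Fin m) (Fin m) R) (he : e * e = e) :
    ∃ (n : ℕ) (a : Matrix (Fin n) (Fin m) R) (b : Matrix (Fin m) (Fin n) R),
      a * b = 1 ∧ b * a = e := by
  haveI := projective_range e he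
  haveI : Module.Free R (LinearMap.range (Matrix.toLin' e)) := Module.free_of_flat_of_isLocalRing
  let bas := Module.finBasis R (LinearMap.range (Matrix.toLin' e))
  obtain ⟨a, b, h1, h2⟩ := mats_of_equiv e he bas.equivFun.symm
  exact ⟨_, a, b, h1, h2⟩

end IsoToMats

section LocalMatrix

variable {A : Type u} [CommRing A] [IsLocalRing A] {m n : ℕ}

/-- **Local Horrocks**, matrix form. -/
theorem horrocks_local_matrix (E : Matrix (Fin m) (Fin m) A[X]) (hE : E * E = E)
    (h : A[X]) (hh : h.Monic) (k : ℕ)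
    (a₀ : Matrix (Fin n) (Fin m) A[X]) (b₀ : Matrix (Fin m) (Fin n) A[X])
    (hab : a₀ * b₀ = h ^ k • (1 : Matrix (Fin n) (Fin n) A[X])) (hba : b₀ * a₀ = h ^ k • E)
    (hEb : E * b₀ = b₀) :
    ∃ (a : Matrix (Fin n) (Fin m) A[X]) (b : Matrix (Fin m) (Fin n) A[X]),
      a * b = 1 ∧ b * a = E := by
  haveI := projective_range E hE
  let P := LinearMap.range (Matrix.toLin' E)
  let α : P →ₗ[A[X]] (Fin n → A[X]) := Matrix.toLin' a₀ ∘ₗ P.subtype
  let β : (Fin n → A[X]) →ₗ[A[X]] P := LinearMap.codRestrict P (Matrix.toLin' b₀) (fun v => by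
    rw [mem_range_iff E hE, ← Matrix.toLin'_mul_apply, hEb])
  have hαβ : ∀ v, α (β v) = h ^ k • v := by
    intro v
    show Matrix.toLin' a₀ (Matrix.toLin' b₀ v) = h ^ k • v
    rw [← Matrix.toLin'_mul_apply, hab, map_smul, LinearMap.smul_apply, Matrix.toLin'_one,
      LinearMap.id_apply]
  have hβα : ∀ x, β (α x) = h ^ k • x := by
    intro x
    apply Subtype.ext
    show Matrix.toLin' b₀ (Matrix.toLin' a₀ (x : Fin m → A[X])) = h ^ k • (x : Fin m → A[X])
    rw [← Matrix.toLin'_mul_apply, hba, map_smul, LinearMap.smul_apply,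
      (mem_range_iff E hE _).mp x.2]
  obtain ⟨e⟩ := horrocks_local (P := P) h hh n k α β hαβ hβα
  exact mats_of_equiv E hE e

/-- local affine Horrocks, matrix form -/
theorem rel_eval_zero_of_local {m' : ℕ} (E : Matrix (Fin m) (Fin m) A[X]) (hE : E * E = E)
    (e' : Matrix (Fin m') (Fin m') A) (he' : e' * e' = e')
    (h : A[X]) (hh : h.Monic) (k : ℕ)
    (a' : Matrix (Fin m') (Fin m) A[X]) (b' : Matrix (Fin m) (Fin m') A[X])
    (hab : a' * b' = h ^ k • e'.map (C : A →+* A[X])) (hba : b' * a' = h ^ k • E)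
    (hea : e'.map (C : A →+* A[X]) * a' = a') (hEb : E * b' = b') :
    Rel E (E.map ((C : A →+* A[X]).comp (evalRingHom 0))) := by
  obtain ⟨n, a₂, b₂, h1, h2⟩ := mats_of_isLocalRing e' he'
  have h1C : a₂.map (C : A →+* A[X]) * b₂.map (C : A →+* A[X]) = 1 := by
    rw [← Matrix.map_mul, h1]; ext i j; simp [Matrix.one_apply]
  have h2C : b₂.map (C : A →+* A[X]) * a₂.map (C : A →+* A[X]) = e'.map (C : A →+* A[X]) := by
    rw [← Matrix.map_mul, h2]
  obtain ⟨a, b, hab1, hba1⟩ := horrocks_local_matrix E hE h hh k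
    (a₂.map (C : A →+* A[X]) * a') (b' * b₂.map (C : A →+* A[X]))
    (by
      calc a₂.map (C : A →+* A[X]) * a' * (b' * b₂.map (C : A →+* A[X]))
          = a₂.map (C : A →+* A[X]) * (a' * b') * b₂.map (C : A →+* A[X]) := by
            simp only [Matrix.mul_assoc]
        _ = h ^ k • (a₂.map (C : A →+* A[X]) * (b₂.map (C : A →+* A[X]) *
              a₂.map (C : A →+* A[X])) * b₂.map (C : A →+* A[X])) := by
            rw [hab, h2C, Matrix.mul_smul, Matrix.smul_mul]
        _ = h ^ k • 1 := by
            rw [← Matrix.mul_assoc, h1C, Matrix.one_mul, h1C])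
    (by
      calc b' * b₂.map (C : A →+* A[X]) * (a₂.map (C : A →+* A[X]) * a')
          = b' * (b₂.map (C : A →+* A[X]) * a₂.map (C : A →+* A[X])) * a' := by
            simp only [Matrix.mul_assoc]
        _ = b' * a' := by rw [h2C, Matrix.mul_assoc, hea]
        _ = h ^ k • E := hba)
    (by rw [← Matrix.mul_assoc, hEb])
  -- now compare with the constant idempotent
  obtain ⟨κ, hκ⟩ : ∃ κ : A[X] →+* A[X], κ = (C : A →+* A[X]).comp (evalRingHom 0) := ⟨_, rfl⟩
  rw [← hκ]
  have hab0 : a.map κ * b.map κ = 1 := by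
    rw [← Matrix.map_mul, hab1]; ext i j; simp [Matrix.one_apply]
  have hba0 : b.map κ * a.map κ = E.map κ := by
    rw [← Matrix.map_mul, hba1]
  refine ⟨b.map κ * a, b * a.map κ, ?_, ?_, ?_, ?_⟩
  · calc b.map κ * a * (b * a.map κ) = b.map κ * (a * b) * a.map κ := by
          simp only [Matrix.mul_assoc]
      _ = E.map κ := by rw [hab1, Matrix.mul_one, hba0]
  · calc b * a.map κ * (b.map κ * a) = b * (a.map κ * b.map κ) * a := by
          simp only [Matrix.mul_assoc]
      _ = E := by rw [hab0, Matrix.mul_one, hba1]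
  · calc E.map κ * (b.map κ * a) = b.map κ * (a.map κ * b.map κ) * a := by
          rw [← hba0]; simp only [Matrix.mul_assoc]
      _ = b.map κ * a := by rw [hab0, Matrix.mul_one]
  · calc E * (b * a.map κ) = b * (a * b) * a.map κ := by
          rw [← hba1]; simp only [Matrix.mul_assoc]
      _ = b * a.map κ := by rw [hab1, Matrix.mul_one]

end LocalMatrix

section Global

variable {A : Type u} [CommRing A] {m m' : ℕ}

/-- **Affine Horrocks** (Quillen), matrix form: an idempotent matrix over `A[X]` which becomes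
equivalent to a constant idempotent after inverting a monic polynomial is equivalent to its value
at `0`. -/
theorem rel_eval_zero (E : Matrix (Fin m) (Fin m) A[X]) (hE : E * E = E)
    (e' : Matrix (Fin m') (Fin m') A) (he' : e' * e' = e')
    (h : A[X]) (hh : h.Monic) (k : ℕ)
    (a' : Matrix (Fin m') (Fin m) A[X]) (b' : Matrix (Fin m) (Fin m') A[X])
    (hab : a' * b' = h ^ k • e'.map (C : A →+* A[X])) (hba : b' * a' = h ^ k • E)
    (hea : e'.map (C : A →+* A[X]) * a' = a') (hEb : E * b' = b') :
    Rel E (E.map ((C : A →+* A[X]).comp (evalRingHom 0))) := by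
  have hQ : Q E hE = ⊤ := by
    by_contra hne
    obtain ⟨𝔪, h𝔪, hle⟩ := Ideal.exists_le_maximal _ hne
    haveI := h𝔪
    obtain ⟨φ, hφ⟩ : ∃ φ : A →+* Localization.AtPrime 𝔪,
      φ = algebraMap A (Localization.AtPrime 𝔪) := ⟨_, rfl⟩
    have hCφ : (mapRingHom φ).comp (C : A →+* A[X]) =
        (C : Localization.AtPrime 𝔪 →+* (Localization.AtPrime 𝔪)[X]).comp φ := by
      ext a; simp
    have key : Rel (E.map (mapRingHom φ)) ((E.map (mapRingHom φ)).map
        ((C : Localization.AtPrime 𝔪 →+* (Localization.AtPrime 𝔪)[X]).comp (evalRingHom 0))) := by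
      refine rel_eval_zero_of_local (E.map (mapRingHom φ)) (by rw [← Matrix.map_mul, hE])
        (e'.map φ) (by rw [← Matrix.map_mul, he']) (h.map φ) (hh.map φ) k
        (a'.map (mapRingHom φ)) (b'.map (mapRingHom φ)) ?_ ?_ ?_ ?_
      · rw [← Matrix.map_mul, hab, msmul, mcomp, hCφ, ← mcomp]
        simp
      · rw [← Matrix.map_mul, hba, msmul]
        simp
      · rw [mcomp, ← hCφ, ← mcomp, ← Matrix.map_mul, hea]
      · rw [← Matrix.map_mul, hEb]
    rw [hφ] at key
    obtain ⟨s, hs, hsQ⟩ := exists_mem_Q_of_rel_localization 𝔪.primeCompl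
      (Localization.AtPrime 𝔪) E hE key
    exact hs (hle hsQ)
  have h1 : (1 : A) ∈ Q E hE := by rw [hQ]; exact Submodule.mem_top
  exact (rel_of_one_mem_Q h1).symm

end Global

end Groth.Agent.H13.Horrocks
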