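import Mathlib
import Groth.Agent.H13.HorrocksAffine

/-!
# Horrocks: extended iff extends to the projective line (plumbing)
-/

set_option autoImplicit false
set_option linter.unusedSectionVars false
set_option linter.unusedVariables false
set_option linter.style.haveILetI false

universe u

open Polynomial LaurentPolynomial TensorProduct

namespace Groth.Agent.H13.Horrocks

section Split

variable {R : Type*} [CommRing R]

theorem mat_ext' {k l : ℕ} (M N : Matrix (Fin k) (Fin l) R)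
    (h : ∀ x, M.mulVec x = N.mulVec x) : M = N := by
  apply Matrix.toLin'.injective
  apply LinearMap.ext
  intro x
  rw [Matrix.toLin'_apply, Matrix.toLin'_apply]
  exact h x

theorem smul_mul_smul' {k l n : ℕ} (s t : R) (M : Matrix (Fin k) (Fin l) R)
    (N : Matrix (Fin l) (Fin n) R) : (s • M) * (t • N) = (s * t) • (M * N) := by
  rw [Matrix.smul_mul, Matrix.mul_smul, smul_smul]

variable {M M' : Type*} [AddCommGroup M] [Module R M] [AddCommGroup M'] [Module R M'] {m m' : ℕ}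

theorem idem_of_split (i : M →ₗ[R] (Fin m → R)) (p : (Fin m → R) →ₗ[R] M)
    (hpi : p ∘ₗ i = LinearMap.id) (E : Matrix (Fin m) (Fin m) R)
    (hE : Matrix.toLin' E = i ∘ₗ p) : E * E = E := by
  apply Matrix.toLin'.injective
  rw [Matrix.toLin'_mul, hE]
  apply LinearMap.ext
  intro x
  show i (p (i (p x))) = i (p x)
  rw [show p (i (p x)) = p x from LinearMap.congr_fun hpi (p x)]

theorem equiv_of_rel (i : M →ₗ[R] (Fin m → R)) (p : (Fin m → R) →ₗ[R] M)
    (hpi : p ∘ₗ i = LinearMap.id)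
    (i' : M' →ₗ[R] (Fin m' → R)) (p' : (Fin m' → R) →ₗ[R] M') (hpi' : p' ∘ₗ i' = LinearMap.id)
    (E : Matrix (Fin m) (Fin m) R) (E' : Matrix (Fin m') (Fin m') R)
    (hE : Matrix.toLin' E = i ∘ₗ p) (hE' : Matrix.toLin' E' = i' ∘ₗ p')
    (h : Rel E E') : Nonempty (M ≃ₗ[R] M') := by
  obtain ⟨a, b, hab, hba, ha, hb⟩ := h
  have hpia : ∀ x, p (i x) = x := fun x => LinearMap.congr_fun hpi x
  have hpia' : ∀ x, p' (i' x) = x := fun x => LinearMap.congr_fun hpi' x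
  have hEa : ∀ v, i (p v) = Matrix.toLin' E v := fun v => by rw [hE]; rfl
  have hEa' : ∀ v, i' (p' v) = Matrix.toLin' E' v := fun v => by rw [hE']; rfl
  refine ⟨LinearEquiv.ofLinear (p' ∘ₗ Matrix.toLin' a ∘ₗ i) (p ∘ₗ Matrix.toLin' b ∘ₗ i') ?_ ?_⟩
  · apply LinearMap.ext
    intro x
    show p' (Matrix.toLin' a (i (p (Matrix.toLin' b (i' x))))) = x
    have h1 : Matrix.toLin' a (Matrix.toLin' E (Matrix.toLin' b (i' x))) =
        Matrix.toLin' E' (i' x) := by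
      rw [← Matrix.toLin'_mul_apply E b, hb, ← Matrix.toLin'_mul_apply a b, hab]
    rw [hEa, h1, ← hEa', hpia', hpia']
  · apply LinearMap.ext
    intro x
    show p (Matrix.toLin' b (i' (p' (Matrix.toLin' a (i x))))) = x
    have h1 : Matrix.toLin' b (Matrix.toLin' E' (Matrix.toLin' a (i x))) =
        Matrix.toLin' E (i x) := by
      rw [← Matrix.toLin'_mul_apply E' a, ha, ← Matrix.toLin'_mul_apply b a, hba]
    rw [hEa', h1, ← hEa, hpia, hpia]

theorem rel_of_equiv (i : M →ₗ[R] (Fin m → R)) (p : (Fin m → R) →ₗ[R] M)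
    (hpi : p ∘ₗ i = LinearMap.id)
    (i' : M' →ₗ[R] (Fin m' → R)) (p' : (Fin m' → R) →ₗ[R] M') (hpi' : p' ∘ₗ i' = LinearMap.id)
    (E : Matrix (Fin m) (Fin m) R) (E' : Matrix (Fin m') (Fin m') R)
    (hE : Matrix.toLin' E = i ∘ₗ p) (hE' : Matrix.toLin' E' = i' ∘ₗ p')
    (f : M ≃ₗ[R] M') : Rel E E' := by
  have hpia : ∀ x, p (i x) = x := fun x => LinearMap.congr_fun hpi x
  have hpia' : ∀ x, p' (i' x) = x := fun x => LinearMap.congr_fun hpi' x
  refine ⟨LinearMap.toMatrix' (i' ∘ₗ f.toLinearMap ∘ₗ p),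
    LinearMap.toMatrix' (i ∘ₗ f.symm.toLinearMap ∘ₗ p'), ?_, ?_, ?_, ?_⟩
  · apply Matrix.toLin'.injective
    rw [Matrix.toLin'_mul, Matrix.toLin'_toMatrix', Matrix.toLin'_toMatrix', hE']
    apply LinearMap.ext
    intro x
    show i' (f (p (i (f.symm (p' x))))) = i' (p' x)
    rw [hpia, f.apply_symm_apply]
  · apply Matrix.toLin'.injective
    rw [Matrix.toLin'_mul, Matrix.toLin'_toMatrix', Matrix.toLin'_toMatrix', hE]
    apply LinearMap.ext
    intro x
    show i (f.symm (p' (i' (f (p x))))) = i (p x)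
    rw [hpia', f.symm_apply_apply]
  · apply Matrix.toLin'.injective
    rw [Matrix.toLin'_mul, Matrix.toLin'_toMatrix', hE']
    apply LinearMap.ext
    intro x
    show i' (p' (i' (f (p x)))) = i' (f (p x))
    rw [hpia']
  · apply Matrix.toLin'.injective
    rw [Matrix.toLin'_mul, Matrix.toLin'_toMatrix', hE]
    apply LinearMap.ext
    intro x
    show i (p (i (f.symm (p' x)))) = i (f.symm (p' x))
    rw [hpia]

theorem baseChange_split {R' : Type*} [CommRing R'] [Algebra R R']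
    (i : M →ₗ[R] (Fin m → R)) (p : (Fin m → R) →ₗ[R] M) (hpi : p ∘ₗ i = LinearMap.id)
    (E : Matrix (Fin m) (Fin m) R) (hE : Matrix.toLin' E = i ∘ₗ p) :
    ∃ (i' : R' ⊗[R] M →ₗ[R'] (Fin m → R')) (p' : (Fin m → R') →ₗ[R'] R' ⊗[R] M),
      p' ∘ₗ i' = LinearMap.id ∧ Matrix.toLin' (E.map (algebraMap R R')) = i' ∘ₗ p' := by
  classical
  obtain ⟨π, hπ⟩ : ∃ π : R' ⊗[R] (Fin m → R) ≃ₗ[R'] (Fin m → R'),
      π = TensorProduct.piScalarRight R R' R' (Fin m) := ⟨_, rfl⟩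
  have h1 : ∀ y, (p.baseChange R') ((i.baseChange R') y) = y := by
    intro y
    have := LinearMap.congr_fun (LinearMap.baseChange_comp (A := R') i p) y
    rw [hpi, LinearMap.baseChange_id] at this
    exact this.symm
  refine ⟨π.toLinearMap ∘ₗ i.baseChange R', p.baseChange R' ∘ₗ π.symm.toLinearMap, ?_, ?_⟩
  · apply LinearMap.ext
    intro x
    show (p.baseChange R') (π.symm (π ((i.baseChange R') x))) = x
    rw [LinearEquiv.symm_apply_apply, h1]
  · apply (Pi.basisFun R' (Fin m)).ext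
    intro j
    rw [Pi.basisFun_apply]
    show Matrix.toLin' (E.map (algebraMap R R')) (Pi.single j 1) =
      π ((i.baseChange R') ((p.baseChange R') (π.symm (Pi.single j 1))))
    rw [hπ, TensorProduct.piScalarRight_symm_single, LinearMap.baseChange_tmul,
      LinearMap.baseChange_tmul, TensorProduct.piScalarRight_apply,
      TensorProduct.piScalarRightHom_tmul]
    have h2 : i (p (Pi.single j 1)) = Matrix.toLin' E (Pi.single j 1) := by rw [hE]; rfl
    rw [h2, Matrix.toLin'_apply, Matrix.toLin'_apply, Matrix.mulVec_single_one,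
      Matrix.mulVec_single_one]
    ext k
    simp [Algebra.smul_def]

end Split

section Semilinear

variable {L : Type*} [CommRing L]

/-- entrywise conjugation of a vector -/
def conj (ι : L → L) {k : ℕ} (z : Fin k → L) : Fin k → L := fun j => ι (z j)

theorem conj_conj (ι : L → L) (hι : ∀ a, ι (ι a) = a) {k : ℕ} (z : Fin k → L) :
    conj ι (conj ι z) = z := by
  funext j; exact hι _

theorem conj_add (ι : L →+* L) {k : ℕ} (z z' : Fin k → L) :
    conj ι (z + z') = conj ι z + conj ι z' := by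
  funext j; simp [conj]

theorem conj_smul (ι : L →+* L) {k : ℕ} (a : L) (z : Fin k → L) :
    conj ι (a • z) = ι a • conj ι z := by
  funext j; simp [conj]

theorem conj_mulVec (ι : L →+* L) (hι : ∀ a, ι (ι a) = a) {k l : ℕ}
    (N : Matrix (Fin k) (Fin l) L) (x : Fin l → L) :
    (N.map ι).mulVec x = conj ι (N.mulVec (conj ι x)) := by
  funext i
  simp only [conj, Matrix.mulVec, dotProduct, Matrix.map_apply, map_sum, map_mul, hι]

theorem rel_of_semilinear (ι : L →+* L) (hι : ∀ a, ι (ι a) = a)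
    {V W : Type*} [AddCommGroup V] [Module L V] [AddCommGroup W] [Module L W] {m m' : ℕ}
    (iV : V →ₗ[L] (Fin m → L)) (pV : (Fin m → L) →ₗ[L] V) (hV : pV ∘ₗ iV = LinearMap.id)
    (iW : W →ₗ[L] (Fin m' → L)) (pW : (Fin m' → L) →ₗ[L] W) (hW : pW ∘ₗ iW = LinearMap.id)
    (EV : Matrix (Fin m) (Fin m) L) (EW : Matrix (Fin m') (Fin m') L)
    (hEV : Matrix.toLin' EV = iV ∘ₗ pV) (hEW : Matrix.toLin' EW = iW ∘ₗ pW)
    (e : V →ₛₗ[ι] W) (he : Function.Bijective e) :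
    Rel EV (EW.map ι) := by
  classical
  obtain ⟨e', he'l, he'r⟩ := Function.bijective_iff_has_inverse.mp he
  have he'l' : ∀ v, e' (e v) = v := he'l
  have he'r' : ∀ w, e (e' w) = w := he'r
  have he'_add : ∀ w w', e' (w + w') = e' w + e' w' := by
    intro w w'; apply he.1; rw [map_add, he'r', he'r', he'r']
  have he'_smul : ∀ (a : L) w, e' (a • w) = ι a • e' w := by
    intro a w; apply he.1; rw [he'r', map_smulₛₗ, hι, he'r']
  have hVa : ∀ x, pV (iV x) = x := fun x => LinearMap.congr_fun hV x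
  have hWa : ∀ x, pW (iW x) = x := fun x => LinearMap.congr_fun hW x
  have hEVa : ∀ x, EV.mulVec x = iV (pV x) := by
    intro x; rw [← Matrix.toLin'_apply, hEV]; rfl
  have hEWa : ∀ x, EW.mulVec x = iW (pW x) := by
    intro x; rw [← Matrix.toLin'_apply, hEW]; rfl
  obtain ⟨U, hU⟩ : ∃ U : (Fin m → L) →ₗ[L] (Fin m' → L), ∀ z, U z = iW (e (pV (conj ι z))) := by
    refine ⟨{ toFun := fun z => iW (e (pV (conj ι z))), map_add' := ?_, map_smul' := ?_ },
      fun z => rfl⟩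
    · intro z z'
      show iW (e (pV (conj ι (z + z')))) = iW (e (pV (conj ι z))) + iW (e (pV (conj ι z')))
      rw [conj_add, map_add, map_add, map_add]
    · intro a z
      show iW (e (pV (conj ι (a • z)))) = a • iW (e (pV (conj ι z)))
      rw [conj_smul, map_smul, map_smulₛₗ, hι, map_smul]
  obtain ⟨V', hV'⟩ : ∃ V' : (Fin m' → L) →ₗ[L] (Fin m → L),
      ∀ y, V' y = iV (e' (pW (conj ι y))) := by
    refine ⟨{ toFun := fun y => iV (e' (pW (conj ι y))), map_add' := ?_, map_smul' := ?_ },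
      fun z => rfl⟩
    · intro z z'
      show iV (e' (pW (conj ι (z + z')))) = iV (e' (pW (conj ι z))) + iV (e' (pW (conj ι z')))
      rw [conj_add, map_add, he'_add, map_add]
    · intro a z
      show iV (e' (pW (conj ι (a • z)))) = a • iV (e' (pW (conj ι z)))
      rw [conj_smul, map_smul, he'_smul, hι, map_smul]
  have hu : ∀ z, (LinearMap.toMatrix' U).mulVec z = iW (e (pV (conj ι z))) := by
    intro z; rw [← Matrix.toLin'_apply, Matrix.toLin'_toMatrix', hU]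
  have hv : ∀ y, (LinearMap.toMatrix' V').mulVec y = iV (e' (pW (conj ι y))) := by
    intro y; rw [← Matrix.toLin'_apply, Matrix.toLin'_toMatrix', hV']
  have hu' : ∀ x, ((LinearMap.toMatrix' U).map ι).mulVec x = conj ι (iW (e (pV x))) := by
    intro x; rw [conj_mulVec ι hι, hu, conj_conj ι hι]
  refine ⟨(LinearMap.toMatrix' U).map ι, LinearMap.toMatrix' V', ?_, ?_, ?_, ?_⟩
  · apply mat_ext'; intro y
    rw [← Matrix.mulVec_mulVec, hv, hu', hVa, he'r', conj_mulVec ι hι, hEWa]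
  · apply mat_ext'; intro x
    rw [← Matrix.mulVec_mulVec, hu', hv, conj_conj ι hι, hWa, he'l', hEVa]
  · apply mat_ext'; intro x
    rw [← Matrix.mulVec_mulVec, hu', conj_mulVec ι hι, conj_conj ι hι, hEWa, hWa]
  · apply mat_ext'; intro y
    rw [← Matrix.mulVec_mulVec, hv, hEVa, hVa]

end Semilinear

section LemmaJ

theorem lemmaJ_alg {R S : Type*} [CommRing R] [Ring S] [Algebra R S] (P Q Zs Ws : S) (g₁ g₂ : R)
    (hP : P * P = P) (hQ : Q * Q = Q)
    (hZ : (Q * P * Q + (1 - Q)) * Zs = g₁ • (1 : S))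
    (hW : Ws * (P * Q * P + (1 - P)) = g₂ • (1 : S)) :
    ∃ d : S, (Q * P) * d = (g₁ * g₂) • Q ∧ d * (Q * P) = (g₁ * g₂) • P ∧ P * d = d := by
  have hQZ : Q * (Q * P * Q + (1 - Q)) = Q * P * Q := by
    rw [mul_add, mul_sub, mul_one, hQ, sub_self, add_zero, ← mul_assoc, ← mul_assoc, hQ]
  have hWP : (P * Q * P + (1 - P)) * P = P * Q * P := by
    rw [add_mul, sub_mul, one_mul, hP, sub_self, add_zero, mul_assoc, hP]
  obtain ⟨Z, hZdef⟩ : ∃ Z, Z = Q * P * Q + (1 - Q) := ⟨_, rfl⟩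
  obtain ⟨W, hWdef⟩ : ∃ W, W = P * Q * P + (1 - P) := ⟨_, rfl⟩
  rw [← hZdef] at hZ hQZ
  rw [← hWdef] at hW hWP
  obtain ⟨d₂, hd₂⟩ : ∃ d₂, d₂ = P * Q * Zs * Q := ⟨_, rfl⟩
  obtain ⟨d₃, hd₃⟩ : ∃ d₃, d₃ = P * Ws * P * Q := ⟨_, rfl⟩
  have h1 : (Q * P) * d₂ = g₁ • Q := by
    calc (Q * P) * d₂ = Q * (P * P) * Q * Zs * Q := by rw [hd₂]; simp only [mul_assoc]
      _ = (Q * P * Q) * Zs * Q := by rw [hP]
      _ = (Q * Z) * Zs * Q := by rw [hQZ]
      _ = Q * (Z * Zs) * Q := by simp only [mul_assoc]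
      _ = g₁ • Q := by rw [hZ, mul_smul_comm, mul_one, smul_mul_assoc, hQ]
  have h2 : d₃ * (Q * P) = g₂ • P := by
    calc d₃ * (Q * P) = P * Ws * (P * (Q * Q) * P) := by rw [hd₃]; simp only [mul_assoc]
      _ = P * Ws * (P * Q * P) := by rw [hQ]
      _ = P * Ws * (W * P) := by rw [hWP]
      _ = P * (Ws * W) * P := by simp only [mul_assoc]
      _ = g₂ • P := by rw [hW, mul_smul_comm, mul_one, smul_mul_assoc, hP]
  have hPd₂ : P * d₂ = d₂ := by
    rw [hd₂]; simp only [← mul_assoc]; rw [hP]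
  have hd₃Q : d₃ * Q = d₃ := by
    rw [hd₃]; simp only [mul_assoc]; rw [hQ]
  have h3 : g₂ • d₂ = g₁ • d₃ := by
    calc g₂ • d₂ = (g₂ • P) * d₂ := by rw [smul_mul_assoc, hPd₂]
      _ = d₃ * ((Q * P) * d₂) := by rw [← h2, mul_assoc]
      _ = g₁ • d₃ := by rw [h1, mul_smul_comm, hd₃Q]
  refine ⟨g₂ • d₂, ?_, ?_, ?_⟩
  · rw [mul_smul_comm, h1, smul_smul, mul_comm]
  · rw [h3, smul_mul_assoc, h2, smul_smul]
  · rw [mul_smul_comm, hPd₂]

theorem lemmaJ {A : Type*} [CommRing A] {n : ℕ} (F : Matrix (Fin n) (Fin n) A[X])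
    (hF : F * F = F) :
    ∃ (G : A[X]) (d : Matrix (Fin n) (Fin n) A[X]), G.coeff 0 = 1 ∧
      (F.map ((Polynomial.C : A →+* A[X]).comp (evalRingHom 0)) * F) * d =
        G • F.map ((Polynomial.C : A →+* A[X]).comp (evalRingHom 0)) ∧
      d * (F.map ((Polynomial.C : A →+* A[X]).comp (evalRingHom 0)) * F) = G • F ∧ F * d = d := by
  classical
  obtain ⟨φ, hφ⟩ : ∃ φ : A[X] →+* A[X], φ = (Polynomial.C : A →+* A[X]).comp (evalRingHom 0) := ⟨_, rfl⟩
  rw [← hφ]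
  have hφφ : ∀ x, φ (φ x) = φ x := by intro x; rw [hφ]; simp
  obtain ⟨Q, hQdef⟩ : ∃ Q, Q = F.map φ := ⟨_, rfl⟩
  rw [← hQdef]
  have hQ : Q * Q = Q := by rw [hQdef, ← Matrix.map_mul, hF]
  have hmF : φ.mapMatrix F = Q := by rw [hQdef]; rfl
  have hmQ : φ.mapMatrix Q = Q := by rw [hQdef]; ext i j; simp [hφφ]
  have hdet : ∀ Z : Matrix (Fin n) (Fin n) A[X], φ.mapMatrix Z = 1 → Z.det.coeff 0 = 1 := by
    intro Z hZ
    have h1 : φ Z.det = 1 := by rw [RingHom.map_det, hZ, Matrix.det_one]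
    rw [hφ] at h1
    have h2 : (Polynomial.C : A →+* A[X]) (eval 0 Z.det) = Polynomial.C 1 := by simpa using h1
    rw [coeff_zero_eq_eval_zero]
    exact Polynomial.C_injective h2
  have hZ1 : φ.mapMatrix (Q * F * Q + (1 - Q)) = 1 := by
    rw [map_add, map_sub, map_mul, map_mul, map_one, hmQ, hmF, hQ, hQ, add_sub_cancel]
  have hW1 : φ.mapMatrix (F * Q * F + (1 - F)) = 1 := by
    rw [map_add, map_sub, map_mul, map_mul, map_one, hmQ, hmF, hQ, hQ, add_sub_cancel]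
  obtain ⟨d, h1, h2, h3⟩ := lemmaJ_alg (R := A[X]) F Q (Matrix.adjugate (Q * F * Q + (1 - Q)))
    (Matrix.adjugate (F * Q * F + (1 - F))) (Matrix.det (Q * F * Q + (1 - Q)))
    (Matrix.det (F * Q * F + (1 - F))) hF hQ (Matrix.mul_adjugate _) (Matrix.adjugate_mul _)
  refine ⟨_, d, ?_, h1, h2, h3⟩
  rw [mul_coeff_zero, hdet _ hZ1, hdet _ hW1, one_mul]

theorem reverse_monic_of_coeff_zero {A : Type*} [CommRing A] (G : A[X]) (hG : G.coeff 0 = 1) :
    G.reverse.Monic := by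
  rcases subsingleton_or_nontrivial A with h | h
  · exact Subsingleton.elim _ _
  · have h0 : G.coeff 0 ≠ 0 := by rw [hG]; exact one_ne_zero
    show G.reverse.leadingCoeff = 1
    rw [reverse_leadingCoeff, trailingCoeff_eq_coeff_zero h0, hG]

theorem exists_T_smul {A : Type*} [CommRing A] {k l : ℕ}
    (a : Matrix (Fin k) (Fin l) A[T;T⁻¹]) :
    ∃ (N : ℕ) (atl : Matrix (Fin k) (Fin l) A[X]),
      atl.map (toLaurent : A[X] →+* A[T;T⁻¹]) = (T (N : ℤ) : A[T;T⁻¹]) • a := by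
  classical
  choose n f hf using fun i j => LaurentPolynomial.exists_T_pow (a i j)
  obtain ⟨N, hNdef⟩ : ∃ N, N = Finset.univ.sup (fun p : Fin k × Fin l => n p.1 p.2) := ⟨_, rfl⟩
  have hN : ∀ i j, n i j ≤ N := fun i j => by
    rw [hNdef]
    exact Finset.le_sup (f := fun p : Fin k × Fin l => n p.1 p.2) (Finset.mem_univ (i, j))
  refine ⟨N, Matrix.of fun i j => X ^ (N - n i j) * f i j, ?_⟩
  ext i j
  simp only [Matrix.map_apply, Matrix.of_apply, Matrix.smul_apply, smul_eq_mul, map_mul, hf,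
    Polynomial.toLaurent_X_pow]
  have hcast : ((N - n i j : ℕ) : ℤ) + (n i j : ℤ) = (N : ℤ) := by
    have := hN i j
    omega
  rw [mul_comm (a i j), ← mul_assoc, ← LaurentPolynomial.T_add, hcast]

end LemmaJ

section Main

variable {A : Type u} [CommRing A]

/-- the core: a f.g. projective `A[X]`-module which extends to `ℙ¹` is given by an idempotent
matrix equivalent to its value at `0`. -/
theorem core_of_P1 {M N : Type u} [AddCommGroup M] [Module A[X] M]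
    [Module.Finite A[X] M] [Module.Projective A[X] M] [AddCommGroup N] [Module A[X] N]
    [Module.Finite A[X] N] [Module.Projective A[X] N]
    (e : (A[T;T⁻¹] ⊗[A[X]] M) →ₛₗ[(LaurentPolynomial.invert (R := A)).toRingEquiv.toRingHom]
      (A[T;T⁻¹] ⊗[A[X]] N)) (he : Function.Bijective e) :
    ∃ (m : ℕ) (i : M →ₗ[A[X]] (Fin m → A[X])) (p : (Fin m → A[X]) →ₗ[A[X]] M)
      (E : Matrix (Fin m) (Fin m) A[X]), p ∘ₗ i = LinearMap.id ∧ Matrix.toLin' E = i ∘ₗ p ∧
        Rel E (E.map ((Polynomial.C : A →+* A[X]).comp (evalRingHom 0))) := by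
  classical
  obtain ⟨m, pM, iM, -, -, hM⟩ := Module.Finite.exists_comp_eq_id_of_projective A[X] M
  obtain ⟨m', pN, iN, -, -, hN⟩ := Module.Finite.exists_comp_eq_id_of_projective A[X] N
  obtain ⟨EM, hEMdef⟩ : ∃ EM, EM = LinearMap.toMatrix' (iM ∘ₗ pM) := ⟨_, rfl⟩
  obtain ⟨EN, hENdef⟩ : ∃ EN, EN = LinearMap.toMatrix' (iN ∘ₗ pN) := ⟨_, rfl⟩
  have hEM : Matrix.toLin' EM = iM ∘ₗ pM := by rw [hEMdef, Matrix.toLin'_toMatrix']
  have hEN : Matrix.toLin' EN = iN ∘ₗ pN := by rw [hENdef, Matrix.toLin'_toMatrix']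
  have hEMid : EM * EM = EM := idem_of_split iM pM hM EM hEM
  have hENid : EN * EN = EN := idem_of_split iN pN hN EN hEN
  refine ⟨m, iM, pM, EM, hM, hEM, ?_⟩
  -- base change to the Laurent polynomial ring
  obtain ⟨iM', pM', hM', hEM'⟩ := baseChange_split (R' := A[T;T⁻¹]) iM pM hM EM hEM
  obtain ⟨iN', pN', hN', hEN'⟩ := baseChange_split (R' := A[T;T⁻¹]) iN pN hN EN hEN
  obtain ⟨ι, hιdef⟩ : ∃ ι : A[T;T⁻¹] →+* A[T;T⁻¹],
      ι = (LaurentPolynomial.invert (R := A)).toRingEquiv.toRingHom := ⟨_, rfl⟩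
  have hι_apply : ∀ a, ι a = invert a := by intro a; rw [hιdef]; rfl
  have hι : ∀ a, ι (ι a) = a := by
    intro a; rw [hι_apply, hι_apply]; exact involutive_invert a
  obtain ⟨τ, hτdef⟩ : ∃ τ : A[X] →+* A[T;T⁻¹], τ = algebraMap A[X] A[T;T⁻¹] := ⟨_, rfl⟩
  have hτ_apply : ∀ f, τ f = toLaurent f := by intro f; rw [hτdef]; rfl
  have hτinj : Function.Injective τ := by
    intro x y hxy
    rw [hτ_apply, hτ_apply] at hxy
    exact Polynomial.toLaurent_injective hxy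
  have hrel : Rel (EM.map τ) ((EN.map τ).map ι) := by
    subst hιdef hτdef
    exact rel_of_semilinear _ hι iM' pM' hM' iN' pN' hN' _ _ hEM' hEN' e he
  obtain ⟨a, b, hab, hba, ha, hb⟩ := hrel
  obtain ⟨G, d, hG0, hcd, hdc, hFd⟩ := lemmaJ EN hENid
  obtain ⟨φ, hφdef⟩ : ∃ φ : A[X] →+* A[X], φ = (Polynomial.C : A →+* A[X]).comp (evalRingHom 0) :=
    ⟨_, rfl⟩
  rw [← hφdef] at hcd hdc
  obtain ⟨ψ, hψdef⟩ : ∃ ψ : A[X] →+* A[T;T⁻¹], ψ = ι.comp τ := ⟨_, rfl⟩
  have hF' : (EN.map τ).map ι = EN.map ψ := by rw [hψdef, mcomp]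
  rw [hF'] at hab ha
  have hF0' : (EN.map φ).map ψ = (EN.map φ).map τ := by
    ext i j
    simp only [Matrix.map_apply, hψdef, hφdef, RingHom.comp_apply, hι_apply, hτ_apply,
      coe_evalRingHom, Polynomial.toLaurent_C, invert_C]
  obtain ⟨F0', hF0'def⟩ : ∃ F0', F0' = (EN.map φ).map τ := ⟨_, rfl⟩
  obtain ⟨F', hF'def⟩ : ∃ F', F' = EN.map ψ := ⟨_, rfl⟩
  obtain ⟨d', hd'def⟩ : ∃ d', d' = d.map ψ := ⟨_, rfl⟩
  obtain ⟨Eb, hEbdef⟩ : ∃ Eb, Eb = EM.map τ := ⟨_, rfl⟩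
  have hcd' : (F0' * F') * d' = ψ G • F0' := by
    rw [hF0'def, ← hF0', hF'def, hd'def, ← Matrix.map_mul, ← Matrix.map_mul, hcd, msmul]
  have hdc' : d' * (F0' * F') = ψ G • F' := by
    rw [hF0'def, ← hF0', hF'def, hd'def, ← Matrix.map_mul, ← Matrix.map_mul, hdc, msmul]
  have hFd' : F' * d' = d' := by rw [hF'def, hd'def, ← Matrix.map_mul, hFd]
  have hF0'id : F0' * F0' = F0' := by
    rw [hF0'def, ← Matrix.map_mul, ← Matrix.map_mul, hENid]
  rw [← hF'def] at hab ha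
  rw [← hEbdef] at hba hb
  -- a₂, b₂
  obtain ⟨a₂, ha₂def⟩ : ∃ a₂, a₂ = F0' * F' * a := ⟨_, rfl⟩
  obtain ⟨b₂, hb₂def⟩ : ∃ b₂, b₂ = b * d' := ⟨_, rfl⟩
  have H1 : a₂ * b₂ = ψ G • F0' := by
    calc a₂ * b₂ = F0' * F' * (a * b) * d' := by
          rw [ha₂def, hb₂def]; simp only [Matrix.mul_assoc]
      _ = F0' * F' * (F' * d') := by rw [hab]; simp only [Matrix.mul_assoc]
      _ = ψ G • F0' := by rw [hFd', hcd']
  have H2 : b₂ * a₂ = ψ G • Eb := by
    calc b₂ * a₂ = b * (d' * (F0' * F')) * a := by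
          rw [ha₂def, hb₂def]; simp only [Matrix.mul_assoc]
      _ = ψ G • (b * (F' * a)) := by
          rw [hdc', Matrix.mul_smul, Matrix.smul_mul, Matrix.mul_assoc]
      _ = ψ G • Eb := by rw [ha, hba]
  have H3 : F0' * a₂ = a₂ := by
    rw [ha₂def, ← Matrix.mul_assoc, ← Matrix.mul_assoc, hF0'id]
  have H4 : Eb * b₂ = b₂ := by
    rw [hb₂def, ← Matrix.mul_assoc, hb]
  -- clear denominators
  obtain ⟨N₁, atl, hat⟩ := exists_T_smul a₂
  obtain ⟨N₂, bt, hbt⟩ := exists_T_smul b₂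
  obtain ⟨n, hndef⟩ : ∃ n, n = G.natDegree := ⟨_, rfl⟩
  obtain ⟨h, hhdef⟩ : ∃ h : A[X], h = X ^ (N₁ + N₂) * G.reverse := ⟨_, rfl⟩
  have hh : h.Monic := by
    rw [hhdef]; exact (monic_X_pow _).mul (reverse_monic_of_coeff_zero G hG0)
  have hτmap : ∀ {k l : ℕ} (x : Matrix (Fin k) (Fin l) A[X]),
      x.map (toLaurent : A[X] →+* A[T;T⁻¹]) = x.map τ := by
    intro k l x; ext i j; simp only [Matrix.map_apply, hτ_apply]
  rw [hτmap] at hat hbt
  obtain ⟨sa, hsadef⟩ : ∃ sa : A[T;T⁻¹], sa = T (n : ℤ) * T (N₁ : ℤ) := ⟨_, rfl⟩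
  obtain ⟨sb, hsbdef⟩ : ∃ sb : A[T;T⁻¹], sb = T (N₂ : ℤ) := ⟨_, rfl⟩
  obtain ⟨a', ha'def⟩ : ∃ a' : Matrix (Fin m') (Fin m) A[X], a' = (X ^ n : A[X]) • atl := ⟨_, rfl⟩
  have ha'τ : a'.map τ = sa • a₂ := by
    rw [ha'def, msmul, hat, smul_smul, hτ_apply, Polynomial.toLaurent_X_pow, hsadef]
  have hb'τ : bt.map τ = sb • b₂ := by rw [hbt, hsbdef]
  have hτh : τ h = sa * sb * ψ G := by
    rw [hhdef, map_mul, hτ_apply, hτ_apply, Polynomial.toLaurent_X_pow, toLaurent_reverse,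
      hsadef, hsbdef, hψdef, RingHom.comp_apply, hι_apply, hτ_apply, ← hndef, Nat.cast_add,
      T_add]
    ring
  have he0 : (EN.map (evalRingHom 0)) * (EN.map (evalRingHom 0)) = EN.map (evalRingHom 0) := by
    rw [← Matrix.map_mul, hENid]
  have hF0c : ((EN.map (evalRingHom 0)).map (Polynomial.C : A →+* A[X])).map τ = F0' := by
    rw [hF0'def, hφdef, mcomp, mcomp, mcomp, RingHom.comp_assoc]
  refine rel_eval_zero EM hEMid (EN.map (evalRingHom 0)) he0 h hh 1 a' bt ?_ ?_ ?_ ?_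
  · apply Matrix.map_injective hτinj
    show (a' * bt).map τ = (h ^ 1 • (EN.map (evalRingHom 0)).map (Polynomial.C : A →+* A[X])).map τ
    rw [Matrix.map_mul, ha'τ, hb'τ, smul_mul_smul', H1, smul_smul, pow_one, msmul, hF0c, hτh]
  · apply Matrix.map_injective hτinj
    show (bt * a').map τ = (h ^ 1 • EM).map τ
    rw [Matrix.map_mul, ha'τ, hb'τ, smul_mul_smul', H2, smul_smul, pow_one, msmul, ← hEbdef, hτh,
      mul_comm sb sa]
  · apply Matrix.map_injective hτinj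
    show ((EN.map (evalRingHom 0)).map (Polynomial.C : A →+* A[X]) * a').map τ = a'.map τ
    rw [Matrix.map_mul, hF0c, ha'τ, Matrix.mul_smul, H3]
  · apply Matrix.map_injective hτinj
    show (EM * bt).map τ = bt.map τ
    rw [Matrix.map_mul, ← hEbdef, hb'τ, Matrix.mul_smul, H4]

/-- `(b) ⟹ (a)` -/
theorem extended_of_P1 {M N : Type u} [AddCommGroup M] [Module A[X] M]
    [Module.Finite A[X] M] [Module.Projective A[X] M] [AddCommGroup N] [Module A[X] N]
    [Module.Finite A[X] N] [Module.Projective A[X] N]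
    (e : (A[T;T⁻¹] ⊗[A[X]] M) →ₛₗ[(LaurentPolynomial.invert (R := A)).toRingEquiv.toRingHom]
      (A[T;T⁻¹] ⊗[A[X]] N)) (he : Function.Bijective e) :
    ∃ (P : Type u) (_ : AddCommGroup P) (_ : Module A P),
      Nonempty (M ≃ₗ[A[X]] (A[X] ⊗[A] P)) := by
  classical
  obtain ⟨m, i, p, E, hpi, hE, hrel⟩ := core_of_P1 e he
  obtain ⟨E0, hE0def⟩ : ∃ E0, E0 = E.map (evalRingHom 0) := ⟨_, rfl⟩
  have hEid : E * E = E := idem_of_split i p hpi E hE
  have hE0 : E0 * E0 = E0 := by rw [hE0def, ← Matrix.map_mul, hEid]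
  refine ⟨LinearMap.range (Matrix.toLin' E0), inferInstance, inferInstance, ?_⟩
  have hP : (Matrix.toLin' E0).rangeRestrict ∘ₗ (LinearMap.range (Matrix.toLin' E0)).subtype =
      LinearMap.id := by
    apply LinearMap.ext
    rintro ⟨x, y, rfl⟩
    apply Subtype.ext
    show Matrix.toLin' E0 (Matrix.toLin' E0 y) = Matrix.toLin' E0 y
    rw [← Matrix.toLin'_mul_apply, hE0]
  have hE0' : Matrix.toLin' E0 = (LinearMap.range (Matrix.toLin' E0)).subtype ∘ₗ
      (Matrix.toLin' E0).rangeRestrict := by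
    apply LinearMap.ext; intro x; rfl
  obtain ⟨i', p', hpi', hE'⟩ := baseChange_split (R' := A[X]) _ _ hP E0 hE0'
  have hEE : E0.map (algebraMap A A[X]) = E.map ((Polynomial.C : A →+* A[X]).comp (evalRingHom 0)) := by
    rw [hE0def, Polynomial.algebraMap_eq, mcomp]
  rw [hEE] at hE'
  exact equiv_of_rel i p hpi i' p' hpi' E _ hE hE' hrel

/-- `(a) ⟹ (b)` -/
theorem P1_of_extended {M : Type u} [AddCommGroup M] [Module A[X] M]
    {P : Type u} [AddCommGroup P] [Module A P] (f : M ≃ₗ[A[X]] (A[X] ⊗[A] P)) :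
    ∃ e : (A[T;T⁻¹] ⊗[A[X]] M) →ₛₗ[(LaurentPolynomial.invert (R := A)).toRingEquiv.toRingHom]
      (A[T;T⁻¹] ⊗[A[X]] M), Function.Bijective e := by
  haveI : IsScalarTower A A[X] A[T;T⁻¹] := IsScalarTower.of_algebraMap_eq (fun a => by
    rw [LaurentPolynomial.algebraMap_eq_toLaurent, Polynomial.algebraMap_eq,
      Polynomial.toLaurent_C]; rfl)
  obtain ⟨Φ, -⟩ : ∃ Φ : (A[T;T⁻¹] ⊗[A[X]] M) ≃ₗ[A[T;T⁻¹]] (A[T;T⁻¹] ⊗[A] P), True :=
    ⟨(LinearEquiv.baseChange A[X] A[T;T⁻¹] M _ f).trans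
      (TensorProduct.AlgebraTensorModule.cancelBaseChange A A[X] A[T;T⁻¹] A[T;T⁻¹] P), trivial⟩
  obtain ⟨J, hJ_tmul⟩ : ∃ J : (A[T;T⁻¹] ⊗[A] P) →ₗ[A] (A[T;T⁻¹] ⊗[A] P),
      ∀ l p, J (l ⊗ₜ p) = invert l ⊗ₜ p :=
    ⟨LinearMap.rTensor P (LaurentPolynomial.invert (R := A)).toLinearMap, fun l p => rfl⟩
  have hJ_smul : ∀ (a : A[T;T⁻¹]) x, J (a • x) = invert a • J x := by
    intro a x
    induction x using TensorProduct.induction_on with
    | zero => simp
    | tmul l p =>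
      rw [TensorProduct.smul_tmul', hJ_tmul, hJ_tmul, TensorProduct.smul_tmul', smul_eq_mul,
        smul_eq_mul, map_mul]
    | add x y hx hy => rw [smul_add, map_add, hx, hy, map_add, smul_add]
  have hJJ : ∀ x, J (J x) = x := by
    intro x
    induction x using TensorProduct.induction_on with
    | zero => simp
    | tmul l p => rw [hJ_tmul, hJ_tmul, involutive_invert l]
    | add x y hx hy => rw [map_add, map_add, hx, hy]
  refine ⟨{ toFun := fun x => Φ.symm (J (Φ x)), map_add' := ?_, map_smul' := ?_ }, ?_⟩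
  · intro x y
    show Φ.symm (J (Φ (x + y))) = Φ.symm (J (Φ x)) + Φ.symm (J (Φ y))
    rw [map_add, map_add, map_add]
  · intro a x
    show Φ.symm (J (Φ (a • x))) = invert a • Φ.symm (J (Φ x))
    rw [map_smul, hJ_smul, map_smul]
  · apply Function.Involutive.bijective
    intro x
    show Φ.symm (J (Φ (Φ.symm (J (Φ x))))) = x
    rw [LinearEquiv.apply_symm_apply, hJJ, LinearEquiv.symm_apply_apply]

end Main

end Groth.Agent.H13.Horrocks
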