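import Mathlib
import Groth.Agent.H13.HorrocksP1

/-!
# Finite projective modules which become isomorphic over `A(t)` are isomorphic
(matrix patching at infinity + affine Horrocks)
-/

set_option autoImplicit false
set_option linter.unusedSectionVars false
set_option linter.unusedVariables false
set_option linter.style.haveILetI false

universe u

open Polynomial LaurentPolynomial TensorProduct

namespace Groth.Agent.H13.Horrocks

section Patch

variable {R : Type*} [CommRing R] {m m' : ℕ}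

/-- the patched idempotent (block form) -/
def ES (eC : Matrix (Fin m) (Fin m) R) (e'C : Matrix (Fin m') (Fin m') R)
    (α : Matrix (Fin m') (Fin m) R) (β : Matrix (Fin m) (Fin m') R) (u g p q : R) :
    Matrix (Fin m' ⊕ Fin m) (Fin m' ⊕ Fin m) R :=
  Matrix.fromBlocks ((p * g) • e'C) ((p * u) • α) (q • β) ((q * (u * u)) • eC)

def aS (eC : Matrix (Fin m) (Fin m) R) (β : Matrix (Fin m) (Fin m') R) (u : R) :
    Matrix (Fin m) (Fin m' ⊕ Fin m) R :=
  Matrix.fromCols β ((u * u) • eC)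

def bS (eC : Matrix (Fin m) (Fin m) R) (α : Matrix (Fin m') (Fin m) R) (u p q : R) :
    Matrix (Fin m' ⊕ Fin m) (Fin m) R :=
  Matrix.fromRows ((p * u) • α) ((q * (u * u)) • eC)

variable {eC : Matrix (Fin m) (Fin m) R} {e'C : Matrix (Fin m') (Fin m') R}
  {α : Matrix (Fin m') (Fin m) R} {β : Matrix (Fin m) (Fin m') R} {u g p q : R}

theorem aS_mul_bS (h2 : β * α = (u * g) • eC) (h7 : eC * eC = eC)
    (hpq : p * g + q * (u * u) = 1) :
    aS eC β u * bS eC α u p q = (u * u) • eC := by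
  unfold aS bS
  have e1 : β * ((p * u) • α) = (p * u * (u * g)) • eC := by
    rw [Matrix.mul_smul, h2, smul_smul]
  have e2 : ((u * u) • eC) * ((q * (u * u)) • eC) = (u * u * (q * (u * u))) • eC := by
    rw [smul_mul_smul', h7]
  rw [Matrix.fromCols_mul_fromRows, e1, e2, ← add_smul]
  congr 1
  linear_combination (u * u) * hpq

theorem bS_mul_aS (h1 : α * β = (u * g) • e'C) (h4 : α * eC = α) (h5 : eC * β = β)
    (h7 : eC * eC = eC) :
    bS eC α u p q * aS eC β u = (u * u) • ES eC e'C α β u g p q := by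
  unfold aS bS ES
  have e11 : ((p * u) • α) * β = (u * u) • ((p * g) • e'C) := by
    rw [Matrix.smul_mul, h1, smul_smul, smul_smul]; congr 1; ring
  have e12 : ((p * u) • α) * ((u * u) • eC) = (u * u) • ((p * u) • α) := by
    rw [smul_mul_smul', h4, smul_smul]; congr 1; ring
  have e21 : ((q * (u * u)) • eC) * β = (u * u) • (q • β) := by
    rw [Matrix.smul_mul, h5, smul_smul]; congr 1; ring
  have e22 : ((q * (u * u)) • eC) * ((u * u) • eC) = (u * u) • ((q * (u * u)) • eC) := by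
    rw [smul_mul_smul', h7, smul_smul]; congr 1; ring
  rw [Matrix.fromRows_mul_fromCols, e11, e12, e21, e22, Matrix.fromBlocks_smul]

theorem eC_mul_aS (h5 : eC * β = β) (h7 : eC * eC = eC) :
    eC * aS eC β u = aS eC β u := by
  unfold aS
  rw [Matrix.mul_fromCols, h5, Matrix.mul_smul, h7]

theorem blk12 (h3 : e'C * α = α) (h4 : α * eC = α) (hpq : p * g + q * (u * u) = 1) :
    ((p * g) • e'C) * ((p * u) • α) + ((p * u) • α) * ((q * (u * u)) • eC) = (p * u) • α := by
  rw [smul_mul_smul' (p * g) (p * u) e'C α, h3, smul_mul_smul' (p * u) (q * (u * u)) α eC, h4,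
    ← add_smul]
  congr 1
  linear_combination (p * u) * hpq

theorem blk22 (h2 : β * α = (u * g) • eC) (h7 : eC * eC = eC)
    (hpq : p * g + q * (u * u) = 1) :
    (q • β) * ((p * u) • α) + ((q * (u * u)) • eC) * ((q * (u * u)) • eC) =
      (q * (u * u)) • eC := by
  rw [smul_mul_smul' q (p * u) β α, h2, smul_smul,
    smul_mul_smul' (q * (u * u)) (q * (u * u)) eC eC, h7, ← add_smul]
  congr 1
  linear_combination (q * (u * u)) * hpq

theorem ES_mul_bS (h2 : β * α = (u * g) • eC) (h3 : e'C * α = α) (h4 : α * eC = α)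
    (h7 : eC * eC = eC) (hpq : p * g + q * (u * u) = 1) :
    ES eC e'C α β u g p q * bS eC α u p q = bS eC α u p q := by
  unfold ES bS
  rw [Matrix.fromBlocks_mul_fromRows, blk12 h3 h4 hpq, blk22 h2 h7 hpq]

theorem ES_mul_ES (h1 : α * β = (u * g) • e'C) (h2 : β * α = (u * g) • eC)
    (h3 : e'C * α = α) (h4 : α * eC = α) (h5 : eC * β = β) (h6 : β * e'C = β)
    (h7 : eC * eC = eC) (h8 : e'C * e'C = e'C) (hpq : p * g + q * (u * u) = 1) :
    ES eC e'C α β u g p q * ES eC e'C α β u g p q = ES eC e'C α β u g p q := by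
  unfold ES
  have b11 : ((p * g) • e'C) * ((p * g) • e'C) + ((p * u) • α) * (q • β) = (p * g) • e'C := by
    rw [smul_mul_smul' (p * g) (p * g) e'C e'C, h8, smul_mul_smul' (p * u) q α β, h1, smul_smul,
      ← add_smul]
    congr 1
    linear_combination (p * g) * hpq
  have b21 : (q • β) * ((p * g) • e'C) + ((q * (u * u)) • eC) * (q • β) = q • β := by
    rw [smul_mul_smul' q (p * g) β e'C, h6, smul_mul_smul' (q * (u * u)) q eC β, h5, ← add_smul]
    congr 1
    linear_combination q * hpq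
  rw [Matrix.fromBlocks_multiply, b11, blk12 h3 h4 hpq, b21, blk22 h2 h7 hpq]

/-- `Fin`-indexed versions -/
def EF (eC : Matrix (Fin m) (Fin m) R) (e'C : Matrix (Fin m') (Fin m') R)
    (α : Matrix (Fin m') (Fin m) R) (β : Matrix (Fin m) (Fin m') R) (u g p q : R) :
    Matrix (Fin (m' + m)) (Fin (m' + m)) R :=
  (ES eC e'C α β u g p q).submatrix finSumFinEquiv.symm finSumFinEquiv.symm

def aF (eC : Matrix (Fin m) (Fin m) R) (β : Matrix (Fin m) (Fin m') R) (u : R) :
    Matrix (Fin m) (Fin (m' + m)) R :=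
  (aS eC β u).submatrix id finSumFinEquiv.symm

def bF (eC : Matrix (Fin m) (Fin m) R) (α : Matrix (Fin m') (Fin m) R) (u p q : R) :
    Matrix (Fin (m' + m)) (Fin m) R :=
  (bS eC α u p q).submatrix finSumFinEquiv.symm id

theorem aF_mul_bF (h2 : β * α = (u * g) • eC) (h7 : eC * eC = eC)
    (hpq : p * g + q * (u * u) = 1) :
    aF eC β u * bF eC α u p q = (u * u) • eC := by
  unfold aF bF
  rw [Matrix.submatrix_mul_equiv, aS_mul_bS h2 h7 hpq, Matrix.submatrix_id_id]

theorem bF_mul_aF (h1 : α * β = (u * g) • e'C) (h4 : α * eC = α) (h5 : eC * β = β)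
    (h7 : eC * eC = eC) :
    bF eC α u p q * aF eC β u = (u * u) • EF eC e'C α β u g p q := by
  unfold aF bF EF
  rw [← Matrix.submatrix_mul _ _ _ id _ Function.bijective_id, bS_mul_aS h1 h4 h5 h7]
  rfl

theorem eC_mul_aF (h5 : eC * β = β) (h7 : eC * eC = eC) :
    eC * aF (m' := m') eC β u = aF eC β u := by
  unfold aF
  have h := Matrix.submatrix_mul eC (aS eC β u) id id finSumFinEquiv.symm Function.bijective_id
  rw [eC_mul_aS h5 h7, Matrix.submatrix_id_id] at h
  exact h.symm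

theorem EF_mul_bF (h2 : β * α = (u * g) • eC) (h3 : e'C * α = α) (h4 : α * eC = α)
    (h7 : eC * eC = eC) (hpq : p * g + q * (u * u) = 1) :
    EF eC e'C α β u g p q * bF eC α u p q = bF eC α u p q := by
  unfold EF bF
  rw [Matrix.submatrix_mul_equiv, ES_mul_bS h2 h3 h4 h7 hpq]

theorem EF_mul_EF (h1 : α * β = (u * g) • e'C) (h2 : β * α = (u * g) • eC)
    (h3 : e'C * α = α) (h4 : α * eC = α) (h5 : eC * β = β) (h6 : β * e'C = β)
    (h7 : eC * eC = eC) (h8 : e'C * e'C = e'C) (hpq : p * g + q * (u * u) = 1) :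
    EF eC e'C α β u g p q * EF eC e'C α β u g p q = EF eC e'C α β u g p q := by
  unfold EF
  rw [Matrix.submatrix_mul_equiv, ES_mul_ES h1 h2 h3 h4 h5 h6 h7 h8 hpq]

theorem rel_submatrix {m₁ m₂ k : ℕ} (S : Matrix (Fin m₁ ⊕ Fin m₂) (Fin m₁ ⊕ Fin m₂) R)
    (E' : Matrix (Fin k) (Fin k) R)
    (a : Matrix (Fin k) (Fin m₁ ⊕ Fin m₂) R) (b : Matrix (Fin m₁ ⊕ Fin m₂) (Fin k) R)
    (hab : a * b = E') (hba : b * a = S) (ha : E' * a = a) (hb : S * b = b) :
    Rel (S.submatrix finSumFinEquiv.symm finSumFinEquiv.symm) E' := by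
  refine ⟨a.submatrix id finSumFinEquiv.symm, b.submatrix finSumFinEquiv.symm id, ?_, ?_, ?_, ?_⟩
  · rw [Matrix.submatrix_mul_equiv, hab, Matrix.submatrix_id_id]
  · rw [← Matrix.submatrix_mul _ _ _ id _ Function.bijective_id, hba]
  · have h := Matrix.submatrix_mul E' a id id finSumFinEquiv.symm Function.bijective_id
    rw [ha, Matrix.submatrix_id_id] at h
    exact h.symm
  · rw [Matrix.submatrix_mul_equiv, hb]

end Patch

section Main

variable {A : Type u} [CommRing A] {m m' : ℕ}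

theorem rel_of_patch (e : Matrix (Fin m) (Fin m) A) (e' : Matrix (Fin m') (Fin m') A)
    (he : e * e = e) (he' : e' * e' = e')
    (α : Matrix (Fin m') (Fin m) A[X]) (β : Matrix (Fin m) (Fin m') A[X]) (i : ℕ) (g : A[X])
    (hg : g.coeff 0 = 1)
    (h1 : α * β = (X ^ (i + 1) * g) • e'.map (Polynomial.C : A →+* A[X]))
    (h2 : β * α = (X ^ (i + 1) * g) • e.map (Polynomial.C : A →+* A[X]))
    (h3 : e'.map (Polynomial.C : A →+* A[X]) * α = α)
    (h4 : α * e.map (Polynomial.C : A →+* A[X]) = α)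
    (h5 : e.map (Polynomial.C : A →+* A[X]) * β = β)
    (h6 : β * e'.map (Polynomial.C : A →+* A[X]) = β) :
    Rel e e' := by
  classical
  obtain ⟨u, hudef⟩ : ∃ u : A[X], u = X ^ (i + 1) := ⟨_, rfl⟩
  rw [← hudef] at h1 h2
  have hu0 : (evalRingHom (0 : A)) u = 0 := by rw [hudef]; simp
  have hu1 : (evalRingHom (1 : A)) u = 1 := by rw [hudef]; simp
  have hg0 : (evalRingHom (0 : A)) g = 1 := by
    rw [coe_evalRingHom, ← coeff_zero_eq_eval_zero, hg]
  have hcop : IsCoprime g (u * u) := by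
    have hgX : IsCoprime g X := ⟨1, -divX g, by
      have := divX_mul_X_add g
      rw [hg, C_1] at this
      linear_combination (-1 : A[X]) * this⟩
    rw [hudef]
    exact IsCoprime.mul_right hgX.pow_right hgX.pow_right
  obtain ⟨p, q, hpq⟩ := hcop
  obtain ⟨eC, heC⟩ : ∃ eC, eC = e.map (Polynomial.C : A →+* A[X]) := ⟨_, rfl⟩
  obtain ⟨e'C, he'C⟩ : ∃ e'C, e'C = e'.map (Polynomial.C : A →+* A[X]) := ⟨_, rfl⟩
  rw [← heC] at h2 h4 h5
  rw [← he'C] at h1 h3 h6
  have h7 : eC * eC = eC := by rw [heC, ← Matrix.map_mul, he]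
  have h8 : e'C * e'C = e'C := by rw [he'C, ← Matrix.map_mul, he']
  have hev0C : ((evalRingHom (0 : A)).comp (Polynomial.C : A →+* A[X])) = RingHom.id A := by
    ext a; simp
  have hev1C : ((evalRingHom (1 : A)).comp (Polynomial.C : A →+* A[X])) = RingHom.id A := by
    ext a; simp
  have heC1 : eC.map (evalRingHom (1 : A)) = e := by
    rw [heC, mcomp, hev1C]; ext i j; simp
  have he'C0 : e'C.map (evalRingHom (0 : A)) = e' := by
    rw [he'C, mcomp, hev0C]; ext i j; simp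
  have huu : u * u = X ^ (2 * (i + 1)) := by rw [hudef, ← pow_add, two_mul]
  obtain ⟨E, hEdef⟩ : ∃ E, E = EF eC e'C α β u g p q := ⟨_, rfl⟩
  have hE : E * E = E := by rw [hEdef]; exact EF_mul_EF h1 h2 h3 h4 h5 h6 h7 h8 hpq
  have hab : aF eC β u * bF eC α u p q = (X ^ (2 * (i + 1)) : A[X]) • eC := by
    rw [aF_mul_bF h2 h7 hpq, huu]
  have hba : bF eC α u p q * aF eC β u = (X ^ (2 * (i + 1)) : A[X]) • E := by
    rw [hEdef, bF_mul_aF h1 h4 h5 h7, huu]
  have hea : eC * aF (m' := m') eC β u = aF eC β u := eC_mul_aF h5 h7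
  have hEb : E * bF eC α u p q = bF eC α u p q := by
    rw [hEdef]; exact EF_mul_bF h2 h3 h4 h7 hpq
  have key : Rel E (E.map ((Polynomial.C : A →+* A[X]).comp (evalRingHom 0))) := by
    subst heC
    exact rel_eval_zero E hE e he X monic_X (2 * (i + 1)) _ _ hab hba hea hEb
  have hX1 : (evalRingHom (1 : A)) ((X ^ (2 * (i + 1)) : A[X])) = 1 := by simp
  -- value at 1
  have hrel1 : Rel (E.map (evalRingHom (1 : A))) e := by
    refine ⟨(aF eC β u).map (evalRingHom (1 : A)), (bF eC α u p q).map (evalRingHom (1 : A)),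
      ?_, ?_, ?_, ?_⟩
    · rw [← Matrix.map_mul, hab, msmul, hX1, one_smul, heC1]
    · rw [← Matrix.map_mul, hba, msmul, hX1, one_smul]
    · conv_lhs => rw [← heC1]
      rw [← Matrix.map_mul, hea]
    · rw [← Matrix.map_mul, hEb]
  have hrel2 : Rel (E.map (evalRingHom (1 : A))) (E.map (evalRingHom (0 : A))) := by
    have h := key.map (evalRingHom (1 : A))
    rw [mcomp, ← RingHom.comp_assoc, hev1C, RingHom.id_comp] at h
    exact h
  -- value at 0
  have hpg0 : (evalRingHom (0 : A)) (p * g) = 1 := by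
    have h := congrArg (evalRingHom (0 : A)) hpq
    rw [map_add, map_mul (evalRingHom (0 : A)) q, map_mul (evalRingHom (0 : A)) u u, hu0,
      mul_zero, mul_zero, add_zero, map_one] at h
    exact h
  have hβ0 : β.map (evalRingHom (0 : A)) * e' = β.map (evalRingHom (0 : A)) := by
    conv_lhs => rw [← he'C0]
    rw [← Matrix.map_mul, h6]
  have hES0 : (ES eC e'C α β u g p q).map (evalRingHom (0 : A)) =
      Matrix.fromBlocks e' (0 : Matrix (Fin m') (Fin m) A)
        ((evalRingHom (0 : A)) q • β.map (evalRingHom (0 : A))) (0 : Matrix (Fin m) (Fin m) A) := by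
    unfold ES
    rw [Matrix.fromBlocks_map, msmul, msmul, msmul, msmul, hpg0, one_smul, he'C0,
      map_mul (evalRingHom (0 : A)) p u, hu0, mul_zero, zero_smul,
      map_mul (evalRingHom (0 : A)) q (u * u), map_mul (evalRingHom (0 : A)) u u, hu0, mul_zero,
      mul_zero, zero_smul]
  have hrel3 : Rel (E.map (evalRingHom (0 : A))) e' := by
    have hE0 : E.map (evalRingHom (0 : A)) =
        ((ES eC e'C α β u g p q).map (evalRingHom (0 : A))).submatrix finSumFinEquiv.symm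
          finSumFinEquiv.symm := by
      rw [hEdef]; rfl
    rw [hE0, hES0]
    refine rel_submatrix _ e' (Matrix.fromCols e' (0 : Matrix (Fin m') (Fin m) A))
      (Matrix.fromRows e' ((evalRingHom (0 : A)) q • β.map (evalRingHom (0 : A)))) ?_ ?_ ?_ ?_
    · rw [Matrix.fromCols_mul_fromRows, he', Matrix.zero_mul, add_zero]
    · rw [Matrix.fromRows_mul_fromCols, he', Matrix.mul_zero, Matrix.mul_zero, Matrix.smul_mul, hβ0]
    · rw [Matrix.mul_fromCols, he', Matrix.mul_zero]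
    · rw [Matrix.fromBlocks_mul_fromRows, he', Matrix.zero_mul, add_zero, Matrix.zero_mul, add_zero,
        Matrix.smul_mul, hβ0]
  exact hrel1.symm.trans (hrel2.trans hrel3)

/-- Constant idempotent matrices which are equivalent over the localisation of `A[X]` at the monic
polynomials are equivalent. -/
theorem rel_of_rel_monic_localization (M : Submonoid A[X]) (hM : ∀ f : A[X], f ∈ M ↔ f.Monic)
    (At : Type u) [CommRing At] [Algebra A[X] At] [IsLocalization M At]
    (e : Matrix (Fin m) (Fin m) A) (e' : Matrix (Fin m') (Fin m') A)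
    (he : e * e = e) (he' : e' * e' = e')
    (hrel : Rel (e.map ((algebraMap A[X] At).comp (Polynomial.C : A →+* A[X])))
      (e'.map ((algebraMap A[X] At).comp (Polynomial.C : A →+* A[X])))) : Rel e e' := by
  classical
  obtain ⟨ψ, hψdef⟩ : ∃ ψ : A[X] →+* At, ψ = algebraMap A[X] At := ⟨_, rfl⟩
  rw [← hψdef] at hrel
  have hLoc : LocLike M ψ := by rw [hψdef]; exact LocLike.of_isLocalization M At
  have hψinj : Function.Injective ψ := by
    rw [hψdef]
    apply IsLocalization.injective At (M := M)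
    intro f hf
    exact ((hM f).mp hf).mem_nonZeroDivisors
  obtain ⟨eC, heC⟩ : ∃ eC, eC = e.map (Polynomial.C : A →+* A[X]) := ⟨_, rfl⟩
  obtain ⟨e'C, he'C⟩ : ∃ e'C, e'C = e'.map (Polynomial.C : A →+* A[X]) := ⟨_, rfl⟩
  have heψ : e.map (ψ.comp (Polynomial.C : A →+* A[X])) = eC.map ψ := by rw [heC, mcomp]
  have he'ψ : e'.map (ψ.comp (Polynomial.C : A →+* A[X])) = e'C.map ψ := by rw [he'C, mcomp]
  rw [heψ, he'ψ] at hrel
  obtain ⟨a, b, hab, hba, ha, hb⟩ := hrel
  have ha2 : a * eC.map ψ = a := by rw [← hba, ← Matrix.mul_assoc, hab, ha]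
  have hb2 : b * e'C.map ψ = b := by rw [← hab, ← Matrix.mul_assoc, hba, hb]
  obtain ⟨t₁, ht₁, y₁, hy₁⟩ := hLoc.surj_fin (fun p : Fin m' × Fin m => a p.1 p.2)
  obtain ⟨t₂, ht₂, y₂, hy₂⟩ := hLoc.surj_fin (fun p : Fin m × Fin m' => b p.1 p.2)
  obtain ⟨α₀, hα₀def⟩ : ∃ α₀ : Matrix (Fin m') (Fin m) A[X],
      α₀ = Matrix.of fun i j => y₁ (i, j) := ⟨_, rfl⟩
  obtain ⟨β₀, hβ₀def⟩ : ∃ β₀ : Matrix (Fin m) (Fin m') A[X],
      β₀ = Matrix.of fun i j => y₂ (i, j) := ⟨_, rfl⟩
  have hα₀ : α₀.map ψ = ψ t₁ • a := by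
    ext i j
    rw [hα₀def]
    simp only [Matrix.map_apply, Matrix.of_apply, Matrix.smul_apply, smul_eq_mul]
    exact hy₁ (i, j)
  have hβ₀ : β₀.map ψ = ψ t₂ • b := by
    ext i j
    rw [hβ₀def]
    simp only [Matrix.map_apply, Matrix.of_apply, Matrix.smul_apply, smul_eq_mul]
    exact hy₂ (i, j)
  obtain ⟨F, hFdef⟩ : ∃ F, F = t₁ * t₂ := ⟨_, rfl⟩
  have hF : F.Monic := by rw [hFdef]; exact ((hM t₁).mp ht₁).mul ((hM t₂).mp ht₂)
  have r1 : α₀ * β₀ = F • e'C := by
    apply Matrix.map_injective hψinj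
    show (α₀ * β₀).map ψ = (F • e'C).map ψ
    rw [Matrix.map_mul, hα₀, hβ₀, smul_mul_smul', hab, msmul, hFdef, map_mul]
  have r2 : β₀ * α₀ = F • eC := by
    apply Matrix.map_injective hψinj
    show (β₀ * α₀).map ψ = (F • eC).map ψ
    rw [Matrix.map_mul, hα₀, hβ₀, smul_mul_smul', hba, msmul, hFdef, map_mul, mul_comm (ψ t₂)]
  have r3 : e'C * α₀ = α₀ := by
    apply Matrix.map_injective hψinj
    show (e'C * α₀).map ψ = α₀.map ψ
    rw [Matrix.map_mul, hα₀, Matrix.mul_smul, ha]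
  have r4 : α₀ * eC = α₀ := by
    apply Matrix.map_injective hψinj
    show (α₀ * eC).map ψ = α₀.map ψ
    rw [Matrix.map_mul, hα₀, Matrix.smul_mul, ha2]
  have r5 : eC * β₀ = β₀ := by
    apply Matrix.map_injective hψinj
    show (eC * β₀).map ψ = β₀.map ψ
    rw [Matrix.map_mul, hβ₀, Matrix.mul_smul, hb]
  have r6 : β₀ * e'C = β₀ := by
    apply Matrix.map_injective hψinj
    show (β₀ * e'C).map ψ = β₀.map ψ
    rw [Matrix.map_mul, hβ₀, Matrix.smul_mul, hb2]
  -- flip to the coordinate at infinity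
  obtain ⟨τ, hτdef⟩ : ∃ τ : A[X] →+* A[T;T⁻¹], τ = (toLaurent : A[X] →+* A[T;T⁻¹]) := ⟨_, rfl⟩
  have hτ_apply : ∀ f, τ f = toLaurent f := by intro f; rw [hτdef]
  have hτinj : Function.Injective τ := by rw [hτdef]; exact Polynomial.toLaurent_injective
  obtain ⟨Θ, hΘdef⟩ : ∃ Θ : A[X] →+* A[T;T⁻¹],
      Θ = ((LaurentPolynomial.invert (R := A)).toRingEquiv.toRingHom).comp τ := ⟨_, rfl⟩
  have hΘ_apply : ∀ f, Θ f = invert (toLaurent f) := by intro f; rw [hΘdef, hτdef]; rfl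
  have hΘC : ∀ {k : ℕ} (c : Matrix (Fin k) (Fin k) A),
      (c.map (Polynomial.C : A →+* A[X])).map Θ = (c.map (Polynomial.C : A →+* A[X])).map τ := by
    intro k c
    ext i j
    simp only [Matrix.map_apply, hΘ_apply, hτ_apply, Polynomial.toLaurent_C, invert_C]
  have heΘ : eC.map Θ = eC.map τ := by rw [heC]; exact hΘC e
  have he'Θ : e'C.map Θ = e'C.map τ := by rw [he'C]; exact hΘC e'
  obtain ⟨N₁, α₁, hα₁⟩ := exists_T_smul (α₀.map Θ)
  obtain ⟨N₂, β₁, hβ₁⟩ := exists_T_smul (β₀.map Θ)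
  rw [← hτdef] at hα₁ hβ₁
  obtain ⟨n, hndef⟩ : ∃ n, n = F.natDegree := ⟨_, rfl⟩
  obtain ⟨sa, hsadef⟩ : ∃ sa : A[T;T⁻¹], sa = T ((n + 1 : ℕ) : ℤ) * T (N₁ : ℤ) := ⟨_, rfl⟩
  obtain ⟨sb, hsbdef⟩ : ∃ sb : A[T;T⁻¹], sb = T (N₂ : ℤ) := ⟨_, rfl⟩
  obtain ⟨α, hαdef⟩ : ∃ α : Matrix (Fin m') (Fin m) A[X], α = (X ^ (n + 1) : A[X]) • α₁ :=
    ⟨_, rfl⟩
  have hατ : α.map τ = sa • α₀.map Θ := by
    rw [hαdef, msmul, hα₁, smul_smul, hτ_apply, Polynomial.toLaurent_X_pow, hsadef]
  have hβτ : β₁.map τ = sb • β₀.map Θ := by rw [hβ₁, hsbdef]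
  have hscal : τ (X ^ (N₁ + N₂ + 1) * F.reverse) = sa * sb * Θ F := by
    rw [map_mul, hτ_apply, hτ_apply, Polynomial.toLaurent_X_pow, toLaurent_reverse, hsadef, hsbdef,
      hΘ_apply, ← hndef]
    push_cast
    rw [T_add, T_add, T_add]
    ring
  have hg0 : (F.reverse).coeff 0 = 1 := by
    rw [coeff_zero_reverse]; exact hF
  refine rel_of_patch e e' he he' α β₁ (N₁ + N₂) F.reverse hg0 ?_ ?_ ?_ ?_ ?_ ?_
  · rw [← he'C]
    apply Matrix.map_injective hτinj
    show (α * β₁).map τ = ((X ^ (N₁ + N₂ + 1) * F.reverse) • e'C).map τ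
    rw [Matrix.map_mul, hατ, hβτ, smul_mul_smul', ← Matrix.map_mul, r1, msmul, smul_smul, he'Θ,
      msmul, hscal]
  · rw [← heC]
    apply Matrix.map_injective hτinj
    show (β₁ * α).map τ = ((X ^ (N₁ + N₂ + 1) * F.reverse) • eC).map τ
    rw [Matrix.map_mul, hατ, hβτ, smul_mul_smul', ← Matrix.map_mul, r2, msmul, smul_smul, heΘ,
      msmul, hscal, mul_comm sb sa]
  · rw [← he'C]
    apply Matrix.map_injective hτinj
    show (e'C * α).map τ = α.map τ
    rw [Matrix.map_mul, hατ, Matrix.mul_smul, ← he'Θ, ← Matrix.map_mul, r3]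
  · rw [← heC]
    apply Matrix.map_injective hτinj
    show (α * eC).map τ = α.map τ
    rw [Matrix.map_mul, hατ, Matrix.smul_mul, ← heΘ, ← Matrix.map_mul, r4]
  · rw [← heC]
    apply Matrix.map_injective hτinj
    show (eC * β₁).map τ = β₁.map τ
    rw [Matrix.map_mul, hβτ, Matrix.mul_smul, ← heΘ, ← Matrix.map_mul, r5]
  · rw [← he'C]
    apply Matrix.map_injective hτinj
    show (β₁ * e'C).map τ = β₁.map τ
    rw [Matrix.map_mul, hβτ, Matrix.smul_mul, ← he'Θ, ← Matrix.map_mul, r6]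

end Main

end Groth.Agent.H13.Horrocks
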