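import Mathlib
import Groth.Agent.H13.HorrocksMonic

/-!
# Finite projective modules which become isomorphic over `R((t))` are isomorphic
-/

set_option autoImplicit false
set_option linter.unusedSectionVars false
set_option linter.unusedVariables false
set_option linter.style.haveILetI false

universe u

open Polynomial TensorProduct

namespace Groth.Agent.H13.Horrocks

section ClearDenoms

theorem clear_denoms {S₀ S₁ : Type*} [CommRing S₀] [CommRing S₁] {T : Submonoid S₀}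
    {ψ : S₀ →+* S₁} (hLoc : LocLike T ψ) (hψinj : Function.Injective ψ) {m m' : ℕ}
    (eC : Matrix (Fin m) (Fin m) S₀) (e'C : Matrix (Fin m') (Fin m') S₀)
    (hrel : Rel (eC.map ψ) (e'C.map ψ)) :
    ∃ F ∈ T, ∃ (α₀ : Matrix (Fin m') (Fin m) S₀) (β₀ : Matrix (Fin m) (Fin m') S₀),
      α₀ * β₀ = F • e'C ∧ β₀ * α₀ = F • eC ∧ e'C * α₀ = α₀ ∧ α₀ * eC = α₀ ∧
        eC * β₀ = β₀ ∧ β₀ * e'C = β₀ := by
  classical
  obtain ⟨a, b, hab, hba, ha, hb⟩ := hrel
  have ha2 : a * eC.map ψ = a := by rw [← hba, ← Matrix.mul_assoc, hab, ha]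
  have hb2 : b * e'C.map ψ = b := by rw [← hab, ← Matrix.mul_assoc, hba, hb]
  obtain ⟨t₁, ht₁, y₁, hy₁⟩ := hLoc.surj_fin (fun p : Fin m' × Fin m => a p.1 p.2)
  obtain ⟨t₂, ht₂, y₂, hy₂⟩ := hLoc.surj_fin (fun p : Fin m × Fin m' => b p.1 p.2)
  obtain ⟨α₀, hα₀def⟩ : ∃ α₀ : Matrix (Fin m') (Fin m) S₀,
      α₀ = Matrix.of fun i j => y₁ (i, j) := ⟨_, rfl⟩
  obtain ⟨β₀, hβ₀def⟩ : ∃ β₀ : Matrix (Fin m) (Fin m') S₀,
      β₀ = Matrix.of fun i j => y₂ (i, j) := ⟨_, rfl⟩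
  have hα₀ : α₀.map ψ = ψ t₁ • a := by
    ext i j
    rw [hα₀def]
    simp only [Matrix.map_apply, Matrix.of_apply, Matrix.smul_apply, smul_eq_mul]
    exact hy₁ (i, j)
  have hβ₀ : β₀.map ψ = ψ t₂ • b := by
    ext i j
    rw [hβ₀def]
    simp only [Matrix.map_apply, Matrix.of_apply, Matrix.smul_apply, smul_eq_mul]
    exact hy₂ (i, j)
  refine ⟨t₁ * t₂, mul_mem ht₁ ht₂, α₀, β₀, ?_, ?_, ?_, ?_, ?_, ?_⟩
  · apply Matrix.map_injective hψinj
    show (α₀ * β₀).map ψ = ((t₁ * t₂) • e'C).map ψ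
    rw [Matrix.map_mul, hα₀, hβ₀, smul_mul_smul', hab, msmul, map_mul]
  · apply Matrix.map_injective hψinj
    show (β₀ * α₀).map ψ = ((t₁ * t₂) • eC).map ψ
    rw [Matrix.map_mul, hα₀, hβ₀, smul_mul_smul', hba, msmul, map_mul, mul_comm (ψ t₂)]
  · apply Matrix.map_injective hψinj
    show (e'C * α₀).map ψ = α₀.map ψ
    rw [Matrix.map_mul, hα₀, Matrix.mul_smul, ha]
  · apply Matrix.map_injective hψinj
    show (α₀ * eC).map ψ = α₀.map ψ
    rw [Matrix.map_mul, hα₀, Matrix.smul_mul, ha2]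
  · apply Matrix.map_injective hψinj
    show (eC * β₀).map ψ = β₀.map ψ
    rw [Matrix.map_mul, hβ₀, Matrix.mul_smul, hb]
  · apply Matrix.map_injective hψinj
    show (β₀ * e'C).map ψ = β₀.map ψ
    rw [Matrix.map_mul, hβ₀, Matrix.smul_mul, hb2]

end ClearDenoms

section Adjugate

variable {S : Type*} [CommRing S] {m m' : ℕ}

/-- From an approximate inverse pair to an exact one with scalar factor (adjugate trick). -/
theorem exists_scalar_pair (eC : Matrix (Fin m) (Fin m) S) (e'C : Matrix (Fin m') (Fin m') S)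
    (h7 : eC * eC = eC) (h8 : e'C * e'C = e'C)
    (α : Matrix (Fin m') (Fin m) S) (β : Matrix (Fin m) (Fin m') S) (w : S)
    (h3 : e'C * α = α) (h4 : α * eC = α) (h5 : eC * β = β) (h6 : β * e'C = β) :
    ∃ β' : Matrix (Fin m) (Fin m') S,
      α * β' = ((β * α + w • (1 - eC)).det * (α * β + w • (1 - e'C)).det) • e'C ∧
      β' * α = ((β * α + w • (1 - eC)).det * (α * β + w • (1 - e'C)).det) • eC ∧
      eC * β' = β' ∧ β' * e'C = β' := by
  classical
  obtain ⟨Z, hZ⟩ : ∃ Z, Z = α * β + w • (1 - e'C) := ⟨_, rfl⟩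
  obtain ⟨W, hW⟩ : ∃ W, W = β * α + w • (1 - eC) := ⟨_, rfl⟩
  rw [← hZ, ← hW]
  have hZe : e'C * Z = α * β := by
    rw [hZ, Matrix.mul_add, Matrix.mul_smul, Matrix.mul_sub, Matrix.mul_one, h8, sub_self,
      smul_zero, add_zero, ← Matrix.mul_assoc, h3]
  have hWe : W * eC = β * α := by
    rw [hW, Matrix.add_mul, Matrix.smul_mul, Matrix.sub_mul, Matrix.one_mul, h7, sub_self,
      smul_zero, add_zero, Matrix.mul_assoc, h4]
  obtain ⟨β₂, hβ₂⟩ : ∃ β₂, β₂ = β * Z.adjugate * e'C := ⟨_, rfl⟩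
  obtain ⟨β₃, hβ₃⟩ : ∃ β₃, β₃ = eC * W.adjugate * β := ⟨_, rfl⟩
  have e1 : α * β₂ = Z.det • e'C := by
    calc α * β₂ = (α * β) * Z.adjugate * e'C := by rw [hβ₂]; simp only [Matrix.mul_assoc]
      _ = e'C * (Z * Z.adjugate) * e'C := by rw [← hZe]; simp only [Matrix.mul_assoc]
      _ = Z.det • e'C := by
          rw [Matrix.mul_adjugate, Matrix.mul_smul, Matrix.mul_one, Matrix.smul_mul, h8]
  have e2 : β₃ * α = W.det • eC := by
    calc β₃ * α = eC * W.adjugate * (β * α) := by rw [hβ₃]; simp only [Matrix.mul_assoc]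
      _ = eC * (W.adjugate * W) * eC := by rw [← hWe]; simp only [Matrix.mul_assoc]
      _ = W.det • eC := by
          rw [Matrix.adjugate_mul, Matrix.mul_smul, Matrix.mul_one, Matrix.smul_mul, h7]
  have e3 : eC * β₂ = β₂ := by rw [hβ₂, ← Matrix.mul_assoc, ← Matrix.mul_assoc, h5]
  have e4 : β₃ * e'C = β₃ := by rw [hβ₃, Matrix.mul_assoc, h6]
  have e5 : β₂ * e'C = β₂ := by rw [hβ₂, Matrix.mul_assoc, h8]
  have e6 : W.det • β₂ = Z.det • β₃ := by
    calc W.det • β₂ = (W.det • eC) * β₂ := by rw [Matrix.smul_mul, e3]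
      _ = β₃ * (α * β₂) := by rw [← e2, Matrix.mul_assoc]
      _ = Z.det • β₃ := by rw [e1, Matrix.mul_smul, e4]
  refine ⟨W.det • β₂, ?_, ?_, ?_, ?_⟩
  · rw [Matrix.mul_smul, e1, smul_smul]
  · rw [e6, Matrix.smul_mul, e2, smul_smul, mul_comm]
  · rw [Matrix.mul_smul, e3]
  · rw [Matrix.smul_mul, e5]

end Adjugate

section PowerSeries

variable {R : Type u} [CommRing R]

theorem det_factor {n : ℕ} (Z : Matrix (Fin n) (Fin n) R[X]) (K : ℕ)
    (ρ : Matrix (Fin n) (Fin n) (PowerSeries R))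
    (hZ : Z.map (Polynomial.coeToPowerSeries.ringHom (R := R)) =
      (PowerSeries.X ^ K : PowerSeries R) • (1 - (PowerSeries.X : PowerSeries R) • ρ)) :
    ∃ g : R[X], Z.det = X ^ (K * n) * g ∧ g.coeff 0 = 1 := by
  classical
  obtain ⟨û, hû⟩ : ∃ û, û = (1 - (PowerSeries.X : PowerSeries R) • ρ).det := ⟨_, rfl⟩
  have hcc : PowerSeries.constantCoeff û = 1 := by
    rw [hû, RingHom.map_det]
    have h0 : (PowerSeries.constantCoeff (R := R)).mapMatrix
        ((PowerSeries.X : PowerSeries R) • ρ) = 0 := by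
      ext i j; simp
    have h1 : (PowerSeries.constantCoeff (R := R)).mapMatrix
        (1 - (PowerSeries.X : PowerSeries R) • ρ) = 1 := by
      rw [map_sub, map_one, h0, sub_zero]
    rw [h1, Matrix.det_one]
  have hdet : (Z.det : PowerSeries R) = PowerSeries.X ^ (K * n) * û := by
    have h1 : Polynomial.coeToPowerSeries.ringHom Z.det =
        (Z.map (Polynomial.coeToPowerSeries.ringHom (R := R))).det := by
      rw [RingHom.map_det]; rfl
    rw [← Polynomial.coeToPowerSeries.ringHom_apply, h1, hZ, Matrix.det_smul, Fintype.card_fin,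
      ← pow_mul, hû]
  have hdvd : X ^ (K * n) ∣ Z.det := by
    rw [Polynomial.X_pow_dvd_iff]
    intro d hd
    rw [← Polynomial.coeff_coe, hdet, PowerSeries.coeff_X_pow_mul', if_neg (not_le.mpr hd)]
  obtain ⟨g, hg⟩ := hdvd
  refine ⟨g, hg, ?_⟩
  have h2 : Z.det.coeff (0 + K * n) = g.coeff 0 := by rw [hg, Polynomial.coeff_X_pow_mul]
  rw [← h2, ← Polynomial.coeff_coe, hdet, PowerSeries.coeff_X_pow_mul', if_pos (by omega),
    show 0 + K * n - K * n = 0 by omega, PowerSeries.coeff_zero_eq_constantCoeff_apply, hcc]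

theorem exists_trunc {k l : ℕ} (N : ℕ) (a : Matrix (Fin k) (Fin l) (PowerSeries R)) :
    ∃ (α : Matrix (Fin k) (Fin l) R[X]) (a' : Matrix (Fin k) (Fin l) (PowerSeries R)),
      α.map (Polynomial.coeToPowerSeries.ringHom (R := R)) =
        a - (PowerSeries.X ^ N : PowerSeries R) • a' := by
  refine ⟨a.map (PowerSeries.trunc N),
    a.map (fun f => PowerSeries.mk fun i => PowerSeries.coeff (i + N) f), ?_⟩
  apply Matrix.ext
  intro i j
  simp only [Matrix.map_apply, Matrix.sub_apply, Matrix.smul_apply, smul_eq_mul,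
    Polynomial.coeToPowerSeries.ringHom_apply]
  have := PowerSeries.eq_X_pow_mul_shift_add_trunc N (a i j)
  exact eq_sub_of_add_eq' this.symm

theorem rel_of_rel_laurentSeries {m m' : ℕ}
    (e : Matrix (Fin m) (Fin m) R) (e' : Matrix (Fin m') (Fin m') R)
    (he : e * e = e) (he' : e' * e' = e')
    (hrel : Rel (e.map ((algebraMap (PowerSeries R) (LaurentSeries R)).comp
        (PowerSeries.C : R →+* PowerSeries R)))
      (e'.map ((algebraMap (PowerSeries R) (LaurentSeries R)).comp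
        (PowerSeries.C : R →+* PowerSeries R)))) :
    Rel e e' := by
  classical
  obtain ⟨ψ, hψdef⟩ : ∃ ψ : PowerSeries R →+* LaurentSeries R,
      ψ = algebraMap (PowerSeries R) (LaurentSeries R) := ⟨_, rfl⟩
  rw [← hψdef] at hrel
  have hLoc : LocLike (Submonoid.powers (PowerSeries.X : PowerSeries R)) ψ := by
    rw [hψdef]; exact LocLike.of_isLocalization _ _
  have hψinj : Function.Injective ψ := by
    rw [hψdef, LaurentSeries.coe_algebraMap]; exact HahnSeries.ofPowerSeries_injective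
  obtain ⟨eP, hePdef⟩ : ∃ eP, eP = e.map (PowerSeries.C : R →+* PowerSeries R) := ⟨_, rfl⟩
  obtain ⟨e'P, he'Pdef⟩ : ∃ e'P, e'P = e'.map (PowerSeries.C : R →+* PowerSeries R) := ⟨_, rfl⟩
  have h1 : e.map (ψ.comp (PowerSeries.C : R →+* PowerSeries R)) = eP.map ψ := by
    rw [hePdef, mcomp]
  have h2 : e'.map (ψ.comp (PowerSeries.C : R →+* PowerSeries R)) = e'P.map ψ := by
    rw [he'Pdef, mcomp]
  rw [h1, h2] at hrel
  obtain ⟨F, hFmem, a₀, b₀, r1, r2, r3, r4, r5, r6⟩ := clear_denoms hLoc hψinj eP e'P hrel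
  obtain ⟨K, hK⟩ := hFmem
  have hK' : F = PowerSeries.X ^ K := hK.symm
  subst hK'
  -- truncations
  obtain ⟨κ, hκdef⟩ : ∃ κ : R[X] →+* PowerSeries R,
      κ = Polynomial.coeToPowerSeries.ringHom (R := R) := ⟨_, rfl⟩
  obtain ⟨α₁, a', hα₁⟩ := exists_trunc (K + 1) a₀
  obtain ⟨β₁, b', hβ₁⟩ := exists_trunc (K + 1) b₀
  rw [← hκdef] at hα₁ hβ₁
  obtain ⟨eC, heCdef⟩ : ∃ eC, eC = e.map (Polynomial.C : R →+* R[X]) := ⟨_, rfl⟩
  obtain ⟨e'C, he'Cdef⟩ : ∃ e'C, e'C = e'.map (Polynomial.C : R →+* R[X]) := ⟨_, rfl⟩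
  have hκC : κ.comp (Polynomial.C : R →+* R[X]) = (PowerSeries.C : R →+* PowerSeries R) := by
    rw [hκdef]; ext r : 1; simp
  have heCκ : eC.map κ = eP := by rw [heCdef, hePdef, mcomp, hκC]
  have he'Cκ : e'C.map κ = e'P := by rw [he'Cdef, he'Pdef, mcomp, hκC]
  have hκX : κ (X ^ K) = (PowerSeries.X ^ K : PowerSeries R) := by
    rw [hκdef, map_pow, Polynomial.coeToPowerSeries.ringHom_apply, Polynomial.coe_X]
  have hκinj : Function.Injective κ := by
    rw [hκdef]; exact Polynomial.coe_injective R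
  have h7 : eC * eC = eC := by rw [heCdef, ← Matrix.map_mul, he]
  have h8 : e'C * e'C = e'C := by rw [he'Cdef, ← Matrix.map_mul, he']
  obtain ⟨α, hαdef⟩ : ∃ α, α = e'C * α₁ * eC := ⟨_, rfl⟩
  obtain ⟨β, hβdef⟩ : ∃ β, β = eC * β₁ * e'C := ⟨_, rfl⟩
  obtain ⟨a'', ha''def⟩ : ∃ a'', a'' = e'P * a' * eP := ⟨_, rfl⟩
  obtain ⟨b'', hb''def⟩ : ∃ b'', b'' = eP * b' * e'P := ⟨_, rfl⟩
  have hα : α.map κ = a₀ - (PowerSeries.X ^ (K + 1) : PowerSeries R) • a'' := by
    rw [hαdef, Matrix.map_mul, Matrix.map_mul, he'Cκ, heCκ, hα₁, Matrix.mul_sub, Matrix.sub_mul, r3,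
      r4, Matrix.mul_smul, Matrix.smul_mul, ha''def]
  have hβ : β.map κ = b₀ - (PowerSeries.X ^ (K + 1) : PowerSeries R) • b'' := by
    rw [hβdef, Matrix.map_mul, Matrix.map_mul, he'Cκ, heCκ, hβ₁, Matrix.mul_sub, Matrix.sub_mul, r5,
      r6, Matrix.mul_smul, Matrix.smul_mul, hb''def]
  have c3 : e'C * α = α := by rw [hαdef, ← Matrix.mul_assoc, ← Matrix.mul_assoc, h8]
  have c4 : α * eC = α := by rw [hαdef, Matrix.mul_assoc, h7]
  have c5 : eC * β = β := by rw [hβdef, ← Matrix.mul_assoc, ← Matrix.mul_assoc, h7]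
  have c6 : β * e'C = β := by rw [hβdef, Matrix.mul_assoc, h8]
  obtain ⟨Z, hZdef⟩ : ∃ Z, Z = α * β + (X ^ K : R[X]) • (1 - e'C) := ⟨_, rfl⟩
  obtain ⟨W, hWdef⟩ : ∃ W, W = β * α + (X ^ K : R[X]) • (1 - eC) := ⟨_, rfl⟩
  obtain ⟨ρ, hρdef⟩ : ∃ ρ, ρ = a'' * b₀ + a₀ * b'' -
      (PowerSeries.X ^ (K + 1) : PowerSeries R) • (a'' * b'') := ⟨_, rfl⟩
  obtain ⟨ρ₂, hρ₂def⟩ : ∃ ρ₂, ρ₂ = b'' * a₀ + b₀ * a'' -
      (PowerSeries.X ^ (K + 1) : PowerSeries R) • (b'' * a'') := ⟨_, rfl⟩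
  have hZκ : Z.map κ = (PowerSeries.X ^ K : PowerSeries R) •
      (1 - (PowerSeries.X : PowerSeries R) • ρ) := by
    rw [hZdef, madd, Matrix.map_mul, msmul, msub, Matrix.map_one κ (map_zero κ) (map_one κ), hα, hβ,
      he'Cκ, hκX, hρdef]
    simp only [Matrix.sub_mul, Matrix.mul_sub, Matrix.smul_mul, Matrix.mul_smul, smul_smul, r1]
    apply Matrix.ext
    intro i j
    simp only [Matrix.add_apply, Matrix.sub_apply, Matrix.smul_apply, smul_eq_mul]
    ring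
  have hWκ : W.map κ = (PowerSeries.X ^ K : PowerSeries R) •
      (1 - (PowerSeries.X : PowerSeries R) • ρ₂) := by
    rw [hWdef, madd, Matrix.map_mul, msmul, msub, Matrix.map_one κ (map_zero κ) (map_one κ), hα, hβ,
      heCκ, hκX, hρ₂def]
    simp only [Matrix.sub_mul, Matrix.mul_sub, Matrix.smul_mul, Matrix.mul_smul, smul_smul, r2]
    apply Matrix.ext
    intro i j
    simp only [Matrix.add_apply, Matrix.sub_apply, Matrix.smul_apply, smul_eq_mul]
    ring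
  rw [hκdef] at hZκ hWκ
  obtain ⟨g₁, hg₁, hg₁0⟩ := det_factor Z K ρ hZκ
  obtain ⟨g₂, hg₂, hg₂0⟩ := det_factor W K ρ₂ hWκ
  obtain ⟨β', p1, p2, p3, p4⟩ := exists_scalar_pair eC e'C h7 h8 α β (X ^ K) c3 c4 c5 c6
  rw [← hWdef, ← hZdef, hg₁, hg₂] at p1 p2
  have hg0 : (g₂ * g₁).coeff 0 = 1 := by rw [mul_coeff_zero, hg₂0, hg₁0, one_mul]
  refine rel_of_patch e e' he he' ((X : R[X]) • α) β' (K * m + K * m') (g₂ * g₁) hg0 ?_ ?_ ?_ ?_ ?_ ?_
  · rw [← he'Cdef, Matrix.smul_mul, p1, smul_smul]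
    congr 1
    ring
  · rw [← heCdef, Matrix.mul_smul, p2, smul_smul]
    congr 1
    ring
  · rw [← he'Cdef, Matrix.mul_smul, c3]
  · rw [← heCdef, Matrix.smul_mul, c4]
  · rw [← heCdef]; exact p3
  · rw [← he'Cdef]; exact p4

end PowerSeries

end Groth.Agent.H13.Horrocks
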