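import Mathlib
import Groth.Agent.H13.HorrocksLaurent

/-!
# Approximation arguments for finite projective modules over `L → Λ`
where `Λ` contains a "ring of integers" `O` with a pseudo-uniformiser `T`
(abstract core for `R(t) → R((t))` and `A[1/t] → Â[1/t]`).
-/

set_option autoImplicit false
set_option linter.unusedSectionVars false
set_option linter.unusedVariables false
set_option linter.style.haveILetI false

universe u

open Polynomial TensorProduct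

namespace Groth.Agent.H13.Horrocks

section MInt

variable {Λ : Type*} [CommRing Λ] {k l n : ℕ}

/-- all entries lie in the subring `O` -/
def MInt (O : Subring Λ) (x : Matrix (Fin k) (Fin l) Λ) : Prop := ∀ i j, x i j ∈ O

variable {O : Subring Λ}

theorem MInt.add {x y : Matrix (Fin k) (Fin l) Λ} (hx : MInt O x) (hy : MInt O y) :
    MInt O (x + y) := fun i j => O.add_mem (hx i j) (hy i j)

theorem MInt.sub {x y : Matrix (Fin k) (Fin l) Λ} (hx : MInt O x) (hy : MInt O y) :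
    MInt O (x - y) := fun i j => O.sub_mem (hx i j) (hy i j)

theorem MInt.neg {x : Matrix (Fin k) (Fin l) Λ} (hx : MInt O x) :
    MInt O (-x) := fun i j => O.neg_mem (hx i j)

theorem MInt.mul {x : Matrix (Fin k) (Fin l) Λ} {y : Matrix (Fin l) (Fin n) Λ}
    (hx : MInt O x) (hy : MInt O y) : MInt O (x * y) := by
  intro i j
  rw [Matrix.mul_apply]
  exact O.sum_mem fun s _ => O.mul_mem (hx i s) (hy s j)

theorem MInt.smul {c : Λ} (hc : c ∈ O) {x : Matrix (Fin k) (Fin l) Λ} (hx : MInt O x) :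
    MInt O (c • x) := fun i j => O.mul_mem hc (hx i j)

theorem MInt.one : MInt O (1 : Matrix (Fin k) (Fin k) Λ) := by
  intro i j
  rw [Matrix.one_apply]
  split_ifs
  · exact O.one_mem
  · exact O.zero_mem

theorem MInt.lift {x : Matrix (Fin k) (Fin l) Λ} (hx : MInt O x) :
    ∃ P : Matrix (Fin k) (Fin l) O, P.map O.subtype = x :=
  ⟨Matrix.of fun i j => ⟨x i j, hx i j⟩, by ext i j; rfl⟩

theorem MInt.of_map (P : Matrix (Fin k) (Fin l) O) : MInt O (P.map O.subtype) :=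
  fun i j => (P i j).2

theorem det_one_sub_smul {O' : Type*} [CommRing O'] (T : O') (ρ : Matrix (Fin n) (Fin n) O') :
    ∃ p : O', (1 - T • ρ).det = 1 - T * p := by
  classical
  have h0 : (Ideal.Quotient.mk (Ideal.span {T})).mapMatrix (T • ρ) = 0 := by
    ext i j
    simp only [RingHom.mapMatrix_apply, Matrix.map_apply, Matrix.smul_apply, smul_eq_mul, map_mul,
      Matrix.zero_apply]
    rw [Ideal.Quotient.eq_zero_iff_mem.mpr (Ideal.mem_span_singleton_self T), zero_mul]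
  have h1 : (Ideal.Quotient.mk (Ideal.span {T})) ((1 - T • ρ).det) = 1 := by
    rw [RingHom.map_det, map_sub, map_one, h0, sub_zero, Matrix.det_one]
  have h2 : (1 - T • ρ).det - 1 ∈ Ideal.span {T} := by
    rw [← Ideal.Quotient.eq_zero_iff_mem, map_sub, h1, map_one, sub_self]
  obtain ⟨q, hq⟩ := Ideal.mem_span_singleton'.mp h2
  exact ⟨-q, by linear_combination (-1 : O') * hq⟩

theorem MInt.det_one_sub {T : Λ} (hT : T ∈ O) {ρ : Matrix (Fin n) (Fin n) Λ} (hρ : MInt O ρ) :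
    ∃ p ∈ O, (1 - T • ρ).det = 1 - T * p := by
  classical
  obtain ⟨P, rfl⟩ := hρ.lift
  obtain ⟨p, hp⟩ := det_one_sub_smul (⟨T, hT⟩ : O) P
  refine ⟨p, p.2, ?_⟩
  have h1 : (1 - T • P.map O.subtype) = (O.subtype).mapMatrix (1 - (⟨T, hT⟩ : O) • P) := by
    rw [map_sub, map_one]
    congr 1
  rw [h1, ← RingHom.map_det, hp]
  simp

theorem MInt.adjugate {x : Matrix (Fin n) (Fin n) Λ} (hx : MInt O x) : MInt O x.adjugate := by
  classical
  obtain ⟨P, rfl⟩ := hx.lift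
  have h1 : (P.map O.subtype).adjugate = (P.adjugate).map O.subtype :=
    (RingHom.map_adjugate O.subtype P).symm
  rw [h1]
  exact MInt.of_map _

/-- pole bound -/
def PB (O : Subring Λ) (T : Λ) (c : ℕ) (x : Matrix (Fin k) (Fin l) Λ) : Prop :=
  MInt O (T ^ c • x)

variable {T : Λ}

theorem PB.mul {c d : ℕ} {x : Matrix (Fin k) (Fin l) Λ} {y : Matrix (Fin l) (Fin n) Λ}
    (hx : PB O T c x) (hy : PB O T d y) : PB O T (c + d) (x * y) := by
  unfold PB at *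
  have h1 : T ^ (c + d) • (x * y) = (T ^ c • x) * (T ^ d • y) := by rw [smul_mul_smul', pow_add]
  rw [h1]
  exact hx.mul hy

theorem PB.of_int {x : Matrix (Fin k) (Fin l) Λ} (hx : MInt O x) : PB O T 0 x := by
  unfold PB
  rw [pow_zero, one_smul]
  exact hx

theorem PB.mono (hT : T ∈ O) {c c' : ℕ} {x : Matrix (Fin k) (Fin l) Λ} (hx : PB O T c x)
    (h : c ≤ c') : PB O T c' x := by
  unfold PB at *
  obtain ⟨d, rfl⟩ := Nat.exists_eq_add_of_le h
  have h1 : T ^ (c + d) • x = T ^ d • (T ^ c • x) := by rw [smul_smul, pow_add, mul_comm]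
  rw [h1]
  exact hx.smul (O.pow_mem hT d)

theorem PB.sub {c : ℕ} {x y : Matrix (Fin k) (Fin l) Λ} (hx : PB O T c x) (hy : PB O T c y) :
    PB O T c (x - y) := by
  unfold PB at *
  rw [smul_sub]
  exact hx.sub hy

theorem PB.smul_int {c : ℕ} {w : Λ} (hw : w ∈ O) {x : Matrix (Fin k) (Fin l) Λ}
    (hx : PB O T c x) : PB O T c (w • x) := by
  unfold PB at *
  rw [smul_comm]
  exact hx.smul hw

theorem PB.exists_smul (hT : T ∈ O) {c N : ℕ} {x : Matrix (Fin k) (Fin l) Λ} (hx : PB O T c x)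
    (h : c + 1 ≤ N) : ∃ ρ, MInt O ρ ∧ T ^ N • x = T • ρ := by
  obtain ⟨d, rfl⟩ := Nat.exists_eq_add_of_le h
  refine ⟨T ^ d • (T ^ c • x), MInt.smul (O.pow_mem hT d) hx, ?_⟩
  rw [smul_smul, smul_smul]
  congr 1
  ring

end MInt

section Core

variable {L Λ : Type*} [CommRing L] [CommRing Λ] {k l : ℕ}

/-- abstract "Zariski pair with completion" data -/
structure ZarPair (j : L →+* Λ) (O : Subring Λ) (T : Λ) : Prop where
  T_mem : T ∈ O
  approx : ∀ (x : Λ) (N : ℕ), ∃ y : L, ∃ p ∈ O, j y = x - T ^ N * p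
  bound : ∀ x : Λ, ∃ c : ℕ, T ^ c * x ∈ O
  unit_L : ∀ d : L, (∃ p ∈ O, j d = 1 - T * p) → IsUnit d
  unit_O : ∀ p ∈ O, ∃ w ∈ O, (1 - T * p) * w = 1

variable {j : L →+* Λ} {O : Subring Λ} {T : Λ}

theorem ZarPair.approx_mat (h : ZarPair j O T) (x : Matrix (Fin k) (Fin l) Λ) (N : ℕ) :
    ∃ (y : Matrix (Fin k) (Fin l) L) (p : Matrix (Fin k) (Fin l) Λ),
      MInt O p ∧ y.map j = x - T ^ N • p := by
  choose y p hp hy using fun i j' => h.approx (x i j') N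
  refine ⟨Matrix.of y, Matrix.of p, fun i j' => hp i j', ?_⟩
  ext i j'
  simp [hy]

theorem ZarPair.bound_mat (h : ZarPair j O T) (x : Matrix (Fin k) (Fin l) Λ) :
    ∃ c, PB O T c x := by
  choose c hc using fun i j' => h.bound (x i j')
  refine ⟨∑ i, ∑ j', c i j', fun i j' => ?_⟩
  have hle : c i j' ≤ ∑ i, ∑ j', c i j' := by
    calc c i j' ≤ ∑ j'', c i j'' :=
          Finset.single_le_sum (f := fun j'' => c i j'') (fun _ _ => Nat.zero_le _)
            (Finset.mem_univ j')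
      _ ≤ ∑ i', ∑ j'', c i' j'' :=
          Finset.single_le_sum (f := fun i' => ∑ j'', c i' j'') (fun _ _ => Nat.zero_le _)
            (Finset.mem_univ i)
  obtain ⟨d, hd⟩ := Nat.exists_eq_add_of_le hle
  show T ^ (∑ i, ∑ j', c i j') * x i j' ∈ O
  rw [hd, pow_add, mul_comm (T ^ c i j'), mul_assoc]
  exact O.mul_mem (O.pow_mem h.T_mem d) (hc i j')

theorem ZarPair.approx_prod (h : ZarPair j O T) {x : Matrix (Fin k) (Fin l) Λ}
    {y : Matrix (Fin l) (Fin k) Λ} {u : Matrix (Fin k) (Fin k) Λ} {v : Matrix (Fin l) (Fin l) Λ}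
    {p : Matrix (Fin k) (Fin l) Λ} {q : Matrix (Fin l) (Fin k) Λ} {c : ℕ}
    (hx : PB O T c x) (hy : PB O T c y) (hu : PB O T (2 * c) u) (hv : PB O T (2 * c) v)
    (hp : MInt O p) (hq : MInt O q) :
    ∃ ρ, MInt O ρ ∧ (x - T ^ (6 * c + 1) • (u * p * v)) * (y - T ^ (6 * c + 1) • (v * q * u)) =
      x * y - T • ρ := by
  have hT := h.T_mem
  have hP₁ : PB O T (4 * c) (u * p * v) :=
    ((hu.mul (PB.of_int hp)).mul hv).mono hT (by omega)
  have hQ₁ : PB O T (4 * c) (v * q * u) :=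
    ((hv.mul (PB.of_int hq)).mul hu).mono hT (by omega)
  obtain ⟨ρ₁, hρ₁, e₁⟩ := (hP₁.mul hy).exists_smul hT (N := 6 * c + 1) (by omega)
  obtain ⟨ρ₂, hρ₂, e₂⟩ := (hx.mul hQ₁).exists_smul hT (N := 6 * c + 1) (by omega)
  obtain ⟨ρ₃, hρ₃, e₃⟩ :=
    (hP₁.mul hQ₁).exists_smul hT (N := (6 * c + 1) + (6 * c + 1)) (by omega)
  refine ⟨ρ₁ + ρ₂ - ρ₃, (hρ₁.add hρ₂).sub hρ₃, ?_⟩
  have expand : (x - T ^ (6 * c + 1) • (u * p * v)) * (y - T ^ (6 * c + 1) • (v * q * u)) =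
      x * y - T ^ (6 * c + 1) • (x * (v * q * u)) - T ^ (6 * c + 1) • ((u * p * v) * y) +
        T ^ ((6 * c + 1) + (6 * c + 1)) • ((u * p * v) * (v * q * u)) := by
    simp only [Matrix.sub_mul, Matrix.mul_sub, Matrix.mul_smul, Matrix.smul_mul, smul_sub,
      smul_smul, ← pow_add]
    abel
  rw [expand, e₁, e₂, e₃, smul_sub, smul_add]
  abel

/-- **(b)**: idempotent matrices over `L` which become equivalent over `Λ` are equivalent. -/
theorem ZarPair.rel_of_rel_map (h : ZarPair j O T) {m m' : ℕ}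
    (EM : Matrix (Fin m) (Fin m) L) (EN : Matrix (Fin m') (Fin m') L)
    (hM : EM * EM = EM) (hN : EN * EN = EN) (hrel : Rel (EM.map j) (EN.map j)) : Rel EM EN := by
  classical
  have hT := h.T_mem
  obtain ⟨a, b, hab, hba, ha, hb⟩ := hrel
  have ha2 : a * EM.map j = a := by rw [← hba, ← Matrix.mul_assoc, hab, ha]
  have hb2 : b * EN.map j = b := by rw [← hab, ← Matrix.mul_assoc, hba, hb]
  obtain ⟨c₁, hc₁⟩ := h.bound_mat a
  obtain ⟨c₂, hc₂⟩ := h.bound_mat b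
  obtain ⟨c, hcdef⟩ : ∃ c, c = c₁ + c₂ := ⟨_, rfl⟩
  have hca : PB O T c a := hc₁.mono hT (by omega)
  have hcb : PB O T c b := hc₂.mono hT (by omega)
  have hcN : PB O T (2 * c) (EN.map j) := by
    rw [← hab]; exact (hca.mul hcb).mono hT (by omega)
  have hcM : PB O T (2 * c) (EM.map j) := by
    rw [← hba]; exact (hcb.mul hca).mono hT (by omega)
  obtain ⟨α₀, p, hp, hα₀⟩ := h.approx_mat a (6 * c + 1)
  obtain ⟨β₀, q, hq, hβ₀⟩ := h.approx_mat b (6 * c + 1)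
  obtain ⟨α, hαdef⟩ : ∃ α, α = EN * α₀ * EM := ⟨_, rfl⟩
  obtain ⟨β, hβdef⟩ : ∃ β, β = EM * β₀ * EN := ⟨_, rfl⟩
  have hα : α.map j = a - T ^ (6 * c + 1) • (EN.map j * p * EM.map j) := by
    rw [hαdef, Matrix.map_mul, Matrix.map_mul, hα₀, Matrix.mul_sub, Matrix.sub_mul, ha, ha2,
      Matrix.mul_smul, Matrix.smul_mul]
  have hβ : β.map j = b - T ^ (6 * c + 1) • (EM.map j * q * EN.map j) := by
    rw [hβdef, Matrix.map_mul, Matrix.map_mul, hβ₀, Matrix.mul_sub, Matrix.sub_mul, hb, hb2,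
      Matrix.mul_smul, Matrix.smul_mul]
  obtain ⟨ρ, hρ, e1⟩ := h.approx_prod hca hcb hcN hcM hp hq
  obtain ⟨ρ', hρ', e2⟩ := h.approx_prod hcb hca hcM hcN hq hp
  rw [← hα, ← hβ, hab] at e1
  rw [← hα, ← hβ, hba] at e2
  obtain ⟨Z, hZdef⟩ : ∃ Z, Z = α * β + (1 : L) • (1 - EN) := ⟨_, rfl⟩
  obtain ⟨W, hWdef⟩ : ∃ W, W = β * α + (1 : L) • (1 - EM) := ⟨_, rfl⟩
  have hZj : Z.map j = 1 - T • ρ := by
    rw [hZdef, madd, Matrix.map_mul, msmul, msub, Matrix.map_one j (map_zero j) (map_one j),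
      map_one, one_smul, e1]
    abel
  have hWj : W.map j = 1 - T • ρ' := by
    rw [hWdef, madd, Matrix.map_mul, msmul, msub, Matrix.map_one j (map_zero j) (map_one j),
      map_one, one_smul, e2]
    abel
  obtain ⟨p₁, hp₁, hd₁⟩ := hρ.det_one_sub hT
  obtain ⟨p₂, hp₂, hd₂⟩ := hρ'.det_one_sub hT
  have hZu : IsUnit Z.det :=
    h.unit_L _ ⟨p₁, hp₁, by rw [RingHom.map_det, RingHom.mapMatrix_apply, hZj, hd₁]⟩
  have hWu : IsUnit W.det :=
    h.unit_L _ ⟨p₂, hp₂, by rw [RingHom.map_det, RingHom.mapMatrix_apply, hWj, hd₂]⟩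
  have c3 : EN * α = α := by rw [hαdef, ← Matrix.mul_assoc, ← Matrix.mul_assoc, hN]
  have c4 : α * EM = α := by rw [hαdef, Matrix.mul_assoc, hM]
  have c5 : EM * β = β := by rw [hβdef, ← Matrix.mul_assoc, ← Matrix.mul_assoc, hM]
  have c6 : β * EN = β := by rw [hβdef, Matrix.mul_assoc, hN]
  obtain ⟨β', p1, p2, p3, p4⟩ := exists_scalar_pair EM EN hM hN α β (1 : L) c3 c4 c5 c6
  rw [← hWdef, ← hZdef] at p1 p2
  obtain ⟨v, hv⟩ := (hWu.mul hZu).exists_left_inv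
  refine ⟨α, v • β', ?_, ?_, c3, ?_⟩
  · rw [Matrix.mul_smul, p1, smul_smul, hv, one_smul]
  · rw [Matrix.smul_mul, p2, smul_smul, hv, one_smul]
  · rw [Matrix.mul_smul, p3]

/-- **(c)**: a split surjection `Λ^m → Λ^n` has, up to an automorphism of `Λ^m`, a model over `L`. -/
theorem ZarPair.exists_descent (h : ZarPair j O T) {n m : ℕ}
    (A' : Matrix (Fin n) (Fin m) Λ) (B' : Matrix (Fin m) (Fin n) Λ) (hAB : A' * B' = 1) :
    ∃ (A : Matrix (Fin n) (Fin m) L) (B₂ : Matrix (Fin m) (Fin n) L), A * B₂ = 1 ∧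
      Rel ((1 - B₂ * A).map j) (1 - B' * A') := by
  classical
  have hT := h.T_mem
  obtain ⟨c₁, hc₁⟩ := h.bound_mat A'
  obtain ⟨c₂, hc₂⟩ := h.bound_mat B'
  obtain ⟨c, hcdef⟩ : ∃ c, c = c₁ + c₂ := ⟨_, rfl⟩
  have hcA : PB O T c A' := hc₁.mono hT (by omega)
  have hcB : PB O T c B' := hc₂.mono hT (by omega)
  obtain ⟨A, p, hp, hA⟩ := h.approx_mat A' (c + 1)
  obtain ⟨B, q, hq, hB⟩ := h.approx_mat B' (c + 1)
  obtain ⟨ρ₁, hρ₁, e₁⟩ := ((PB.of_int (T := T) hp).mul hcB).exists_smul hT (N := c + 1) (by omega)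
  obtain ⟨ρ₂, hρ₂, e₂⟩ := (hcA.mul (PB.of_int (T := T) hq)).exists_smul hT (N := c + 1) (by omega)
  obtain ⟨ρ₃, hρ₃, e₃⟩ := ((PB.of_int (T := T) hp).mul (PB.of_int (T := T) hq)).exists_smul hT
    (N := (c + 1) + (c + 1)) (by omega)
  obtain ⟨ρ, hρdef⟩ : ∃ ρ, ρ = ρ₁ + ρ₂ - ρ₃ := ⟨_, rfl⟩
  have hρ : MInt O ρ := by rw [hρdef]; exact (hρ₁.add hρ₂).sub hρ₃
  have hAB' : A.map j * B.map j = 1 - T • ρ := by
    rw [hA, hB]
    have expand : (A' - T ^ (c + 1) • p) * (B' - T ^ (c + 1) • q) =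
        A' * B' - T ^ (c + 1) • (A' * q) - T ^ (c + 1) • (p * B') +
          T ^ ((c + 1) + (c + 1)) • (p * q) := by
      simp only [Matrix.sub_mul, Matrix.mul_sub, Matrix.mul_smul, Matrix.smul_mul, smul_sub,
        smul_smul, ← pow_add]
      abel
    rw [expand, e₁, e₂, e₃, hAB, hρdef, smul_sub, smul_add]
    abel
  obtain ⟨p₁, hp₁, hd₁⟩ := hρ.det_one_sub hT
  have hjD : j (A * B).det = 1 - T * p₁ := by
    rw [RingHom.map_det, RingHom.mapMatrix_apply, Matrix.map_mul, hAB', hd₁]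
  have hDu : IsUnit (A * B).det := h.unit_L _ ⟨p₁, hp₁, hjD⟩
  obtain ⟨v, hv⟩ := hDu.exists_left_inv
  obtain ⟨B₂, hB₂def⟩ : ∃ B₂, B₂ = v • (B * (A * B).adjugate) := ⟨_, rfl⟩
  have hAB₂ : A * B₂ = 1 := by
    rw [hB₂def, Matrix.mul_smul, ← Matrix.mul_assoc, Matrix.mul_adjugate, smul_smul, hv, one_smul]
  obtain ⟨w, hw, hw1⟩ := h.unit_O p₁ hp₁
  have hjv : j v = w := by
    have h1 : j v * (1 - T * p₁) = 1 := by rw [← hjD, ← map_mul, hv, map_one]
    calc j v = j v * ((1 - T * p₁) * w) := by rw [hw1, mul_one]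
      _ = (j v * (1 - T * p₁)) * w := by ring
      _ = w := by rw [h1, one_mul]
  have h1 : A.map j * B₂.map j = 1 := by
    rw [← Matrix.map_mul, hAB₂, Matrix.map_one j (map_zero j) (map_one j)]
  have hjB₂ : PB O T c (B₂.map j) := by
    rw [hB₂def, msmul, Matrix.map_mul, hjv]
    have hadj : MInt O (((A * B).adjugate).map j) := by
      have h2 : ((A * B).adjugate).map j = ((A * B).map j).adjugate :=
        RingHom.map_adjugate j (A * B)
      rw [h2, Matrix.map_mul, hAB']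
      exact ((MInt.one).sub (hρ.smul hT)).adjugate
    have hBj : PB O T c (B.map j) := by
      rw [hB]
      exact hcB.sub ((PB.of_int (T := T) (hq.smul (O.pow_mem hT _))).mono hT (by omega))
    exact ((hBj.mul (PB.of_int (T := T) hadj)).smul_int hw).mono hT (by omega)
  obtain ⟨ρ₄, hρ₄, e₄⟩ :=
    (hjB₂.mul (PB.of_int (T := T) hp)).exists_smul hT (N := c + 1) (by omega)
  obtain ⟨U, hUdef⟩ : ∃ U, U = 1 + B₂.map j * (A' - A.map j) := ⟨_, rfl⟩
  have hU : U = 1 - T • (-ρ₄) := by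
    rw [hUdef, hA, sub_sub_cancel, Matrix.mul_smul, e₄, smul_neg, sub_neg_eq_add]
  obtain ⟨p₂, hp₂, hd₂⟩ := (hρ₄.neg).det_one_sub hT
  obtain ⟨w', hw', hw'1⟩ := h.unit_O p₂ hp₂
  have hUdet : U.det = 1 - T * p₂ := by rw [hU, hd₂]
  obtain ⟨Ui, hUidef⟩ : ∃ Ui, Ui = w' • U.adjugate := ⟨_, rfl⟩
  have hUUi : U * Ui = 1 := by
    rw [hUidef, Matrix.mul_smul, Matrix.mul_adjugate, hUdet, smul_smul, mul_comm w', hw'1, one_smul]
  have hUiU : Ui * U = 1 := by
    rw [hUidef, Matrix.smul_mul, Matrix.adjugate_mul, hUdet, smul_smul, mul_comm w', hw'1, one_smul]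
  have hAU : A.map j * U = A' := by
    rw [hUdef, Matrix.mul_add, Matrix.mul_one, ← Matrix.mul_assoc, h1, Matrix.one_mul,
      add_sub_cancel]
  obtain ⟨Ej, hEjdef⟩ : ∃ Ej, Ej = 1 - B₂.map j * A.map j := ⟨_, rfl⟩
  obtain ⟨E', hE'def⟩ : ∃ E', E' = 1 - B' * A' := ⟨_, rfl⟩
  have hEjmap : (1 - B₂ * A).map j = Ej := by
    rw [hEjdef, msub, Matrix.map_one j (map_zero j) (map_one j), Matrix.map_mul]
  have hA'E' : A' * E' = 0 := by
    rw [hE'def, Matrix.mul_sub, Matrix.mul_one, ← Matrix.mul_assoc, hAB, Matrix.one_mul, sub_self]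
  have hAEj : A.map j * Ej = 0 := by
    rw [hEjdef, Matrix.mul_sub, Matrix.mul_one, ← Matrix.mul_assoc, h1, Matrix.one_mul, sub_self]
  have F1 : Ej * (U * E') = U * E' := by
    rw [hEjdef, Matrix.sub_mul, Matrix.one_mul, Matrix.mul_assoc, ← Matrix.mul_assoc (A.map j), hAU,
      hA'E', Matrix.mul_zero, sub_zero]
  have hA'Ui : A' * Ui = A.map j := by rw [← hAU, Matrix.mul_assoc, hUUi, Matrix.mul_one]
  have F2 : E' * (Ui * Ej) = Ui * Ej := by
    rw [hE'def, Matrix.sub_mul, Matrix.one_mul, Matrix.mul_assoc, ← Matrix.mul_assoc A', hA'Ui,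
      hAEj, Matrix.mul_zero, sub_zero]
  refine ⟨A, B₂, hAB₂, ?_⟩
  rw [hEjmap, ← hE'def]
  refine ⟨Ui * Ej, U * E', ?_, ?_, F2, F1⟩
  · rw [Matrix.mul_assoc, F1, ← Matrix.mul_assoc, hUiU, Matrix.one_mul]
  · rw [Matrix.mul_assoc, F2, ← Matrix.mul_assoc, hUUi, Matrix.one_mul]

end Core

end Groth.Agent.H13.Horrocks
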