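import Mathlib
import Groth.Agent.H13.ZarPair
import Groth.Agent.H13.HorrocksP1
import Groth.Agent.H3.HPair7

/-!
# Descent of idempotent matrices along `A[1/t] → Â[1/t]`-like maps for Henselian pairs `(A, tA)`
-/

set_option autoImplicit false
set_option linter.unusedSectionVars false
set_option linter.unusedVariables false
set_option linter.deprecated false

universe u

open TensorProduct Polynomial

namespace Groth.Agent.H13.Horrocks

section Conj

variable {Λ : Type*} [CommRing Λ] {n : ℕ}

theorem PB.add' {O : Subring Λ} {T : Λ} {k l c : ℕ} {x y : Matrix (Fin k) (Fin l) Λ}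
    (hx : PB O T c x) (hy : PB O T c y) : PB O T c (x + y) := by
  unfold PB at *
  rw [smul_add]
  exact hx.add hy

theorem rel_of_conj (P Q u v : Matrix (Fin n) (Fin n) Λ)
    (hP : P * P = P) (hQ : Q * Q = Q) (hPu : P * u = u * Q) (huv : u * v = 1) (hvu : v * u = 1) :
    Rel P Q := by
  have hvP : v * P = Q * v := by
    calc v * P = v * P * (u * v) := by rw [huv, Matrix.mul_one]
      _ = v * (P * u) * v := by simp only [Matrix.mul_assoc]
      _ = v * (u * Q) * v := by rw [hPu]
      _ = (v * u) * Q * v := by simp only [Matrix.mul_assoc]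
      _ = Q * v := by rw [hvu, Matrix.one_mul]
  refine ⟨v * P, P * u, ?_, ?_, ?_, ?_⟩
  · calc v * P * (P * u) = v * (P * P) * u := by simp only [Matrix.mul_assoc]
      _ = v * (P * u) := by rw [hP, Matrix.mul_assoc]
      _ = v * u * Q := by rw [hPu, Matrix.mul_assoc]
      _ = Q := by rw [hvu, Matrix.one_mul]
  · calc P * u * (v * P) = P * (u * v) * P := by simp only [Matrix.mul_assoc]
      _ = P := by rw [huv, Matrix.mul_one, hP]
  · rw [hvP, ← Matrix.mul_assoc, hQ]
  · rw [← Matrix.mul_assoc, hP]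

theorem rel_of_close {O : Subring Λ} {T : Λ} (hT : T ∈ O)
    (hunit : ∀ p ∈ O, ∃ w ∈ O, (1 - T * p) * w = 1)
    (P Q r : Matrix (Fin n) (Fin n) Λ) (c : ℕ) (hP : P * P = P) (hQ : Q * Q = Q)
    (hQc : MInt O (T ^ c • Q)) (hr : MInt O r) (hPQ : P - Q = T ^ (2 * c + 1) • r) :
    Rel P Q := by
  classical
  obtain ⟨u, hu⟩ : ∃ u, u = 1 + (P - Q) * (Q + Q - 1) := ⟨_, rfl⟩
  have h1 : (P - Q) * (Q + Q - 1) = P * Q + P * Q - P - Q := by
    calc (P - Q) * (Q + Q - 1) = P * Q + P * Q - P - (Q * Q + Q * Q - Q) := by noncomm_ring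
      _ = P * Q + P * Q - P - Q := by rw [hQ]; abel
  have hPu : P * u = P * Q := by
    rw [hu, h1]
    calc P * (1 + (P * Q + P * Q - P - Q))
        = P + (P * P * Q + P * P * Q - P * P - P * Q) := by noncomm_ring
      _ = P * Q := by rw [hP]; abel
  have huQ : u * Q = P * Q := by
    rw [hu, h1]
    calc (1 + (P * Q + P * Q - P - Q)) * Q
        = Q + (P * (Q * Q) + P * (Q * Q) - P * Q - Q * Q) := by noncomm_ring
      _ = P * Q := by rw [hQ]; abel
  obtain ⟨ρ, hρdef⟩ : ∃ ρ, ρ = -((T ^ c • r) * (T ^ c • (Q + Q - 1))) := ⟨_, rfl⟩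
  have hρ : MInt O ρ := by
    rw [hρdef]
    refine MInt.neg (MInt.mul (MInt.smul (O.pow_mem hT c) hr) ?_)
    rw [smul_sub, smul_add]
    exact (hQc.add hQc).sub (MInt.smul (O.pow_mem hT c) MInt.one)
  have hu2 : u = 1 - T • ρ := by
    rw [hu, hPQ, hρdef, smul_neg, sub_neg_eq_add, smul_mul_smul', Matrix.smul_mul, smul_smul]
    congr 2
    ring
  obtain ⟨s, hs, hdet⟩ := MInt.det_one_sub hT hρ
  obtain ⟨w, hw, hsw⟩ := hunit s hs
  rw [← hdet, ← hu2] at hsw
  obtain ⟨v, hv⟩ : ∃ v, v = w • u.adjugate := ⟨_, rfl⟩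
  have huv : u * v = 1 := by
    rw [hv, Matrix.mul_smul, Matrix.mul_adjugate, smul_smul, mul_comm, hsw, one_smul]
  have hvu : v * u = 1 := by
    rw [hv, Matrix.smul_mul, Matrix.adjugate_mul, smul_smul, mul_comm, hsw, one_smul]
  exact rel_of_conj P Q u v hP hQ (hPu.trans huQ.symm) huv hvu

end Conj

section CommCore

/-- two idempotents modulo `τ ^ M` congruent modulo `τ` are congruent modulo `τ ^ M` -/
theorem sub_mem_of_idem {B : Type*} [CommRing B] (τ : B) (M : ℕ) (e b : B) (he : e * e = e)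
    (hb : b ^ 2 - b ∈ Ideal.span {τ ^ M}) (hsub : e - b ∈ Ideal.span {τ}) :
    e - b ∈ Ideal.span {τ ^ M} := by
  obtain ⟨J, hJ⟩ : ∃ J : Ideal B, J = Ideal.span {τ ^ M} := ⟨_, rfl⟩
  obtain ⟨u, hu⟩ : ∃ u, u = e - b := ⟨_, rfl⟩
  rw [← hJ] at hb ⊢
  rw [← hu] at hsub ⊢
  have h3 : u ^ 3 - u ∈ J := by
    have : u ^ 3 - u = (b ^ 2 - b) * (3 * e - b - 1) := by
      rw [hu]; linear_combination (e + 1 - 3 * b) * he
    rw [this]; exact J.mul_mem_right _ hb
  have hk : ∀ k : ℕ, u ^ (3 ^ k) - u ∈ J := by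
    intro k
    induction k with
    | zero => simp
    | succ k ih =>
      have : u ^ (3 ^ (k + 1)) - u =
          (u ^ (3 ^ k) - u) * ((u ^ (3 ^ k)) ^ 2 + u ^ (3 ^ k) * u + u ^ 2) + (u ^ 3 - u) := by
        rw [pow_succ 3 k, pow_mul]; ring
      rw [this]
      exact J.add_mem (J.mul_mem_right _ ih) h3
  have hpow : u ^ (3 ^ M) ∈ J := by
    have h1 : u ^ (3 ^ M) ∈ Ideal.span {τ} ^ (3 ^ M) := Ideal.pow_mem_pow hsub _
    rw [Ideal.span_singleton_pow] at h1
    obtain ⟨z, hz⟩ := Ideal.mem_span_singleton'.mp h1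
    have hle : M ≤ 3 ^ M := (Nat.lt_pow_self (by norm_num)).le
    obtain ⟨d, hd⟩ := Nat.exists_eq_add_of_le hle
    rw [hJ, Ideal.mem_span_singleton']
    refine ⟨z * τ ^ d, ?_⟩
    rw [← hz, hd, pow_add]; ring
  have := J.sub_mem hpow (hk M)
  rwa [sub_sub_cancel] at this

/-- Idempotent approximation in an integral algebra over a Henselian pair `(A, tA)`. -/
theorem exists_idem_close {A : Type u} [CommRing A] (t : A) [HenselianRing A (Ideal.span {t})]
    {B : Type u} [CommRing B] [Algebra A B] [Algebra.IsIntegral A B] (M : ℕ) (hM : 1 ≤ M)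
    (b d : B) (hbd : b ^ 2 - b = algebraMap A B (t ^ M) * d) :
    ∃ e w : B, e * e = e ∧ e - b = algebraMap A B (t ^ M) * w := by
  have hmap : (Ideal.span {t}).map (algebraMap A B) = Ideal.span {algebraMap A B t} := by
    rw [Ideal.map_span, Set.image_singleton]
  have hb2 : b ^ 2 - b ∈ (Ideal.span {t}).map (algebraMap A B) := by
    rw [hbd, hmap]
    obtain ⟨M', rfl⟩ := Nat.exists_eq_add_of_le hM
    rw [pow_add, pow_one, map_mul, mul_assoc]
    exact Ideal.mul_mem_right _ _ (Ideal.mem_span_singleton_self _)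
  obtain ⟨e, he, hsub⟩ :=
    Groth.Agent.H3.exists_isIdempotentElem_sub_mem_of_henselianRing (Ideal.span {t}) b hb2
  rw [hmap] at hsub
  have hb3 : b ^ 2 - b ∈ Ideal.span {algebraMap A B t ^ M} := by
    rw [hbd, map_pow]
    exact Ideal.mul_mem_right _ _ (Ideal.mem_span_singleton_self _)
  have h4 := sub_mem_of_idem (algebraMap A B t) M e b he.eq hb3 hsub
  obtain ⟨w, hw⟩ := Ideal.mem_span_singleton'.mp h4
  exact ⟨e, w, he.eq, by rw [← hw, map_pow, mul_comm]⟩

end CommCore

section Main

variable {A L Λ : Type u} [CommRing A] [CommRing L] [CommRing Λ] [Algebra A L]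

/-- abstract data of a Henselian pair `(A, tA)` with `L = A[1/t]` mapping to a "completion" `Λ` -/
structure HensZarPair (t : A) (j : L →+* Λ) (O : Subring Λ) (T : Λ) : Prop where
  zar : ZarPair j O T
  j_t : j (algebraMap A L t) = T
  j_mem : ∀ a : A, j (algebraMap A L a) ∈ O
  sat : ∀ (d : L) (N : ℕ), (∃ p ∈ O, j d = T ^ N * p) → ∃ a : A, d = algebraMap A L (t ^ N * a)
  unit_t : IsUnit (algebraMap A L t)
  hens : HenselianRing A (Ideal.span {t})

open scoped IsMulCommutative in
/-- the commutative-algebra step: an almost idempotent matrix over `L` whose defect is divisible by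
`t ^ M` is `t ^ M`-close to an idempotent, with controlled shape of the difference. -/
theorem exists_idem_matrix (t : A) [HenselianRing A (Ideal.span {t})]
    (hut : IsUnit (algebraMap A L t)) {n : ℕ} (M : ℕ) (hM : 1 ≤ M)
    (E : Matrix (Fin n) (Fin n) L) (Dm : Matrix (Fin n) (Fin n) A)
    (hδ : E * E - E = (t ^ M : A) • Dm.map (algebraMap A L)) :
    ∃ (e : Matrix (Fin n) (Fin n) L) (W₁ W₂ : Matrix (Fin n) (Fin n) A), e * e = e ∧
      e = E + (t ^ M : A) • (W₁.map (algebraMap A L) + W₂.map (algebraMap A L) * E) := by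
  classical
  rcases subsingleton_or_nontrivial A with hA | hA
  · haveI : Subsingleton L := (algebraMap A L).codomain_trivial
    exact ⟨0, 0, 0, Subsingleton.elim _ _, Subsingleton.elim _ _⟩
  obtain ⟨Dbar, hDbar⟩ : ∃ Dbar : Matrix (Fin n) (Fin n) L, Dbar = Dm.map (algebraMap A L) :=
    ⟨_, rfl⟩
  rw [← hDbar] at hδ
  have hτu : IsUnit (algebraMap A L (t ^ M)) := by rw [map_pow]; exact hut.pow _
  have hcommδ : Commute E (E * E - E) :=
    ((Commute.refl E).mul_right (Commute.refl E)).sub_right (Commute.refl E)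
  have hcomm : Commute E Dbar := by
    have h1 : Commute E ((t ^ M : A) • Dbar) := hδ ▸ hcommδ
    unfold Commute SemiconjBy at h1 ⊢
    rw [Matrix.mul_smul, Matrix.smul_mul, ← algebraMap_smul L, ← algebraMap_smul L (t ^ M)] at h1
    exact hτu.smul_left_cancel.mp h1
  have hcs : ∀ a ∈ ({E, Dbar} : Set (Matrix (Fin n) (Fin n) L)),
      ∀ b ∈ ({E, Dbar} : Set (Matrix (Fin n) (Fin n) L)), a * b = b * a := by
    rintro a (rfl | rfl) b (rfl | rfl)
    · rfl
    · exact hcomm.eq
    · exact hcomm.eq.symm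
    · rfl
  have hEm : E ∈ Algebra.adjoin A ({E, Dbar} : Set (Matrix (Fin n) (Fin n) L)) :=
    Algebra.subset_adjoin (Set.mem_insert _ _)
  have hDm : Dbar ∈ Algebra.adjoin A ({E, Dbar} : Set (Matrix (Fin n) (Fin n) L)) :=
    Algebra.subset_adjoin (Set.mem_insert_of_mem _ rfl)
  haveI hmc : IsMulCommutative (Algebra.adjoin A ({E, Dbar} : Set (Matrix (Fin n) (Fin n) L))) :=
    Algebra.isMulCommutative_adjoin A hcs
  -- the defect equation in the subalgebra
  have hEB : (⟨E, hEm⟩ : Algebra.adjoin A ({E, Dbar} : Set (Matrix (Fin n) (Fin n) L))) ^ 2 -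
      ⟨E, hEm⟩ = algebraMap A _ (t ^ M) * ⟨Dbar, hDm⟩ := by
    apply Subtype.ext
    simp only [Subalgebra.coe_sub, Subalgebra.coe_pow, Subalgebra.coe_mul,
      Subalgebra.coe_algebraMap]
    rw [pow_two, hδ, Algebra.smul_def]
  -- integrality
  have hDint0 : IsIntegral A Dbar := by
    have h1 : IsIntegral A Dm := Matrix.isIntegral Dm
    have h2 := h1.map ((Algebra.ofId A L).mapMatrix (m := Fin n))
    have h3 : (Algebra.ofId A L).mapMatrix Dm = Dbar := by
      rw [hDbar]; rfl
    rwa [h3] at h2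
  have hDint : IsIntegral A
      (⟨Dbar, hDm⟩ : Algebra.adjoin A ({E, Dbar} : Set (Matrix (Fin n) (Fin n) L))) :=
    (isIntegral_algHom_iff
      (Algebra.adjoin A ({E, Dbar} : Set (Matrix (Fin n) (Fin n) L))).val
      Subtype.val_injective).mp hDint0
  have hEint : IsIntegral A
      (⟨E, hEm⟩ : Algebra.adjoin A ({E, Dbar} : Set (Matrix (Fin n) (Fin n) L))) := by
    have hmon : (X * (X - C (1 : A))).Monic := monic_X.mul (monic_X_sub_C 1)
    have hdeg : (X * (X - C (1 : A))).natDegree ≠ 0 := by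
      rw [monic_X.natDegree_mul (monic_X_sub_C 1), natDegree_X, natDegree_X_sub_C]
      norm_num
    refine IsIntegral.of_aeval_monic hmon hdeg ?_
    have h1 : aeval (⟨E, hEm⟩ : Algebra.adjoin A ({E, Dbar} : Set (Matrix (Fin n) (Fin n) L)))
        (X * (X - C (1 : A))) = algebraMap A _ (t ^ M) * ⟨Dbar, hDm⟩ := by
      rw [← hEB]
      simp only [map_mul, map_sub, aeval_X, aeval_C, map_one]
      ring
    rw [h1]
    exact isIntegral_algebraMap.mul hDint
  haveI hBint : Algebra.IsIntegral A
      (Algebra.adjoin A ({E, Dbar} : Set (Matrix (Fin n) (Fin n) L))) := by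
    constructor
    rintro ⟨x, hx⟩
    induction hx using Algebra.adjoin_induction with
    | mem x hx =>
      rcases hx with hx | hx
      · obtain rfl : x = E := hx
        exact hEint
      · obtain rfl : x = Dbar := hx
        exact hDint
    | algebraMap r => exact isIntegral_algebraMap
    | add x y hx hy ihx ihy => exact ihx.add ihy
    | mul x y hx hy ihx ihy => exact ihx.mul ihy
  obtain ⟨eB, wB, heB, hewB⟩ := exists_idem_close t M hM _ _ hEB
  have e4 : ((t ^ M : A) • Dm).map (algebraMap A L) = (t ^ M : A) • Dbar := by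
    rw [hDbar]
    ext i k
    rw [Matrix.map_apply, Matrix.smul_apply, Matrix.smul_apply, Matrix.map_apply, smul_eq_mul,
      map_mul, Algebra.smul_def]
  -- shape of elements of the subalgebra
  have hform : ∀ x ∈ Algebra.adjoin A ({E, Dbar} : Set (Matrix (Fin n) (Fin n) L)),
      ∃ W₁ W₂ : Matrix (Fin n) (Fin n) A,
        x = W₁.map (algebraMap A L) + W₂.map (algebraMap A L) * E ∧
        Commute (W₁.map (algebraMap A L)) E ∧ Commute (W₂.map (algebraMap A L)) E := by
    intro x hx
    induction hx using Algebra.adjoin_induction with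
    | mem x hx =>
      rcases hx with hx | hx
      · obtain rfl : x = E := hx
        refine ⟨0, 1, ?_, ?_, ?_⟩
        · rw [Matrix.map_zero _ (map_zero _), Matrix.map_one _ (map_zero _) (map_one _),
            zero_add, one_mul]
        · rw [Matrix.map_zero _ (map_zero _)]; exact Commute.zero_left _
        · rw [Matrix.map_one _ (map_zero _) (map_one _)]; exact Commute.one_left _
      · obtain rfl : x = Dbar := hx
        refine ⟨Dm, 0, ?_, ?_, ?_⟩
        · rw [Matrix.map_zero _ (map_zero _), zero_mul, add_zero, hDbar]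
        · rw [← hDbar]; exact hcomm.symm
        · rw [Matrix.map_zero _ (map_zero _)]; exact Commute.zero_left _
    | algebraMap r =>
      refine ⟨algebraMap A _ r, 0, ?_, ?_, ?_⟩
      · rw [Matrix.map_zero _ (map_zero _), zero_mul, add_zero,
          Matrix.map_algebraMap r _ (map_zero _) rfl]
      · rw [Matrix.map_algebraMap r _ (map_zero _) rfl]
        exact Algebra.commute_algebraMap_left r E
      · rw [Matrix.map_zero _ (map_zero _)]; exact Commute.zero_left _
    | add x y _ _ ihx ihy =>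
      obtain ⟨a, b, rfl, hac, hbc⟩ := ihx
      obtain ⟨a', b', rfl, hac', hbc'⟩ := ihy
      refine ⟨a + a', b + b', ?_, ?_, ?_⟩
      · rw [Matrix.map_add _ (map_add _), Matrix.map_add _ (map_add _), add_mul]; abel
      · rw [Matrix.map_add _ (map_add _)]; exact hac.add_left hac'
      · rw [Matrix.map_add _ (map_add _)]; exact hbc.add_left hbc'
    | mul x y _ _ ihx ihy =>
      obtain ⟨a, b, rfl, hac, hbc⟩ := ihx
      obtain ⟨a', b', rfl, hac', hbc'⟩ := ihy
      refine ⟨a * a' + b * b' * ((t ^ M : A) • Dm), a * b' + b * a' + b * b', ?_, ?_, ?_⟩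
      · have e1 : E * a'.map (algebraMap A L) = a'.map (algebraMap A L) * E := hac'.eq.symm
        have e2 : E * b'.map (algebraMap A L) = b'.map (algebraMap A L) * E := hbc'.eq.symm
        have e3 : E * E = E + (t ^ M : A) • Dbar := by rw [← hδ]; abel
        simp only [madd, Matrix.map_mul]
        rw [e4]
        set α := a.map (algebraMap A L)
        set β := b.map (algebraMap A L)
        set α' := a'.map (algebraMap A L)
        set β' := b'.map (algebraMap A L)
        set Δ := (t ^ M : A) • Dbar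
        calc (α + β * E) * (α' + β' * E)
            = α * α' + α * β' * E + β * (E * α') + β * (E * β') * E := by noncomm_ring
          _ = α * α' + α * β' * E + β * (α' * E) + β * (β' * E) * E := by rw [e1, e2]
          _ = α * α' + (α * β' + β * α') * E + β * β' * (E * E) := by noncomm_ring
          _ = α * α' + (α * β' + β * α') * E + β * β' * (E + Δ) := by rw [e3]
          _ = α * α' + β * β' * Δ + (α * β' + β * α' + β * β') * E := by noncomm_ring
      · simp only [madd, Matrix.map_mul]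
        rw [e4]
        refine (hac.mul_left hac').add_left (((hbc.mul_left hbc')).mul_left ?_)
        rw [← hδ]
        exact hcommδ.symm
      · simp only [madd, Matrix.map_mul]
        exact ((hac.mul_left hbc').add_left (hbc.mul_left hac')).add_left (hbc.mul_left hbc')
  obtain ⟨W₁, W₂, hw, -, -⟩ := hform wB.1 wB.2
  refine ⟨eB.1, W₁, W₂, ?_, ?_⟩
  · have := congr_arg Subtype.val heB
    simpa only [Subalgebra.coe_mul] using this
  · have := congr_arg Subtype.val hewB
    simp only [Subalgebra.coe_sub, Subalgebra.coe_mul, Subalgebra.coe_algebraMap] at this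
    rw [← hw, Algebra.smul_def, ← this]
    abel

/-- **Idempotent descent**: every idempotent matrix over `Λ` is equivalent to the image of an
idempotent matrix over `L`. -/
theorem HensZarPair.exists_idem {t : A} {j : L →+* Λ} {O : Subring Λ} {T : Λ}
    (h : HensZarPair t j O T) {n : ℕ} (E' : Matrix (Fin n) (Fin n) Λ) (hE' : E' * E' = E') :
    ∃ e : Matrix (Fin n) (Fin n) L, e * e = e ∧ Rel (e.map j) E' := by
  classical
  have hT := h.zar.T_mem
  haveI := h.hens
  obtain ⟨c, hc⟩ := h.zar.bound_mat E'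
  obtain ⟨E, p, hp, hEp⟩ := h.zar.approx_mat E' (3 * c + 1 + c)
  have hpc : PB O T c p := (PB.of_int hp).mono hT (Nat.zero_le _)
  have hτp : PB O T c (T ^ (3 * c + 1 + c) • p) :=
    (PB.of_int (MInt.smul (O.pow_mem hT _) hp)).mono hT (Nat.zero_le _)
  have hEc : PB O T c (E.map j) := by
    rw [hEp]
    exact hc.sub hτp
  obtain ⟨q, hq⟩ : ∃ q, q = p - E' * p - p * E' + T ^ (3 * c + 1 + c) • (p * p) := ⟨_, rfl⟩
  have hqc : PB O T c q := by
    rw [hq]
    have h1 : PB O T c (E' * p) := by simpa using hc.mul (PB.of_int hp)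
    have h2 : PB O T c (p * E') := by simpa using (PB.of_int hp).mul hc
    have h3 : PB O T c (T ^ (3 * c + 1 + c) • (p * p)) :=
      (PB.of_int (MInt.smul (O.pow_mem hT _) (hp.mul hp))).mono hT (Nat.zero_le _)
    exact ((hpc.sub h1).sub h2).add' h3
  have hmapE : (E * E - E).map j = E.map j * E.map j - E.map j := by
    rw [msub, Matrix.map_mul]
  have hdefect : (E * E - E).map j = T ^ (3 * c + 1) • (T ^ c • q) := by
    rw [hmapE, hEp, smul_smul, ← pow_add, hq]
    obtain ⟨τ, hτ⟩ : ∃ τ, τ = T ^ (3 * c + 1 + c) := ⟨_, rfl⟩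
    rw [← hτ]
    calc (E' - τ • p) * (E' - τ • p) - (E' - τ • p)
        = E' * E' - E' + τ • (p - E' * p - p * E' + τ • (p * p)) := by
          simp only [Matrix.sub_mul, Matrix.mul_sub, Matrix.smul_mul, Matrix.mul_smul, smul_sub,
            smul_add, smul_smul]
          abel
      _ = τ • (p - E' * p - p * E' + τ • (p * p)) := by rw [hE', sub_self, zero_add]
  have hentry : ∀ i k, ∃ a : A, (E * E - E) i k = algebraMap A L (t ^ (3 * c + 1) * a) := by
    intro i k
    apply h.sat
    refine ⟨(T ^ c • q) i k, hqc i k, ?_⟩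
    have := congr_fun (congr_fun hdefect i) k
    rw [Matrix.map_apply, Matrix.smul_apply, smul_eq_mul] at this
    exact this
  choose D hD using hentry
  have hδ : E * E - E = (t ^ (3 * c + 1) : A) • (Matrix.of D).map (algebraMap A L) := by
    ext i k
    rw [hD i k, Matrix.smul_apply, Matrix.map_apply, Matrix.of_apply, Algebra.smul_def, map_mul]
  obtain ⟨e, W₁, W₂, hee, heE⟩ :=
    exists_idem_matrix t h.unit_t (3 * c + 1) (by omega) E (Matrix.of D) hδ
  refine ⟨e, hee, ?_⟩
  -- compare `e.map j` with `E'`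
  have hW : ∀ W : Matrix (Fin n) (Fin n) A, MInt O ((W.map (algebraMap A L)).map j) :=
    fun W i k => h.j_mem (W i k)
  obtain ⟨wj, hwj⟩ : ∃ wj, wj = (W₁.map (algebraMap A L)).map j +
      (W₂.map (algebraMap A L)).map j * E.map j := ⟨_, rfl⟩
  have hwjc : PB O T c wj := by
    rw [hwj]
    have h1 : PB O T c ((W₁.map (algebraMap A L)).map j) :=
      (PB.of_int (hW W₁)).mono hT (Nat.zero_le _)
    have h2 : PB O T c ((W₂.map (algebraMap A L)).map j * E.map j) := by
      simpa using (PB.of_int (hW W₂)).mul hEc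
    exact h1.add' h2
  have hsm : ∀ (a : A) (X : Matrix (Fin n) (Fin n) L),
      (a • X).map j = j (algebraMap A L a) • X.map j := by
    intro a X
    ext i k
    rw [Matrix.map_apply, Matrix.smul_apply, Matrix.smul_apply, Matrix.map_apply,
      Algebra.smul_def, map_mul, smul_eq_mul]
  have hemap : e.map j = E.map j + T ^ (3 * c + 1) • wj := by
    rw [heE, madd, hsm, map_pow, map_pow, h.j_t, madd, Matrix.map_mul, hwj]
  have hPP : e.map j * e.map j = e.map j := by rw [← Matrix.map_mul, hee]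
  refine rel_of_close hT h.zar.unit_O (e.map j) E' (T ^ c • wj - T ^ (2 * c) • p) c hPP hE' hc
    (MInt.sub hwjc (MInt.smul (O.pow_mem hT _) hp)) ?_
  rw [hemap, hEp, smul_sub, smul_smul, smul_smul, ← pow_add, ← pow_add]
  have e1 : 2 * c + 1 + c = 3 * c + 1 := by ring
  have e2 : 2 * c + 1 + 2 * c = 3 * c + 1 + c := by ring
  rw [e1, e2]
  abel

end Main

section Modules

variable {A L Λ : Type u} [CommRing A] [CommRing L] [CommRing Λ] [Algebra A L]

/-- **(b)** with an identification `L' ≅ Λ`. -/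
theorem ZarPair.iso_of_iso {L' : Type u} [CommRing L'] [Algebra L L']
    (eh : L' →+* Λ) (es : Λ →+* L') (hes : es.comp eh = RingHom.id L')
    {O : Subring Λ} {T : Λ} (hZ : ZarPair (eh.comp (algebraMap L L')) O T)
    (M N : Type u) [AddCommGroup M] [Module L M] [Module.Finite L M] [Module.Projective L M]
    [AddCommGroup N] [Module L N] [Module.Finite L N] [Module.Projective L N]
    (hf : Nonempty (L' ⊗[L] M ≃ₗ[L'] L' ⊗[L] N)) : Nonempty (M ≃ₗ[L] N) := by
  classical
  obtain ⟨f⟩ := hf
  obtain ⟨m, pM, iM, -, -, hM⟩ := Module.Finite.exists_comp_eq_id_of_projective L M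
  obtain ⟨m', pN, iN, -, -, hN⟩ := Module.Finite.exists_comp_eq_id_of_projective L N
  have hE : Matrix.toLin' (LinearMap.toMatrix' (iM ∘ₗ pM)) = iM ∘ₗ pM :=
    Matrix.toLin'_toMatrix' _
  have hE' : Matrix.toLin' (LinearMap.toMatrix' (iN ∘ₗ pN)) = iN ∘ₗ pN :=
    Matrix.toLin'_toMatrix' _
  have he1 := idem_of_split iM pM hM _ hE
  have he2 := idem_of_split iN pN hN _ hE'
  obtain ⟨iB, pB, hB, hEB⟩ := baseChange_split (R' := L') iM pM hM _ hE
  obtain ⟨iB', pB', hB', hEB'⟩ := baseChange_split (R' := L') iN pN hN _ hE'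
  have hrel := rel_of_equiv iB pB hB iB' pB' hB' _ _ hEB hEB' f
  have hrel2 := hrel.map eh
  rw [mcomp, mcomp] at hrel2
  have hfin := hZ.rel_of_rel_map _ _ he1 he2 hrel2
  exact equiv_of_rel iM pM hM iN pN hN _ _ hE hE' hfin

/-- **(c)** for all finitely generated projective modules, for a Henselian pair. -/
theorem HensZarPair.exists_module {L' : Type u} [CommRing L'] [Algebra L L']
    (eh : L' →+* Λ) (es : Λ →+* L') (hes : es.comp eh = RingHom.id L')
    {t : A} {O : Subring Λ} {T : Λ} (h : HensZarPair t (eh.comp (algebraMap L L')) O T)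
    (M' : Type u) [AddCommGroup M'] [Module L' M'] [Module.Finite L' M']
    [Module.Projective L' M'] :
    ∃ (M : Type u) (_ : AddCommGroup M) (_ : Module L M), Module.Finite L M ∧
      Module.Projective L M ∧ Nonempty (L' ⊗[L] M ≃ₗ[L'] M') := by
  classical
  obtain ⟨m, p, i, -, -, hpi⟩ := Module.Finite.exists_comp_eq_id_of_projective L' M'
  have hE'₀ : Matrix.toLin' (LinearMap.toMatrix' (i ∘ₗ p)) = i ∘ₗ p := Matrix.toLin'_toMatrix' _
  have hid := idem_of_split i p hpi _ hE'₀
  obtain ⟨E, hEid, hrel⟩ := h.exists_idem ((LinearMap.toMatrix' (i ∘ₗ p)).map eh)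
    (by rw [← Matrix.map_mul, hid])
  have hrel' : Rel (E.map (algebraMap L L')) (LinearMap.toMatrix' (i ∘ₗ p)) := by
    have h1 := hrel.map es
    rw [mcomp, mcomp, ← RingHom.comp_assoc, hes, RingHom.id_comp] at h1
    have h2 : (LinearMap.toMatrix' (i ∘ₗ p)).map (RingHom.id L') =
        LinearMap.toMatrix' (i ∘ₗ p) := by
      ext a b; simp
    rw [h2] at h1
    exact h1
  have hP : (Matrix.toLin' E).rangeRestrict ∘ₗ (LinearMap.range (Matrix.toLin' E)).subtype =
      LinearMap.id := by
    apply LinearMap.ext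
    rintro ⟨x, y, rfl⟩
    apply Subtype.ext
    show Matrix.toLin' E (Matrix.toLin' E y) = Matrix.toLin' E y
    rw [← Matrix.toLin'_mul_apply, hEid]
  have hE0' : Matrix.toLin' E = (LinearMap.range (Matrix.toLin' E)).subtype ∘ₗ
      (Matrix.toLin' E).rangeRestrict := by
    apply LinearMap.ext; intro x; rfl
  refine ⟨LinearMap.range (Matrix.toLin' E), inferInstance, inferInstance, inferInstance,
    Module.Projective.of_split _ _ hP, ?_⟩
  obtain ⟨iT, pT, hT, hET⟩ := baseChange_split (R' := L') _ _ hP E hE0'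
  exact equiv_of_rel iT pT hT i p hpi _ _ hET hE'₀ hrel'

end Modules

end Groth.Agent.H13.Horrocks
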