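import Mathlib
import Groth.Agent.H13.ZarPair
import Groth.Agent.H13.HorrocksP1

/-!
# `A[1/t] → Â[1/t]` as a `ZarPair`, and the general module-theoretic consequences of a `ZarPair`
-/

set_option autoImplicit false
set_option linter.unusedSectionVars false
set_option linter.unusedVariables false

universe u

open TensorProduct

namespace Groth.Agent.H13.Horrocks

/-- General module-theoretic consequences of a `ZarPair`. -/
theorem ZarPair.modules {L L' : Type u} [CommRing L] [CommRing L'] [Algebra L L']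
    {O : Subring L'} {T : L'} (hZ : ZarPair (algebraMap L L') O T) :
    (∀ (M N : Type u) [AddCommGroup M] [Module L M] [Module.Finite L M] [Module.Projective L M]
        [AddCommGroup N] [Module L N] [Module.Finite L N] [Module.Projective L N],
        Nonempty (L' ⊗[L] M ≃ₗ[L'] L' ⊗[L] N) → Nonempty (M ≃ₗ[L] N)) ∧
    (∀ (M' : Type u) [AddCommGroup M'] [Module L' M'] [Module.Finite L' M'],
        (∃ n m : ℕ, Nonempty ((M' × (Fin n → L')) ≃ₗ[L'] (Fin m → L'))) →
        ∃ (M : Type u) (_ : AddCommGroup M) (_ : Module L M), Module.Finite L M ∧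
          (∃ n m : ℕ, Nonempty ((M × (Fin n → L)) ≃ₗ[L] (Fin m → L))) ∧
          Nonempty (L' ⊗[L] M ≃ₗ[L'] M')) := by
  classical
  constructor
  · intro M N _ _ _ _ _ _ _ _ hf
    obtain ⟨f⟩ := hf
    obtain ⟨m, pM, iM, -, -, hM⟩ := Module.Finite.exists_comp_eq_id_of_projective L M
    obtain ⟨m', pN, iN, -, -, hN⟩ := Module.Finite.exists_comp_eq_id_of_projective L N
    have hE : Matrix.toLin' (LinearMap.toMatrix' (iM ∘ₗ pM)) = iM ∘ₗ pM :=
      Matrix.toLin'_toMatrix' _
    have hE' : Matrix.toLin' (LinearMap.toMatrix' (iN ∘ₗ pN)) = iN ∘ₗ pN :=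
      Matrix.toLin'_toMatrix' _
    have he1 := Groth.Agent.H13.Horrocks.idem_of_split iM pM hM _ hE
    have he2 := Groth.Agent.H13.Horrocks.idem_of_split iN pN hN _ hE'
    obtain ⟨iB, pB, hB, hEB⟩ :=
      Groth.Agent.H13.Horrocks.baseChange_split (R' := L') iM pM hM _ hE
    obtain ⟨iB', pB', hB', hEB'⟩ :=
      Groth.Agent.H13.Horrocks.baseChange_split (R' := L') iN pN hN _ hE'
    have hrel := Groth.Agent.H13.Horrocks.rel_of_equiv iB pB hB iB' pB' hB' _ _ hEB hEB' f
    have hfin := hZ.rel_of_rel_map _ _ he1 he2 hrel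
    exact Groth.Agent.H13.Horrocks.equiv_of_rel iM pM hM iN pN hN _ _ hE hE' hfin
  · intro M' _ _ _ hsf
    obtain ⟨n, m, ⟨φ⟩⟩ := hsf
    obtain ⟨i, hidef⟩ : ∃ i : M' →ₗ[L'] (Fin m → L'),
        i = φ.toLinearMap ∘ₗ LinearMap.inl L' M' (Fin n → L') := ⟨_, rfl⟩
    obtain ⟨p, hpdef⟩ : ∃ p : (Fin m → L') →ₗ[L'] M',
        p = LinearMap.fst L' M' (Fin n → L') ∘ₗ φ.symm.toLinearMap := ⟨_, rfl⟩
    have hpi : p ∘ₗ i = LinearMap.id := by
      apply LinearMap.ext
      intro x
      rw [hidef, hpdef]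
      simp
    obtain ⟨A'₀, hA'₀⟩ : ∃ A'₀ : Matrix (Fin n) (Fin m) L',
        A'₀ = LinearMap.toMatrix' (LinearMap.snd L' M' (Fin n → L') ∘ₗ φ.symm.toLinearMap) :=
      ⟨_, rfl⟩
    obtain ⟨B'₀, hB'₀⟩ : ∃ B'₀ : Matrix (Fin m) (Fin n) L',
        B'₀ = LinearMap.toMatrix' (φ.toLinearMap ∘ₗ LinearMap.inr L' M' (Fin n → L')) :=
      ⟨_, rfl⟩
    have hAB₀ : A'₀ * B'₀ = 1 := by
      rw [hA'₀, hB'₀, ← LinearMap.toMatrix'_comp, ← LinearMap.toMatrix'_id]
      congr 1
      apply LinearMap.ext
      intro x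
      simp
    have hE'₀ : Matrix.toLin' (1 - B'₀ * A'₀) = i ∘ₗ p := by
      rw [map_sub, Matrix.toLin'_one, Matrix.toLin'_mul, hA'₀, hB'₀, Matrix.toLin'_toMatrix',
        Matrix.toLin'_toMatrix', hidef, hpdef]
      apply LinearMap.ext
      intro x
      simp only [LinearMap.sub_apply, LinearMap.id_apply, LinearMap.comp_apply,
        LinearEquiv.coe_coe, LinearMap.inl_apply, LinearMap.inr_apply, LinearMap.fst_apply,
        LinearMap.snd_apply]
      rw [sub_eq_iff_eq_add, ← map_add]
      simp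
    obtain ⟨A, B₂, hAB₂, hrelΛ⟩ := hZ.exists_descent A'₀ B'₀ hAB₀
    obtain ⟨E, hEdef⟩ : ∃ E, E = 1 - B₂ * A := ⟨_, rfl⟩
    rw [← hEdef] at hrelΛ
    have hEid : E * E = E := by
      rw [hEdef, Matrix.sub_mul, Matrix.one_mul, Matrix.mul_sub, Matrix.mul_one,
        Matrix.mul_assoc B₂ A (B₂ * A), ← Matrix.mul_assoc A B₂ A, hAB₂, Matrix.one_mul, sub_self,
        sub_zero]
    have hAE : A * E = 0 := by
      rw [hEdef, Matrix.mul_sub, Matrix.mul_one, ← Matrix.mul_assoc, hAB₂, Matrix.one_mul, sub_self]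
    have hEB : E * B₂ = 0 := by
      rw [hEdef, Matrix.sub_mul, Matrix.one_mul, Matrix.mul_assoc, hAB₂, Matrix.mul_one, sub_self]
    refine ⟨LinearMap.range (Matrix.toLin' E), inferInstance, inferInstance, inferInstance,
      ⟨n, m, ⟨?_⟩⟩, ?_⟩
    · refine LinearEquiv.ofLinearMap
        (LinearMap.coprod (LinearMap.range (Matrix.toLin' E)).subtype (Matrix.toLin' B₂))
        (LinearMap.prod (Matrix.toLin' E).rangeRestrict (Matrix.toLin' A)) ?_ ?_
      · apply LinearMap.ext
        intro x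
        show (Matrix.toLin' E x) + Matrix.toLin' B₂ (Matrix.toLin' A x) = x
        rw [← Matrix.toLin'_mul_apply, ← LinearMap.add_apply, ← map_add, hEdef, sub_add_cancel,
          Matrix.toLin'_one]
        rfl
      · apply LinearMap.ext
        rintro ⟨⟨y, y', rfl⟩, z⟩
        apply Prod.ext
        · apply Subtype.ext
          show Matrix.toLin' E (Matrix.toLin' E y' + Matrix.toLin' B₂ z) = Matrix.toLin' E y'
          rw [map_add, ← Matrix.toLin'_mul_apply, hEid, ← Matrix.toLin'_mul_apply, hEB, map_zero,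
            LinearMap.zero_apply, add_zero]
        · show Matrix.toLin' A (Matrix.toLin' E y' + Matrix.toLin' B₂ z) = z
          rw [map_add, ← Matrix.toLin'_mul_apply, hAE, ← Matrix.toLin'_mul_apply, hAB₂, map_zero,
            LinearMap.zero_apply, zero_add, Matrix.toLin'_one]
          rfl
    · have hP : (Matrix.toLin' E).rangeRestrict ∘ₗ (LinearMap.range (Matrix.toLin' E)).subtype =
          LinearMap.id := by
        apply LinearMap.ext
        rintro ⟨x, y, rfl⟩
        apply Subtype.ext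
        show Matrix.toLin' E (Matrix.toLin' E y) = Matrix.toLin' E y
        rw [← Matrix.toLin'_mul_apply, hEid]
      have hE0' : Matrix.toLin' E = (LinearMap.range (Matrix.toLin' E)).subtype ∘ₗ
          (Matrix.toLin' E).rangeRestrict := by
        apply LinearMap.ext; intro x; rfl
      obtain ⟨iT, pT, hT, hET⟩ :=
        Groth.Agent.H13.Horrocks.baseChange_split (R' := L') _ _ hP E hE0'
      exact Groth.Agent.H13.Horrocks.equiv_of_rel iT pT hT i p hpi _ _ hET hE'₀ hrelΛ

/-- The pair `A[1/t] → Â[1/t]` for `t` in the Jacobson radical of `A` is a `ZarPair`. -/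
theorem zarPair_adic {A : Type u} [CommRing A] (t : A) (ht : t ∈ (⊥ : Ideal A).jacobson)
    (I : Ideal A) (hI : I = Ideal.span {t})
    (L : Type u) [CommRing L] [Algebra A L] [IsLocalization.Away t L]
    (Λ : Type u) [CommRing Λ] [Algebra (AdicCompletion I A) Λ]
    [IsLocalization.Away (algebraMap A (AdicCompletion I A) t) Λ]
    (j : L →+* Λ)
    (hj : ∀ a : A, j (algebraMap A L a) =
      algebraMap (AdicCompletion I A) Λ (algebraMap A (AdicCompletion I A) a)) :
    ZarPair j (algebraMap (AdicCompletion I A) Λ).range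
      (algebraMap (AdicCompletion I A) Λ (algebraMap A (AdicCompletion I A) t)) := by
  classical
  have hIfg : I.FG := ⟨{t}, by rw [hI]; simp⟩
  obtain ⟨th, hth⟩ : ∃ th : AdicCompletion I A, th = algebraMap A (AdicCompletion I A) t :=
    ⟨_, rfl⟩
  obtain ⟨φ, hφ⟩ : ∃ φ : AdicCompletion I A →+* Λ, φ = algebraMap (AdicCompletion I A) Λ :=
    ⟨_, rfl⟩
  have hΛ : IsLocalization.Away th Λ := by rw [hth]; infer_instance
  rw [← hth, ← hφ]
  have hj' : ∀ a : A, j (algebraMap A L a) = φ (algebraMap A (AdicCompletion I A) a) := by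
    intro a; rw [hφ]; exact hj a
  have hTunit : IsUnit (φ th) := by
    rw [hφ]; exact IsLocalization.Away.algebraMap_isUnit th
  have htL : IsUnit (algebraMap A L t) := IsLocalization.Away.algebraMap_isUnit t
  have hjt : j (algebraMap A L t) = φ th := by rw [hj', hth]
  have hsurjΛ : ∀ x : Λ, ∃ (k : ℕ) (a' : AdicCompletion I A), x * φ th ^ k = φ a' := by
    intro x
    obtain ⟨k, a', hx⟩ := IsLocalization.Away.surj th x
    exact ⟨k, a', by rw [hφ]; exact hx⟩
  have hevt : ∀ n, AdicCompletion.evalₐ I n th = Ideal.Quotient.mk (I ^ n) t := by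
    intro n
    rw [hth, AlgHom.commutes, Ideal.Quotient.algebraMap_eq]
  have hevA : ∀ n (a : A), AdicCompletion.evalₐ I n (algebraMap A (AdicCompletion I A) a) =
      Ideal.Quotient.mk (I ^ n) a := by
    intro n a
    rw [AlgHom.commutes, Ideal.Quotient.algebraMap_eq]
  have hdense : ∀ (a' : AdicCompletion I A) (n : ℕ), ∃ (a : A) (b : AdicCompletion I A),
      a' = algebraMap A (AdicCompletion I A) a + th ^ n * b := by
    intro a' n
    obtain ⟨a, ha⟩ := Ideal.Quotient.mk_surjective (AdicCompletion.evalₐ I n a')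
    have h1 : AdicCompletion.evalₐ I n (a' - algebraMap A (AdicCompletion I A) a) = 0 := by
      rw [map_sub, hevA, ha, sub_self]
    have hle : I ^ n ≤ I ^ n • (⊤ : Ideal A) := by simp
    have hpow : I ^ n = Ideal.span {t ^ n} := by rw [hI, Ideal.span_singleton_pow]
    have h2 : a' - algebraMap A (AdicCompletion I A) a ∈
        LinearMap.ker (AdicCompletion.eval I A n) := by
      rw [LinearMap.mem_ker, ← AdicCompletion.factor_evalₐ_eq_eval I (a' - _) hle, h1, map_zero]
    rw [← AdicCompletion.pow_smul_top_eq_ker_eval hIfg, hpow,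
      Submodule.ideal_span_singleton_smul, Submodule.mem_smul_pointwise_iff_exists] at h2
    obtain ⟨b, -, hb⟩ := h2
    refine ⟨a, b, ?_⟩
    rw [hth, ← map_pow, ← Algebra.smul_def, hb]
    ring
  refine ⟨⟨th, rfl⟩, ?_, ?_, ?_, ?_⟩
  · -- approx
    intro x N
    obtain ⟨k, a', hx⟩ := hsurjΛ x
    obtain ⟨a, b, hab⟩ := hdense a' (N + k)
    refine ⟨IsLocalization.mk' L a (⟨t ^ k, k, rfl⟩ : Submonoid.powers t), φ b, ⟨b, rfl⟩, ?_⟩
    have h1 := IsLocalization.mk'_spec L a (⟨t ^ k, k, rfl⟩ : Submonoid.powers t)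
    simp only at h1
    have h2 := congr_arg j h1
    rw [map_mul, map_pow, map_pow, hjt, hj'] at h2
    apply (hTunit.pow k).mul_left_injective
    simp only
    rw [h2, sub_mul, hx, hab, map_add, map_mul, map_pow, pow_add]
    ring
  · -- bound
    intro x
    obtain ⟨k, a', hx⟩ := hsurjΛ x
    exact ⟨k, a', by rw [mul_comm]; exact hx.symm⟩
  · -- unit_L
    rintro d ⟨p, ⟨p', rfl⟩, hd⟩
    obtain ⟨k, a, hda⟩ := IsLocalization.Away.surj t d
    have h1 : φ (algebraMap A (AdicCompletion I A) a) = φ ((1 - th * p') * th ^ k) := by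
      rw [← hj', ← hda, map_mul, hd, map_pow, hjt, map_mul, map_sub, map_one, map_mul, map_pow]
    rw [hφ] at h1
    obtain ⟨⟨c, M, rfl⟩, hc⟩ := (IsLocalization.eq_iff_exists (Submonoid.powers th) Λ).mp h1
    simp only at hc
    obtain ⟨pn, hpn⟩ := Ideal.Quotient.mk_surjective (AdicCompletion.evalₐ I (M + k + 1) p')
    have h2 := congr_arg (AdicCompletion.evalₐ I (M + k + 1)) hc
    simp only [map_mul, map_pow, map_sub, map_one, hevt, hevA, ← hpn] at h2
    have h2' : Ideal.Quotient.mk (I ^ (M + k + 1))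
        (t ^ M * a - t ^ M * ((1 - t * pn) * t ^ k)) = 0 := by
      simp only [map_mul, map_pow, map_sub, map_one]
      rw [sub_eq_zero]
      exact h2
    rw [Ideal.Quotient.eq_zero_iff_mem, hI, Ideal.span_singleton_pow,
      Ideal.mem_span_singleton'] at h2'
    obtain ⟨c', hc'⟩ := h2'
    have hu : IsUnit (1 - t * (pn - c')) := by
      have := Ideal.mem_jacobson_bot.mp ht (-(pn - c'))
      convert this using 1
      ring
    have h3 : t ^ M * a = t ^ (M + k) * (1 - t * (pn - c')) := by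
      have : t ^ M * a = c' * t ^ (M + k + 1) + t ^ M * ((1 - t * pn) * t ^ k) := by
        rw [hc']; ring
      rw [this]; ring
    have h4 := congr_arg (algebraMap A L) h3
    rw [map_mul, map_mul, map_pow, map_pow, ← hda] at h4
    have h5 : d = algebraMap A L (1 - t * (pn - c')) := by
      apply (htL.pow (M + k)).mul_left_cancel
      rw [← h4]
      ring
    rw [h5]
    exact hu.map _
  · -- unit_O
    rintro p ⟨p', rfl⟩
    have : IsAdicComplete (I.map (algebraMap A (AdicCompletion I A))) (AdicCompletion I A) :=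
      AdicCompletion.isAdicComplete_self I hIfg
    have hmem : th ∈ (⊥ : Ideal (AdicCompletion I A)).jacobson := by
      apply IsAdicComplete.le_jacobson_bot (I.map (algebraMap A (AdicCompletion I A)))
      rw [hth]
      apply Ideal.mem_map_of_mem
      rw [hI]
      exact Ideal.mem_span_singleton_self t
    have hu : IsUnit (1 - th * p') := by
      have := Ideal.mem_jacobson_bot.mp hmem (-p')
      convert this using 1
      ring
    obtain ⟨w, hw⟩ := hu
    refine ⟨φ ↑w⁻¹, ⟨_, rfl⟩, ?_⟩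
    rw [← map_mul φ th p', ← map_one φ, ← map_sub, ← hw, ← map_mul, Units.mul_inv]

end Groth.Agent.H13.Horrocks
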