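import Mathlib
import Groth.Agent.H13.HensZar
import Groth.Agent.H13.ZarAdic
import Groth.Agent.H3.PH3

/-!
# Instances of `HensZarPair`: `A[1/t] → Â[1/t]` and `R{t}[1/t] → R((t))`
-/

set_option autoImplicit false
set_option linter.unusedSectionVars false
set_option linter.unusedVariables false

universe u

open TensorProduct Polynomial

namespace Groth.Agent.H13.Horrocks

/-- The adic instance. -/
theorem hensZarPair_adic {A : Type u} [CommRing A] (t : A) [hH : HenselianRing A (Ideal.span {t})]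
    (I : Ideal A) (hI : I = Ideal.span {t})
    (L : Type u) [CommRing L] [Algebra A L] [IsLocalization.Away t L]
    (Λ : Type u) [CommRing Λ] [Algebra (AdicCompletion I A) Λ]
    [IsLocalization.Away (algebraMap A (AdicCompletion I A) t) Λ]
    (j : L →+* Λ)
    (hj : ∀ a : A, j (algebraMap A L a) =
      algebraMap (AdicCompletion I A) Λ (algebraMap A (AdicCompletion I A) a)) :
    HensZarPair t j (algebraMap (AdicCompletion I A) Λ).range
      (algebraMap (AdicCompletion I A) Λ (algebraMap A (AdicCompletion I A) t)) := by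
  classical
  have ht : t ∈ (⊥ : Ideal A).jacobson := hH.jac (Ideal.mem_span_singleton_self t)
  have hzar := zarPair_adic t ht I hI L Λ j hj
  obtain ⟨th, hth⟩ : ∃ th : AdicCompletion I A, th = algebraMap A (AdicCompletion I A) t :=
    ⟨_, rfl⟩
  obtain ⟨φ, hφ⟩ : ∃ φ : AdicCompletion I A →+* Λ, φ = algebraMap (AdicCompletion I A) Λ :=
    ⟨_, rfl⟩
  have hΛ : IsLocalization.Away th Λ := by rw [hth]; infer_instance
  rw [← hth, ← hφ] at hzar ⊢
  have hj' : ∀ a : A, j (algebraMap A L a) = φ (algebraMap A (AdicCompletion I A) a) := by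
    intro a; rw [hφ]; exact hj a
  have htL : IsUnit (algebraMap A L t) := IsLocalization.Away.algebraMap_isUnit t
  have hjt : j (algebraMap A L t) = φ th := by rw [hj', hth]
  have hevt : ∀ n, AdicCompletion.evalₐ I n th = Ideal.Quotient.mk (I ^ n) t := by
    intro n
    rw [hth, AlgHom.commutes, Ideal.Quotient.algebraMap_eq]
  have hevA : ∀ n (a : A), AdicCompletion.evalₐ I n (algebraMap A (AdicCompletion I A) a) =
      Ideal.Quotient.mk (I ^ n) a := by
    intro n a
    rw [AlgHom.commutes, Ideal.Quotient.algebraMap_eq]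
  refine ⟨hzar, hjt, fun a => ⟨_, (hj' a).symm⟩, ?_, htL, hH⟩
  rintro d N ⟨p, ⟨p', rfl⟩, hd⟩
  obtain ⟨k, a, hda⟩ := IsLocalization.Away.surj t d
  have h1 : φ (algebraMap A (AdicCompletion I A) a) = φ (th ^ (N + k) * p') := by
    rw [← hj', ← hda, map_mul, hd, map_pow, hjt, map_mul, map_pow, pow_add]
    ring
  rw [hφ] at h1
  obtain ⟨⟨c, M, rfl⟩, hc⟩ := (IsLocalization.eq_iff_exists (Submonoid.powers th) Λ).mp h1
  simp only at hc
  obtain ⟨pn, hpn⟩ := Ideal.Quotient.mk_surjective (AdicCompletion.evalₐ I (M + N + k + 1) p')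
  have h2 := congr_arg (AdicCompletion.evalₐ I (M + N + k + 1)) hc
  simp only [map_mul, map_pow, hevt, hevA, ← hpn] at h2
  have h2' : Ideal.Quotient.mk (I ^ (M + N + k + 1))
      (t ^ M * a - t ^ M * (t ^ (N + k) * pn)) = 0 := by
    simp only [map_mul, map_pow, map_sub]
    rw [sub_eq_zero]
    exact h2
  rw [Ideal.Quotient.eq_zero_iff_mem, hI, Ideal.span_singleton_pow,
    Ideal.mem_span_singleton'] at h2'
  obtain ⟨c', hc'⟩ := h2'
  have h3 : t ^ M * a = t ^ (M + k) * (t ^ N * (pn + t * c')) := by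
    have : t ^ M * a = c' * t ^ (M + N + k + 1) + t ^ M * (t ^ (N + k) * pn) := by
      rw [hc']; ring
    rw [this]; ring
  have h4 := congr_arg (algebraMap A L) h3
  rw [map_mul, map_mul, map_pow, map_pow, ← hda] at h4
  refine ⟨pn + t * c', ?_⟩
  apply (htL.pow (M + k)).mul_left_cancel
  rw [← h4]
  ring

/-- The Henselian Laurent instance `R{t}[1/t] → R((t))`. -/
theorem hensZarPair_henselianLaurent (R : Type u) [CommRing R] (B : Type u) [CommRing B]
    [Algebra R[X] B] (hB : Hens2.IsPairHenselization R[X] (Ideal.span {(X : R[X])}) B)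
    (ψ : B →ₐ[R[X]] PowerSeries R)
    (L : Type u) [CommRing L] [Algebra B L] [IsLocalization.Away (algebraMap R[X] B X) L]
    (j : L →+* LaurentSeries R)
    (hj : ∀ b : B, j (algebraMap B L b) = HahnSeries.ofPowerSeries ℤ R (ψ b)) :
    HensZarPair (algebraMap R[X] B X) j (HahnSeries.ofPowerSeries ℤ R).range
      (HahnSeries.ofPowerSeries ℤ R PowerSeries.X) := by
  classical
  obtain ⟨tB, htB⟩ : ∃ tB : B, tB = algebraMap R[X] B X := ⟨_, rfl⟩
  have hLoc : IsLocalization.Away tB L := by rw [htB]; infer_instance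
  rw [← htB]
  obtain ⟨ofp, hofp⟩ : ∃ ofp : PowerSeries R →+* LaurentSeries R,
      ofp = HahnSeries.ofPowerSeries ℤ R := ⟨_, rfl⟩
  rw [← hofp] at hj ⊢
  have hinj : Function.Injective ofp := by
    rw [hofp]; exact HahnSeries.ofPowerSeries_injective
  have hψp : ∀ p : R[X], ψ (algebraMap R[X] B p) = (p : PowerSeries R) := by
    intro p
    rw [ψ.commutes, PowerSeries.algebraMap_apply']
    simp
  have hψt : ψ tB = PowerSeries.X := by rw [htB, hψp, Polynomial.coe_X]
  have hhens : HenselianRing B (Ideal.span {tB}) := by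
    have := hB.1
    rwa [Ideal.map_span, Set.image_singleton, ← htB] at this
  have hjac : tB ∈ (⊥ : Ideal B).jacobson := hhens.jac (Ideal.mem_span_singleton_self tB)
  have htL : IsUnit (algebraMap B L tB) := IsLocalization.Away.algebraMap_isUnit tB
  have hjt : j (algebraMap B L tB) = ofp PowerSeries.X := by rw [hj, hψt]
  -- density of polynomials
  have hdense : ∀ (n : ℕ) (b : B), ∃ (q : R[X]) (b₁ : B),
      b = algebraMap R[X] B q + tB ^ n * b₁ := by
    intro n
    induction n with
    | zero => intro b; exact ⟨0, b, by simp⟩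
    | succ n ih =>
      intro b
      obtain ⟨q, b₁, hb⟩ := ih b
      obtain ⟨a, ha⟩ := Groth.Agent.H3.PH.exists_sub_mem_map_of_isPairHenselization
        (Ideal.span {(X : R[X])}) B hB b₁
      rw [Ideal.map_span, Set.image_singleton, ← htB, Ideal.mem_span_singleton'] at ha
      obtain ⟨b₂, hb₂⟩ := ha
      refine ⟨q + X ^ n * a, b₂, ?_⟩
      have hb₁ : b₁ = algebraMap R[X] B a + b₂ * tB := by rw [hb₂]; ring
      rw [hb, map_add, map_mul, map_pow, ← htB, pow_succ]
      conv_lhs => rw [hb₁]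
      ring
  -- saturation for `ψ`
  have hsatψ : ∀ (n : ℕ) (b : B) (f : PowerSeries R), ψ b = PowerSeries.X ^ n * f →
      ∃ b' : B, b = tB ^ n * b' := by
    intro n b f hbf
    obtain ⟨q, b₁, hb⟩ := hdense n b
    have h1 : (q : PowerSeries R) = PowerSeries.X ^ n * (f - ψ b₁) := by
      have := congr_arg ψ hb
      rw [map_add, map_mul, map_pow, hψt, hψp, hbf] at this
      rw [mul_sub, this]
      ring
    have h2 : (X : R[X]) ^ n ∣ q := by
      rw [Polynomial.X_pow_dvd_iff]
      intro d hd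
      rw [← Polynomial.coeff_coe, h1, PowerSeries.coeff_X_pow_mul', if_neg (by omega)]
    obtain ⟨q', rfl⟩ := h2
    exact ⟨algebraMap R[X] B q' + b₁, by rw [hb, map_mul, map_pow, ← htB]; ring⟩
  -- saturation for `j`
  have hsat : ∀ (d : L) (N : ℕ), (∃ p ∈ ofp.range, j d = ofp PowerSeries.X ^ N * p) →
      ∃ a : B, d = algebraMap B L (tB ^ N * a) := by
    rintro d N ⟨p, ⟨f, rfl⟩, hd⟩
    obtain ⟨k, b, hdb⟩ := IsLocalization.Away.surj tB d
    have h1 : ofp (ψ b) = ofp (PowerSeries.X ^ (N + k) * f) := by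
      rw [← hj, ← hdb, map_mul, hd, map_pow, hjt, map_mul, map_pow, pow_add]
      ring
    obtain ⟨b', hb'⟩ := hsatψ (N + k) b f (hinj h1)
    refine ⟨b', ?_⟩
    apply (htL.pow k).mul_right_cancel
    rw [hdb, hb', map_mul, map_mul, map_pow, map_pow, pow_add]
    ring
  have hbound : ∀ x : LaurentSeries R, ∃ (c : ℕ) (y : PowerSeries R),
      ofp PowerSeries.X ^ c * x = ofp y := by
    intro x
    obtain ⟨t₁, ht₁, y, hy⟩ := (LocLike.of_isLocalization
      (Submonoid.powers (PowerSeries.X : PowerSeries R)) (LaurentSeries R)).surj x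
    obtain ⟨c, hc⟩ := ht₁
    have hc' : t₁ = PowerSeries.X ^ c := hc.symm
    subst hc'
    refine ⟨c, y, ?_⟩
    rw [LaurentSeries.coe_algebraMap, ← hofp] at hy
    rw [← map_pow]
    exact hy.symm
  have hzar : ZarPair j ofp.range (ofp PowerSeries.X) := by
    refine ⟨⟨PowerSeries.X, rfl⟩, ?_, ?_, ?_, ?_⟩
    · -- approx
      intro x N
      obtain ⟨c, y, hy⟩ := hbound x
      have hsplit := PowerSeries.eq_X_pow_mul_shift_add_trunc (N + c) y
      obtain ⟨u, hu⟩ := (htL.pow c).exists_left_inv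
      obtain ⟨sh, hshdef⟩ : ∃ sh : PowerSeries R,
          sh = PowerSeries.mk fun i => PowerSeries.coeff (i + (N + c)) y := ⟨_, rfl⟩
      rw [← hshdef] at hsplit
      refine ⟨u * algebraMap B L (algebraMap R[X] B (PowerSeries.trunc (N + c) y)), ofp sh,
        ⟨sh, rfl⟩, ?_⟩
      have h1 : j u * ofp PowerSeries.X ^ c = 1 := by
        rw [← hjt, ← map_pow, ← map_mul, hu, map_one]
      have h2 : ofp (↑(PowerSeries.trunc (N + c) y)) =
          ofp PowerSeries.X ^ c * x - ofp PowerSeries.X ^ (N + c) * ofp sh := by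
        rw [hy, ← map_pow, ← map_mul, ← map_sub]
        congr 1
        exact eq_sub_of_add_eq' hsplit.symm
      rw [map_mul, hj, hψp, h2, pow_add]
      linear_combination (x - ofp PowerSeries.X ^ N * ofp sh) * h1
    · -- bound
      intro x
      obtain ⟨c, y, hy⟩ := hbound x
      exact ⟨c, y, hy.symm⟩
    · -- unit_L
      rintro d ⟨p, ⟨pt, rfl⟩, hd⟩
      obtain ⟨a, ha⟩ := hsat (d - 1) 1 ⟨ofp (-pt), ⟨_, rfl⟩, by
        rw [map_sub, hd, map_one, map_neg, pow_one]; ring⟩
      have hd' : d = algebraMap B L (tB * a + 1) := by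
        rw [map_add, map_one, ← pow_one tB, ← ha]; ring
      rw [hd']
      exact (Ideal.mem_jacobson_bot.mp hjac a).map _
    · -- unit_O
      rintro p ⟨pt, rfl⟩
      have hu : IsUnit (1 - PowerSeries.X * pt) := by
        rw [PowerSeries.isUnit_iff_constantCoeff]
        simp
      obtain ⟨w, hw⟩ := hu.exists_right_inv
      refine ⟨ofp w, ⟨w, rfl⟩, ?_⟩
      have h1 : (1 : LaurentSeries R) - ofp PowerSeries.X * ofp pt =
          ofp (1 - PowerSeries.X * pt) := by
        rw [map_sub, map_one, map_mul]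
      rw [h1, ← map_mul, hw, map_one]
  exact ⟨hzar, hjt, fun a => ⟨_, (hj a).symm⟩, hsat, htL, hhens⟩

end Groth.Agent.H13.Horrocks
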