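import Mathlib
import Groth.Agent.H13.HensInst

/-!
# Idempotents of `L` and `Λ` for a `HensZarPair`
-/

set_option autoImplicit false
set_option linter.unusedSectionVars false
set_option linter.unusedVariables false

universe u

open Polynomial

namespace Groth.Agent.H13.Horrocks

variable {A L Λ : Type u} [CommRing A] [CommRing L] [CommRing Λ] [Algebra A L]
  {t : A} {j : L →+* Λ} {O : Subring Λ} {T : Λ}

/-- `j` is injective on idempotents. -/
theorem HensZarPair.idem_inj (h : HensZarPair t j O T) {e₁ e₂ : L} (h₁ : e₁ * e₁ = e₁)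
    (h₂ : e₂ * e₂ = e₂) (hj : j e₁ = j e₂) : e₁ = e₂ := by
  obtain ⟨a, ha⟩ := h.sat (e₁ - e₂) 1
    ⟨0, O.zero_mem, by rw [map_sub, hj, sub_self, mul_zero]⟩
  have hjac : t ∈ (⊥ : Ideal A).jacobson := h.hens.jac (Ideal.mem_span_singleton_self t)
  have hu : IsUnit (algebraMap A L (t * (-(t * a * a)) + 1)) :=
    (Ideal.mem_jacobson_bot.mp hjac _).map _
  have h3 : (e₁ - e₂) * (1 - (e₁ - e₂) * (e₁ - e₂)) = 0 := by
    linear_combination (-(e₁ + 1 - 3 * e₂)) * h₁ + (-(3 * e₁ - e₂ - 1)) * h₂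
  have h4 : 1 - (e₁ - e₂) * (e₁ - e₂) = algebraMap A L (t * (-(t * a * a)) + 1) := by
    rw [ha, ← map_mul, ← map_one (algebraMap A L), ← map_sub]
    congr 1
    ring
  rw [h4] at h3
  exact sub_eq_zero.mp (hu.mul_left_eq_zero.mp h3)

/-- every idempotent of `Λ` comes from an idempotent of `L`. -/
theorem HensZarPair.exists_idem_elem (h : HensZarPair t j O T) (e' : Λ) (he' : e' * e' = e') :
    ∃ e : L, e * e = e ∧ j e = e' := by
  obtain ⟨E, hE, a, b, hab, hba, -, -⟩ := h.exists_idem (n := 1) (Matrix.of fun _ _ => e')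
    (by ext i k; simp [Matrix.mul_apply, he'])
  refine ⟨E 0 0, ?_, ?_⟩
  · have := congr_fun (congr_fun hE 0) 0
    simpa [Matrix.mul_apply] using this
  · have h1 := congr_fun (congr_fun hab 0) 0
    have h2 := congr_fun (congr_fun hba 0) 0
    simp [Matrix.mul_apply] at h1 h2
    rw [← h2, ← h1, mul_comm]

end Groth.Agent.H13.Horrocks
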