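import Mathlib

/-!
# Invertible modules and ideals comaximal with a fixed ideal

General commutative algebra used for `Pic (R[s]) → Pic (R((t)))`:
* `invertible_of_mul_eq_span`: if `I * I' = (x)` with `x` regular then `I` is an invertible module;
* `exists_ideal_equiv`: an invertible module `M` with `M / J M` cyclic is isomorphic to an ideal
  comaximal with `J`, provided the elements of `1 + J` are regular;
* `exists_ideals`: if moreover `Pic (A / J)` is trivial, every invertible module is isomorphic to an
  ideal `I` comaximal with `J` having an "inverse ideal" `I'` (comaximal with `J`) with `I' I`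
  principal generated by a regular element.
-/

set_option autoImplicit false
set_option linter.unusedSimpArgs false
set_option linter.unusedVariables false
set_option linter.style.haveILetI false
set_option linter.unusedSectionVars false
universe u

open TensorProduct

namespace Groth.Agent.H13.PicIdeal

variable {A : Type u} [CommRing A]

/-- If `I * I' = (x)` with `x` regular then `I` is an invertible module. -/
theorem invertible_of_mul_eq_span {I I' : Ideal A} {x : A} (hx : x ∈ nonZeroDivisors A)
    (h : I * I' = Ideal.span {x}) : Module.Invertible A I := by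
  have hinj : Function.Injective (algebraMap A (Localization.Away x)) :=
    IsLocalization.injective (Localization.Away x) (Submonoid.powers_le.mpr hx)
  haveI : FaithfulSMul A (Localization.Away x) :=
    (faithfulSMul_iff_algebraMap_injective A (Localization.Away x)).mpr hinj
  obtain ⟨u, hu⟩ : ∃ u : Localization.Away x, u * algebraMap A (Localization.Away x) x = 1 :=
    ⟨IsLocalization.Away.invSelf x, by rw [mul_comm]; exact IsLocalization.Away.mul_invSelf x⟩
  have hmul : Submodule.map (Algebra.linearMap A (Localization.Away x)) I *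
      Submodule.map (Algebra.linearMap A (Localization.Away x)) I' =
      Submodule.span A {algebraMap A (Localization.Away x) x} := by
    apply le_antisymm
    · rw [Submodule.mul_le]
      rintro _ ⟨a, ha, rfl⟩ _ ⟨b, hb, rfl⟩
      have hab : a * b ∈ Ideal.span {x} := h ▸ Ideal.mul_mem_mul ha hb
      obtain ⟨c, hc⟩ := Ideal.mem_span_singleton'.mp hab
      have h1 : Algebra.linearMap A (Localization.Away x) a *
          Algebra.linearMap A (Localization.Away x) b =
          c • algebraMap A (Localization.Away x) x := by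
        rw [Algebra.linearMap_apply, Algebra.linearMap_apply, ← map_mul, ← hc, map_mul,
          Algebra.smul_def]
      rw [h1]
      exact Submodule.smul_mem _ _ (Submodule.mem_span_singleton_self _)
    · rw [Submodule.span_singleton_le_iff_mem]
      have hxm : x ∈ I * I' := h ▸ Ideal.mem_span_singleton_self x
      refine Submodule.mul_induction_on
        (C := fun z => algebraMap A (Localization.Away x) z ∈
          Submodule.map (Algebra.linearMap A (Localization.Away x)) I *
          Submodule.map (Algebra.linearMap A (Localization.Away x)) I') hxm ?_ ?_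
      · intro a ha b hb
        rw [map_mul]
        exact Submodule.mul_mem_mul (Submodule.mem_map_of_mem (f := Algebra.linearMap A _) ha)
          (Submodule.mem_map_of_mem (f := Algebra.linearMap A _) hb)
      · intro a b ha hb
        rw [map_add]
        exact add_mem ha hb
  have hunit : Submodule.map (Algebra.linearMap A (Localization.Away x)) I *
      (Submodule.span A {u} * Submodule.map (Algebra.linearMap A (Localization.Away x)) I') =
      1 := by
    rw [mul_left_comm, hmul, Submodule.span_mul_span, Set.singleton_mul_singleton, hu,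
      Submodule.one_eq_span]
  let U : (Submodule A (Localization.Away x))ˣ := Units.mkOfMulEqOne _ _ hunit
  have hinvU : Module.Invertible A (U : Submodule A (Localization.Away x)) := inferInstance
  have e : I ≃ₗ[A] (U : Submodule A (Localization.Away x)) :=
    Submodule.equivMapOfInjective (Algebra.linearMap A (Localization.Away x)) hinj I
  exact Module.Invertible.congr e.symm

/-- An invertible module `M` with `M / J M` cyclic is isomorphic to an ideal comaximal with `J`,
provided the elements of `1 + J` are regular. -/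
theorem exists_ideal_equiv (J : Ideal A) (hreg : ∀ a : A, a - 1 ∈ J → a ∈ nonZeroDivisors A)
    (M : Type u) [AddCommGroup M] [Module A M] [Module.Invertible A M]
    (m : M) (hm : (⊤ : Submodule A M) ≤ Submodule.span A {m} ⊔ J • (⊤ : Submodule A M)) :
    ∃ I : Ideal A, I ⊔ J = ⊤ ∧ Nonempty (M ≃ₗ[A] I) := by
  classical
  have hQ : (⊤ : Submodule A (M ⧸ Submodule.span A {m})) ≤
      J • (⊤ : Submodule A (M ⧸ Submodule.span A {m})) := by
    intro q _
    obtain ⟨y, rfl⟩ := Submodule.Quotient.mk_surjective _ q
    obtain ⟨y1, hy1, y2, hy2, rfl⟩ := Submodule.mem_sup.mp (hm (Submodule.mem_top : y ∈ ⊤))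
    have h1 : (Submodule.Quotient.mk y1 : M ⧸ Submodule.span A {m}) = 0 :=
      (Submodule.Quotient.mk_eq_zero _).mpr hy1
    rw [Submodule.Quotient.mk_add, h1, zero_add]
    have hle : (J • (⊤ : Submodule A M)).map (Submodule.mkQ (Submodule.span A {m})) ≤
        J • (⊤ : Submodule A (M ⧸ Submodule.span A {m})) := by
      rw [Submodule.map_smul'']
      exact Submodule.smul_mono le_rfl le_top
    exact hle (Submodule.mem_map_of_mem hy2)
  obtain ⟨a, ha1, ha⟩ := Submodule.exists_sub_one_mem_and_smul_eq_zero_of_fg_of_le_smul J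
    (⊤ : Submodule A (M ⧸ Submodule.span A {m})) Module.Finite.fg_top hQ
  have haM : ∀ y : M, ∃ c : A, a • y = c • m := by
    intro y
    have := ha (Submodule.Quotient.mk y) Submodule.mem_top
    rw [← Submodule.Quotient.mk_smul, Submodule.Quotient.mk_eq_zero] at this
    obtain ⟨c, hc⟩ := Submodule.mem_span_singleton.mp this
    exact ⟨c, hc.symm⟩
  have hareg : a ∈ nonZeroDivisors A := hreg a ha1
  have haMreg : IsSMulRegular M a := Module.Flat.isSMulRegular_of_nonZeroDivisors hareg
  have hminj : ∀ r : A, r • m = 0 → r = 0 := by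
    intro r hr
    have h0 : r * a = 0 := by
      apply FaithfulSMul.eq_of_smul_eq_smul (α := M)
      intro y
      obtain ⟨c, hc⟩ := haM y
      rw [mul_smul, hc, smul_comm, hr, smul_zero, zero_smul]
    exact (mul_right_mem_nonZeroDivisors_eq_zero_iff hareg).mp h0
  have hfinj : Function.Injective (LinearMap.toSpanSingleton A M m) := by
    rw [← LinearMap.ker_eq_bot, LinearMap.ker_eq_bot']
    intro r hr
    exact hminj r hr
  have haI : a ∈ (LinearMap.range (LinearMap.lsmul A M a)).comap
      (LinearMap.toSpanSingleton A M m) := ⟨m, rfl⟩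
  refine ⟨(LinearMap.range (LinearMap.lsmul A M a)).comap (LinearMap.toSpanSingleton A M m),
    ?_, ?_⟩
  · rw [Ideal.eq_top_iff_one]
    exact Submodule.mem_sup.mpr ⟨a, haI, -(a - 1), neg_mem ha1, by ring⟩
  · have e1 : M ≃ₗ[A] LinearMap.range (LinearMap.lsmul A M a) :=
      LinearEquiv.ofInjective (LinearMap.lsmul A M a) (fun y z hyz => haMreg hyz)
    have hbij : Function.Bijective
        ((LinearMap.toSpanSingleton A M m).restrict
          (p := (LinearMap.range (LinearMap.lsmul A M a)).comap (LinearMap.toSpanSingleton A M m))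
          (q := LinearMap.range (LinearMap.lsmul A M a)) (fun x hx => hx)) := by
      constructor
      · intro x y hxy
        apply Subtype.ext
        apply hfinj
        exact congr_arg Subtype.val hxy
      · rintro ⟨z, y, rfl⟩
        obtain ⟨c, hc⟩ := haM y
        have hcI : c ∈ (LinearMap.range (LinearMap.lsmul A M a)).comap
            (LinearMap.toSpanSingleton A M m) := ⟨y, hc⟩
        exact ⟨⟨c, hcI⟩, Subtype.ext hc.symm⟩
    exact ⟨e1 ≪≫ₗ (LinearEquiv.ofBijective _ hbij).symm⟩

/-- If `Pic (A / J)` is trivial then `M / J M` is cyclic for an invertible module `M`. -/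
theorem exists_gen_mod (J : Ideal A) [Subsingleton (CommRing.Pic (A ⧸ J))]
    (M : Type u) [AddCommGroup M] [Module A M] [Module.Invertible A M] :
    ∃ m : M, (⊤ : Submodule A M) ≤ Submodule.span A {m} ⊔ J • (⊤ : Submodule A M) := by
  have hfree : Module.Free (A ⧸ J) ((A ⧸ J) ⊗[A] M) := inferInstance
  obtain ⟨e⟩ := Module.Invertible.free_iff_linearEquiv.mp hfree
  obtain ⟨m, hm⟩ := Submodule.Quotient.mk_surjective _
    (TensorProduct.quotTensorEquivQuotSMul M J (e.symm 1))
  refine ⟨m, fun y _ => ?_⟩
  obtain ⟨c, hc⟩ := Ideal.Quotient.mk_surjective (e ((1 : A ⧸ J) ⊗ₜ[A] y))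
  have h1 : (1 : A ⧸ J) ⊗ₜ[A] y = (Ideal.Quotient.mk J c) • e.symm 1 := by
    apply e.injective
    rw [map_smul, LinearEquiv.apply_symm_apply, smul_eq_mul, mul_one, hc]
  have hsm : (Ideal.Quotient.mk J c) • e.symm 1 = c • e.symm 1 := by
    rw [← Ideal.Quotient.algebraMap_eq, algebraMap_smul]
  have h2 : (Submodule.Quotient.mk y : M ⧸ J • (⊤ : Submodule A M)) =
      Submodule.Quotient.mk (c • m) := by
    have := congr_arg (TensorProduct.quotTensorEquivQuotSMul M J) h1
    rw [TensorProduct.quotTensorEquivQuotSMul_mk_one_tmul, hsm, map_smul, ← hm] at this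
    rw [this]
    rfl
  have h3 : y - c • m ∈ J • (⊤ : Submodule A M) := (Submodule.Quotient.eq _).mp h2
  have h4 : y = c • m + (y - c • m) := by abel
  rw [h4]
  exact Submodule.add_mem_sup (Submodule.smul_mem _ _ (Submodule.mem_span_singleton_self m)) h3

/-- If `M ≅ I` and `M^∨ ≅ I'` then `I' I` is principal. -/
theorem exists_mul_eq_span (M : Type u) [AddCommGroup M] [Module A M] [Module.Invertible A M]
    (I I' : Ideal A) (e : M ≃ₗ[A] I) (e' : Module.Dual A M ≃ₗ[A] I') :
    ∃ x : A, I' * I = Ideal.span {x} := by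
  obtain ⟨E⟩ : Nonempty (A ≃ₗ[A] I' ⊗[A] I) :=
    ⟨(Module.Invertible.linearEquiv A M).symm ≪≫ₗ TensorProduct.congr e' e⟩
  obtain ⟨μ, hμ⟩ : ∃ μ : I' ⊗[A] I →ₗ[A] A, ∀ (y : I') (x : I), μ (y ⊗ₜ x) = (y : A) * (x : A) :=
    ⟨LinearMap.mul' A A ∘ₗ TensorProduct.map (Submodule.subtype I') (Submodule.subtype I),
      fun y x => by simp⟩
  have hμmem : ∀ z, μ z ∈ I' * I := by
    intro z
    induction z using TensorProduct.induction_on with
    | zero => rw [map_zero]; exact zero_mem _
    | tmul y x => rw [hμ]; exact Ideal.mul_mem_mul y.2 x.2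
    | add z w hz hw => rw [map_add]; exact add_mem hz hw
  refine ⟨μ (E 1), le_antisymm ?_ ?_⟩
  · rw [Ideal.mul_le]
    intro y hy x hx
    have h1 : y * x = μ (E (E.symm ((⟨y, hy⟩ : I') ⊗ₜ (⟨x, hx⟩ : I)))) := by
      rw [LinearEquiv.apply_symm_apply, hμ]
    rw [h1]
    have h2 : ∀ c : A, E c = c • E 1 := fun c => by rw [← map_smul, smul_eq_mul, mul_one]
    have h3 : μ (E (E.symm ((⟨y, hy⟩ : I') ⊗ₜ (⟨x, hx⟩ : I)))) =
        E.symm ((⟨y, hy⟩ : I') ⊗ₜ (⟨x, hx⟩ : I)) * μ (E 1) := by
      conv_lhs => rw [h2 (E.symm ((⟨y, hy⟩ : I') ⊗ₜ (⟨x, hx⟩ : I))), map_smul, smul_eq_mul]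
    rw [h3]
    exact Ideal.mul_mem_left _ _ (Ideal.mem_span_singleton_self _)
  · rw [Ideal.span_singleton_le_iff_mem]
    exact hμmem _

/-- Every invertible module is isomorphic to an ideal comaximal with `J` possessing an inverse
ideal of the same kind. -/
theorem exists_ideals (J : Ideal A) [Subsingleton (CommRing.Pic (A ⧸ J))]
    (hreg : ∀ a : A, a - 1 ∈ J → a ∈ nonZeroDivisors A)
    (M : Type u) [AddCommGroup M] [Module A M] [Module.Invertible A M] :
    ∃ (I I' : Ideal A) (x : A), I ⊔ J = ⊤ ∧ I' ⊔ J = ⊤ ∧ I' * I = Ideal.span {x} ∧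
      x ∈ nonZeroDivisors A ∧ Nonempty (M ≃ₗ[A] I) := by
  obtain ⟨m, hm⟩ := exists_gen_mod J M
  obtain ⟨I, hI, ⟨e⟩⟩ := exists_ideal_equiv J hreg M m hm
  obtain ⟨m', hm'⟩ := exists_gen_mod J (Module.Dual A M)
  obtain ⟨I', hI', ⟨e'⟩⟩ := exists_ideal_equiv J hreg (Module.Dual A M) m' hm'
  obtain ⟨x, hx⟩ := exists_mul_eq_span M I I' e e'
  refine ⟨I, I', x, hI, hI', hx, ?_, ⟨e⟩⟩
  have hcop : I' * I ⊔ J = ⊤ := by
    rw [← Ideal.isCoprime_iff_sup_eq] at hI hI' ⊢
    exact IsCoprime.mul_left hI' hI
  rw [hx] at hcop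
  obtain ⟨y, hy, j, hj, hyj⟩ := Submodule.mem_sup.mp ((Ideal.eq_top_iff_one _).mp hcop)
  obtain ⟨c, rfl⟩ := Ideal.mem_span_singleton'.mp hy
  have h1 : c * x ∈ nonZeroDivisors A := hreg _ (by
    have h2 : c * x - 1 = -j := by rw [← hyj]; ring
    rw [h2]
    exact neg_mem hj)
  exact (mul_mem_nonZeroDivisors.mp h1).2

/-- Triviality of the Picard group transfers along ring isomorphisms. -/
theorem pic_subsingleton_of_ringEquiv {A' : Type u} [CommRing A'] (e : A ≃+* A')
    [Subsingleton (CommRing.Pic A')] : Subsingleton (CommRing.Pic A) := by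
  refine ⟨fun x y => ?_⟩
  have h : ∀ z : CommRing.Pic A, CommRing.Pic.mapRingHom (e.symm : A' →+* A)
      (CommRing.Pic.mapRingHom (e : A →+* A') z) = z := by
    intro z
    rw [CommRing.Pic.mapRingHom_mapRingHom]
    have h1 : (e.symm : A' →+* A).comp (e : A →+* A') = RingHom.id A := by
      ext a
      simp
    rw [h1, CommRing.Pic.mapRingHom_id_apply]
  rw [← h x, ← h y, Subsingleton.elim (CommRing.Pic.mapRingHom (e : A →+* A') x)
    (CommRing.Pic.mapRingHom (e : A →+* A') y)]

end Groth.Agent.H13.PicIdeal
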