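import Groth.Agent.H13.HensIdeals
import Groth.Agent.H13.PicIdeal
import Groth.Agent.S19779

/-!
# `Pic (R[s]) → Pic (R((t)))` is bijective for a Henselian local ring `R`

`B` is a henselization of `(R[t], (t))`, `L = B[1/t]`, `ψ : R[s] → L` sends `s` to `t⁻¹`.
Invertible modules over `R[s]` and over `L` are isomorphic to ideals comaximal with the special
fibre (`PicIdeal.exists_ideals`), these ideals correspond (`HensIdeals.part1`, `part2`), principal
ideals of `L` comaximal with the special fibre are generated by reflected distinguished polynomials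
(Henselian Weierstrass preparation), and finitely generated projective modules over `L` and
`R((t))` correspond (`S19779`).
-/

set_option autoImplicit false
set_option linter.unusedSimpArgs false
set_option linter.unusedVariables false
set_option linter.style.haveILetI false
set_option linter.unusedSectionVars false
universe u

namespace Groth.Agent.H13.HensPic

open Polynomial IsLocalRing TensorProduct
open Groth.Agent.H13.HW Groth.Agent.H13.HensIdeals

/-- Base change of an invertible ideal `I` along `A → S` agrees with the base change along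
`A' → S` of the extended ideal `I A'`, when the latter is invertible. -/
theorem nonempty_tensor_equiv {A A' S : Type u} [CommRing A] [CommRing A'] [CommRing S]
    [Algebra A S] [Algebra A' S] (φ : A →+* A')
    (hcompat : ∀ p : A, algebraMap A S p = algebraMap A' S (φ p))
    (I : Ideal A) [Module.Invertible A I] (𝔞 : Ideal A') (h𝔞 : I.map φ = 𝔞)
    [Module.Invertible A' 𝔞] :
    Nonempty (S ⊗[A] I ≃ₗ[S] S ⊗[A'] 𝔞) := by
  subst h𝔞
  let f₀ : I →ₗ[A] S ⊗[A'] (I.map φ) :=
    { toFun := fun x => (1 : S) ⊗ₜ[A'] (⟨φ x, Ideal.mem_map_of_mem φ x.2⟩ : I.map φ)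
      map_add' := fun x y => by
        rw [← tmul_add]
        congr 1
        apply Subtype.ext
        simp
      map_smul' := fun p x => by
        show (1 : S) ⊗ₜ[A'] (⟨φ ((p • x : I) : A), Ideal.mem_map_of_mem φ (p • x).2⟩ : I.map φ) =
          p • ((1 : S) ⊗ₜ[A'] (⟨φ x, Ideal.mem_map_of_mem φ x.2⟩ : I.map φ))
        have h1 : (⟨φ ((p • x : I) : A), Ideal.mem_map_of_mem φ (p • x).2⟩ : I.map φ) =
            φ p • (⟨φ x, Ideal.mem_map_of_mem φ x.2⟩ : I.map φ) := by
          apply Subtype.ext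
          simp [smul_eq_mul]
        rw [h1, smul_tmul', Algebra.smul_def, mul_one, hcompat, ← smul_tmul, Algebra.smul_def,
          mul_one] }
  have hf₀ : ∀ x : I, f₀ x = (1 : S) ⊗ₜ[A'] (⟨φ x, Ideal.mem_map_of_mem φ x.2⟩ : I.map φ) :=
    fun x => rfl
  have key : ∀ (a : A') (ha : a ∈ I.map φ) (s : S),
      s ⊗ₜ[A'] (⟨a, ha⟩ : I.map φ) ∈ Submodule.span S (Set.range f₀) := by
    intro a ha
    refine Submodule.span_induction
      (p := fun a ha => ∀ s : S,
        s ⊗ₜ[A'] (⟨a, ha⟩ : I.map φ) ∈ Submodule.span S (Set.range f₀)) ?_ ?_ ?_ ?_ ha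
    · rintro _ ⟨x, hx, rfl⟩ s
      have h1 : s ⊗ₜ[A'] (⟨φ x, Ideal.mem_map_of_mem φ hx⟩ : I.map φ) = s • f₀ ⟨x, hx⟩ := by
        rw [hf₀, smul_tmul', smul_eq_mul, mul_one]
      exact h1 ▸ Submodule.smul_mem _ _ (Submodule.subset_span ⟨⟨x, hx⟩, rfl⟩)
    · intro s
      have h1 : (⟨0, zero_mem _⟩ : I.map φ) = 0 := rfl
      rw [h1, tmul_zero]
      exact zero_mem _
    · intro a b ha hb iha ihb s
      have h1 : (⟨a + b, add_mem ha hb⟩ : I.map φ) = ⟨a, ha⟩ + ⟨b, hb⟩ := rfl
      rw [h1, tmul_add]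
      exact add_mem (iha s) (ihb s)
    · intro l a ha iha s
      have h1 : (⟨l • a, Submodule.smul_mem _ l ha⟩ : I.map φ) = l • ⟨a, ha⟩ := rfl
      rw [h1, ← smul_tmul]
      exact iha _
  have hsurj : Function.Surjective (f₀.liftBaseChange S) := by
    rw [← LinearMap.range_eq_top, LinearMap.range_liftBaseChange, eq_top_iff]
    intro z hzt
    clear hzt
    induction z using TensorProduct.induction_on with
    | zero => exact zero_mem _
    | tmul s a => exact key a.1 a.2 s
    | add z w hz hw => exact add_mem hz hw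
  exact ⟨LinearEquiv.ofBijective _ (Module.Invertible.bijective_of_surjective hsurj)⟩

section

variable {R : Type u} [CommRing R] [HenselianLocalRing R] {B : Type u} [CommRing B] [Algebra R B]
  [Algebra R[X] B] [IsScalarTower R R[X] B]

local notation "LL" => Localization.Away (algebraMap (Polynomial R) B Polynomial.X)
local notation "mB" => Ideal.map (algebraMap R B) (maximalIdeal R)
local notation "mL" => Ideal.map
  (algebraMap R (Localization.Away (algebraMap (Polynomial R) B Polynomial.X))) (maximalIdeal R)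
local notation "Js" => Ideal.map (algebraMap R (Polynomial R)) (maximalIdeal R)

theorem mL_eq : Ideal.map (algebraMap B LL) mB = mL := by
  rw [Ideal.map_map, ← IsScalarTower.algebraMap_eq]

theorem t_pow_notMem (hB : IsHT R B) (n : ℕ) : (algebraMap R[X] B X) ^ n ∉ mB := by
  intro h
  have h1 : algebraMap R[X] B (X ^ n) ∈ mB ⊔ Ideal.span {(algebraMap R[X] B X) ^ (n + 1)} := by
    rw [map_pow]
    exact Ideal.mem_sup_left h
  have h2 := coeff_mem_of_algebraMap_mem hB (n + 1) (X ^ n) h1 n (Nat.lt_succ_self n)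
  rw [coeff_X_pow, if_pos rfl] at h2
  exact (maximalIdeal.isMaximal R).ne_top ((Ideal.eq_top_iff_one _).mpr h2)

theorem mL_ne_top (hB : IsHT R B) : mL ≠ ⊤ := by
  intro h
  have h1 : (1 : LL) ∈ Ideal.map (algebraMap B LL) mB := by
    rw [mL_eq, h]
    exact Submodule.mem_top
  rw [IsLocalization.mem_map_algebraMap_iff (Submonoid.powers (algebraMap R[X] B X)) LL] at h1
  obtain ⟨⟨⟨b, hb⟩, s⟩, hbs⟩ := h1
  simp only at hbs
  obtain ⟨n, hn⟩ := s.2
  have hn' : (algebraMap R[X] B X) ^ n = (s : B) := hn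
  rw [one_mul, ← hn'] at hbs
  obtain ⟨c, hc⟩ :=
    (IsLocalization.eq_iff_exists (Submonoid.powers (algebraMap R[X] B X)) LL).mp hbs
  obtain ⟨k, hk⟩ := c.2
  have hk' : (algebraMap R[X] B X) ^ k = (c : B) := hk
  rw [← hk'] at hc
  apply t_pow_notMem hB (k + n)
  rw [pow_add, hc]
  exact Ideal.mul_mem_left _ _ hb

/-- Elements of `L` outside `𝔪 L` are unit multiples of distinguished polynomials. -/
theorem exists_rep (hB : IsHT R B) (x : LL) (hx : x ∉ mL) :
    ∃ (P : R[X]) (w : LL), P.Monic ∧ (∀ i < P.natDegree, P.coeff i ∈ maximalIdeal R) ∧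
      IsUnit w ∧ x = algebraMap B LL (algebraMap R[X] B P) * w := by
  obtain ⟨⟨b, s⟩, hb⟩ := IsLocalization.surj (Submonoid.powers (algebraMap R[X] B X)) x
  simp only at hb
  have hs : IsUnit (algebraMap B LL (s : B)) := IsLocalization.map_units LL s
  have hbm : b ∉ mB := by
    intro hcon
    apply hx
    have h1 : x * algebraMap B LL (s : B) ∈ mL := by
      rw [hb, ← mL_eq]
      exact Ideal.mem_map_of_mem _ hcon
    exact (Ideal.mul_unit_mem_iff_mem _ hs).mp h1
  obtain ⟨⟨⟨P, v⟩, ⟨hP, hc, hf⟩, -⟩, -⟩ := weierstrass hB b hbm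
  have hP' : P.Monic := hP
  have hc' : ∀ i < P.natDegree, P.coeff i ∈ maximalIdeal R := hc
  have hf' : b = algebraMap R[X] B P * (v : B) := hf
  obtain ⟨us, hus⟩ := hs
  refine ⟨P, algebraMap B LL (v : B) * ((us⁻¹ : LLˣ) : LL), hP', hc', ?_, ?_⟩
  · exact (v.isUnit.map (algebraMap B LL)).mul (us⁻¹).isUnit
  · have h2 : x = x * algebraMap B LL (s : B) * ((us⁻¹ : LLˣ) : LL) := by
      rw [← hus, mul_assoc, Units.mul_inv, mul_one]
    rw [h2, hb, hf', map_mul]
    ring

theorem mem_nonZeroDivisors_of_notMem (hB : IsHT R B) (x : LL) (hx : x ∉ mL) :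
    x ∈ nonZeroDivisors LL := by
  obtain ⟨P, w, hP, hc, hw, rfl⟩ := exists_rep hB x hx
  haveI : Module.Flat R[X] B :=
    Groth.Agent.H3.PH.flat_of_isPairHenselization (Ideal.span {(X : R[X])}) B hB
  have h2 : IsSMulRegular B (algebraMap R[X] B P) :=
    IsSMulRegular.of_flat (S := B) hP.isRegular.left.isSMulRegular
  have h3 : IsSMulRegular LL (algebraMap B LL (algebraMap R[X] B P)) :=
    IsSMulRegular.of_flat (S := LL) h2
  have h4 : algebraMap B LL (algebraMap R[X] B P) ∈ nonZeroDivisors LL := by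
    rw [mem_nonZeroDivisors_iff_right]
    intro z hz
    apply h3
    show algebraMap B LL (algebraMap R[X] B P) • z = algebraMap B LL (algebraMap R[X] B P) • 0
    rw [smul_eq_mul, smul_zero, mul_comm, hz]
  exact mul_mem h4 hw.mem_nonZeroDivisors

theorem notMem_of_sup_eq_top (hB : IsHT R B) {y : LL} {𝔞 : Ideal LL} (hy : 𝔞 = Ideal.span {y})
    (h : 𝔞 ⊔ mL = ⊤) : y ∉ mL := by
  intro hcon
  apply mL_ne_top hB
  rw [eq_top_iff, ← h, hy]
  exact sup_le ((Ideal.span_singleton_le_iff_mem _).mpr hcon) le_rfl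

theorem L_reg (hB : IsHT R B) (a : LL) (ha : a - 1 ∈ mL) : a ∈ nonZeroDivisors LL := by
  apply mem_nonZeroDivisors_of_notMem hB
  intro hcon
  apply mL_ne_top hB
  rw [Ideal.eq_top_iff_one]
  have h1 := Ideal.sub_mem _ hcon ha
  rwa [sub_sub_cancel] at h1

theorem isMaximal_mL (hB : IsHT R B) : (mL).IsMaximal := by
  rw [Ideal.isMaximal_iff]
  refine ⟨fun h => mL_ne_top hB ((Ideal.eq_top_iff_one _).mpr h), fun J x hJ hx hxJ => ?_⟩
  obtain ⟨P, w, hP, hc, hw, rfl⟩ := exists_rep hB x hx
  have hcoef : ∀ i, (P - X ^ P.natDegree).coeff i ∈ maximalIdeal R := by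
    intro i
    rw [coeff_sub, coeff_X_pow]
    rcases lt_trichotomy i P.natDegree with h | h | h
    · rw [if_neg (ne_of_lt h), sub_zero]
      exact hc i h
    · rw [if_pos h, h, hP.coeff_natDegree, sub_self]
      exact zero_mem _
    · rw [if_neg (ne_of_gt h), sub_zero, coeff_eq_zero_of_natDegree_lt h]
      exact zero_mem _
  have h1 : algebraMap B LL (algebraMap R[X] B P) -
      (algebraMap B LL (algebraMap R[X] B X)) ^ P.natDegree ∈ mL := by
    have h0 := algebraMap_mem_of_coeff_mem B (P - X ^ P.natDegree) hcoef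
    have h0' := Ideal.mem_map_of_mem (algebraMap B LL) h0
    rw [mL_eq, map_sub, map_sub, map_pow, map_pow] at h0'
    exact h0'
  have h2 : algebraMap B LL (algebraMap R[X] B P) ∈ J := (Ideal.mul_unit_mem_iff_mem J hw).mp hxJ
  have h3 : (algebraMap B LL (algebraMap R[X] B X)) ^ P.natDegree ∈ J := by
    have h4 := J.sub_mem h2 (hJ h1)
    rwa [sub_sub_cancel] at h4
  have hunit : IsUnit ((algebraMap B LL (algebraMap R[X] B X)) ^ P.natDegree) :=
    (IsLocalization.Away.algebraMap_isUnit (algebraMap R[X] B X)).pow _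
  exact (Ideal.eq_top_iff_one J).mp (Ideal.eq_top_of_isUnit_mem J h3 hunit)

theorem pic_L (hB : IsHT R B) : Subsingleton (CommRing.Pic (LL ⧸ mL)) := by
  haveI := isMaximal_mL hB
  letI : Field (LL ⧸ mL) := Ideal.Quotient.field _
  infer_instance

theorem pic_polyQuot : Subsingleton (CommRing.Pic (R[X] ⧸ Js)) := by
  classical
  letI : Field (R ⧸ maximalIdeal R) := Ideal.Quotient.field _
  haveI : IsGCDMonoid (R ⧸ maximalIdeal R)[X] := ⟨EuclideanDomain.gcdMonoid _⟩
  have e : (R[X] ⧸ Js) ≃+* (R ⧸ maximalIdeal R)[X] :=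
    (Ideal.polynomialQuotientEquivQuotientPolynomial (maximalIdeal R)).symm
  exact PicIdeal.pic_subsingleton_of_ringEquiv e

theorem poly_reg (a : R[X]) (ha : a - 1 ∈ Js) : a ∈ nonZeroDivisors R[X] := by
  have ha' : a - 1 ∈ Ideal.map (C : R →+* R[X]) (maximalIdeal R) := ha
  have hcoef : ∀ i, (a - 1).coeff i ∈ maximalIdeal R := Ideal.mem_map_C_iff.mp ha'
  have h0 : IsUnit (a.coeff 0) := by
    have h := hcoef 0
    rw [coeff_sub, coeff_one_zero] at h
    by_contra hcon
    have h1 : a.coeff 0 ∈ maximalIdeal R := (IsLocalRing.mem_maximalIdeal _).mpr hcon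
    have h2 : (1 : R) ∈ maximalIdeal R := by
      have h3 := Ideal.sub_mem _ h1 h
      rwa [sub_sub_cancel] at h3
    exact (maximalIdeal.isMaximal R).ne_top ((Ideal.eq_top_iff_one _).mpr h2)
  rw [mem_nonZeroDivisors_iff_right]
  intro h hh
  have hu : IsUnit (a : PowerSeries R) := by
    rw [PowerSeries.isUnit_iff_constantCoeff, Polynomial.constantCoeff_coe]
    exact h0
  have h1 : (h : PowerSeries R) * (a : PowerSeries R) = 0 := by
    rw [← Polynomial.coe_mul, hh, Polynomial.coe_zero]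
  have h2 : (h : PowerSeries R) = 0 := hu.mul_left_eq_zero.mp h1
  exact Polynomial.coe_injective R (by rw [h2, Polynomial.coe_zero])

theorem reflect_sub_one_mem (P : R[X]) (hP : P.Monic)
    (hc : ∀ i < P.natDegree, P.coeff i ∈ maximalIdeal R) :
    reflect P.natDegree P - 1 ∈ Js := by
  have h : reflect P.natDegree P - 1 ∈ Ideal.map (C : R →+* R[X]) (maximalIdeal R) := by
    rw [Ideal.mem_map_C_iff]
    intro i
    rw [coeff_sub, coeff_reflect, coeff_one]
    by_cases hi0 : i = 0
    · subst hi0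
      rw [revAt_le (Nat.zero_le _), Nat.sub_zero, hP.coeff_natDegree, if_pos rfl, sub_self]
      exact zero_mem _
    · rw [if_neg hi0, sub_zero]
      by_cases hid : i ≤ P.natDegree
      · rw [revAt_le hid]
        exact hc _ (by omega)
      · rw [revAt_eq_self_of_lt (by omega), coeff_eq_zero_of_natDegree_lt (by omega)]
        exact zero_mem _
  exact h

section

variable (ψ : R[X] →ₐ[R] Localization.Away (algebraMap R[X] B X))

theorem psi_reflect
    (hψ : ψ X * algebraMap B LL (algebraMap R[X] B X) = 1) (P : R[X]) :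
    ψ (reflect P.natDegree P) * (algebraMap B LL (algebraMap R[X] B X)) ^ P.natDegree =
      algebraMap B LL (algebraMap R[X] B P) := by
  have hTψ : algebraMap B LL (algebraMap R[X] B X) * ψ X = 1 := by
    rw [mul_comm]
    exact hψ
  let _ : Invertible (algebraMap B LL (algebraMap R[X] B X)) := ⟨ψ X, hψ, hTψ⟩
  have h1 := eval₂_reflect_mul_pow (algebraMap R LL) (algebraMap B LL (algebraMap R[X] B X))
    P.natDegree P le_rfl
  have hinv : ⅟(algebraMap B LL (algebraMap R[X] B X)) = ψ X := rfl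
  rw [hinv, ← psi_eq_eval₂, ← algebraMap_eq_eval₂] at h1
  exact h1

/-- A principal ideal of `L` not contained in `𝔪 L` is extended from a principal ideal of `R[s]`
generated by a polynomial congruent to `1` modulo `𝔪`. -/
theorem exists_poly_gen (hB : IsHT R B)
    (hψ : ψ X * algebraMap B LL (algebraMap R[X] B X) = 1) (x : LL) (hx : x ∉ mL) :
    ∃ g : R[X], g - 1 ∈ Js ∧ Ideal.span {x} = (Ideal.span {g}).map ψ.toRingHom := by
  obtain ⟨P, w, hP, hc, hw, rfl⟩ := exists_rep hB x hx
  refine ⟨reflect P.natDegree P, reflect_sub_one_mem P hP hc, ?_⟩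
  rw [Ideal.map_span, Set.image_singleton]
  have h1 : algebraMap B LL (algebraMap R[X] B P) * w =
      ψ.toRingHom (reflect P.natDegree P) *
        ((algebraMap B LL (algebraMap R[X] B X)) ^ P.natDegree * w) := by
    rw [← psi_reflect ψ hψ P, mul_assoc]
    rfl
  rw [h1]
  have hu : IsUnit ((algebraMap B LL (algebraMap R[X] B X)) ^ P.natDegree * w) :=
    ((IsLocalization.Away.algebraMap_isUnit (algebraMap R[X] B X)).pow _).mul hw
  exact Ideal.span_singleton_mul_right_unit hu _

end

theorem main_aux (hB : IsHT R B) [Algebra R[X] (LaurentSeries R)]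
    (halg : algebraMap R[X] (LaurentSeries R) =
      Polynomial.eval₂RingHom (HahnSeries.C) (HahnSeries.single (-1 : ℤ) (1 : R))) :
    (∀ (M : Type u) [AddCommGroup M] [Module R[X] M] [Module.Invertible R[X] M],
        Module.Free (LaurentSeries R) (LaurentSeries R ⊗[R[X]] M) → Module.Free R[X] M) ∧
    (∀ (Λ : Type u) [AddCommGroup Λ] [Module (LaurentSeries R) Λ]
        [Module.Invertible (LaurentSeries R) Λ],
        ∃ (M : Type u) (_ : AddCommGroup M) (_ : Module R[X] M), Module.Invertible R[X] M ∧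
          Nonempty (Λ ≃ₗ[LaurentSeries R] LaurentSeries R ⊗[R[X]] M)) := by
  classical
  have hXmap : algebraMap R[X] (PowerSeries R) X = PowerSeries.X := by
    rw [PowerSeries.algebraMap_apply']
    simp
  obtain ⟨g, hg, -⟩ := hB.2 (PowerSeries R) (Ideal.span {PowerSeries.X})
    (algebraMap R[X] (PowerSeries R)) inferInstance (by
      rw [Ideal.map_span, Set.image_singleton, hXmap])
  obtain ⟨ψB, hψB⟩ : ∃ ψB : B →ₐ[R[X]] PowerSeries R, ∀ b, ψB b = g b :=
    ⟨{ g with commutes' := fun p => RingHom.congr_fun hg p }, fun b => rfl⟩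
  have hψBp : ∀ p : R[X], ψB (algebraMap R[X] B p) = algebraMap R[X] (PowerSeries R) p :=
    ψB.commutes
  have hj₀t : (HahnSeries.ofPowerSeries ℤ R).comp ψB.toRingHom (algebraMap R[X] B X) =
      HahnSeries.single 1 1 := by
    show HahnSeries.ofPowerSeries ℤ R (ψB (algebraMap R[X] B X)) = _
    rw [hψBp, hXmap, HahnSeries.ofPowerSeries_X]
  have hss : (HahnSeries.single (1 : ℤ) (1 : R)) * HahnSeries.single (-1 : ℤ) (1 : R) = 1 := by
    rw [HahnSeries.single_mul_single]
    simp
  have hu : IsUnit ((HahnSeries.ofPowerSeries ℤ R).comp ψB.toRingHom (algebraMap R[X] B X)) := by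
    rw [hj₀t]
    exact IsUnit.of_mul_eq_one _ hss
  letI algL : Algebra LL (LaurentSeries R) :=
    (IsLocalization.Away.lift (algebraMap R[X] B X) hu).toAlgebra
  have hj : ∀ b : B, algebraMap LL (LaurentSeries R) (algebraMap B LL b) =
      HahnSeries.ofPowerSeries ℤ R (ψB b) :=
    fun b => IsLocalization.Away.lift_eq (algebraMap R[X] B X) hu b
  obtain ⟨ψ, hψX⟩ : ∃ ψ : R[X] →ₐ[R] LL,
      ψ X = IsLocalization.Away.invSelf (S := LL) (algebraMap R[X] B X) :=
    ⟨Polynomial.aeval (IsLocalization.Away.invSelf (S := LL) (algebraMap R[X] B X)), aeval_X _⟩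
  have hψ : ψ X * algebraMap B LL (algebraMap R[X] B X) = 1 := by
    rw [hψX, mul_comm]
    exact IsLocalization.Away.mul_invSelf _
  have hcompat : ∀ p : R[X], algebraMap R[X] (LaurentSeries R) p =
      algebraMap LL (LaurentSeries R) (ψ.toRingHom p) := by
    have h : algebraMap R[X] (LaurentSeries R) =
        (algebraMap LL (LaurentSeries R)).comp ψ.toRingHom := by
      rw [halg]
      refine Polynomial.ringHom_ext (fun r => ?_) ?_
      · show eval₂ HahnSeries.C (HahnSeries.single (-1 : ℤ) (1 : R)) (C r) =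
          algebraMap LL (LaurentSeries R) (ψ (C r))
        rw [eval₂_C, psi_C, hj]
        have h1 : algebraMap R B r = algebraMap R[X] B (C r) := by
          rw [IsScalarTower.algebraMap_apply R R[X] B]
          rfl
        have h2 : algebraMap R[X] (PowerSeries R) (C r) = PowerSeries.C r := by
          rw [PowerSeries.algebraMap_apply']
          simp
        rw [h1, hψBp, h2, HahnSeries.ofPowerSeries_C]
      · show eval₂ HahnSeries.C (HahnSeries.single (-1 : ℤ) (1 : R)) X =
          algebraMap LL (LaurentSeries R) (ψ X)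
        rw [eval₂_X]
        have h1 : algebraMap LL (LaurentSeries R) (ψ X) * HahnSeries.single (1 : ℤ) (1 : R) =
            1 := by
          have h3 := congr_arg (algebraMap LL (LaurentSeries R)) hψ
          rw [map_mul, map_one, hj, hψBp, hXmap, HahnSeries.ofPowerSeries_X] at h3
          exact h3
        calc HahnSeries.single (-1 : ℤ) (1 : R) =
            (algebraMap LL (LaurentSeries R) (ψ X) * HahnSeries.single (1 : ℤ) (1 : R)) *
              HahnSeries.single (-1 : ℤ) (1 : R) := by rw [h1, one_mul]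
          _ = algebraMap LL (LaurentSeries R) (ψ X) := by rw [mul_assoc, hss, mul_one]
    intro p
    exact RingHom.congr_fun h p
  have hS := Groth.Agent.S19779.result R B hB ψB (LaurentSeries R) (RingEquiv.refl _)
    (fun b => hj b)
  haveI hpicL := pic_L hB
  haveI hpicS := pic_polyQuot (R := R)
  constructor
  · intro M _ _ _ hfree
    obtain ⟨I, I', x, hI, hI', hmul, hx, ⟨e⟩⟩ :=
      PicIdeal.exists_ideals Js (fun a ha => poly_reg a ha) M
    haveI hinvI : Module.Invertible R[X] I := Module.Invertible.congr e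
    have hcop : I' * I ⊔ Js = ⊤ := by
      rw [← Ideal.isCoprime_iff_sup_eq] at hI hI' ⊢
      exact IsCoprime.mul_left hI' hI
    have hmulL : I'.map ψ.toRingHom * I.map ψ.toRingHom = Ideal.span {ψ.toRingHom x} := by
      rw [← Ideal.map_mul, hmul, Ideal.map_span, Set.image_singleton]
    have hxL : ψ.toRingHom x ∉ mL := by
      apply notMem_of_sup_eq_top hB (𝔞 := (I' * I).map ψ.toRingHom)
      · rw [hmul, Ideal.map_span, Set.image_singleton]
      · exact (part1 ψ hB hψ (I' * I) hcop).2.1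
    have hxreg := mem_nonZeroDivisors_of_notMem hB (ψ.toRingHom x) hxL
    haveI hinv𝔞 : Module.Invertible LL (I.map ψ.toRingHom) :=
      PicIdeal.invertible_of_mul_eq_span hxreg (by rw [mul_comm]; exact hmulL)
    obtain ⟨E₁⟩ := nonempty_tensor_equiv (S := LaurentSeries R) ψ.toRingHom hcompat I
      (I.map ψ.toRingHom) rfl
    obtain ⟨E₂⟩ := Module.Invertible.free_iff_linearEquiv.mp hfree
    obtain ⟨E₄⟩ := hS.1 (I.map ψ.toRingHom) LL
      ⟨E₁.symm ≪≫ₗ (TensorProduct.AlgebraTensorModule.congr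
          (LinearEquiv.refl (LaurentSeries R) (LaurentSeries R)) e).symm ≪≫ₗ E₂ ≪≫ₗ
        (TensorProduct.AlgebraTensorModule.rid LL (LaurentSeries R) (LaurentSeries R)).symm⟩
    have h𝔞 : I.map ψ.toRingHom =
        Ideal.span {((E₄.symm 1 : I.map ψ.toRingHom) : LL)} := by
      apply le_antisymm
      · intro a ha
        have h1 : (⟨a, ha⟩ : I.map ψ.toRingHom) = E₄ ⟨a, ha⟩ • E₄.symm 1 := by
          rw [← map_smul, smul_eq_mul, mul_one, LinearEquiv.symm_apply_apply]
        have h2 : a = E₄ ⟨a, ha⟩ * ((E₄.symm 1 : I.map ψ.toRingHom) : LL) :=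
          congr_arg Subtype.val h1
        rw [h2]
        exact Ideal.mul_mem_left _ _ (Ideal.mem_span_singleton_self _)
      · rw [Ideal.span_singleton_le_iff_mem]
        exact (E₄.symm 1).2
    have hyL : ((E₄.symm 1 : I.map ψ.toRingHom) : LL) ∉ mL :=
      notMem_of_sup_eq_top hB h𝔞 (part1 ψ hB hψ I hI).2.1
    obtain ⟨g, hg1, hgspan⟩ := exists_poly_gen ψ hB hψ _ hyL
    have hgcop : Ideal.span {g} ⊔ Js = ⊤ := by
      rw [Ideal.eq_top_iff_one]
      exact Submodule.mem_sup.mpr
        ⟨g, Ideal.mem_span_singleton_self g, -(g - 1), neg_mem hg1, by ring⟩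
    have hIg : I = Ideal.span {g} :=
      (part1 ψ hB hψ I hI).1.symm.trans
        ((congr_arg (Ideal.comap ψ.toRingHom) (h𝔞.trans hgspan)).trans
          (part1 ψ hB hψ _ hgcop).1)
    have hgreg := poly_reg g hg1
    have hfreeI : Module.Free R[X] I := by
      have hmem : ∀ c : R[X], c * g ∈ I := fun c => by
        rw [hIg]
        exact Ideal.mul_mem_left _ _ (Ideal.mem_span_singleton_self g)
      let k : R[X] →ₗ[R[X]] I :=
        { toFun := fun c => ⟨c * g, hmem c⟩
          map_add' := fun c d => Subtype.ext (add_mul c d g)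
          map_smul' := fun c d => Subtype.ext (by simp [mul_assoc]) }
      have hk : Function.Bijective k := by
        constructor
        · intro c d hcd
          have h1 : c * g = d * g := congr_arg Subtype.val hcd
          have h2 : (c - d) * g = 0 := by rw [sub_mul, h1, sub_self]
          exact sub_eq_zero.mp ((mul_right_mem_nonZeroDivisors_eq_zero_iff hgreg).mp h2)
        · rintro ⟨a, ha⟩
          have ha' : a ∈ Ideal.span {g} := hIg ▸ ha
          obtain ⟨c, hc⟩ := Ideal.mem_span_singleton'.mp ha'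
          exact ⟨c, Subtype.ext hc⟩
      exact Module.Free.of_equiv (LinearEquiv.ofBijective k hk)
    exact Module.Free.of_equiv e.symm
  · intro Λ _ _ _
    obtain ⟨N₀, _, _, hfin, hproj, ⟨E₀⟩⟩ := hS.2 Λ
    obtain ⟨N₀', _, _, hfin', hproj', ⟨E₀'⟩⟩ := hS.2 (Module.Dual (LaurentSeries R) Λ)
    haveI := hfin
    haveI := hproj
    haveI := hfin'
    haveI := hproj'
    obtain ⟨ET⟩ := hS.1 (N₀ ⊗[LL] N₀') LL
      ⟨TensorProduct.AlgebraTensorModule.distribBaseChange LL (LaurentSeries R) N₀ N₀' ≪≫ₗ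
        TensorProduct.congr E₀ E₀' ≪≫ₗ TensorProduct.comm _ _ _ ≪≫ₗ
        Module.Invertible.linearEquiv (LaurentSeries R) Λ ≪≫ₗ
        (TensorProduct.AlgebraTensorModule.rid LL (LaurentSeries R) (LaurentSeries R)).symm⟩
    haveI hinvN : Module.Invertible LL N₀ := Module.Invertible.left ET
    obtain ⟨𝔞, 𝔞', x, h𝔞, h𝔞', hmul, hx, ⟨e⟩⟩ :=
      PicIdeal.exists_ideals mL (fun a ha => L_reg hB a ha) N₀
    haveI hinv𝔞 : Module.Invertible LL 𝔞 := Module.Invertible.congr e
    have hcopL : 𝔞' * 𝔞 ⊔ mL = ⊤ := by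
      rw [← Ideal.isCoprime_iff_sup_eq] at h𝔞 h𝔞' ⊢
      exact IsCoprime.mul_left h𝔞' h𝔞
    have hxL : x ∉ mL := notMem_of_sup_eq_top hB hmul hcopL
    obtain ⟨g, hg1, hgspan⟩ := exists_poly_gen ψ hB hψ x hxL
    have hgcop : Ideal.span {g} ⊔ Js = ⊤ := by
      rw [Ideal.eq_top_iff_one]
      exact Submodule.mem_sup.mpr
        ⟨g, Ideal.mem_span_singleton_self g, -(g - 1), neg_mem hg1, by ring⟩
    obtain ⟨hmapI, hcopI⟩ := part2 ψ hB hψ 𝔞 h𝔞
    obtain ⟨hmapI', hcopI'⟩ := part2 ψ hB hψ 𝔞' h𝔞'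
    have hcop : 𝔞'.comap ψ.toRingHom * 𝔞.comap ψ.toRingHom ⊔ Js = ⊤ := by
      rw [← Ideal.isCoprime_iff_sup_eq] at hcopI hcopI' ⊢
      exact IsCoprime.mul_left hcopI' hcopI
    have hprod : 𝔞'.comap ψ.toRingHom * 𝔞.comap ψ.toRingHom = Ideal.span {g} := by
      have h1 : (𝔞'.comap ψ.toRingHom * 𝔞.comap ψ.toRingHom).map ψ.toRingHom =
          (Ideal.span {g}).map ψ.toRingHom := by
        rw [Ideal.map_mul, hmapI, hmapI', hmul, hgspan]
      exact (part1 ψ hB hψ _ hcop).1.symm.trans
        ((congr_arg (Ideal.comap ψ.toRingHom) h1).trans (part1 ψ hB hψ _ hgcop).1)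
    haveI hinvI : Module.Invertible R[X] (𝔞.comap ψ.toRingHom) :=
      PicIdeal.invertible_of_mul_eq_span (poly_reg g hg1) (by rw [mul_comm]; exact hprod)
    obtain ⟨E₁⟩ := nonempty_tensor_equiv (S := LaurentSeries R) ψ.toRingHom hcompat
      (𝔞.comap ψ.toRingHom) 𝔞 hmapI
    exact ⟨𝔞.comap ψ.toRingHom, inferInstance, inferInstance, hinvI,
      ⟨E₀.symm ≪≫ₗ TensorProduct.AlgebraTensorModule.congr
        (LinearEquiv.refl (LaurentSeries R) (LaurentSeries R)) e ≪≫ₗ E₁.symm⟩⟩

end

/-- `Pic (R[s]) → Pic (R((t)))` is bijective for a Henselian local ring `R`. -/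
theorem main (R : Type u) [CommRing R] [HenselianLocalRing R] [Algebra R[X] (LaurentSeries R)]
    (halg : algebraMap R[X] (LaurentSeries R) =
      Polynomial.eval₂RingHom (HahnSeries.C) (HahnSeries.single (-1 : ℤ) (1 : R))) :
    (∀ (M : Type u) [AddCommGroup M] [Module R[X] M] [Module.Invertible R[X] M],
        Module.Free (LaurentSeries R) (LaurentSeries R ⊗[R[X]] M) → Module.Free R[X] M) ∧
    (∀ (Λ : Type u) [AddCommGroup Λ] [Module (LaurentSeries R) Λ]
        [Module.Invertible (LaurentSeries R) Λ],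
        ∃ (M : Type u) (_ : AddCommGroup M) (_ : Module R[X] M), Module.Invertible R[X] M ∧
          Nonempty (Λ ≃ₗ[LaurentSeries R] LaurentSeries R ⊗[R[X]] M)) := by
  letI : Algebra R (Groth.Agent.H3.PH.H R[X] (R[X] ⧸ Ideal.span {(X : R[X])})) :=
    ((algebraMap R[X] (Groth.Agent.H3.PH.H R[X] (R[X] ⧸ Ideal.span {(X : R[X])}))).comp
      (C : R →+* R[X])).toAlgebra
  haveI : IsScalarTower R R[X] (Groth.Agent.H3.PH.H R[X] (R[X] ⧸ Ideal.span {(X : R[X])})) :=
    IsScalarTower.of_algebraMap_eq (fun r => rfl)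
  exact main_aux (B := Groth.Agent.H3.PH.H R[X] (R[X] ⧸ Ideal.span {(X : R[X])}))
    (Groth.Agent.H3.PH.isPairHenselization_H R[X] (Ideal.span {X})) halg

end Groth.Agent.H13.HensPic
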