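import Mathlib
import Groth.Agent.H13.HorrocksP1

/-!
# Horrocks: local freeness over the base of a module extended from the base
-/

set_option autoImplicit false
set_option linter.unusedSectionVars false
set_option linter.unusedVariables false
set_option linter.style.haveILetI false

universe u

open Polynomial TensorProduct

namespace Groth.Agent.H13.Horrocks

variable {R : Type u} [CommRing R] {P : Type u} [AddCommGroup P] [Module R[X] P] {m : ℕ}

theorem free_away (i : P →ₗ[R[X]] (Fin m → R[X])) (p : (Fin m → R[X]) →ₗ[R[X]] P)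
    (hpi : p ∘ₗ i = LinearMap.id) (E : Matrix (Fin m) (Fin m) R[X])
    (hE : Matrix.toLin' E = i ∘ₗ p)
    (hrel : Rel E (E.map ((C : R →+* R[X]).comp (evalRingHom 0)))) (g : R)
    (hfree : Module.Free (Localization.Away g) (LocalizedModule (Submonoid.powers g)
      (LinearMap.range (Matrix.toLin' (E.map (evalRingHom 0)))))) :
    Module.Free (Localization.Away (C g : R[X]))
      (LocalizedModule (Submonoid.powers (C g : R[X])) P) := by
  classical
  rcases subsingleton_or_nontrivial (Localization.Away (C g : R[X])) with hB | hB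
  · exact Module.Free.of_subsingleton' _ _
  obtain ⟨E0, hE0def⟩ : ∃ E0, E0 = E.map (evalRingHom 0) := ⟨_, rfl⟩
  rw [← hE0def] at hfree
  have hEid : E * E = E := idem_of_split i p hpi E hE
  have hE0 : E0 * E0 = E0 := by rw [hE0def, ← Matrix.map_mul, hEid]
  have hunit : IsUnit (((algebraMap R[X] (Localization.Away (C g : R[X]))).comp
      (C : R →+* R[X])) g) :=
    IsLocalization.Away.algebraMap_isUnit (C g : R[X])
  obtain ⟨ρ, hρ⟩ : ∃ ρ : Localization.Away g →+* Localization.Away (C g : R[X]),
      ρ.comp (algebraMap R (Localization.Away g)) =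
        (algebraMap R[X] (Localization.Away (C g : R[X]))).comp (C : R →+* R[X]) :=
    ⟨IsLocalization.Away.lift g hunit, IsLocalization.Away.lift_comp g hunit⟩
  haveI : Nontrivial (Localization.Away g) := ρ.domain_nontrivial
  have hP : (Matrix.toLin' E0).rangeRestrict ∘ₗ (LinearMap.range (Matrix.toLin' E0)).subtype =
      LinearMap.id := by
    apply LinearMap.ext
    rintro ⟨x, y, rfl⟩
    apply Subtype.ext
    show Matrix.toLin' E0 (Matrix.toLin' E0 y) = Matrix.toLin' E0 y
    rw [← Matrix.toLin'_mul_apply, hE0]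
  have hE0' : Matrix.toLin' E0 = (LinearMap.range (Matrix.toLin' E0)).subtype ∘ₗ
      (Matrix.toLin' E0).rangeRestrict := by
    apply LinearMap.ext; intro x; rfl
  obtain ⟨i₀, p₀, hpi₀, hE₀⟩ := baseChange_split (R' := Localization.Away g) _ _ hP E0 hE0'
  haveI := hfree
  obtain ⟨r, ⟨f₂⟩⟩ : ∃ r : ℕ, Nonempty ((Localization.Away g ⊗[R]
      (LinearMap.range (Matrix.toLin' E0))) ≃ₗ[Localization.Away g]
      (Fin r → Localization.Away g)) :=
    ⟨_, ⟨((LocalizedModule.isBaseChange (Submonoid.powers g)
      (LinearMap.range (Matrix.toLin' E0))).equiv).trans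
      (Module.finBasis (Localization.Away g) (LocalizedModule (Submonoid.powers g)
        (LinearMap.range (Matrix.toLin' E0)))).equivFun⟩⟩
  have hrel₁ : Rel (E0.map (algebraMap R (Localization.Away g)))
      (1 : Matrix (Fin r) (Fin r) (Localization.Away g)) :=
    rel_of_equiv i₀ p₀ hpi₀ LinearMap.id LinearMap.id (LinearMap.id_comp _) _ 1 hE₀
      (by rw [Matrix.toLin'_one]; rfl) f₂
  have hrel₂ : Rel (E0.map ((algebraMap R[X] (Localization.Away (C g : R[X]))).comp
      (C : R →+* R[X]))) (1 : Matrix (Fin r) (Fin r) (Localization.Away (C g : R[X]))) := by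
    have := hrel₁.map ρ
    rwa [mcomp, hρ, Matrix.map_one ρ (map_zero ρ) (map_one ρ)] at this
  obtain ⟨iB, pB, hpiB, hEB⟩ := baseChange_split (R' := Localization.Away (C g : R[X])) i p hpi E hE
  have hmap : (E.map ((C : R →+* R[X]).comp (evalRingHom 0))).map
      (algebraMap R[X] (Localization.Away (C g : R[X]))) =
      E0.map ((algebraMap R[X] (Localization.Away (C g : R[X]))).comp (C : R →+* R[X])) := by
    rw [hE0def, mcomp, mcomp, RingHom.comp_assoc]
  have hrel₃ : Rel (E.map (algebraMap R[X] (Localization.Away (C g : R[X]))))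
      (E0.map ((algebraMap R[X] (Localization.Away (C g : R[X]))).comp (C : R →+* R[X]))) := by
    have := hrel.map (algebraMap R[X] (Localization.Away (C g : R[X])))
    rwa [hmap] at this
  obtain ⟨f₃⟩ := equiv_of_rel iB pB hpiB LinearMap.id LinearMap.id (LinearMap.id_comp _) _ 1 hEB
    (by rw [Matrix.toLin'_one]; rfl) (hrel₃.trans hrel₂)
  exact Module.Free.of_equiv (f₃.symm.trans
    (LocalizedModule.isBaseChange (Submonoid.powers (C g : R[X])) P).equiv)

theorem exists_cover_free (P₀ : Type u) [AddCommGroup P₀] [Module R P₀] [Module.Finite R P₀]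
    [Module.Projective R P₀] :
    ∃ s : Finset R, Ideal.span (↑s : Set R) = ⊤ ∧ ∀ g ∈ s,
      Module.Free (Localization.Away g) (LocalizedModule (Submonoid.powers g) P₀) := by
  classical
  haveI : Module.FinitePresentation R P₀ := Module.finitePresentation_of_projective R _
  obtain ⟨S, hSdef⟩ : ∃ S : Set R, S = {g | Module.Free (Localization.Away g)
      (LocalizedModule (Submonoid.powers g) P₀)} := ⟨_, rfl⟩
  have hspan : Ideal.span S = ⊤ := by
    by_contra hne
    obtain ⟨𝔪, h𝔪, hle⟩ := Ideal.exists_le_maximal _ hne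
    haveI := h𝔪.isPrime
    haveI : Module.Free (Localization.AtPrime 𝔪) (LocalizedModule 𝔪.primeCompl P₀) :=
      Module.free_of_flat_of_isLocalRing
    obtain ⟨r, hr, hr', _⟩ := Module.FinitePresentation.exists_free_localizedModule_powers
      𝔪.primeCompl (LocalizedModule.mkLinearMap 𝔪.primeCompl P₀) (Localization.AtPrime 𝔪)
    have hrS : r ∈ S := by rw [hSdef]; exact hr'
    exact hr (hle (Ideal.subset_span hrS))
  obtain ⟨s, hsS, hs⟩ := (Ideal.span_eq_top_iff_finite S).mp hspan
  refine ⟨s, hs, fun g hg => ?_⟩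
  have := hsS hg
  rw [hSdef] at this
  exact this

theorem locally_free_of_core (i : P →ₗ[R[X]] (Fin m → R[X])) (p : (Fin m → R[X]) →ₗ[R[X]] P)
    (hpi : p ∘ₗ i = LinearMap.id) (E : Matrix (Fin m) (Fin m) R[X])
    (hE : Matrix.toLin' E = i ∘ₗ p)
    (hrel : Rel E (E.map ((C : R →+* R[X]).comp (evalRingHom 0)))) :
    ∃ (n : ℕ) (g : Fin n → R), Ideal.span (Set.range g) = ⊤ ∧
      ∀ j, Module.Free (Localization.Away (C (g j) : R[X]))
        (LocalizedModule (Submonoid.powers (C (g j) : R[X])) P) := by
  classical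
  have hEid : E * E = E := idem_of_split i p hpi E hE
  have hE0 : E.map (evalRingHom 0) * E.map (evalRingHom 0) = E.map (evalRingHom 0) := by
    rw [← Matrix.map_mul, hEid]
  haveI := projective_range (E.map (evalRingHom 0)) hE0
  obtain ⟨s, hs, hsfree⟩ :=
    exists_cover_free (R := R) (LinearMap.range (Matrix.toLin' (E.map (evalRingHom 0))))
  refine ⟨s.card, fun j => (s.equivFin.symm j : R), ?_, ?_⟩
  · have hrange : Set.range (fun j => (s.equivFin.symm j : R)) = ↑s := by
      ext x
      constructor
      · rintro ⟨j, rfl⟩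
        exact (s.equivFin.symm j).2
      · intro hx
        exact ⟨s.equivFin ⟨x, hx⟩, by simp⟩
    rw [hrange, hs]
  · intro j
    exact free_away i p hpi E hE hrel _ (hsfree _ (s.equivFin.symm j).2)

end Groth.Agent.H13.Horrocks
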