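import Mathlib
import Groth.Agent.H14.AdaptedCoords

/-!
# Minimal generators of an ideal at a prime, chosen inside the ideal (helper13, for helper70)
-/

set_option autoImplicit false
universe u
open scoped TensorProduct

namespace Groth.Agent.H13.MinGens

theorem exists_minimal_generators (B : Type u) [CommRing B] (J : Ideal B) (hJ : J.FG) (q : Ideal B)
    [q.IsPrime] :
    ∃ (r : ℕ) (g : Fin r → B), (∀ i, g i ∈ J) ∧
      J.map (algebraMap B (Localization.AtPrime q)) =
        Ideal.span (Set.range fun i => algebraMap B (Localization.AtPrime q) (g i)) ∧
      r = Module.finrank q.ResidueField (q.ResidueField ⊗[B] J) := by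
  classical
  have hMfg : (J.map (algebraMap B (Localization.AtPrime q))).FG := hJ.map _
  have : Module.Finite (Localization.AtPrime q) (J.map (algebraMap B (Localization.AtPrime q))) :=
    Module.Finite.iff_fg.mpr hMfg
  -- the elements `x/1`, `x ∈ J`
  let ι₀ : J → J.map (algebraMap B (Localization.AtPrime q)) := fun x =>
    ⟨algebraMap B (Localization.AtPrime q) x, Ideal.mem_map_of_mem _ x.2⟩
  have h1 : Submodule.span (Localization.AtPrime q) (Set.range ι₀) = ⊤ := by
    apply Submodule.map_injective_of_injective
      (f := (J.map (algebraMap B (Localization.AtPrime q))).subtype) (Submodule.injective_subtype _)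
    rw [Submodule.map_span, Submodule.map_top, Submodule.range_subtype, ← Set.range_comp]
    show Ideal.span _ = Ideal.span _
    congr 1
    ext z
    simp only [Set.mem_range, Function.comp_apply, Set.mem_image, SetLike.mem_coe]
    constructor
    · rintro ⟨x, rfl⟩
      exact ⟨x.1, x.2, rfl⟩
    · rintro ⟨x, hx, rfl⟩
      exact ⟨⟨x, hx⟩, rfl⟩
  -- the spanning set in the fibre
  have hS : ⊤ ≤ Submodule.span q.ResidueField (Set.range fun x : J =>
      (1 : q.ResidueField) ⊗ₜ[Localization.AtPrime q] ι₀ x) := by
    rw [top_le_iff, ← Submodule.restrictScalars_eq_top_iff (Localization.AtPrime q),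
      Submodule.restrictScalars_span (Localization.AtPrime q) q.ResidueField
        Ideal.Quotient.mk_surjective]
    have h2 := congrArg (Submodule.map (TensorProduct.mk (Localization.AtPrime q) q.ResidueField
      (J.map (algebraMap B (Localization.AtPrime q))) 1)) h1
    rw [Submodule.map_span, Submodule.map_top, LinearMap.range_eq_top.mpr
      (TensorProduct.mk_surjective _ _ _ (IsLocalRing.residue_surjective
        (R := Localization.AtPrime q))), ← Set.range_comp] at h2
    exact h2
  let b := Module.Basis.ofSpan hS
  haveI : Finite ↥((linearIndepOn_empty q.ResidueField id).extend (Set.empty_subset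
      (Set.range fun x : J => (1 : q.ResidueField) ⊗ₜ[Localization.AtPrime q] ι₀ x))) :=
    Module.Finite.finite_basis b
  letI := Fintype.ofFinite ↥((linearIndepOn_empty q.ResidueField id).extend (Set.empty_subset
      (Set.range fun x : J => (1 : q.ResidueField) ⊗ₜ[Localization.AtPrime q] ι₀ x)))
  have hbmem : ∀ i, ∃ x : J, (1 : q.ResidueField) ⊗ₜ[Localization.AtPrime q] ι₀ x = b i := by
    intro i
    have := Module.Basis.ofSpan_subset hS (Set.mem_range_self i)
    exact this
  choose x hx using hbmem
  let e := (Fintype.equivFin ↥((linearIndepOn_empty q.ResidueField id).extend (Set.empty_subset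
      (Set.range fun x : J => (1 : q.ResidueField) ⊗ₜ[Localization.AtPrime q] ι₀ x)))).symm
  refine ⟨_, fun k => (x (e k) : B), fun k => (x (e k)).2, ?_, ?_⟩
  · -- generation by Nakayama
    have hN : Submodule.span (Localization.AtPrime q) (Set.range fun k => ι₀ (x (e k))) = ⊤ := by
      rw [← IsLocalRing.map_tensorProduct_mk_eq_top, Submodule.map_span, ← Set.range_comp,
        ← Submodule.restrictScalars_eq_top_iff (Localization.AtPrime q)]
      have hrange : (⇑(TensorProduct.mk (Localization.AtPrime q)
          (IsLocalRing.ResidueField (Localization.AtPrime q))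
          (J.map (algebraMap B (Localization.AtPrime q))) 1) ∘ fun k => ι₀ (x (e k))) =
          fun k => b (e k) := by
        funext k
        exact hx (e k)
      rw [hrange]
      have hb : Set.range (fun k => b (e k)) = Set.range b := by
        ext z
        constructor
        · rintro ⟨k, rfl⟩
          exact ⟨e k, rfl⟩
        · rintro ⟨i, rfl⟩
          exact ⟨e.symm i, by simp⟩
      rw [hb]
      have h4 := b.span_eq
      rw [← Submodule.restrictScalars_eq_top_iff (Localization.AtPrime q),
        Submodule.restrictScalars_span (Localization.AtPrime q) q.ResidueField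
          Ideal.Quotient.mk_surjective] at h4
      exact h4
    have h3 := congrArg (Submodule.map
      (J.map (algebraMap B (Localization.AtPrime q))).subtype) hN
    rw [Submodule.map_span, Submodule.map_top, Submodule.range_subtype, ← Set.range_comp] at h3
    exact h3.symm
  · rw [← Groth.Agent.H14.AdaptedCoords.finrank_fibre_ideal, Module.finrank_eq_card_basis b]

end Groth.Agent.H13.MinGens
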