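import Mathlib
import Groth.Agent.H69.DirColim
import Groth.Agent.H15.NilPair.Base
import Groth.Agent.H15.NilPair.Defs
import Groth.Agent.H15.NilPair.Sys
import Groth.Agent.H15.NilPair.Lemmas

/-!
# (KD') for helper15's S18016 squad: elements of `D'_j` dying in `D'` die at a later stage
(helper13)
-/

set_option autoImplicit false
universe u
open CategoryTheory MvPolynomial Limits
open Groth.Agent.H69 Groth.Agent.H15.NilPair
open scoped Classical

namespace Groth.Agent.H13.NilPair_KDp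

variable {R B D D' P : Type u} [CommRing R] [CommRing B] [CommRing D] [CommRing D'] [CommRing P]
  [Algebra R B] [Algebra R D] [Algebra R D'] [Algebra R P]
variable {f : B →ₐ[R] D} {i : D' →ₐ[R] D} {q₁ : P →ₐ[R] B} {q₂ : P →ₐ[R] D'}

/-- enlarging a valid index by a new relation `g` of `D'` and new relations `E` of `B`. -/
theorem valid_ext (j : J f i q₁ q₂) (g : MvPolynomial (P ⊕ D') R) (hg : g ∈ PS R j.1.WD)
    (hg0 : evD' q₂ g = 0) (E : Finset (MvPolynomial (P ⊕ D') R))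
    (hE1 : ∀ t ∈ E, t ∈ PS R j.1.WB ∧ evB q₁ D' t = 0 ∧ evD i q₂ t = 0)
    (hE4 : ∀ t ∈ E, ∀ ht : t ∈ PS R j.1.WD,
      IsNilpotent (mkq j.1.WD (insert g j.1.T') ⟨t, ht⟩))
    (h6 : Function.Surjective f → (∀ x ∈ RingHom.ker f.toRingHom, IsNilpotent x) →
      ∀ hgB : g ∈ PS R j.1.WB, IsNilpotent (mkq j.1.WB (j.1.TB ∪ E) ⟨g, hgB⟩)) :
    Valid f i q₁ q₂ ⟨j.1.Z, j.1.S, j.1.TB ∪ E, insert g j.1.T', j.1.N⟩ := by
  have hjk : j.1 ≤ (⟨j.1.Z, j.1.S, j.1.TB ∪ E, insert g j.1.T', j.1.N⟩ : Raw R P D') :=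
    ⟨subset_rfl, subset_rfl, Finset.subset_union_left, Finset.subset_insert _ _, subset_rfl⟩
  refine ⟨?_, ?_, ?_, ?_, ?_, ?_, ?_⟩
  · intro t ht
    rcases Finset.mem_union.mp ht with h | h
    · exact j.2.1 t h
    · exact hE1 t h
  · intro t ht
    rcases Finset.mem_insert.mp ht with rfl | h
    · exact ⟨hg, hg0⟩
    · exact j.2.2.1 t h
  · exact j.2.2.2.1
  · intro x hx
    rcases Finset.mem_union.mp hx with h | h
    · rcases Finset.mem_union.mp h with h' | h'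
      · exact nil_transfer_D' hjk (x : MvPolynomial (P ⊕ D') R) x.2
          (j.2.2.2.2.1 x (Finset.mem_union_left _ h'))
      · exact hE4 _ h' x.2
    · exact nil_transfer_D' hjk (x : MvPolynomial (P ⊕ D') R) x.2
        (j.2.2.2.2.1 x (Finset.mem_union_right _ h))
  · exact j.2.2.2.2.2.1
  · intro hf hfn x hx
    rcases Finset.mem_union.mp hx with h | h
    · rcases Finset.mem_insert.mp h with h' | h'
      · have hx2 : g ∈ PS R j.1.WB := h' ▸ x.2
        have hxe : x = ⟨g, hx2⟩ := Subtype.ext h'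
        rw [hxe]
        exact h6 hf hfn hx2
      · exact nil_transfer_B hjk (x : MvPolynomial (P ⊕ D') R) x.2
          (j.2.2.2.2.2.2.1 hf hfn x (Finset.mem_union_left _ h'))
    · exact nil_transfer_B hjk (x : MvPolynomial (P ⊕ D') R) x.2
        (j.2.2.2.2.2.2.1 hf hfn x (Finset.mem_union_right _ h))
  · intro hint s hs
    exact int_transfer hjk (X (Sum.inr s)) (X_mem_PS (Finset.inr_mem_disjSum.mpr hs))
      (j.2.2.2.2.2.2.2 hint s hs)

theorem ker_D' (hw : ∀ p, f (q₁ p) = i (q₂ p))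
    (hnil : ∀ x ∈ RingHom.ker i.toRingHom, IsNilpotent x) :
    ∀ (j : J f i q₁ q₂) (y : FD' j), toD' j y = 0 → ∃ (k : J f i q₁ q₂) (h : j ≤ k), trD' h y = 0 := by
  intro j y hy
  obtain ⟨⟨g, hg⟩, rfl⟩ := mkq_surjective _ _ y
  have hg0 : evD' q₂ g = 0 := hy
  by_cases mode : Function.Surjective f ∧ ∀ x ∈ RingHom.ker f.toRingHom, IsNilpotent x
  · obtain ⟨hf, hfn⟩ := mode
    have hS : j.1.S = ∅ := j.2.2.2.2.2.1 hf
    have hW : j.1.WD = j.1.WB := by unfold Raw.WD Raw.WB; rw [hS]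
    have hgB : g ∈ PS R j.1.WB := hW ▸ hg
    have hfe : f (evB q₁ D' g) = 0 := by
      rw [← evD_eq_f_evB hw g hgB]
      show i (evD' q₂ g) = 0
      rw [hg0, map_zero]
    obtain ⟨m, hm⟩ := hfn _ (RingHom.mem_ker.mpr hfe)
    have hm1 : (evB q₁ D' g) ^ (m + 1) = 0 := by rw [pow_succ, hm, zero_mul]
    have hE1 : ∀ t ∈ ({g ^ (m + 1)} : Finset (MvPolynomial (P ⊕ D') R)),
        t ∈ PS R j.1.WB ∧ evB q₁ D' t = 0 ∧ evD i q₂ t = 0 := by
      intro t ht
      rw [Finset.mem_singleton] at ht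
      subst ht
      refine ⟨Subalgebra.pow_mem _ hgB _, by rw [map_pow, hm1], ?_⟩
      show i (evD' q₂ (g ^ (m + 1))) = 0
      rw [map_pow, hg0, zero_pow (Nat.succ_ne_zero m), map_zero]
    have hE4 : ∀ t ∈ ({g ^ (m + 1)} : Finset (MvPolynomial (P ⊕ D') R)),
        ∀ ht : t ∈ PS R j.1.WD, IsNilpotent (mkq j.1.WD (insert g j.1.T') ⟨t, ht⟩) := by
      intro t ht ht'
      rw [Finset.mem_singleton] at ht
      subst ht
      have e : (⟨g ^ (m + 1), ht'⟩ : PS R j.1.WD) = ⟨g, hg⟩ ^ (m + 1) :=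
        Subtype.ext (by rw [Subalgebra.coe_pow])
      have h0 : mkq j.1.WD (insert g j.1.T') ⟨g, hg⟩ = 0 :=
        mkq_eq_zero ⟨g, hg⟩ (Finset.mem_insert_self _ _)
      rw [e, map_pow, h0, zero_pow (Nat.succ_ne_zero m)]
      exact IsNilpotent.zero
    have h6 : Function.Surjective f → (∀ x ∈ RingHom.ker f.toRingHom, IsNilpotent x) →
        ∀ hgB : g ∈ PS R j.1.WB,
          IsNilpotent (mkq j.1.WB (j.1.TB ∪ {g ^ (m + 1)}) ⟨g, hgB⟩) := by
      intro _ _ hgB'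
      refine ⟨m + 1, ?_⟩
      have e : (⟨g, hgB'⟩ : PS R j.1.WB) ^ (m + 1) =
          ⟨g ^ (m + 1), Subalgebra.pow_mem _ hgB' _⟩ := Subtype.ext (by rw [Subalgebra.coe_pow])
      rw [← map_pow, e]
      exact mkq_eq_zero _ (Finset.mem_union_right _ (Finset.mem_singleton_self _))
    have hv := valid_ext j g hg hg0 {g ^ (m + 1)} hE1 hE4 h6
    refine ⟨⟨_, hv⟩, ⟨subset_rfl, subset_rfl, Finset.subset_union_left,
      Finset.subset_insert _ _, subset_rfl⟩, ?_⟩
    rw [trD', tr_mkq]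
    exact mkq_eq_zero _ (Finset.mem_insert_self _ _)
  · have hv := valid_ext j g hg hg0 ∅ (by simp) (by simp)
      (fun hf hfn => absurd ⟨hf, hfn⟩ mode)
    refine ⟨⟨_, hv⟩, ⟨subset_rfl, subset_rfl, Finset.subset_union_left,
      Finset.subset_insert _ _, subset_rfl⟩, ?_⟩
    rw [trD', tr_mkq]
    exact mkq_eq_zero _ (Finset.mem_insert_self _ _)

end Groth.Agent.H13.NilPair_KDp
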