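import Mathlib
import Groth.Prelude.Def_Disc

/-!
# Helper lemmas about the Noether different (helper13)

* `H13.NoetherDiff.annihilator_map_of_flat`: for a flat ring map `g` and a finitely generated
  ideal `I`, the annihilator of the extension of `I` is the extension of the annihilator.
* `H13.NoetherDiff.noetherDifferent_eq_map`: a transfer principle for the Noether different along a
  flat map of the tensor squares which generates the diagonal kernel.
-/

open TensorProduct

namespace H13.NoetherDiff

theorem annihilator_map_of_flat_algebra {R S : Type*} [CommRing R] [CommRing S] [Algebra R S]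
    [Module.Flat R S] (I : Ideal R) (hI : I.FG) :
    (I.map (algebraMap R S)).annihilator = I.annihilator.map (algebraMap R S) := by
  apply le_antisymm
  · intro s hs
    have hfin : Module.Finite R I := Module.Finite.iff_fg.mpr hI
    let x : R →ₗ[R] S := LinearMap.toSpanSingleton R S s
    have hx : x ∘ₗ I.subtype = 0 := by
      ext ⟨i, hi⟩
      simp only [x, LinearMap.comp_apply, Submodule.subtype_apply,
        LinearMap.toSpanSingleton_apply, LinearMap.zero_apply]
      rw [Algebra.smul_def, mul_comm]
      exact (Submodule.mem_annihilator.mp hs) _ (Ideal.mem_map_of_mem _ hi)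
    obtain ⟨k, a, y, hxy, haf⟩ := Module.Flat.exists_factorization_of_comp_eq_zero_of_free hx
    have hs_eq : s = ∑ j, (a 1 j) • y (Finsupp.single j 1) := by
      have h1 : x 1 = s := by simp [x]
      rw [← h1, hxy, LinearMap.comp_apply]
      conv_lhs => rw [← Finsupp.univ_sum_single (a 1)]
      rw [map_sum]
      refine Finset.sum_congr rfl fun j _ => ?_
      rw [← Finsupp.smul_single_one, map_smul]
    rw [hs_eq]
    refine Ideal.sum_mem _ fun j _ => ?_
    rw [Algebra.smul_def]
    refine Ideal.mul_mem_right _ _ (Ideal.mem_map_of_mem _ ?_)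
    rw [Submodule.mem_annihilator]
    intro i hi
    have h0 : a i = 0 := by
      have := LinearMap.congr_fun haf ⟨i, hi⟩
      simpa using this
    have h2 : a i = i • a 1 := by rw [← map_smul, smul_eq_mul, mul_one]
    have h3 : (i • a 1) j = 0 := by rw [← h2, h0]; rfl
    rw [Finsupp.smul_apply, smul_eq_mul] at h3
    rw [smul_eq_mul, mul_comm]
    exact h3
  · rw [Ideal.map_le_iff_le_comap]
    intro r hr
    rw [Ideal.mem_comap, Ideal.map, Ideal.span, Submodule.mem_annihilator_span]
    rintro ⟨_, i, hi, rfl⟩
    change algebraMap R S r • algebraMap R S i = 0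
    rw [smul_eq_mul, ← map_mul]
    have : r * i = 0 := by
      have := (Submodule.mem_annihilator.mp hr) i hi
      simpa using this
    rw [this, map_zero]

theorem annihilator_map_of_flat {R S : Type*} [CommRing R] [CommRing S] (g : R →+* S)
    (hg : g.Flat) (I : Ideal R) (hI : I.FG) :
    (I.map g).annihilator = I.annihilator.map g := by
  letI : Algebra R S := g.toAlgebra
  haveI : Module.Flat R S := hg
  exact annihilator_map_of_flat_algebra (R := R) (S := S) I hI

/-- Transfer principle: if `φ : S₁ ⊗ S₁ → S₂ ⊗ S₂` is flat, compatible with `f : S₁ → S₂` on pure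
tensors, and the diagonal kernel of `S₂` is generated by the image of that of `S₁`, then the
Noether different of `S₂` is the extension of that of `S₁`. -/
theorem noetherDifferent_eq_map {R₁ S₁ R₂ S₂ : Type*} [CommRing R₁] [CommRing S₁] [CommRing R₂]
    [CommRing S₂] [Algebra R₁ S₁] [Algebra R₂ S₂] [Algebra.EssFiniteType R₁ S₁]
    (f : S₁ →+* S₂) (φ : S₁ ⊗[R₁] S₁ →+* S₂ ⊗[R₂] S₂) (hφ : φ.Flat)
    (hφf : ∀ x y, φ (x ⊗ₜ y) = f x ⊗ₜ f y)
    (hgen : ∀ s : S₂, (1 : S₂) ⊗ₜ[R₂] s - s ⊗ₜ[R₂] (1 : S₂) ∈
      (RingHom.ker (Algebra.TensorProduct.lmul' (S := S₁) R₁)).map φ) :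
    Disc.noetherDifferent R₂ S₂ = (Disc.noetherDifferent R₁ S₁).map f := by
  have hcomm : ∀ x, Algebra.TensorProduct.lmul' (S := S₂) R₂ (φ x) =
      f (Algebra.TensorProduct.lmul' (S := S₁) R₁ x) := by
    intro x
    induction x with
    | zero => simp
    | tmul a b => rw [hφf]; simp
    | add a b ha hb => simp only [map_add, ha, hb]
  have hI : RingHom.ker (Algebra.TensorProduct.lmul' (S := S₂) R₂) =
      (RingHom.ker (Algebra.TensorProduct.lmul' (S := S₁) R₁)).map φ := by
    apply le_antisymm
    · have h1 := KaehlerDifferential.span_range_eq_ideal R₂ S₂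
      change _ = RingHom.ker (Algebra.TensorProduct.lmul' (S := S₂) R₂) at h1
      rw [← h1, Ideal.span_le]
      rintro _ ⟨s, rfl⟩
      exact hgen s
    · rw [Ideal.map_le_iff_le_comap]
      intro x hx
      rw [Ideal.mem_comap, RingHom.mem_ker, hcomm, (RingHom.mem_ker).mp hx, map_zero]
  have hfg : (RingHom.ker (Algebra.TensorProduct.lmul' (S := S₁) R₁)).FG :=
    KaehlerDifferential.ideal_fg R₁ S₁
  have hann : (RingHom.ker (Algebra.TensorProduct.lmul' (S := S₂) R₂)).annihilator =
      (RingHom.ker (Algebra.TensorProduct.lmul' (S := S₁) R₁)).annihilator.map φ := by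
    rw [hI]; exact annihilator_map_of_flat φ hφ _ hfg
  unfold Disc.noetherDifferent
  rw [hann]
  apply le_antisymm
  · rw [Ideal.map_le_iff_le_comap, Ideal.map_le_iff_le_comap]
    intro x hx
    simp only [Ideal.mem_comap]
    rw [hcomm]
    exact Ideal.mem_map_of_mem f (Ideal.mem_map_of_mem _ hx)
  · rw [Ideal.map_le_iff_le_comap, Ideal.map_le_iff_le_comap]
    intro x hx
    simp only [Ideal.mem_comap]
    rw [← hcomm]
    exact Ideal.mem_map_of_mem _ (Ideal.mem_map_of_mem φ hx)

end H13.NoetherDiff
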