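import Mathlib
import Groth.Prelude.Def_Disc
import Groth.Agent.H13.DiscFree
import Groth.Agent.H13.DetPic

/-!
# The ideal of norms of the different is generated by the discriminant
(finite free `B/A` with `ω = Hom_A(B,A)` invertible)
-/

set_option autoImplicit false
universe u

open TensorProduct H13.DiscFree

namespace Groth.Agent.H13.NormDiff

variable {A B : Type u} [CommRing A] [CommRing B] [Algebra A B]
  {ι : Type} [Fintype ι] [DecidableEq ι] (b : Module.Basis ι A B)

/-- norm of an element of the different is a multiple of the discriminant -/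
theorem norm_mem_span_discr {d : B} (hd : d ∈ Disc.differentSet A B) :
    Algebra.norm A d ∈ Ideal.span {Algebra.discr A b} := by
  have h : ∀ i, ∃ c : B, ∀ x : B, b.coord i (d * x) = Algebra.trace A B (c * x) :=
    fun i => hd (b.coord i)
  choose c hc using h
  let S : Matrix ι ι A := fun i k => b.repr (c i) k
  have hmat : Algebra.leftMulMatrix b d = S * Algebra.traceMatrix A b := by
    ext i j
    rw [Algebra.leftMulMatrix_eq_repr_mul, Matrix.mul_apply]
    have h1 := hc i (b j)
    rw [Module.Basis.coord_apply] at h1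
    rw [h1]
    conv_lhs => rw [← b.sum_repr (c i), Finset.sum_mul, map_sum]
    refine Finset.sum_congr rfl fun k _ => ?_
    rw [Algebra.traceMatrix_apply, Algebra.traceForm_apply, smul_mul_assoc, map_smul, smul_eq_mul]
  rw [Ideal.mem_span_singleton', Algebra.norm_eq_matrix_det b, hmat, Matrix.det_mul,
    Algebra.discr_def]
  exact ⟨S.det, rfl⟩

/-- matrix of `f : ω → B` in the bases (dual basis, `b`) -/
noncomputable def Fmat (f : Disc.Omega A B →ₗ[B] B) : Matrix ι ι A :=
  fun i j => b.repr (f (dualOmega b j)) i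

lemma repr_apply_omega (f : Disc.Omega A B →ₗ[B] B) (l : Disc.Omega A B) (i : ι) :
    b.repr (f l) i = ∑ j, Fmat b f i j * l.toLinearMap (b j) := by
  have h1 : f l = ∑ j, l.toLinearMap (b j) • f (dualOmega b j) := by
    conv_lhs => rw [omega_eq_sum b l, map_sum]
    refine Finset.sum_congr rfl fun j _ => ?_
    rw [map_smul, smul_eq_mul, Algebra.smul_def]
  rw [h1, map_sum, Finsupp.finsetSum_apply]
  refine Finset.sum_congr rfl fun j _ => ?_
  rw [map_smul, Finsupp.smul_apply, smul_eq_mul, mul_comm]
  rfl

lemma leftMulMatrix_apply_omega (f : Disc.Omega A B →ₗ[B] B) (l : Disc.Omega A B) :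
    Algebra.leftMulMatrix b (f l) =
      Fmat b f * (Matrix.of fun j k => l.toLinearMap (b k * b j)) := by
  ext i k
  rw [Algebra.leftMulMatrix_eq_repr_mul, Matrix.mul_apply]
  have : f l * b k = f (b k • l) := by rw [map_smul, smul_eq_mul, mul_comm]
  rw [this, repr_apply_omega]
  refine Finset.sum_congr rfl fun j _ => ?_
  rw [Matrix.of_apply, Disc.Omega.smul_toLinearMap_apply]

lemma norm_apply_trace [Module.Free A B] [Module.Finite A B] (f : Disc.Omega A B →ₗ[B] B) :
    Algebra.norm A (f (Disc.Omega.trace A B)) = (Fmat b f).det * Algebra.discr A b := by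
  have hT : (Matrix.of fun j k => (Disc.Omega.trace A B).toLinearMap (b k * b j)) =
      (Algebra.traceMatrix A b).transpose := by
    ext j k; rfl
  rw [Algebra.norm_eq_matrix_det b, leftMulMatrix_apply_omega, Matrix.det_mul, hT,
    Matrix.det_transpose, Algebra.discr_def]

lemma apply_trace_mem_differentSet [Module.Free A B] [Module.Finite A B]
    [Module.Invertible B (Disc.Omega A B)]
    (f : Disc.Omega A B →ₗ[B] B) : f (Disc.Omega.trace A B) ∈ Disc.differentSet A B := by
  intro φ
  refine ⟨f ⟨φ⟩, fun x => ?_⟩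
  have h := Groth.Agent.H13.DetPic.smul_eq_smul (R := B) (Disc.Omega A B) f
    (Disc.Omega.trace A B) ⟨φ⟩
  have h2 := congrArg (fun l : Disc.Omega A B => l.toLinearMap x) h
  exact h2

lemma repr_mem_of_mem_map (m : Ideal A) {x : B} (hx : x ∈ m.map (algebraMap A B)) (k : ι) :
    b.repr x k ∈ m := by
  let N : Ideal B :=
    { carrier := {x | ∀ k, b.repr x k ∈ m}
      zero_mem' := fun k => by simp
      add_mem' := fun {x y} hx hy k => by
        rw [map_add, Finsupp.add_apply]; exact m.add_mem (hx k) (hy k)
      smul_mem' := fun c x hx k => by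
        rw [smul_eq_mul]
        have : c * x = ∑ j, b.repr x j • (c * b j) := by
          conv_lhs => rw [← b.sum_repr x, Finset.mul_sum]
          refine Finset.sum_congr rfl fun j _ => ?_
          rw [mul_smul_comm]
        rw [this, map_sum, Finsupp.finsetSum_apply]
        refine m.sum_mem fun j _ => ?_
        rw [map_smul, Finsupp.smul_apply, smul_eq_mul]
        exact m.mul_mem_right _ (hx j) }
  have hle : m.map (algebraMap A B) ≤ N := by
    rw [Ideal.map_le_iff_le_comap]
    intro a ha
    change ∀ k, b.repr (algebraMap A B a) k ∈ m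
    intro k
    rw [Algebra.algebraMap_eq_smul_one, map_smul, Finsupp.smul_apply, smul_eq_mul]
    exact m.mul_mem_right _ ha
  exact hle hx k

omit [Algebra A B] in
lemma exists_one_tmul (I : Ideal B) (M : Type u) [AddCommGroup M] [Module B M]
    (t : (B ⧸ I) ⊗[B] M) : ∃ l : M, t = (1 : B ⧸ I) ⊗ₜ[B] l := by
  induction t using TensorProduct.induction_on with
  | zero => exact ⟨0, by simp⟩
  | tmul c l =>
    obtain ⟨c, rfl⟩ := Ideal.Quotient.mk_surjective c
    refine ⟨c • l, ?_⟩
    have : (Ideal.Quotient.mk I c : B ⧸ I) = c • (1 : B ⧸ I) := by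
      rw [Algebra.smul_def, mul_one]; rfl
    rw [this, TensorProduct.smul_tmul]
  | add x y hx hy =>
    obtain ⟨l, rfl⟩ := hx
    obtain ⟨l', rfl⟩ := hy
    exact ⟨l + l', by rw [TensorProduct.tmul_add]⟩

theorem span_det_eq_top [Module.Invertible B (Disc.Omega A B)] :
    Ideal.span (Set.range fun f : Disc.Omega A B →ₗ[B] B => (Fmat b f).det) = ⊤ := by
  by_contra hne
  obtain ⟨m, hm, hJm⟩ := Ideal.exists_le_maximal _ hne
  haveI := hm
  letI : Field (A ⧸ m) := Ideal.Quotient.field m
  haveI : Module.Finite A B := Module.Finite.of_basis b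
  haveI : Module.Finite A (B ⧸ m.map (algebraMap A B)) :=
    Module.Finite.of_surjective (Ideal.Quotient.mkₐ A (m.map (algebraMap A B))).toLinearMap
      (Ideal.Quotient.mkₐ_surjective A _)
  haveI : Module.Finite (A ⧸ m) (B ⧸ m.map (algebraMap A B)) :=
    Module.Finite.of_restrictScalars_finite A (A ⧸ m) (B ⧸ m.map (algebraMap A B))
  haveI : IsArtinianRing (B ⧸ m.map (algebraMap A B)) :=
    IsArtinianRing.of_finite (A ⧸ m) (B ⧸ m.map (algebraMap A B))
  have hfree : Nonempty (((B ⧸ m.map (algebraMap A B)) ⊗[B] Disc.Omega A B)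
      ≃ₗ[B ⧸ m.map (algebraMap A B)] (B ⧸ m.map (algebraMap A B))) :=
    CommRing.Pic.mk_eq_one_iff.1 (Subsingleton.elim _ _)
  obtain ⟨g⟩ := hfree
  let gbar : Disc.Omega A B →ₗ[B] (B ⧸ m.map (algebraMap A B)) :=
    (g.toLinearMap.restrictScalars B) ∘ₗ
      (TensorProduct.mk B (B ⧸ m.map (algebraMap A B)) (Disc.Omega A B) 1)
  have hgbar : Function.Surjective gbar := by
    intro y
    obtain ⟨l, hl⟩ := exists_one_tmul (m.map (algebraMap A B)) (Disc.Omega A B) (g.symm y)
    refine ⟨l, ?_⟩
    show g ((1 : B ⧸ m.map (algebraMap A B)) ⊗ₜ[B] l) = y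
    rw [← hl, LinearEquiv.apply_symm_apply]
  obtain ⟨f, hf⟩ := Module.projective_lifting_property
    (Submodule.mkQ (m.map (algebraMap A B))) gbar (Submodule.mkQ_surjective _)
  have hdet : (Fmat b f).det ∈ m := hJm (Ideal.subset_span ⟨f, rfl⟩)
  have hl : ∀ i, ∃ l : Disc.Omega A B,
      gbar l = Ideal.Quotient.mk (m.map (algebraMap A B)) (b i) := fun i => hgbar _
  choose lam hlam using hl
  let V : Matrix ι ι A := fun j i => (lam i).toLinearMap (b j)
  have hFV : ∀ k i, (Fmat b f * V) k i - (if i = k then (1 : A) else 0) ∈ m := by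
    intro k i
    have h1 : f (lam i) - b i ∈ m.map (algebraMap A B) := by
      rw [← Ideal.Quotient.eq]
      have := congrArg (fun φ => φ (lam i)) hf
      exact this.trans (hlam i)
    have h2 := repr_mem_of_mem_map b m h1 k
    rw [map_sub, Finsupp.sub_apply, repr_apply_omega, Module.Basis.repr_self,
      Finsupp.single_apply] at h2
    rw [Matrix.mul_apply]
    exact h2
  have hmap : (Ideal.Quotient.mk m).mapMatrix (Fmat b f * V) = 1 := by
    ext k i
    rw [RingHom.mapMatrix_apply, Matrix.map_apply, Matrix.one_apply]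
    have := hFV k i
    rw [← Ideal.Quotient.eq] at this
    rw [this]
    by_cases h : k = i
    · subst h; simp
    · have h' : ¬ i = k := fun e => h e.symm
      simp [h, h']
  have hone : (Ideal.Quotient.mk m) (Fmat b f).det * (Ideal.Quotient.mk m) V.det = 1 := by
    rw [← map_mul, ← Matrix.det_mul, RingHom.map_det, hmap, Matrix.det_one]
  rw [Ideal.Quotient.eq_zero_iff_mem.2 hdet, zero_mul] at hone
  exact zero_ne_one hone

theorem main [Module.Invertible B (Disc.Omega A B)] :
    Ideal.span (Algebra.norm A '' Disc.differentSet A B) = Ideal.span {Algebra.discr A b} := by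
  haveI : Module.Free A B := Module.Free.of_basis b
  haveI : Module.Finite A B := Module.Finite.of_basis b
  apply le_antisymm
  · rw [Ideal.span_le]
    rintro _ ⟨d, hd, rfl⟩
    exact norm_mem_span_discr b hd
  · rw [Ideal.span_le, Set.singleton_subset_iff, SetLike.mem_coe]
    have key : ∀ y ∈ Ideal.span (Set.range fun f : Disc.Omega A B →ₗ[B] B => (Fmat b f).det),
        y * Algebra.discr A b ∈ Ideal.span (Algebra.norm A '' Disc.differentSet A B) := by
      intro y hy
      refine Submodule.span_induction (p := fun y _ => y * Algebra.discr A b ∈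
        Ideal.span (Algebra.norm A '' Disc.differentSet A B)) ?_ ?_ ?_ ?_ hy
      · rintro _ ⟨f, rfl⟩
        show (Fmat b f).det * Algebra.discr A b ∈ _
        rw [← norm_apply_trace b f]
        exact Ideal.subset_span ⟨_, apply_trace_mem_differentSet f, rfl⟩
      · show (0 : A) * Algebra.discr A b ∈ _
        rw [zero_mul]; exact zero_mem _
      · intro x y _ _ hx hy
        show (x + y) * Algebra.discr A b ∈ _
        rw [add_mul]; exact add_mem hx hy
      · intro a x _ hx
        show (a • x) * Algebra.discr A b ∈ _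
        rw [smul_eq_mul, mul_assoc]; exact Ideal.mul_mem_left _ a hx
    have := key 1 (by rw [span_det_eq_top b]; exact Submodule.mem_top)
    rwa [one_mul] at this

end Groth.Agent.H13.NormDiff
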