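import Mathlib
import Groth.Prelude.Def_QFDual
import Groth.Agent.H13.OmegaBC

/-!
# Flat base change of `ω = Hom_A(B', A)` for a finitely presented `A`-algebra `B'` (helper13)
-/

open TensorProduct

namespace H13.OmegaFlat

universe u v

section

variable {A : Type*} {A₁ : Type*} {B' B'₁ : Type v} [CommRing A] [CommRing B'] [CommRing A₁]
  [CommRing B'₁] [Algebra A B'] [Algebra A A₁] [Algebra B' B'₁] [Algebra A₁ B'₁] [Algebra A B'₁]
  [IsScalarTower A A₁ B'₁] [IsScalarTower A B' B'₁] (h : Algebra.IsPushout A A₁ B' B'₁)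

/-- the comparison equivalence `(A₁ ⊗ B' → A₁ ⊗ A) ≃ (B'₁ → A₁)` -/
noncomputable def eN : (A₁ ⊗[A] B' →ₗ[A₁] A₁ ⊗[A] A) ≃ₗ[A₁] (B'₁ →ₗ[A₁] A₁) :=
  LinearEquiv.arrowCongr h.out.equiv (AlgebraTensorModule.rid A A₁ A₁)

lemma eN_apply (g : A₁ ⊗[A] B' →ₗ[A₁] A₁ ⊗[A] A) (y : B'₁) :
    eN h g y = AlgebraTensorModule.rid A A₁ A₁ (g (h.out.equiv.symm y)) := rfl

/-- dualizing commutes with flat base change for finitely presented modules,
in the `IsBaseChange.toDual` form -/
theorem isBaseChange_toDual [Module.Flat A A₁] [Module.FinitePresentation A B'] :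
    IsBaseChange A₁ (h.out.toDual) := by
  have h1 : IsBaseChange A₁ (LinearMap.baseChangeHom A A₁ B' A) :=
    Module.FinitePresentation.isBaseChange_map A B' A A₁
  refine (IsBaseChange.iff_of_equiv_comm (LinearEquiv.refl A _) (eN h) ?_).mp h1
  ext φ : 1
  change h.out.toDual φ = eN h (LinearMap.baseChangeHom A A₁ B' A φ)
  refine h.out.algHom_ext _ _ fun x => ?_
  rw [IsBaseChange.toDual_comp_apply, eN_apply, IsBaseChange.equiv_symm_apply]
  simp [Algebra.algebraMap_eq_smul_one]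

end

section

variable {A : Type*} {A₁ : Type*} {B' B'₁ : Type v} [CommRing A] [CommRing B'] [CommRing A₁]
  [CommRing B'₁] [Algebra A B'] [Algebra A A₁] [Algebra B' B'₁] [Algebra A₁ B'₁] [Algebra A B'₁]
  [IsScalarTower A A₁ B'₁] [IsScalarTower A B' B'₁] (h : Algebra.IsPushout A A₁ B' B'₁)

/-- the `A`-module structure on `Hom_A(B', A)` (wrapped) through `A → B'` -/
noncomputable def modA : Module A (Disc.Omega A B') := Module.compHom _ (algebraMap A B')

attribute [local instance] modA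

lemma smulA_def (a : A) (φ : Disc.Omega A B') : a • φ = algebraMap A B' a • φ := rfl

instance : IsScalarTower A B' (Disc.Omega A B') :=
  ⟨fun a b φ => by rw [smulA_def, Algebra.smul_def, mul_smul]⟩

/-- unwrapping, `A`-linearly -/
noncomputable def wrapA : Disc.Omega A B' ≃ₗ[A] Module.Dual A B' where
  toFun φ := φ.toLinearMap
  invFun f := ⟨f⟩
  map_add' _ _ := rfl
  map_smul' a φ := by
    ext x
    change φ.toLinearMap (algebraMap A B' a * x) = a • φ.toLinearMap x
    rw [← Algebra.smul_def, map_smul]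
  left_inv _ := rfl
  right_inv _ := rfl

lemma wrapA_apply (φ : Disc.Omega A B') : wrapA φ = φ.toLinearMap := rfl

include h in
theorem thetaHom_bijective [Module.Flat A A₁] [Module.FinitePresentation A B'] :
    Function.Bijective (H13.OmegaBC.thetaHom h) := by
  haveI := h
  let α : A₁ ⊗[A] Disc.Omega A B' ≃ₗ[A₁] B'₁ ⊗[B'] Disc.Omega A B' :=
    (Algebra.IsPushout.cancelBaseChange A A₁ B' B'₁ (Disc.Omega A B')).symm
  have hα : ∀ (a₁ : A₁) (φ : Disc.Omega A B'), α (a₁ ⊗ₜ φ) = algebraMap A₁ B'₁ a₁ ⊗ₜ φ :=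
    fun a₁ φ => Algebra.IsPushout.cancelBaseChange_symm_tmul A A₁ B' B'₁ (Disc.Omega A B') a₁ φ
  let β : A₁ ⊗[A] Module.Dual A B' ≃ₗ[A₁] Module.Dual A₁ B'₁ := (isBaseChange_toDual h).equiv
  have hβ : ∀ (a₁ : A₁) (f : Module.Dual A B'), β (a₁ ⊗ₜ f) = a₁ • h.out.toDual f :=
    fun a₁ f => (isBaseChange_toDual h).equiv_tmul a₁ f
  let w : A₁ ⊗[A] Disc.Omega A B' ≃ₗ[A] A₁ ⊗[A] Module.Dual A B' := LinearEquiv.lTensor A₁ wrapA
  have key : ∀ z : A₁ ⊗[A] Disc.Omega A B',
      (H13.OmegaBC.thetaHom h (α z)).toLinearMap = β (w z) := by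
    intro z
    induction z using TensorProduct.induction_on with
    | zero => simp
    | add x y hx hy => rw [map_add, map_add, Disc.Omega.add_toLinearMap, hx, hy, map_add, map_add]
    | tmul a₁ φ =>
      rw [hα, H13.OmegaBC.thetaHom_tmul]
      change _ = β (a₁ ⊗ₜ wrapA φ)
      rw [hβ, wrapA_apply]
      ext x
      change (QFDual.bcFin h φ).toLinearMap (algebraMap A₁ B'₁ a₁ * x) =
        a₁ • (h.out.toDual φ.toLinearMap) x
      rw [← Algebra.smul_def, map_smul]
      rfl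
  have hcomp : (fun ψ : Disc.Omega A₁ B'₁ => ψ.toLinearMap) ∘ (H13.OmegaBC.thetaHom h) ∘ α =
      β ∘ w := by
    funext z
    exact key z
  have hbij : Function.Bijective
      ((fun ψ : Disc.Omega A₁ B'₁ => ψ.toLinearMap) ∘ (H13.OmegaBC.thetaHom h) ∘ α) := by
    rw [hcomp]
    exact β.bijective.comp w.bijective
  have hunwrap : Function.Bijective (fun ψ : Disc.Omega A₁ B'₁ => ψ.toLinearMap) :=
    ⟨fun _ _ hxy => Disc.Omega.ext hxy, fun f => ⟨⟨f⟩, rfl⟩⟩
  rw [Function.Bijective.of_comp_iff' hunwrap] at hbij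
  exact (Function.Bijective.of_comp_iff _ α.bijective).mp hbij

variable {B₁ : Type v} [CommRing B₁] [Algebra B'₁ B₁] [Algebra B' B₁] [IsScalarTower B' B'₁ B₁]

include h in
theorem omegaBC_bijective [Module.Flat A A₁] [Module.FinitePresentation A B'] :
    Function.Bijective (QFDual.omegaBC (B₁ := B₁) h) := by
  let Θe : B'₁ ⊗[B'] Disc.Omega A B' ≃ₗ[B'₁] Disc.Omega A₁ B'₁ :=
    LinearEquiv.ofBijective (H13.OmegaBC.thetaHom h) (thetaHom_bijective h)
  have hΘ : ∀ (b'₁ : B'₁) (φ : Disc.Omega A B'), Θe (b'₁ ⊗ₜ φ) = b'₁ • QFDual.bcFin h φ :=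
    fun b'₁ φ => H13.OmegaBC.thetaHom_tmul h b'₁ φ
  let c : B₁ ⊗[B'₁] (B'₁ ⊗[B'] Disc.Omega A B') ≃ₗ[B'₁] B₁ ⊗[B'] Disc.Omega A B' :=
    AlgebraTensorModule.cancelBaseChange B' B'₁ B'₁ B₁ (Disc.Omega A B')
  have key : ∀ z : B₁ ⊗[B'₁] (B'₁ ⊗[B'] Disc.Omega A B'),
      QFDual.omegaBC (B₁ := B₁) h (c z) = (LinearEquiv.lTensor B₁ Θe) z := by
    intro z
    induction z using TensorProduct.induction_on with
    | zero => simp
    | add x y hx hy => rw [map_add, map_add, map_add, hx, hy]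
    | tmul b₁ y =>
      induction y using TensorProduct.induction_on with
      | zero => simp
      | add x y hx hy => rw [TensorProduct.tmul_add, map_add, map_add, map_add, hx, hy]
      | tmul b'₁ φ =>
        rw [AlgebraTensorModule.cancelBaseChange_tmul, QFDual.omegaBC_tmul,
          LinearEquiv.lTensor_tmul, hΘ, TensorProduct.smul_tmul]
  have hcomp : (QFDual.omegaBC (B₁ := B₁) h) ∘ c = LinearEquiv.lTensor B₁ Θe := by
    funext z
    exact key z
  have hbij : Function.Bijective ((QFDual.omegaBC (B₁ := B₁) h) ∘ c) := by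
    rw [hcomp]
    exact (LinearEquiv.lTensor B₁ Θe).bijective
  exact (Function.Bijective.of_comp_iff _ c.bijective).mp hbij

end

end H13.OmegaFlat
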