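import Mathlib

/-!
# `Pic A → Pic A[X]` is surjective for an integrally closed domain `A`

* `coeff_mul_mem_valuationSubring`, `coeff_mul_mem_range`: Kronecker's lemma: if `f g ∈ A[X]`
  with `f, g ∈ K[X]` and `A` integrally closed in `K = Frac A`, then every product of a
  coefficient of `f` and a coefficient of `g` lies in `A` (via valuation rings + Gauss).
* `exists_unit_eq_cs`: every invertible `A[X]`-submodule of `K[X]` is extended from an invertible
  `A`-submodule of `K`.
* `mapAlgebra_polynomial_surjective`.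
-/

namespace Groth.Agent.H13.PicNormal

open Polynomial TensorProduct

attribute [local instance] Polynomial.algebra

universe u

section Kronecker

variable {K : Type*} [Field K]

theorem exists_coeff_max (V : ValuationSubring K) (f : K[X]) (hf : f ≠ 0) :
    ∃ m, f.coeff m ≠ 0 ∧ ∀ l, (f.coeff m)⁻¹ * f.coeff l ∈ V := by
  have hne : f.support.Nonempty := Polynomial.nonempty_support_iff.mpr hf
  obtain ⟨m, hm, hmax⟩ :=
    Finset.exists_max_image f.support (fun l => V.valuation (f.coeff l)) hne
  have hm0 : f.coeff m ≠ 0 := Polynomial.mem_support_iff.mp hm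
  refine ⟨m, hm0, fun l => ?_⟩
  by_cases hl : l ∈ f.support
  · have h1 := hmax l hl
    rw [← V.valuation_le_one_iff, map_mul, map_inv₀]
    have hpos : 0 < V.valuation (f.coeff m) := (Valuation.pos_iff _).mpr hm0
    rw [inv_mul_le_iff₀ hpos, mul_one]
    exact h1
  · rw [Polynomial.notMem_support_iff.mp hl, mul_zero]
    exact V.zero_mem

theorem coeff_mul_mem_valuationSubring (V : ValuationSubring K) (f g : K[X])
    (h : ∀ n, (f * g).coeff n ∈ V) (i j : ℕ) : f.coeff i * g.coeff j ∈ V := by
  by_cases hf : f = 0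
  · rw [hf, coeff_zero, zero_mul]; exact V.zero_mem
  by_cases hg : g = 0
  · rw [hg, coeff_zero, mul_zero]; exact V.zero_mem
  obtain ⟨m, hc0, hm⟩ := exists_coeff_max V f hf
  obtain ⟨m', hd0, hm'⟩ := exists_coeff_max V g hg
  obtain ⟨c, hc⟩ : ∃ c, c = f.coeff m := ⟨_, rfl⟩
  obtain ⟨d, hd⟩ : ∃ d, d = g.coeff m' := ⟨_, rfl⟩
  rw [← hc] at hc0 hm
  rw [← hd] at hd0 hm'
  have hF : C c⁻¹ * f ∈ Polynomial.lifts V.subtype := by
    rw [Polynomial.lifts_iff_coeff_lifts]
    intro l
    rw [coeff_C_mul]
    exact ⟨⟨_, hm l⟩, rfl⟩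
  have hG : C d⁻¹ * g ∈ Polynomial.lifts V.subtype := by
    rw [Polynomial.lifts_iff_coeff_lifts]
    intro l
    rw [coeff_C_mul]
    exact ⟨⟨_, hm' l⟩, rfl⟩
  obtain ⟨F, hF⟩ := (Polynomial.mem_lifts _).mp hF
  obtain ⟨G, hG⟩ := (Polynomial.mem_lifts _).mp hG
  have hFm : F.coeff m = 1 := by
    apply Subtype.ext
    have h1 : (F.map V.subtype).coeff m = V.subtype (F.coeff m) := coeff_map _ _
    rw [hF, coeff_C_mul, ← hc, inv_mul_cancel₀ hc0] at h1
    exact h1.symm
  have hGm : G.coeff m' = 1 := by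
    apply Subtype.ext
    have h1 : (G.map V.subtype).coeff m' = V.subtype (G.coeff m') := coeff_map _ _
    rw [hG, coeff_C_mul, ← hd, inv_mul_cancel₀ hd0] at h1
    exact h1.symm
  have hFtop : F.contentIdeal = ⊤ :=
    Ideal.eq_top_of_isUnit_mem _ (Polynomial.coeff_mem_contentIdeal F m)
      (by rw [hFm]; exact isUnit_one)
  have hGtop : G.contentIdeal = ⊤ :=
    Ideal.eq_top_of_isUnit_mem _ (Polynomial.coeff_mem_contentIdeal G m')
      (by rw [hGm]; exact isUnit_one)
  have hFG : (F * G).contentIdeal = ⊤ :=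
    Polynomial.contentIdeal_mul_eq_top_of_contentIdeal_eq_top hFtop hGtop
  have key : ∀ n, c * d * (((F * G).coeff n : V) : K) = (f * g).coeff n := by
    intro n
    have h1 : ((F * G).map V.subtype).coeff n = V.subtype ((F * G).coeff n) := coeff_map _ _
    rw [Polynomial.map_mul, hF, hG] at h1
    have h2 : C c⁻¹ * f * (C d⁻¹ * g) = C (c⁻¹ * d⁻¹) * (f * g) := by
      rw [C_mul]; ring
    rw [h2, coeff_C_mul] at h1
    have h3 : (((F * G).coeff n : V) : K) = c⁻¹ * d⁻¹ * (f * g).coeff n := h1.symm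
    rw [h3]
    field_simp
  let W : Ideal V :=
    { carrier := {y | c * d * (y : K) ∈ V}
      add_mem' := by
        intro a b ha hb
        show c * d * ((a + b : V) : K) ∈ V
        have : c * d * ((a + b : V) : K) = c * d * (a : K) + c * d * (b : K) := by
          push_cast; ring
        rw [this]
        exact V.add_mem _ _ ha hb
      zero_mem' := by
        show c * d * ((0 : V) : K) ∈ V
        have : c * d * ((0 : V) : K) = 0 := by push_cast; ring
        rw [this]
        exact V.zero_mem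
      smul_mem' := by
        intro r y hy
        show c * d * ((r • y : V) : K) ∈ V
        have : c * d * ((r • y : V) : K) = (r : K) * (c * d * (y : K)) := by
          rw [smul_eq_mul]; push_cast; ring
        rw [this]
        exact V.mul_mem _ _ r.2 hy }
  have hle : (F * G).contentIdeal ≤ W := by
    rw [Polynomial.contentIdeal_def]
    refine Ideal.span_le.mpr ?_
    intro y hy
    obtain ⟨n, -, rfl⟩ := Polynomial.mem_coeffs_iff.mp (Finset.mem_coe.mp hy)
    show c * d * (((F * G).coeff n : V) : K) ∈ V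
    rw [key n]
    exact h n
  have hcd : c * d ∈ V := by
    have h1 : (1 : V) ∈ W := hle (by rw [hFG]; exact Submodule.mem_top)
    have h2 : c * d * ((1 : V) : K) ∈ V := h1
    have h3 : c * d * ((1 : V) : K) = c * d := by push_cast; ring
    rwa [h3] at h2
  have hfin : f.coeff i * g.coeff j = c * d * ((c⁻¹ * f.coeff i) * (d⁻¹ * g.coeff j)) := by
    field_simp
  rw [hfin]
  exact V.mul_mem _ _ hcd (V.mul_mem _ _ (hm i) (hm' j))

/-- **Kronecker's lemma** for an integrally closed domain. -/
theorem coeff_mul_mem_range {A : Type*} [CommRing A] [IsDomain A] [IsIntegrallyClosed A]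
    {K : Type*} [Field K] [Algebra A K] [IsFractionRing A K] (f g : K[X])
    (h : ∀ n, (f * g).coeff n ∈ (algebraMap A K).range) (i j : ℕ) :
    f.coeff i * g.coeff j ∈ (algebraMap A K).range := by
  by_contra hx
  have hxT : f.coeff i * g.coeff j ∉ (integralClosure A K).toSubring := by
    intro hmem
    apply hx
    have h1 : IsIntegral A (f.coeff i * g.coeff j) := hmem
    exact IsIntegrallyClosed.isIntegral_iff.mp h1
  obtain ⟨V, hV, hxV⟩ := Subring.exists_le_valuationSubring_of_isIntegrallyClosedIn hxT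
  apply hxV
  apply coeff_mul_mem_valuationSubring V f g _ i j
  intro n
  obtain ⟨a, ha⟩ := h n
  rw [← ha]
  exact hV (show algebraMap A K a ∈ (integralClosure A K).toSubring from
    (isIntegral_algebraMap : IsIntegral A (algebraMap A K a)))

end Kronecker

section PicPoly

variable {A : Type u} [CommRing A] {K : Type u} [Field K] [Algebra A K]

/-- polynomials over `K` all of whose coefficients lie in `N`. -/
def cs (N : Submodule A K) : Submodule A[X] K[X] where
  carrier := {h | ∀ n, h.coeff n ∈ N}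
  add_mem' := fun {a b} ha hb n => by rw [coeff_add]; exact N.add_mem (ha n) (hb n)
  zero_mem' := fun n => by rw [coeff_zero]; exact N.zero_mem
  smul_mem' := fun p h hh n => by
    rw [Algebra.smul_def, Polynomial.algebraMap_def, coe_mapRingHom, coeff_mul]
    refine N.sum_mem (fun ab _ => ?_)
    rw [coeff_map, ← Algebra.smul_def]
    exact N.smul_mem _ (hh _)

theorem mem_cs {N : Submodule A K} {h : K[X]} : h ∈ cs N ↔ ∀ n, h.coeff n ∈ N := Iff.rfl

theorem cs_mul_le (N N' : Submodule A K) : cs N * cs N' ≤ cs (N * N') := by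
  rw [Submodule.mul_le]
  intro h hh h' hh' n
  rw [coeff_mul]
  exact Submodule.sum_mem _ (fun ab _ => Submodule.mul_mem_mul (hh _) (hh' _))

theorem cs_one : cs (1 : Submodule A K) = 1 := by
  ext h
  rw [Submodule.mem_one, mem_cs]
  constructor
  · intro hh
    have : h ∈ Polynomial.lifts (algebraMap A K) := by
      rw [Polynomial.lifts_iff_coeff_lifts]
      intro n
      obtain ⟨y, hy⟩ := Submodule.mem_one.mp (hh n)
      exact ⟨y, hy⟩
    obtain ⟨q, hq⟩ := (Polynomial.mem_lifts _).mp this
    exact ⟨q, hq⟩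
  · rintro ⟨q, rfl⟩ n
    rw [Polynomial.algebraMap_def, coe_mapRingHom, coeff_map]
    exact Submodule.mem_one.mpr ⟨_, rfl⟩

variable [IsDomain A] [IsIntegrallyClosed A] [IsFractionRing A K]

theorem exists_unit_eq_cs (J : (Submodule A[X] K[X])ˣ) :
    ∃ I : (Submodule A K)ˣ, (J : Submodule A[X] K[X]) = cs (I : Submodule A K) := by
  obtain ⟨I, hI⟩ : ∃ I : Submodule A K, I = Submodule.span A
      {x | ∃ f ∈ (J : Submodule A[X] K[X]), ∃ n, f.coeff n = x} := ⟨_, rfl⟩
  obtain ⟨I', hI'⟩ : ∃ I' : Submodule A K, I' = Submodule.span A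
      {x | ∃ f ∈ ((J⁻¹ : (Submodule A[X] K[X])ˣ) : Submodule A[X] K[X]), ∃ n, f.coeff n = x} :=
    ⟨_, rfl⟩
  have hJI : (J : Submodule A[X] K[X]) ≤ cs I := fun f hf n => by
    rw [hI]; exact Submodule.subset_span ⟨f, hf, n, rfl⟩
  have hJI' : ((J⁻¹ : (Submodule A[X] K[X])ˣ) : Submodule A[X] K[X]) ≤ cs I' := fun f hf n => by
    rw [hI']; exact Submodule.subset_span ⟨f, hf, n, rfl⟩
  have hmul : (J : Submodule A[X] K[X]) *
      ((J⁻¹ : (Submodule A[X] K[X])ˣ) : Submodule A[X] K[X]) = 1 := by
    rw [← Units.val_mul, mul_inv_cancel, Units.val_one]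
  have hmul' : ((J⁻¹ : (Submodule A[X] K[X])ˣ) : Submodule A[X] K[X]) *
      (J : Submodule A[X] K[X]) = 1 := by
    rw [← Units.val_mul, inv_mul_cancel, Units.val_one]
  have h1 : I * I' ≤ 1 := by
    rw [hI, hI', Submodule.span_mul_span, Submodule.span_le]
    rintro _ ⟨_, ⟨f, hf, n, rfl⟩, _, ⟨g, hg, m, rfl⟩, rfl⟩
    have hfg : f * g ∈ (1 : Submodule A[X] K[X]) := by
      rw [← hmul]; exact Submodule.mul_mem_mul hf hg
    obtain ⟨q, hq⟩ := Submodule.mem_one.mp hfg
    have := coeff_mul_mem_range (A := A) f g (fun l => ⟨q.coeff l, by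
      rw [← hq, Polynomial.algebraMap_def, coe_mapRingHom, coeff_map]⟩) n m
    obtain ⟨y, hy⟩ := this
    exact Submodule.mem_one.mpr ⟨y, hy⟩
  have h2 : (1 : Submodule A K) ≤ I * I' := by
    rw [Submodule.one_le]
    have h3 : (1 : K[X]) ∈ cs (I * I') := by
      apply cs_mul_le I I'
      apply mul_le_mul' hJI hJI'
      rw [hmul]
      exact Submodule.one_le.mp le_rfl
    have := h3 0
    rwa [coeff_one_zero] at this
  have h12 : I * I' = 1 := le_antisymm h1 h2
  refine ⟨Units.mkOfMulEqOne I I' h12, le_antisymm hJI ?_⟩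
  show cs I ≤ (J : Submodule A[X] K[X])
  have h4 : cs I * ((J⁻¹ : (Submodule A[X] K[X])ˣ) : Submodule A[X] K[X]) ≤ 1 := by
    calc cs I * ((J⁻¹ : (Submodule A[X] K[X])ˣ) : Submodule A[X] K[X])
        ≤ cs I * cs I' := mul_le_mul' le_rfl hJI'
      _ ≤ cs (I * I') := cs_mul_le _ _
      _ = 1 := by rw [h12, cs_one]
  calc cs I = cs I * 1 := (mul_one _).symm
    _ = cs I * (((J⁻¹ : (Submodule A[X] K[X])ˣ) : Submodule A[X] K[X]) *
          (J : Submodule A[X] K[X])) := by rw [hmul']
    _ = (cs I * ((J⁻¹ : (Submodule A[X] K[X])ˣ) : Submodule A[X] K[X])) *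
          (J : Submodule A[X] K[X]) := (mul_assoc _ _ _).symm
    _ ≤ 1 * (J : Submodule A[X] K[X]) := mul_le_mul' h4 le_rfl
    _ = (J : Submodule A[X] K[X]) := one_mul _

end PicPoly

section Main

variable {A : Type u} [CommRing A] [IsDomain A] [IsIntegrallyClosed A]

/-- For an integrally closed domain `A`, every invertible `A[X]`-module is extended from `A`. -/
theorem mapAlgebra_polynomial_surjective :
    Function.Surjective (CommRing.Pic.mapAlgebra A A[X]) := by
  intro P
  have hP : P ∈ CommRing.relPic A[X] (FractionRing A)[X] := by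
    rw [CommRing.relPic_eq_top]; exact Subgroup.mem_top _
  rw [← Submodule.range_unitsToPic A[X] (FractionRing A)[X]] at hP
  obtain ⟨J, rfl⟩ := hP
  obtain ⟨Iu, hJ⟩ := exists_unit_eq_cs (A := A) (K := FractionRing A) J
  refine ⟨Submodule.unitsToPic A (FractionRing A) Iu, ?_⟩
  let ψ' : (Iu : Submodule A (FractionRing A)) →ₗ[A] (FractionRing A)[X] :=
    { toFun := fun x => C (x : FractionRing A)
      map_add' := fun x y => by simp
      map_smul' := fun a x => by simp [Polynomial.smul_C] }
  let Φ' : A[X] ⊗[A] (Iu : Submodule A (FractionRing A)) →ₗ[A[X]] (FractionRing A)[X] :=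
    ψ'.liftBaseChange A[X]
  have hrange : LinearMap.range Φ' = (J : Submodule A[X] (FractionRing A)[X]) := by
    rw [LinearMap.range_liftBaseChange, hJ]
    apply le_antisymm
    · rw [Submodule.span_le]
      rintro _ ⟨x, rfl⟩ n
      show (C (x : FractionRing A)).coeff n ∈ _
      rw [coeff_C]
      split_ifs
      · exact x.2
      · exact Submodule.zero_mem _
    · intro h hh
      have hsum := h.as_sum_support
      rw [hsum]
      refine Submodule.sum_mem _ (fun n _ => ?_)
      have : monomial n (h.coeff n) = (X ^ n : A[X]) • ψ' ⟨h.coeff n, hh n⟩ := by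
        rw [Algebra.smul_def, Polynomial.algebraMap_def, coe_mapRingHom, Polynomial.map_pow,
          map_X]
        show _ = X ^ n * C (h.coeff n)
        rw [← C_mul_X_pow_eq_monomial, mul_comm]
      rw [this]
      exact Submodule.smul_mem _ _ (Submodule.subset_span ⟨_, rfl⟩)
  let Φ : A[X] ⊗[A] (Iu : Submodule A (FractionRing A)) →ₗ[A[X]]
      (J : Submodule A[X] (FractionRing A)[X]) :=
    Φ'.codRestrict _ (fun z => by rw [← hrange]; exact LinearMap.mem_range_self Φ' z)
  have hsurj : Function.Surjective Φ := by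
    intro y
    have : (y : (FractionRing A)[X]) ∈ LinearMap.range Φ' := by rw [hrange]; exact y.2
    obtain ⟨z, hz⟩ := this
    exact ⟨z, Subtype.ext hz⟩
  have hbij := Module.Invertible.bijective_of_surjective hsurj
  rw [CommRing.Pic.mapAlgebra_apply, Submodule.unitsToPic_apply, Submodule.unitsToPic_apply]
  exact CommRing.Pic.mk_eq_mk_iff.mpr
    ⟨TensorProduct.AlgebraTensorModule.congr (LinearEquiv.refl A[X] A[X])
      (CommRing.Pic.mk.linearEquiv A (Iu : Submodule A (FractionRing A))) ≪≫ₗ
      LinearEquiv.ofBijective Φ hbij⟩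

end Main

end Groth.Agent.H13.PicNormal
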