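import Mathlib
import Groth.Agent.H13.PicNormal

/-!
# The Picard group of a normal affine cone is trivial

`A` a normal domain which is a quotient `q : k[x_1..x_n] ↠ A` with kernel generated by
homogeneous polynomials.  Homotopy `φ : A → A[T]`, `x_i ↦ x_i T`, together with
`Pic A ↠ Pic A[T]` (`PicNormal.mapAlgebra_polynomial_surjective`).
-/

namespace Groth.Agent.H13.PicCone

open Polynomial

universe u

variable (k : Type u) [Field k] (n : ℕ)

section Generic

variable (B : Type u) [CommRing B] [Algebra k B] (x : Fin n → B)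

/-- the homotopy `x_i ↦ x_i * T`. -/
noncomputable def theta : MvPolynomial (Fin n) k →ₐ[k] B[X] :=
  MvPolynomial.aeval (fun i => C (x i) * X)

theorem theta_homogeneous {f : MvPolynomial (Fin n) k} {d : ℕ} (hf : f.IsHomogeneous d) :
    theta k n B x f = C (MvPolynomial.aeval x f) * X ^ d := by
  unfold theta
  rw [MvPolynomial.aeval_def, MvPolynomial.aeval_def, MvPolynomial.eval₂_eq',
    MvPolynomial.eval₂_eq', map_sum, Finset.sum_mul]
  refine Finset.sum_congr rfl (fun m hm => ?_)
  have hdeg : ∑ i, m i = d := by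
    have h3 := hf.degree_eq_sum_deg_support hm
    rw [h3]
    symm
    exact Finset.sum_subset (Finset.subset_univ _)
      (fun i _ hi => Finsupp.notMem_support_iff.mp hi)
  have e1 : ∏ i, (C (x i) * X) ^ m i = C (∏ i, (x i) ^ m i) * (X : B[X]) ^ d := by
    calc ∏ i, (C (x i) * X) ^ m i
        = ∏ i, (C ((x i) ^ m i) * (X : B[X]) ^ m i) := by
          refine Finset.prod_congr rfl (fun i _ => ?_)
          rw [mul_pow, map_pow]
      _ = (∏ i, C ((x i) ^ m i)) * ∏ i, (X : B[X]) ^ m i := Finset.prod_mul_distrib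
      _ = C (∏ i, (x i) ^ m i) * (X : B[X]) ^ d := by
          rw [Finset.prod_pow_eq_pow_sum, hdeg, map_prod]
  rw [e1, Polynomial.algebraMap_apply, map_mul]
  ring

theorem eval_comp_theta (t : B) :
    ((Polynomial.aeval (R := B) t).restrictScalars k).comp (theta k n B x) =
      MvPolynomial.aeval (fun i => x i * t) := by
  apply MvPolynomial.algHom_ext
  intro i
  simp [theta]

end Generic

section Main

variable (A : Type u) [CommRing A] [Algebra k A]
  (q : MvPolynomial (Fin n) k →ₐ[k] A) (hq : Function.Surjective q)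
  (s : Set (MvPolynomial (Fin n) k)) (hs : ∀ f ∈ s, ∃ d : ℕ, f.IsHomogeneous d)
  (hker : RingHom.ker q.toRingHom = Ideal.span s)

theorem aeval_q : MvPolynomial.aeval (fun i => q (MvPolynomial.X i)) = q :=
  (MvPolynomial.aeval_unique q).symm

include hs hker in
theorem ker_le_theta :
    RingHom.ker q.toRingHom ≤
      RingHom.ker (theta k n A (fun i => q (MvPolynomial.X i))).toRingHom := by
  rw [hker, Ideal.span_le]
  intro f hf
  obtain ⟨d, hd⟩ := hs f hf
  have hqf : q f = 0 := by
    have : f ∈ RingHom.ker q.toRingHom := by rw [hker]; exact Ideal.subset_span hf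
    exact this
  rw [SetLike.mem_coe, RingHom.mem_ker]
  show theta k n A _ f = 0
  rw [theta_homogeneous k n A _ hd, aeval_q, hqf, map_zero, zero_mul]

include hs hker in
theorem ker_le_aug [Nontrivial A] :
    RingHom.ker q.toRingHom ≤
      RingHom.ker (MvPolynomial.aeval (0 : Fin n → k) :
        MvPolynomial (Fin n) k →ₐ[k] k).toRingHom := by
  have hne : RingHom.ker q.toRingHom ≠ ⊤ := RingHom.ker_ne_top _
  rw [hker] at hne ⊢
  rw [Ideal.span_le]
  intro f hf
  obtain ⟨d, hd⟩ := hs f hf
  rw [SetLike.mem_coe, RingHom.mem_ker]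
  show MvPolynomial.aeval (0 : Fin n → k) f = 0
  rw [MvPolynomial.aeval_zero]
  have hc : MvPolynomial.constantCoeff f = 0 := by
    by_cases hd0 : d = 0
    · subst hd0
      by_contra hc
      apply hne
      have hfC : f = MvPolynomial.C (MvPolynomial.coeff 0 f) :=
        MvPolynomial.totalDegree_eq_zero_iff_eq_C.mp
          ((MvPolynomial.totalDegree_zero_iff_isHomogeneous _).mpr hd)
      have hu : IsUnit f := by
        rw [hfC]; exact (IsUnit.mk0 _ hc).map MvPolynomial.C
      exact Ideal.eq_top_of_isUnit_mem _ (Ideal.subset_span hf) hu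
    · rw [MvPolynomial.constantCoeff_eq]
      apply hd.coeff_eq_zero
      rw [map_zero]
      exact Ne.symm hd0
  rw [hc, map_zero]

/-- the homotopy on `A`. -/
noncomputable def phi : A →ₐ[k] A[X] :=
  AlgHom.liftOfSurjective q hq (theta k n A (fun i => q (MvPolynomial.X i)))
    (ker_le_theta k n A q s hs hker)

/-- the augmentation `A → k`. -/
noncomputable def aug [Nontrivial A] : A →ₐ[k] k :=
  AlgHom.liftOfSurjective q hq (MvPolynomial.aeval (0 : Fin n → k))
    (ker_le_aug k n A q s hs hker)

theorem eval_one_phi :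
    ((Polynomial.aeval (R := A) (1 : A)).restrictScalars k).comp (phi k n A q hq s hs hker) =
      AlgHom.id k A := by
  rw [← AlgHom.cancel_right hq, AlgHom.comp_assoc, phi, AlgHom.liftOfSurjective_comp,
    eval_comp_theta, AlgHom.id_comp]
  simp only [mul_one]
  exact aeval_q k n A q

theorem eval_zero_phi [Nontrivial A] :
    ((Polynomial.aeval (R := A) (0 : A)).restrictScalars k).comp (phi k n A q hq s hs hker) =
      (Algebra.ofId k A).comp (aug k n A q hq s hs hker) := by
  rw [← AlgHom.cancel_right hq, AlgHom.comp_assoc, AlgHom.comp_assoc, phi, aug,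
    AlgHom.liftOfSurjective_comp, AlgHom.liftOfSurjective_comp, eval_comp_theta]
  apply MvPolynomial.algHom_ext
  intro i
  simp

include hq hs hker in
theorem main_generic [IsDomain A] [IsIntegrallyClosed A]
    (M : Type u) [AddCommGroup M] [Module A M] [Module.Invertible A M] :
    Module.Free A M := by
  rw [← CommRing.Pic.mk_eq_one_iff_free]
  obtain ⟨L, hL⟩ : ∃ L, L = CommRing.Pic.mk A M := ⟨_, rfl⟩
  rw [← hL]
  obtain ⟨L', hL'⟩ := PicNormal.mapAlgebra_polynomial_surjective (A := A)
    (CommRing.Pic.mapRingHom (phi k n A q hq s hs hker).toRingHom L)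
  rw [← CommRing.Pic.mapRingHom_algebraMap] at hL'
  have key : ∀ t : A,
      L' = CommRing.Pic.mapRingHom
        ((Polynomial.evalRingHom t).comp (phi k n A q hq s hs hker).toRingHom) L := by
    intro t
    have h1 := congrArg (CommRing.Pic.mapRingHom (Polynomial.evalRingHom t)) hL'
    rw [CommRing.Pic.mapRingHom_mapRingHom, CommRing.Pic.mapRingHom_mapRingHom] at h1
    have h2 : (Polynomial.evalRingHom t).comp (algebraMap A A[X]) = RingHom.id _ :=
      RingHom.ext (fun a => by simp)
    rw [h2, CommRing.Pic.mapRingHom_id_apply] at h1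
    exact h1
  have hone : (Polynomial.evalRingHom (1 : A)).comp (phi k n A q hq s hs hker).toRingHom =
      RingHom.id _ := by
    refine RingHom.ext (fun a => ?_)
    have := AlgHom.congr_fun (eval_one_phi k n A q hq s hs hker) a
    simpa using this
  have hzero : (Polynomial.evalRingHom (0 : A)).comp (phi k n A q hq s hs hker).toRingHom =
      (algebraMap k A).comp (aug k n A q hq s hs hker).toRingHom := by
    refine RingHom.ext (fun a => ?_)
    have := AlgHom.congr_fun (eval_zero_phi k n A q hq s hs hker) a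
    simpa using this
  have hL1 : L' = L := by
    rw [key 1, hone, CommRing.Pic.mapRingHom_id_apply]
  have hL0 : L' = 1 := by
    rw [key 0, hzero, ← CommRing.Pic.mapRingHom_mapRingHom,
      Subsingleton.elim (CommRing.Pic.mapRingHom (aug k n A q hq s hs hker).toRingHom L) 1,
      map_one]
  rw [← hL1, hL0]

end Main

theorem main (I : Ideal (MvPolynomial (Fin n) k))
    (hI : ∃ s : Set (MvPolynomial (Fin n) k), (∀ f ∈ s, ∃ d : ℕ, f.IsHomogeneous d) ∧
      I = Ideal.span s)
    [IsDomain (MvPolynomial (Fin n) k ⧸ I)] [IsIntegrallyClosed (MvPolynomial (Fin n) k ⧸ I)]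
    (M : Type u) [AddCommGroup M] [Module (MvPolynomial (Fin n) k ⧸ I) M]
    [Module.Invertible (MvPolynomial (Fin n) k ⧸ I) M] :
    Module.Free (MvPolynomial (Fin n) k ⧸ I) M := by
  obtain ⟨s, hs, hIs⟩ := hI
  exact main_generic k n (MvPolynomial (Fin n) k ⧸ I) (Ideal.Quotient.mkₐ k I)
    (Ideal.Quotient.mkₐ_surjective k I) s hs
    ((Ideal.Quotient.mkₐ_ker k I).trans hIs) M

end Groth.Agent.H13.PicCone
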