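import Mathlib
import Groth.Agent.H13.PicNormal
import Groth.Agent.H13.PicIdeal
import Groth.Agent.H13.DetPic

/-!
# `Pic` of a polynomial ring over a product of domains with trivial polynomial Picard groups

* `pic_mvPolynomial`: `Pic V[T₁..Tₙ] = 0` for an integrally closed domain `V` with `Pic V = 0`.
* `main`: if `Pic (Rᵢ[T₁..Tₙ]) = 0` for domains `Rᵢ`, then `Pic ((∏ Rᵢ)[T₁..Tₙ]) = 0`
  (bounded degree of rank-one factorisations).
-/

namespace Groth.Agent.H13.PicProdVal

open TensorProduct

universe u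

theorem pic_mvPolynomial (V : Type u) [CommRing V] [IsDomain V] [IsIntegrallyClosed V]
    [Subsingleton (CommRing.Pic V)] (n : ℕ) :
    IsIntegrallyClosed (MvPolynomial (Fin n) V) ∧
      Subsingleton (CommRing.Pic (MvPolynomial (Fin n) V)) := by
  induction n with
  | zero =>
    have e : MvPolynomial (Fin 0) V ≃+* V := (MvPolynomial.isEmptyAlgEquiv V (Fin 0)).toRingEquiv
    exact ⟨IsIntegrallyClosed.of_equiv e.symm, PicIdeal.pic_subsingleton_of_ringEquiv e⟩
  | succ n ih =>
    obtain ⟨h1, h2⟩ := ih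
    haveI := h1
    haveI := h2
    have e : MvPolynomial (Fin (n + 1)) V ≃+* Polynomial (MvPolynomial (Fin n) V) :=
      (MvPolynomial.finSuccEquiv V n).toRingEquiv
    haveI : Subsingleton (CommRing.Pic (Polynomial (MvPolynomial (Fin n) V))) := by
      refine ⟨fun x y => ?_⟩
      obtain ⟨x', rfl⟩ :=
        PicNormal.mapAlgebra_polynomial_surjective (A := MvPolynomial (Fin n) V) x
      obtain ⟨y', rfl⟩ :=
        PicNormal.mapAlgebra_polynomial_surjective (A := MvPolynomial (Fin n) V) y
      rw [Subsingleton.elim x' y']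
    exact ⟨IsIntegrallyClosed.of_equiv e.symm, PicIdeal.pic_subsingleton_of_ringEquiv e⟩

/-- Rank-one factorisation of the "idempotent matrix" of a dual basis after a base change
trivialising the module. -/
theorem exists_factor {S S' : Type u} [CommRing S] [CommRing S'] [Algebra S S']
    {M : Type u} [AddCommGroup M] [Module S M]
    (ψ : S' ⊗[S] M ≃ₗ[S'] S') {r : ℕ} (m : Fin r → M) (φ : Fin r → Module.Dual S M)
    (h : ∀ x, ∑ j, φ j x • m j = x) :
    ∃ c d : Fin r → S', (∀ j l, algebraMap S S' (φ j (m l)) = d j * c l) ∧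
      ∑ j, d j * c j = 1 := by
  classical
  let Φ : Fin r → (S' ⊗[S] M →ₗ[S'] S') := fun j =>
    ((Algebra.linearMap S S').comp (φ j)).liftBaseChange S'
  have hΦ : ∀ j (s : S') (x : M), Φ j (s ⊗ₜ x) = s * algebraMap S S' (φ j x) := by
    intro j s x
    simp [Φ, LinearMap.liftBaseChange_tmul]
  let u : S' ⊗[S] M := ψ.symm 1
  have hu : ψ u = 1 := by simp [u]
  have h1 : ∀ l, (1 : S') ⊗ₜ[S] m l = ψ (1 ⊗ₜ m l) • u := by
    intro l
    apply ψ.injective
    rw [map_smul, hu, smul_eq_mul, mul_one]
  refine ⟨fun l => ψ (1 ⊗ₜ m l), fun j => Φ j u, ?_, ?_⟩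
  · intro j l
    have h2 := hΦ j 1 (m l)
    rw [one_mul] at h2
    rw [← h2, h1 l, map_smul, smul_eq_mul, mul_comm]
  · have hid : ∀ y : S' ⊗[S] M, ∑ j, Φ j y • ((1 : S') ⊗ₜ[S] m j) = y := by
      intro y
      induction y using TensorProduct.induction_on with
      | zero => simp
      | tmul s x =>
        have h3 : ∀ j, (Φ j (s ⊗ₜ x)) • ((1 : S') ⊗ₜ[S] m j) = s ⊗ₜ[S] (φ j x • m j) := by
          intro j
          rw [hΦ, TensorProduct.smul_tmul', smul_eq_mul, mul_one, mul_comm, ← Algebra.smul_def,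
            TensorProduct.smul_tmul]
        simp_rw [h3]
        rw [← TensorProduct.tmul_sum, h]
      | add y z hy hz =>
        simp only [map_add, add_smul, Finset.sum_add_distrib, hy, hz]
    have h4 := congrArg ψ (hid u)
    simp only [map_sum, map_smul, smul_eq_mul] at h4
    rw [h4, hu]

theorem totalDegree_map_le' {R₁ R₂ : Type*} [CommSemiring R₁] [CommSemiring R₂] {σ : Type*}
    (f : R₁ →+* R₂) (p : MvPolynomial σ R₁) :
    (MvPolynomial.map f p).totalDegree ≤ p.totalDegree := by
  unfold MvPolynomial.totalDegree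
  exact Finset.sup_mono (MvPolynomial.support_map_subset f p)

theorem totalDegree_le_of_factor {R' : Type*} [CommRing R'] [IsDomain R'] {σ : Type*} {r : ℕ}
    (E : Fin r → Fin r → MvPolynomial σ R') (D : ℕ) (hE : ∀ j l, (E j l).totalDegree ≤ D)
    (c d : Fin r → MvPolynomial σ R') (h : ∀ j l, E j l = d j * c l)
    (h1 : ∑ j, d j * c j = 1) :
    (∀ l, (c l).totalDegree ≤ D) ∧ (∀ j, (d j).totalDegree ≤ D) := by
  have hne : ∃ j, d j * c j ≠ 0 := by
    by_contra hcon
    push Not at hcon
    rw [Finset.sum_eq_zero (fun j _ => hcon j)] at h1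
    exact zero_ne_one h1
  obtain ⟨j0, hj0⟩ := hne
  have hd0 : d j0 ≠ 0 := left_ne_zero_of_mul hj0
  have hc0 : c j0 ≠ 0 := right_ne_zero_of_mul hj0
  constructor
  · intro l
    by_cases hl : c l = 0
    · simp [hl]
    · have h2 := hE j0 l
      rw [h, MvPolynomial.totalDegree_mul_of_isDomain hd0 hl] at h2
      omega
  · intro j
    by_cases hj : d j = 0
    · simp [hj]
    · have h2 := hE j j0
      rw [h, MvPolynomial.totalDegree_mul_of_isDomain hj hc0] at h2
      omega

theorem exists_lift {ι : Type*} (R : ι → Type*) [∀ i, CommRing (R i)] (n : ℕ) (D : ℕ)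
    (q : ∀ i, MvPolynomial (Fin n) (R i)) (hq : ∀ i, (q i).totalDegree ≤ D) :
    ∃ Q : MvPolynomial (Fin n) (∀ i, R i),
      ∀ i, MvPolynomial.map (Pi.evalRingHom R i) Q = q i := by
  classical
  let T : Finset (Fin n →₀ ℕ) := Finset.univ.image
    (fun g : Fin n → Fin (D + 1) => Finsupp.equivFunOnFinite.symm (fun a => (g a : ℕ)))
  have hT : ∀ i, (q i).support ⊆ T := by
    intro i s hs
    have h1 : ∀ a, s a ≤ D := by
      intro a
      have h2 := MvPolynomial.le_totalDegree hs
      have h3 : s a ≤ s.sum fun _ e => e := by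
        by_cases ha : a ∈ s.support
        · exact Finset.single_le_sum (f := fun b => s b) (fun _ _ => Nat.zero_le _) ha
        · rw [Finsupp.notMem_support_iff] at ha
          omega
      exact h3.trans (h2.trans (hq i))
    refine Finset.mem_image.mpr ⟨fun a => ⟨s a, Nat.lt_succ_of_le (h1 a)⟩, Finset.mem_univ _, ?_⟩
    ext a
    simp
  refine ⟨∑ s ∈ T, MvPolynomial.monomial s (fun i => MvPolynomial.coeff s (q i)), fun i => ?_⟩
  rw [map_sum]
  simp only [MvPolynomial.map_monomial, Pi.evalRingHom_apply]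
  conv_rhs => rw [(q i).as_sum]
  symm
  apply Finset.sum_subset (hT i)
  intro s _ hs
  rw [MvPolynomial.notMem_support_iff] at hs
  rw [hs, map_zero]

theorem eq_of_map_eq {ι : Type*} (R : ι → Type*) [∀ i, CommRing (R i)] {σ : Type*}
    (P Q : MvPolynomial σ (∀ i, R i))
    (h : ∀ i, MvPolynomial.map (Pi.evalRingHom R i) P = MvPolynomial.map (Pi.evalRingHom R i) Q) :
    P = Q := by
  ext s i
  have h1 := congrArg (MvPolynomial.coeff s) (h i)
  simpa [MvPolynomial.coeff_map] using h1

/-- An invertible module with `φ x = 1` is free. -/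
theorem free_of_dual_apply_eq_one {S : Type*} [CommRing S] {M : Type*} [AddCommGroup M]
    [Module S M] [Module.Invertible S M] (φ : Module.Dual S M) (x : M) (h : φ x = 1) :
    Module.Free S M := by
  have hbij : Function.Bijective (LinearMap.toSpanSingleton S M x) := by
    constructor
    · rw [← LinearMap.ker_eq_bot, LinearMap.ker_eq_bot']
      intro s hs
      rw [LinearMap.toSpanSingleton_apply] at hs
      have h1 := congrArg φ hs
      rw [map_smul, h, smul_eq_mul, mul_one, map_zero] at h1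
      exact h1
    · intro y
      refine ⟨φ y, ?_⟩
      rw [LinearMap.toSpanSingleton_apply, ← DetPic.smul_eq_smul M φ x y, h, one_smul]
  exact Module.Free.of_equiv (LinearEquiv.ofBijective _ hbij)

theorem main {ι : Type u} (R : ι → Type u) [∀ i, CommRing (R i)] [∀ i, IsDomain (R i)] (n : ℕ)
    (hR : ∀ i, Subsingleton (CommRing.Pic (MvPolynomial (Fin n) (R i)))) :
    Subsingleton (CommRing.Pic (MvPolynomial (Fin n) (∀ i, R i))) := by
  classical
  rw [CommRing.Pic.subsingleton_iff]
  intro M _ _ hM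
  letI : ∀ i, Algebra (MvPolynomial (Fin n) (∀ i, R i)) (MvPolynomial (Fin n) (R i)) :=
    fun i => (MvPolynomial.map (Pi.evalRingHom R i)).toAlgebra
  have halg : ∀ i (p : MvPolynomial (Fin n) (∀ i, R i)),
      algebraMap (MvPolynomial (Fin n) (∀ i, R i)) (MvPolynomial (Fin n) (R i)) p =
        MvPolynomial.map (Pi.evalRingHom R i) p := fun i p => rfl
  obtain ⟨r, f, g, -, -, hfg⟩ :=
    Module.Finite.exists_comp_eq_id_of_projective (MvPolynomial (Fin n) (∀ i, R i)) M
  let m : Fin r → M := fun j => f (fun l => if j = l then 1 else 0)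
  let φ : Fin r → Module.Dual (MvPolynomial (Fin n) (∀ i, R i)) M :=
    fun j => (LinearMap.proj j).comp g
  have hmφ : ∀ x, ∑ j, φ j x • m j = x := by
    intro x
    have h1 := LinearMap.congr_fun hfg x
    rw [LinearMap.comp_apply, LinearMap.id_apply, LinearMap.pi_apply_eq_sum_univ f (g x)] at h1
    exact h1
  have hψ : ∀ i, Nonempty ((MvPolynomial (Fin n) (R i)) ⊗[MvPolynomial (Fin n) (∀ i, R i)] M
      ≃ₗ[MvPolynomial (Fin n) (R i)] (MvPolynomial (Fin n) (R i))) := by
    intro i
    haveI := hR i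
    exact Module.Invertible.free_iff_linearEquiv.mp inferInstance
  have hfac : ∀ i, ∃ c d : Fin r → MvPolynomial (Fin n) (R i),
      (∀ j l, MvPolynomial.map (Pi.evalRingHom R i) (φ j (m l)) = d j * c l) ∧
        ∑ j, d j * c j = 1 := by
    intro i
    obtain ⟨ψ⟩ := hψ i
    exact exists_factor ψ m φ hmφ
  choose c d hcd hsum using hfac
  let D : ℕ := ∑ j, ∑ l, (φ j (m l)).totalDegree
  have hD : ∀ j l, (φ j (m l)).totalDegree ≤ D := by
    intro j l
    have h1 : (φ j (m l)).totalDegree ≤ ∑ l', (φ j (m l')).totalDegree :=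
      Finset.single_le_sum (f := fun l' => (φ j (m l')).totalDegree) (fun _ _ => Nat.zero_le _)
        (Finset.mem_univ l)
    have h2 : ∑ l', (φ j (m l')).totalDegree ≤ D :=
      Finset.single_le_sum (f := fun j' => ∑ l', (φ j' (m l')).totalDegree)
        (fun _ _ => Nat.zero_le _) (Finset.mem_univ j)
    exact h1.trans h2
  have hdeg : ∀ i, (∀ l, (c i l).totalDegree ≤ D) ∧ (∀ j, (d i j).totalDegree ≤ D) := by
    intro i
    refine totalDegree_le_of_factor
      (fun j l => MvPolynomial.map (Pi.evalRingHom R i) (φ j (m l))) D ?_ (c i) (d i) (hcd i)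
      (hsum i)
    intro j l
    exact (totalDegree_map_le' _ _).trans (hD j l)
  -- lifts
  have hA : ∀ l, ∃ Q : MvPolynomial (Fin n) (∀ i, R i),
      ∀ i, MvPolynomial.map (Pi.evalRingHom R i) Q = d i l :=
    fun l => exists_lift R n D (fun i => d i l) (fun i => (hdeg i).2 l)
  have hB : ∀ j, ∃ Q : MvPolynomial (Fin n) (∀ i, R i),
      ∀ i, MvPolynomial.map (Pi.evalRingHom R i) Q = c i j :=
    fun j => exists_lift R n D (fun i => c i j) (fun i => (hdeg i).1 j)
  choose A hA' using hA
  choose B hB' using hB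
  refine free_of_dual_apply_eq_one (∑ j, B j • φ j) (∑ l, A l • m l) ?_
  apply eq_of_map_eq R
  intro i
  simp only [LinearMap.sum_apply, LinearMap.smul_apply, map_sum, map_smul, smul_eq_mul, map_mul,
    hA', hB', hcd, map_one]
  calc ∑ l, d i l * ∑ j, c i j * (d i j * c i l)
      = (∑ l, d i l * c i l) * (∑ j, d i j * c i j) := by
        rw [Finset.sum_mul_sum]
        refine Finset.sum_congr rfl fun l _ => ?_
        rw [Finset.mul_sum]
        refine Finset.sum_congr rfl fun j _ => ?_
        ring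
    _ = 1 := by rw [hsum i, one_mul]

end Groth.Agent.H13.PicProdVal
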