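import Mathlib
import Groth.Prelude.Def_Twist2

/-!
# Global sections of `O(d)` on `Proj` of a normal graded domain generated in degree one

`S_d → Γ(Proj S, O(d))` is bijective (Hartshorne II Ex. 5.14), for the frozen `Twist` sheaves.
-/

set_option autoImplicit false
universe u

open DirectSum TopologicalSpace Opposite

namespace Groth.Agent.H13.ProjNormal

section Alg

variable {R A : Type u} [CommRing R] [CommRing A] [Algebra R A]
  (𝒜 : ℕ → Submodule R A) [GradedAlgebra 𝒜]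
  (K : Type u) [Field K] [Algebra A K]

/-- `t` homogeneous of degree `n` with `q t` homogeneous of degree `n + d`. -/
def T (q : K) (d n : ℕ) (t : A) : Prop :=
  t ∈ 𝒜 n ∧ ∃ a ∈ 𝒜 (n + d), q * algebraMap A K t = algebraMap A K a

/-- all homogeneous components are in `T`. -/
def Wp (q : K) (d : ℕ) (z : A) : Prop := ∀ n, T 𝒜 K q d n (decompose 𝒜 z n : A)

variable {𝒜 K}

lemma T_zero (q : K) (d n : ℕ) : T 𝒜 K q d n 0 :=
  ⟨zero_mem _, 0, zero_mem _, by simp⟩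

lemma T_add {q : K} {d n : ℕ} {t t' : A} (h : T 𝒜 K q d n t) (h' : T 𝒜 K q d n t') :
    T 𝒜 K q d n (t + t') := by
  obtain ⟨ht, a, ha, e⟩ := h
  obtain ⟨ht', a', ha', e'⟩ := h'
  exact ⟨add_mem ht ht', a + a', add_mem ha ha', by rw [map_add, map_add, mul_add, e, e']⟩

lemma T_mul {q : K} {d i j : ℕ} {c t : A} (hc : c ∈ 𝒜 i) (h : T 𝒜 K q d j t) :
    T 𝒜 K q d (i + j) (c * t) := by
  obtain ⟨ht, a, ha, e⟩ := h
  refine ⟨SetLike.mul_mem_graded hc ht, c * a, ?_, ?_⟩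
  · have := SetLike.mul_mem_graded hc ha
    rwa [← add_assoc] at this
  · rw [map_mul, map_mul, mul_left_comm, e]

lemma T_congr {q : K} {d n m : ℕ} {t : A} (e : n = m) (h : T 𝒜 K q d n t) : T 𝒜 K q d m t :=
  e ▸ h

lemma Wp_zero (q : K) (d : ℕ) : Wp 𝒜 K q d 0 := fun n => by
  rw [decompose_zero, DirectSum.zero_apply, ZeroMemClass.coe_zero]; exact T_zero q d n

lemma Wp_add {q : K} {d : ℕ} {z z' : A} (h : Wp 𝒜 K q d z) (h' : Wp 𝒜 K q d z') :
    Wp 𝒜 K q d (z + z') := fun n => by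
  rw [decompose_add, DirectSum.add_apply, AddMemClass.coe_add]; exact T_add (h n) (h' n)

lemma Wp_of_T {q : K} {d j : ℕ} {t : A} (h : T 𝒜 K q d j t) : Wp 𝒜 K q d t := fun n => by
  by_cases e : j = n
  · subst e; rw [decompose_of_mem_same 𝒜 h.1]; exact h
  · rw [decompose_of_mem_ne 𝒜 h.1 e]; exact T_zero q d n

lemma Wp_mul_hom {q : K} {d i : ℕ} {c z : A} (hc : c ∈ 𝒜 i) (h : Wp 𝒜 K q d z) :
    Wp 𝒜 K q d (c * z) := fun n => by
  by_cases hin : i ≤ n
  · rw [coe_decompose_mul_of_left_mem_of_le 𝒜 hc hin]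
    exact T_congr (by omega) (T_mul hc (h (n - i)))
  · rw [coe_decompose_mul_of_left_mem_of_not_le 𝒜 hc hin]; exact T_zero q d n

lemma Wp_mul {q : K} {d : ℕ} (c : A) {z : A} (h : Wp 𝒜 K q d z) : Wp 𝒜 K q d (c * z) := by
  induction c using DirectSum.Decomposition.inductionOn 𝒜 with
  | zero => rw [zero_mul]; exact Wp_zero q d
  | homogeneous m => exact Wp_mul_hom m.2 h
  | add m m' hm hm' => rw [add_mul]; exact Wp_add hm hm'

variable (𝒜 K) in
/-- The ideal of elements all of whose components are in `T`. -/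
def W (q : K) (d : ℕ) : Ideal A where
  carrier := {z | Wp 𝒜 K q d z}
  zero_mem' := Wp_zero q d
  add_mem' := fun h h' => Wp_add h h'
  smul_mem' := fun c _ h => Wp_mul c h

lemma W_homogeneous (q : K) (d : ℕ) : (W 𝒜 K q d).IsHomogeneous 𝒜 := fun i z hz => by
  show Wp 𝒜 K q d _
  exact Wp_of_T (hz i)

lemma exists_degree [IsNoetherianRing A] (hgen : ∀ i : ℕ, 𝒜 1 * 𝒜 i = 𝒜 (i + 1)) (q : K) (d : ℕ)
    (hx : ∀ x : ProjectiveSpectrum 𝒜, ∃ (j : ℕ) (t : A),
      T 𝒜 K q d j t ∧ t ∉ x.asHomogeneousIdeal) :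
    ∃ N, ∀ z ∈ 𝒜 N, T 𝒜 K q d N z := by
  have hrad : Ideal.span (𝒜 1 : Set A) ≤ (W 𝒜 K q d).radical := by
    rw [Ideal.span_le]
    intro y hy
    rw [SetLike.mem_coe, (W_homogeneous q d).radical_eq, Ideal.mem_sInf]
    rintro P ⟨hPh, hWP, hPp⟩
    by_contra hyP
    let x : ProjectiveSpectrum 𝒜 := ⟨⟨P, hPh⟩, hPp, fun hle => hyP
      (HomogeneousIdeal.mem_iff.2 (hle (HomogeneousIdeal.mem_irrelevant_of_mem 𝒜 one_pos hy)))⟩
    obtain ⟨j, t, hT, hnot⟩ := hx x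
    exact hnot (HomogeneousIdeal.mem_iff.1 (hWP (Wp_of_T hT)))
  obtain ⟨N, hN⟩ := Ideal.exists_pow_le_of_le_radical_of_fg hrad (IsNoetherian.noetherian _)
  have hpow : ∀ n, ∀ z ∈ 𝒜 n, z ∈ Ideal.span (𝒜 1 : Set A) ^ n := by
    intro n
    induction n with
    | zero => intro z _; simp
    | succ n ih =>
      intro z hz
      rw [← hgen n] at hz
      rw [pow_succ']
      refine Submodule.mul_induction_on hz (fun a ha b hb => ?_) (fun a b ha hb => add_mem ha hb)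
      exact Ideal.mul_mem_mul (Ideal.subset_span ha) (ih b hb)
  refine ⟨N, fun z hz => ?_⟩
  have := hN (hpow N z hz) N
  rwa [decompose_of_mem_same 𝒜 hz] at this

lemma exists_eq_algebraMap [IsDomain A] [IsFractionRing A K] [IsNoetherianRing A]
    [IsIntegrallyClosed A]
    (hgen : ∀ i : ℕ, 𝒜 1 * 𝒜 i = 𝒜 (i + 1)) (h1 : 𝒜 1 ≠ ⊥) (q : K) (d N : ℕ)
    (hN : ∀ z ∈ 𝒜 N, T 𝒜 K q d N z) : ∃ b ∈ 𝒜 d, algebraMap A K b = q := by
  classical
  obtain ⟨y, hy, hy0⟩ := Submodule.exists_mem_ne_zero_of_ne_bot h1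
  have hyN : y ^ N ∈ 𝒜 N := by
    have := SetLike.pow_mem_graded N hy
    simpa using this
  have hyN0 : y ^ N ≠ 0 := pow_ne_zero _ hy0
  have hup : ∀ e, ∀ z ∈ 𝒜 (N + e), z ∈ Ideal.span (𝒜 N : Set A) := by
    intro e
    induction e with
    | zero => intro z hz; exact Ideal.subset_span hz
    | succ e ih =>
      intro z hz
      rw [← add_assoc, ← hgen (N + e)] at hz
      refine Submodule.mul_induction_on hz (fun a _ b hb => ?_) (fun a b ha hb => add_mem ha hb)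
      exact Ideal.mul_mem_left _ a (ih b hb)
  have hstab : ∀ z ∈ Ideal.span (𝒜 N : Set A), ∃ w ∈ Ideal.span (𝒜 N : Set A),
      q * algebraMap A K z = algebraMap A K w := by
    intro z hz
    refine Submodule.span_induction (p := fun z _ => ∃ w ∈ Ideal.span (𝒜 N : Set A),
      q * algebraMap A K z = algebraMap A K w) ?_ ?_ ?_ ?_ hz
    · intro z hz
      obtain ⟨_, a, ha, e⟩ := hN z hz
      exact ⟨a, hup d a ha, e⟩
    · exact ⟨0, zero_mem _, by simp⟩
    · rintro z z' _ _ ⟨w, hw, e⟩ ⟨w', hw', e'⟩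
      exact ⟨w + w', add_mem hw hw', by rw [map_add, map_add, mul_add, e, e']⟩
    · rintro c z _ ⟨w, hw, e⟩
      exact ⟨c * w, Ideal.mul_mem_left _ c hw,
        by rw [smul_eq_mul, map_mul, map_mul, mul_left_comm, e]⟩
  have hq : IsIntegral A q := by
    refine isIntegral_of_smul_mem_submodule
      (Submodule.map (Algebra.linearMap A K) (Ideal.span (𝒜 N : Set A))) ?_ ?_ q ?_
    · intro h
      have : algebraMap A K (y ^ N) ∈
          Submodule.map (Algebra.linearMap A K) (Ideal.span (𝒜 N : Set A)) :=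
        Submodule.mem_map_of_mem (Ideal.subset_span hyN)
      rw [h, Submodule.mem_bot] at this
      exact hyN0 ((map_eq_zero_iff _ (IsFractionRing.injective A K)).1 this)
    · exact (IsNoetherian.noetherian (Ideal.span (𝒜 N : Set A))).map _
    · rintro _ ⟨z, hz, rfl⟩
      obtain ⟨w, hw, e⟩ := hstab z hz
      rw [smul_eq_mul, Algebra.linearMap_apply, e]
      exact Submodule.mem_map_of_mem hw
  obtain ⟨b, hb⟩ := IsIntegrallyClosed.isIntegral_iff.1 hq
  refine ⟨b, ?_, hb⟩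
  obtain ⟨_, a, ha, e⟩ := hN _ hyN
  rw [← hb, ← map_mul] at e
  have e' : b * y ^ N = a := IsFractionRing.injective A K e
  have hzero : ∀ i, i ≠ d → (decompose 𝒜 b i : A) = 0 := by
    intro i hi
    have h := coe_decompose_mul_add_of_right_mem 𝒜 (i := i) (a := b) hyN
    rw [e', decompose_of_mem_ne 𝒜 ha (by omega)] at h
    exact (mul_eq_zero.1 h.symm).resolve_right hyN0
  have hbd : b = (decompose 𝒜 b d : A) := by
    calc b = ∑ i ∈ (decompose 𝒜 b).support, (decompose 𝒜 b i : A) :=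
          (DirectSum.sum_support_decompose 𝒜 b).symm
      _ = (decompose 𝒜 b d : A) := by
        apply Finset.sum_eq_single d
        · intro i _ hi; exact hzero i hi
        · intro hd
          rw [DFinsupp.notMem_support_iff.1 hd]; rfl
  rw [hbd]; exact SetLike.coe_mem _

end Alg

section Sheaf

variable {R A : Type u} [CommRing R] [CommRing A] [IsDomain A] [Algebra R A]
  (𝒜 : ℕ → Submodule R A) [GradedAlgebra 𝒜]

/-- The inclusion of the local ring at a point of `Proj` into the fraction field. -/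
noncomputable def iota (x : ProjectiveSpectrum 𝒜) : Twist.Loc 𝒜 x →+* FractionRing A :=
  IsLocalization.lift (M := x.asHomogeneousIdeal.toIdeal.primeCompl)
    (g := algebraMap A (FractionRing A))
    (fun y => by
      have : (y : A) ≠ 0 := fun h => y.2 (by rw [h]; exact zero_mem _)
      exact ((map_ne_zero_iff _ (IsFractionRing.injective A (FractionRing A))).2 this).isUnit)

lemma iota_mk (x : ProjectiveSpectrum 𝒜) (a s : A) (hs : s ∉ x.asHomogeneousIdeal) :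
    algebraMap A (FractionRing A) a =
      algebraMap A (FractionRing A) s * iota 𝒜 x (Localization.mk a ⟨s, hs⟩) := by
  rw [Localization.mk_eq_mk']
  exact (IsLocalization.lift_mk'_spec _ _ _ _).1 rfl

lemma iota_globalOf (x : ProjectiveSpectrum 𝒜) {i : ℕ} (a : 𝒜 i)
    (hx : x ∈ (⊤ : Opens (ProjectiveSpectrum.top 𝒜))) :
    iota 𝒜 x (((Twist.globalOf 𝒜 a).1 ⟨x, hx⟩).1) = algebraMap A (FractionRing A) a.1 := by
  have h := iota_mk 𝒜 x a.1 1 (fun h => x.isPrime.ne_top ((Ideal.eq_top_iff_one _).mpr h))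
  rw [map_one, one_mul] at h
  exact h.symm

/-- The generic point of `Proj` of a graded domain. -/
noncomputable def eta (h1 : 𝒜 1 ≠ ⊥) : ProjectiveSpectrum 𝒜 :=
  ⟨⊥, by rw [HomogeneousIdeal.toIdeal_bot]; exact Ideal.isPrime_bot, fun hle => by
    obtain ⟨y, hy, hy0⟩ := Submodule.exists_mem_ne_zero_of_ne_bot h1
    have := hle (HomogeneousIdeal.mem_irrelevant_of_mem 𝒜 one_pos hy)
    rw [← HomogeneousIdeal.mem_iff, HomogeneousIdeal.toIdeal_bot, Ideal.mem_bot] at this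
    exact hy0 this⟩

lemma mem_eta_iff (h1 : 𝒜 1 ≠ ⊥) (f : A) : f ∈ (eta 𝒜 h1).asHomogeneousIdeal ↔ f = 0 := by
  rw [← HomogeneousIdeal.mem_iff]
  show f ∈ (⊥ : HomogeneousIdeal 𝒜).toIdeal ↔ _
  rw [HomogeneousIdeal.toIdeal_bot, Ideal.mem_bot]

lemma eta_mem (h1 : 𝒜 1 ≠ ⊥) (V : Opens (ProjectiveSpectrum.top 𝒜)) (x : ProjectiveSpectrum 𝒜)
    (hx : x ∈ V) : eta 𝒜 h1 ∈ V := by
  obtain ⟨S, hS⟩ := (ProjectiveSpectrum.isOpen_iff 𝒜 V.1).1 V.2
  by_contra hη
  have h1' : eta 𝒜 h1 ∈ (V.1)ᶜ := hη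
  have h2 : x ∉ (V.1)ᶜ := fun h => h hx
  have h1'' : S ⊆ (eta 𝒜 h1).asHomogeneousIdeal := (Set.ext_iff.1 hS (eta 𝒜 h1)).1 h1'
  have h2'' : ¬ S ⊆ x.asHomogeneousIdeal := fun h => h2 ((Set.ext_iff.1 hS x).2 h)
  apply h2''
  intro f hf
  have := h1'' hf
  rw [SetLike.mem_coe, mem_eta_iff] at this
  rw [this]
  exact x.asHomogeneousIdeal.toIdeal.zero_mem

lemma mk_eq_of_mul_eq (x : ProjectiveSpectrum 𝒜) (b a t : A) (hnot : t ∉ x.asHomogeneousIdeal)
    (h1 : (1 : A) ∉ x.asHomogeneousIdeal) (hbt : b * t = a) :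
    (Localization.mk b ⟨1, h1⟩ : Twist.Loc 𝒜 x) = Localization.mk a ⟨t, hnot⟩ := by
  rw [Localization.mk_eq_mk_iff, Localization.r_iff_exists]
  exact ⟨1, by simp [← hbt, mul_comm]⟩

theorem bijective [IsNoetherianRing A] (hgen : ∀ i : ℕ, 𝒜 1 * 𝒜 i = 𝒜 (i + 1)) (h1 : 𝒜 1 ≠ ⊥)
    (hint : IsIntegrallyClosed A) (d : ℕ) :
    Function.Bijective (fun a : ↥(𝒜 d) => Twist.globalOf 𝒜 a) := by
  have := hint
  have hηtop : eta 𝒜 h1 ∈ (⊤ : Opens (ProjectiveSpectrum.top 𝒜)) := Opens.mem_top _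
  constructor
  · intro a a' h
    change Twist.globalOf 𝒜 a = Twist.globalOf 𝒜 a' at h
    have e := iota_globalOf 𝒜 (eta 𝒜 h1) a hηtop
    rw [h, iota_globalOf] at e
    exact Subtype.ext (IsFractionRing.injective A (FractionRing A) e).symm
  · intro s
    let q : FractionRing A := iota 𝒜 (eta 𝒜 h1) ((s.1 ⟨eta 𝒜 h1, hηtop⟩).1)
    have key : ∀ (x : ProjectiveSpectrum 𝒜) (hx : x ∈ (⊤ : Opens (ProjectiveSpectrum.top 𝒜))),
        ∃ (j : ℕ) (t a : A) (hnot : t ∉ x.asHomogeneousIdeal),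
          T 𝒜 (FractionRing A) q d j t ∧
          q * algebraMap A (FractionRing A) t = algebraMap A (FractionRing A) a ∧
          (s.1 ⟨x, hx⟩).1 = Localization.mk a ⟨t, hnot⟩ := by
      intro x hx
      obtain ⟨V, hxV, iV, i, j, ⟨a, ha⟩, ⟨t, ht⟩, t_nin, hdeg, hval⟩ := s.2 ⟨x, hx⟩
      have hηV : eta 𝒜 h1 ∈ V := eta_mem 𝒜 h1 V x hxV
      have e1 : (s.1 ⟨x, hx⟩).1 = Localization.mk a ⟨t, t_nin ⟨x, hxV⟩⟩ := hval ⟨x, hxV⟩
      have e2 : (s.1 ⟨eta 𝒜 h1, hηtop⟩).1 = Localization.mk a ⟨t, t_nin ⟨eta 𝒜 h1, hηV⟩⟩ :=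
        hval ⟨eta 𝒜 h1, hηV⟩
      have hq : q * algebraMap A (FractionRing A) t = algebraMap A (FractionRing A) a := by
        show iota 𝒜 (eta 𝒜 h1) ((s.1 ⟨eta 𝒜 h1, hηtop⟩).1) * _ = _
        rw [e2, mul_comm]
        exact (iota_mk 𝒜 (eta 𝒜 h1) a t _).symm
      have ha' : a ∈ 𝒜 (j + d) := by
        rcases hdeg with h | h
        · have : i = j + d := by exact_mod_cast h
          exact this ▸ ha
        · have : a = 0 := h
          rw [this]; exact zero_mem _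
      exact ⟨j, t, a, t_nin ⟨x, hxV⟩, ⟨ht, a, ha', hq⟩, hq, e1⟩
    obtain ⟨N, hN⟩ := exists_degree hgen q d (fun x => by
      obtain ⟨j, t, a, hnot, hT, -, -⟩ := key x (Opens.mem_top _)
      exact ⟨j, t, hT, hnot⟩)
    obtain ⟨b, hb, hbq⟩ := exists_eq_algebraMap hgen h1 q d N hN
    refine ⟨⟨b, hb⟩, ?_⟩
    refine Subtype.ext (funext fun x => Subtype.ext ?_)
    obtain ⟨j, t, a, hnot, -, hq, e1⟩ := key x.1 x.2
    rw [← hbq, ← map_mul] at hq
    have hbt : b * t = a := IsFractionRing.injective A (FractionRing A) hq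
    refine Eq.trans ?_ e1.symm
    exact mk_eq_of_mul_eq 𝒜 x.1 b a t hnot _ hbt

end Sheaf

end Groth.Agent.H13.ProjNormal
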