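import Mathlib
import Groth.Agent.H67.WQ_RSP
import Groth.Agent.H67.WQ_PRIM
import Groth.Agent.H67.WQ_DIM
import Groth.Agent.H77.WQ_F
import Groth.Agent.H77.WQ_D2

/-!
# Purity of the branch locus in dimension two, Galois form (helper13, for S15804)

Let `R` be a regular local ring, `A` a normal local domain of dimension two, finite over `R`, with
the same residue field, and `H` a finite group acting faithfully on `A` with invariants `R`.
If the inertia groups of all height one primes of `A` are trivial, then `H` is trivial.

Proof: `A` is free over `R` (depth two), of rank `|H|`; the determinant `D` of the matrix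
`(h • b_j)` lies in no prime with trivial inertia (Dedekind independence of characters), so by
Krull's principal ideal theorem `D` is a unit; but two rows agree modulo the maximal ideal as
soon as `H ≠ 1`.

Squad: helper67 (RSP, PRIM, DIM), helper77 (F, D2).
-/

set_option autoImplicit false
universe u v w
open IsLocalRing

namespace Groth.Agent.H13.Purity2


/-- Claim A: if the inertia group of the prime `P` is trivial, the determinant of `(h • b j)` is
not in `P`. -/
theorem det_notMem_of_inertia_eq_bot
    (R : Type u) [CommRing R] (A : Type v) [CommRing A] [Algebra R A]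
    (H : Type w) [Group H] [Fintype H] [DecidableEq H] [MulSemiringAction H A] [SMulCommClass H R A]
    (b : Module.Basis H R A) (P : Ideal A) [P.IsPrime] (hP : P.inertia H = ⊥) :
    (Matrix.of fun h j : H => h • b j).det ∉ P := by
  intro hD
  -- the characters
  let ρ : H → (A →* A ⧸ P) := fun h =>
    ((Ideal.Quotient.mk P).comp (MulSemiringAction.toRingHom H A h) : A →+* A ⧸ P)
  have hρ : ∀ h a, ρ h a = Ideal.Quotient.mk P (h • a) := fun h a => rfl
  -- injectivity of ρ
  have hρinj : Function.Injective ρ := by
    intro h h' hh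
    have hmem : h * h'⁻¹ ∈ P.inertia H := by
      intro a
      have h1 : ρ h (h'⁻¹ • a) = ρ h' (h'⁻¹ • a) := by rw [hh]
      rw [hρ, hρ, Ideal.Quotient.eq, smul_inv_smul, ← mul_smul] at h1
      exact h1
    rw [hP, Subgroup.mem_bot] at hmem
    exact mul_inv_eq_one.mp hmem
  -- the matrix mod P is singular
  have hdet : (Matrix.of fun h j : H => (ρ h (b j) : A ⧸ P)).det = 0 := by
    have h1 : (Matrix.of fun h j : H => (ρ h (b j) : A ⧸ P)) =
        (Ideal.Quotient.mk P).mapMatrix (Matrix.of fun h j : H => h • b j) := by
      ext h j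
      rfl
    rw [h1, ← RingHom.map_det]
    exact Ideal.Quotient.eq_zero_iff_mem.mpr hD
  obtain ⟨c, hc0, hc⟩ := Matrix.exists_vecMul_eq_zero_iff.mpr hdet
  -- the combination `Σ c h • ρ h` vanishes on the basis, hence everywhere
  have hbasis : ∀ j, ∑ h, c h * ρ h (b j) = 0 := by
    intro j
    have := congrFun hc j
    simpa [Matrix.vecMul, dotProduct] using this
  have hall : ∀ a : A, ∑ h, c h * ρ h a = 0 := by
    let Ψ : A →ₗ[R] (A ⧸ P) := ∑ h, (LinearMap.mulLeft R (c h)).comp
      ((Ideal.Quotient.mkₐ R P).toLinearMap.comp (DistribSMul.toLinearMap R A h))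
    have hΨ : ∀ a, Ψ a = ∑ h, c h * ρ h a := by
      intro a
      simp only [Ψ, LinearMap.sum_apply, hρ, LinearMap.comp_apply, LinearMap.mulLeft_apply]
      rfl
    have hΨ0 : Ψ = 0 := by
      apply b.ext
      intro j
      rw [hΨ, hbasis j, LinearMap.zero_apply]
    intro a
    rw [← hΨ, hΨ0, LinearMap.zero_apply]
  have hli := linearIndependent_monoidHom A (A ⧸ P)
  have hli' := hli.comp ρ hρinj
  rw [Fintype.linearIndependent_iff] at hli'
  have hzero := hli' c (by
    funext a
    simpa [Finset.sum_apply] using hall a)
  exact hc0 (funext hzero)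

/-- (P2core) Galois form of purity for a free cover: if all inertia groups of height one primes
are trivial and the residue fields agree, the group is trivial. -/
theorem eq_one_of_inertia_trivial
    (R : Type u) [CommRing R]
    (A : Type v) [CommRing A] [IsDomain A] [IsLocalRing A] [IsNoetherianRing A]
    [Algebra R A] [Module.Free R A] [Module.Finite R A]
    (hinj : Function.Injective (algebraMap R A))
    (hres : Function.Surjective (IsLocalRing.residue A ∘ algebraMap R A))
    (H : Type w) [Group H] [Finite H] [MulSemiringAction H A] [SMulCommClass H R A]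
    [FaithfulSMul H A]
    (hfix : ∀ a : A, (∀ h : H, h • a = a) → a ∈ Set.range (algebraMap R A))
    (htriv : ∀ P : Ideal A, P.IsPrime → P.height = 1 → P.inertia H = ⊥) (σ : H) : σ = 1 := by
  classical
  cases nonempty_fintype H
  have : FaithfulSMul R A := (faithfulSMul_iff_algebraMap_injective R A).mpr hinj
  have : IsDomain R := hinj.isDomain _
  have : IsGaloisGroup H R A := ⟨inferInstance, inferInstance, ⟨fun a ha => hfix a ha⟩⟩
  have hcard := IsGaloisGroup.card_eq_finrank' H R A
  let e : Module.Free.ChooseBasisIndex R A ≃ H := Fintype.equivOfCardEq (by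
    rw [← Module.finrank_eq_card_chooseBasisIndex, ← hcard, Nat.card_eq_fintype_card])
  let b : Module.Basis H R A := (Module.Free.chooseBasis R A).reindex e
  set D := (Matrix.of fun h j : H => h • b j).det with hDdef
  -- trivial inertia at ⊥
  have hbot : (⊥ : Ideal A).inertia H = ⊥ := by
    rw [eq_bot_iff]
    intro τ hτ
    rw [Subgroup.mem_bot]
    apply eq_of_smul_eq_smul (α := A)
    intro a
    have := hτ a
    change τ • a - a ∈ (⊥ : Ideal A) at this
    rw [Ideal.mem_bot, sub_eq_zero] at this
    rw [this, one_smul]
  have : (⊥ : Ideal A).IsPrime := Ideal.isPrime_bot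
  have hD0 : D ≠ 0 := fun h =>
    det_notMem_of_inertia_eq_bot R A H b ⊥ hbot (by rw [← hDdef, h]; exact zero_mem _)
  -- D is a unit
  have hDunit : IsUnit D := by
    by_contra hnu
    have hne : Ideal.span {D} ≠ ⊤ := by
      rw [Ne, Ideal.span_singleton_eq_top]
      exact hnu
    obtain ⟨P, hPmin⟩ := Ideal.nonempty_minimalPrimes hne
    have hPprime : P.IsPrime := hPmin.1.1
    have hDP : D ∈ P := hPmin.1.2 (Ideal.mem_span_singleton_self D)
    have hht := Ideal.height_le_one_of_isPrincipal_of_mem_minimalPrimes _ P hPmin
    by_cases h1 : P.height = 1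
    · exact det_notMem_of_inertia_eq_bot R A H b P (htriv P hPprime h1) hDP
    · have h0 : P.height = 0 := Order.lt_one_iff.mp (lt_of_le_of_ne hht h1)
      rw [Ideal.height_eq_zero_iff_eq_bot] at h0
      rw [h0, Ideal.mem_bot] at hDP
      exact hD0 hDP
  -- if σ ≠ 1 then D ∈ m_A
  by_contra hσ
  have hcongr : ∀ a : A, σ • a - a ∈ maximalIdeal A := by
    intro a
    obtain ⟨r, hr⟩ := hres (residue A a)
    have hμ : a - algebraMap R A r ∈ maximalIdeal A := by
      rw [← Ideal.Quotient.eq_zero_iff_mem]
      change residue A (a - algebraMap R A r) = 0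
      rw [map_sub, ← hr]
      simp
    have hσμ : σ • (a - algebraMap R A r) ∈ maximalIdeal A := by
      rw [mem_maximalIdeal, mem_nonunits_iff] at hμ ⊢
      intro hu
      apply hμ
      have := hu.map (MulSemiringAction.toRingHom H A σ⁻¹)
      simpa using this
    have hr' : σ • algebraMap R A r = algebraMap R A r := smul_algebraMap σ r
    have : σ • a - a = σ • (a - algebraMap R A r) - (a - algebraMap R A r) := by
      rw [smul_sub, hr']
      ring
    rw [this]
    exact sub_mem hσμ hμ
  have hDm : D ∈ maximalIdeal A := by
    rw [← Ideal.Quotient.eq_zero_iff_mem, hDdef, RingHom.map_det]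
    apply Matrix.det_zero_of_row_eq hσ
    funext j
    simp only [RingHom.mapMatrix_apply, Matrix.map_apply, Matrix.of_apply, one_smul]
    rw [Ideal.Quotient.eq]
    exact hcongr (b j)
  exact (mem_maximalIdeal D).mp hDm hDunit


/-- (P2a) a normal local domain of dimension two, finite over a regular local ring, is free. -/
theorem free_of_normal_dim_two (R : Type u) [CommRing R] [IsRegularLocalRing R]
    (A : Type v) [CommRing A] [IsDomain A] [IsIntegrallyClosed A] [IsLocalRing A]
    [Algebra R A] [Module.Finite R A] (hinj : Function.Injective (algebraMap R A))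
    (hdim : ringKrullDim A = 2) : Module.Free R A := by
  have hdimR : ringKrullDim R = 2 :=
    (Groth.Agent.H67.WQ.ringKrullDim_eq_of_finite_injective R A hinj).trans hdim
  have : IsNoetherianRing A := IsNoetherianRing.of_finite R A
  obtain ⟨x, y, hxy⟩ := Groth.Agent.H67.WQ.exists_pair_of_dim_two R hdimR
  obtain ⟨N, hN⟩ := Groth.Agent.H67.WQ.exists_pow_maximalIdeal_le_map R A
  have hx0 : x ≠ 0 := by
    rintro rfl
    have hm : maximalIdeal R = Ideal.span {y} := by
      rw [hxy]
      apply le_antisymm
      · rw [Ideal.span_le]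
        rintro z (rfl | rfl)
        · exact zero_mem _
        · exact Ideal.mem_span_singleton_self _
      · exact Ideal.span_mono (by simp)
    have hmin : maximalIdeal R ∈ (Ideal.span {y}).minimalPrimes := by
      rw [← hm, Ideal.minimalPrimes_eq_subsingleton_self]
      exact Set.mem_singleton _
    have hht := Ideal.height_le_one_of_isPrincipal_of_mem_minimalPrimes _ _ hmin
    have h2 := IsLocalRing.maximalIdeal_height_eq_ringKrullDim (R := R)
    rw [hdimR] at h2
    have h3 : ((maximalIdeal R).height : WithBot ℕ∞) ≤ 1 := by exact_mod_cast hht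
    rw [h2] at h3
    exact absurd h3 (by decide)
  have hx0' : algebraMap R A x ≠ 0 := fun h => hx0 (hinj (by rw [h, map_zero]))
  refine Groth.Agent.H77.WQ_F.free_of_regular_pair R x y hxy A ?_ ?_
  · intro m hm
    rw [Algebra.smul_def] at hm
    rcases mul_eq_zero.mp hm with h | h
    · exact absurd h hx0'
    · exact h
  · intro m m' hmm'
    have := Groth.Agent.H77.WQ_D2.mem_span_of_primary_mul_mem A hdim _ N hN (algebraMap R A x) m
      hx0' ?_
    · obtain ⟨c, hc⟩ := Ideal.mem_span_singleton'.mp this
      exact ⟨c, by rw [Algebra.smul_def, ← hc, mul_comm]⟩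
    · intro c hc
      rw [hxy, Ideal.map_span, Set.image_pair, Ideal.mem_span_pair] at hc
      obtain ⟨α, β, rfl⟩ := hc
      rw [Algebra.smul_def, Algebra.smul_def] at hmm'
      rw [Ideal.mem_span_singleton']
      refine ⟨α * m + β * m', ?_⟩
      linear_combination (-β) * hmm'

/-- **Purity in dimension two, Galois form.** -/
theorem eq_one_of_inertia_heightOne_trivial
    (R : Type u) [CommRing R] [IsRegularLocalRing R]
    (A : Type v) [CommRing A] [IsDomain A] [IsIntegrallyClosed A] [IsLocalRing A]
    [Algebra R A] [Module.Finite R A] (hinj : Function.Injective (algebraMap R A))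
    (hres : Function.Surjective (IsLocalRing.residue A ∘ algebraMap R A))
    (H : Type w) [Group H] [Finite H] [MulSemiringAction H A] [SMulCommClass H R A]
    [FaithfulSMul H A]
    (hfix : ∀ a : A, (∀ h : H, h • a = a) → a ∈ Set.range (algebraMap R A))
    (hdim : ringKrullDim A = 2)
    (htriv : ∀ P : Ideal A, P.IsPrime → P.height = 1 → P.inertia H = ⊥) (σ : H) : σ = 1 := by
  have : IsNoetherianRing A := IsNoetherianRing.of_finite R A
  have : Module.Free R A := free_of_normal_dim_two R A hinj hdim
  exact eq_one_of_inertia_trivial R A hinj hres H hfix htriv σ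

end Groth.Agent.H13.Purity2
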