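import Mathlib
import Groth.Prelude.Def_Rees
import Groth.Prelude.Def_BlowUp2
import Groth.Prelude.Def_ega3
import Groth.Agent.H95.ReesProjDefs

/-!
# (ECA) for helper95's S16054 squad: on the chart `D₊(aX)` of `Proj` of the Rees algebra, the ideal
`I` becomes principal, generated by the nonzerodivisor `a` (helper13)
-/

set_option autoImplicit false
universe u
open CategoryTheory AlgebraicGeometry
open Groth.Agent.H95.ReesProj

namespace Groth.Agent.H13.RP_ECA

variable (A : Type u) [CommRing A] (I : Ideal A)

/-- the value of `toAway r` in the localization is `r / 1`. -/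
lemma val_toAway (a : A) (ha : a ∈ I) (r : A) :
    (toAway A I a ha r).val =
      algebraMap (reesAlgebra I) (Localization.Away (gen A I a ha))
        (algebraMap A (reesAlgebra I) r) := by
  rw [toAway, RingHom.comp_apply, HomogeneousLocalization.algebraMap_eq]
  exact Localization.mk_one_eq_algebraMap _

/-- key identity in the Rees algebra: `r · (aX) = (rX) · a`. -/
lemma gen_mul_comm (a b : A) (ha : a ∈ I) (hb : b ∈ I) :
    algebraMap A (reesAlgebra I) b * gen A I a ha =
      gen A I b hb * algebraMap A (reesAlgebra I) a := by
  apply Subtype.ext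
  change Polynomial.C b * Polynomial.monomial 1 a = Polynomial.monomial 1 b * Polynomial.C a
  rw [Polynomial.C_mul_monomial, Polynomial.monomial_mul_C, mul_comm]

theorem ECA (a : A) (ha : a ∈ I) :
    I.map (toAway A I a ha) = Ideal.span {toAway A I a ha a} ∧
      toAway A I a ha a ∈
        nonZeroDivisors (HomogeneousLocalization.Away (Rees.deg (reesAlgebra I)) (gen A I a ha)) := by
  constructor
  · apply le_antisymm
    · rw [Ideal.map_le_iff_le_comap]
      intro b hb
      rw [Ideal.mem_comap, Ideal.mem_span_singleton']
      refine ⟨HomogeneousLocalization.Away.mk (Rees.deg (reesAlgebra I)) (gen_mem A I a ha) 1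
        (gen A I b hb) (by simpa using gen_mem A I b hb), ?_⟩
      apply HomogeneousLocalization.val_injective
      rw [HomogeneousLocalization.val_mul, HomogeneousLocalization.Away.val_mk, val_toAway,
        val_toAway, ← Localization.mk_one_eq_algebraMap, ← Localization.mk_one_eq_algebraMap,
        Localization.mk_mul, Localization.mk_eq_mk_iff, Localization.r_iff_exists]
      refine ⟨1, ?_⟩
      simp only [OneMemClass.coe_one, one_mul, mul_one, pow_one]
      rw [mul_comm (gen A I a ha)]
      exact (gen_mul_comm A I a b ha hb).symm
    · rw [Ideal.span_le, Set.singleton_subset_iff]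
      exact Ideal.mem_map_of_mem _ ha
  · suffices h : ∀ z : HomogeneousLocalization.Away (Rees.deg (reesAlgebra I)) (gen A I a ha),
        z * toAway A I a ha a = 0 → z = 0 by
      rw [mem_nonZeroDivisors_iff]
      refine ⟨fun z hz => h z ?_, h⟩
      have h2 := (mul_comm z (toAway A I a ha a)).trans hz
      exact h2
    intro z hz
    apply HomogeneousLocalization.val_injective
    rw [HomogeneousLocalization.val_zero]
    have hz' := congrArg HomogeneousLocalization.val hz
    rw [HomogeneousLocalization.val_mul, HomogeneousLocalization.val_zero, val_toAway] at hz'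
    obtain ⟨⟨x, s⟩, hxs⟩ := IsLocalization.mk'_surjective (Submonoid.powers (gen A I a ha)) z.val
    rw [← hxs] at hz' ⊢
    rw [← IsLocalization.mk'_one (M := Submonoid.powers (gen A I a ha))
      (Localization.Away (gen A I a ha)) (algebraMap A (reesAlgebra I) a),
      ← IsLocalization.mk'_mul, IsLocalization.mk'_eq_zero_iff] at hz'
    obtain ⟨⟨_, m, rfl⟩, hm⟩ := hz'
    rw [IsLocalization.mk'_eq_zero_iff]
    refine ⟨⟨gen A I a ha ^ (m + 1), m + 1, rfl⟩, ?_⟩
    -- compute in `A[X]`
    apply Subtype.ext
    have hm' := congrArg (fun y : reesAlgebra I => (y : Polynomial A)) hm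
    simp only [Subalgebra.coe_mul, Subalgebra.coe_pow, Subalgebra.coe_zero] at hm' ⊢
    have hg : ((gen A I a ha : reesAlgebra I) : Polynomial A) = Polynomial.C a * Polynomial.X := by
      change Polynomial.monomial 1 a = _
      rw [Polynomial.C_mul_X_eq_monomial]
    have hC : ((algebraMap A (reesAlgebra I) a : reesAlgebra I) : Polynomial A) = Polynomial.C a :=
      rfl
    rw [hC, hg] at hm'
    rw [pow_succ, hg]
    calc (Polynomial.C a * Polynomial.X) ^ m * (Polynomial.C a * Polynomial.X) * (x : Polynomial A)
        = ((Polynomial.C a * Polynomial.X) ^ m * ((x : Polynomial A) * Polynomial.C a)) *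
            Polynomial.X := by ring
      _ = 0 := by rw [hm', zero_mul]

end Groth.Agent.H13.RP_ECA
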