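import Mathlib
import Groth.Prelude.Def_Rees
import Groth.Prelude.Def_BlowUp2
import Groth.Prelude.Def_ega3
import Groth.Agent.H95.ReesProjDefs
import Groth.Agent.H13.RP_ECA

/-!
# (U1) for helper95's S16054 squad: ring maps out of the chart ring `(R(I)_{aX})_0` are determined
by their restriction to `A` when `a` goes to a nonzerodivisor (helper13)
-/

set_option autoImplicit false
universe u
open CategoryTheory AlgebraicGeometry
open Groth.Agent.H95.ReesProj

namespace Groth.Agent.H13.RP_U1

variable (A : Type u) [CommRing A] (I : Ideal A)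

/-- `toAway(a)ⁿ · (x / (aX)ⁿ) = toAway (coeff n x)` for `x` homogeneous of degree `n`. -/
lemma toAway_pow_mul_mk (a : A) (ha : a ∈ I) (n : ℕ) (x : reesAlgebra I)
    (hx : x ∈ Rees.deg (reesAlgebra I) (n • 1)) :
    toAway A I a ha a ^ n *
        HomogeneousLocalization.Away.mk (Rees.deg (reesAlgebra I)) (gen_mem A I a ha) n x hx =
      toAway A I a ha ((x : Polynomial A).coeff n) := by
  apply HomogeneousLocalization.val_injective
  rw [HomogeneousLocalization.val_mul, HomogeneousLocalization.val_pow,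
    HomogeneousLocalization.Away.val_mk, Groth.Agent.H13.RP_ECA.val_toAway,
    Groth.Agent.H13.RP_ECA.val_toAway, ← Localization.mk_one_eq_algebraMap,
    ← Localization.mk_one_eq_algebraMap, Localization.mk_pow, Localization.mk_mul,
    Localization.mk_eq_mk_iff, Localization.r_iff_exists]
  refine ⟨1, ?_⟩
  simp only [OneMemClass.coe_one, one_mul, one_pow]
  apply Subtype.ext
  have hxm : (x : Polynomial A) = Polynomial.monomial n ((x : Polynomial A).coeff n) := by
    ext m
    rw [Polynomial.coeff_monomial]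
    split_ifs with hmn
    · rw [hmn]
    · exact (Rees.mem_deg_iff (reesAlgebra I) (n • 1) x).mp hx m
        (by simpa using Ne.symm hmn)
  have hg : ((gen A I a ha : reesAlgebra I) : Polynomial A) = Polynomial.monomial 1 a := rfl
  have hC : ∀ r : A, ((algebraMap A (reesAlgebra I) r : reesAlgebra I) : Polynomial A) =
      Polynomial.C r := fun _ => rfl
  simp only [Subalgebra.coe_mul, Subalgebra.coe_pow, hg, hC]
  rw [hxm, Polynomial.coeff_monomial, if_pos rfl, Polynomial.monomial_pow,
    ← Polynomial.C_pow, Polynomial.C_mul_monomial, one_mul, Polynomial.monomial_mul_C]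

theorem U1 (a : A) (ha : a ∈ I) {B : Type u} [CommRing B]
    (ψ₁ ψ₂ : HomogeneousLocalization.Away (Rees.deg (reesAlgebra I)) (gen A I a ha) →+* B)
    (h : ψ₁.comp (toAway A I a ha) = ψ₂.comp (toAway A I a ha))
    (hnzd : ψ₁ (toAway A I a ha a) ∈ nonZeroDivisors B) : ψ₁ = ψ₂ := by
  have hr : ∀ r : A, ψ₁ (toAway A I a ha r) = ψ₂ (toAway A I a ha r) := fun r =>
    RingHom.congr_fun h r
  ext z
  obtain ⟨n, x, hx, rfl⟩ :=
    HomogeneousLocalization.Away.mk_surjective (Rees.deg (reesAlgebra I)) (gen_mem A I a ha) z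
  have key := toAway_pow_mul_mk A I a ha n x hx
  have h1 := congrArg ψ₁ key
  have h2 := congrArg ψ₂ key
  have e1 : ψ₁ (toAway A I a ha a ^ n) = ψ₁ (toAway A I a ha a) ^ n := map_pow ψ₁ _ n
  have e2 : ψ₂ (toAway A I a ha a ^ n) = ψ₁ (toAway A I a ha a) ^ n :=
    (map_pow ψ₂ _ n).trans (by rw [hr a])
  rw [map_mul, e1] at h1
  rw [map_mul, e2] at h2
  have h3 : ψ₁ (toAway A I a ha a) ^ n *
      ψ₁ (HomogeneousLocalization.Away.mk (Rees.deg (reesAlgebra I)) (gen_mem A I a ha) n x hx) =
      ψ₁ (toAway A I a ha a) ^ n *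
      ψ₂ (HomogeneousLocalization.Away.mk (Rees.deg (reesAlgebra I)) (gen_mem A I a ha) n x hx) := by
    rw [h1, h2, hr]
  exact (mul_cancel_left_mem_nonZeroDivisors (pow_mem hnzd n)).mp h3

end Groth.Agent.H13.RP_U1
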