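import Mathlib
import Groth.Agent.H13.FinSynt

/-!
# The symmetric-algebra trick (Stacks 07CG / 07CH), algebraic part

For an idempotent matrix `e` over `A` we form `SymC e = A[y]/(y_k - Σ_i e i k y_i)`, the symmetric
algebra of the image of `e`.  It is smooth over `A`, has a retraction to `A`, and if the image of `e`
is the conormal module of a presentation of `A` over `R`, then `SymC e` has a presentation over `R`
with as many relations as extra variables (plus one).
-/

open MvPolynomial TensorProduct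

namespace Groth.Agent.H13.SymRetract

universe u

section construction

variable {A : Type u} [CommRing A] {m : ℕ} (e : Fin m → Fin m → A)

/-- the linear forms `L_k = X_k - Σ_i e i k X_i` -/
noncomputable def L (k : Fin m) : MvPolynomial (Fin m) A := X k - ∑ i, C (e i k) * X i

/-- the ideal generated by the linear forms -/
noncomputable def J : Ideal (MvPolynomial (Fin m) A) := Ideal.span (Set.range (L e))

/-- `Sym_A(im e)` presented as a quotient of the polynomial ring -/
abbrev SymC : Type u := MvPolynomial (Fin m) A ⧸ J e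

lemma L_mem (k : Fin m) : L e k ∈ J e := Ideal.subset_span ⟨k, rfl⟩

lemma J_fg : (J e).FG := Submodule.fg_span (Set.finite_range _)

/-- the retraction `y ↦ 0` -/
noncomputable def retr : SymC e →ₐ[A] A :=
  Ideal.Quotient.liftₐ (J e) (aeval (fun _ : Fin m ↦ (0 : A))) (by
    intro a ha
    have hle : J e ≤ RingHom.ker
        (aeval (fun _ : Fin m ↦ (0 : A)) : MvPolynomial (Fin m) A →ₐ[A] A).toRingHom := by
      rw [J, Ideal.span_le]
      rintro _ ⟨k, rfl⟩
      simp [L]
    exact hle ha)

lemma retr_algebraMap (a : A) : retr e (algebraMap A (SymC e) a) = a := by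
  simp

/-- the substitution `X_k ↦ Σ_i e i k X_i` -/
noncomputable def subst : MvPolynomial (Fin m) A →ₐ[A] MvPolynomial (Fin m) A :=
  aeval (fun k ↦ ∑ i, C (e i k) * X i)

variable (he : ∀ i k, ∑ j, e i j * e j k = e i k)

include he in
lemma sum_C_mul_X (k : Fin m) :
    ∑ i, C (e i k) * (∑ j, C (e j i) * X j) =
      (∑ j, C (e j k) * X j : MvPolynomial (Fin m) A) := by
  simp only [Finset.mul_sum]
  rw [Finset.sum_comm]
  refine Finset.sum_congr rfl fun j _ ↦ ?_
  rw [← he j k, map_sum, Finset.sum_mul]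
  refine Finset.sum_congr rfl fun i _ ↦ ?_
  rw [map_mul]; ring

include he in
lemma subst_L (k : Fin m) : subst e (L e k) = 0 := by
  simp only [subst, L, map_sub, aeval_X, map_sum, map_mul, aeval_C, algebraMap_eq]
  rw [sub_eq_zero]
  exact (sum_C_mul_X e he k).symm

include he in
lemma sum_C_mul_L (i : Fin m) : ∑ k, C (e k i) * L e k = 0 := by
  simp only [L, mul_sub, Finset.sum_sub_distrib]
  rw [sub_eq_zero]
  simp only [Finset.mul_sum]
  rw [Finset.sum_comm]
  refine Finset.sum_congr rfl fun j _ ↦ ?_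
  rw [← he j i, map_sum, Finset.sum_mul]
  refine Finset.sum_congr rfl fun k _ ↦ ?_
  rw [map_mul]; ring

/-- the section `SymC e → A[y]` -/
noncomputable def sect : SymC e →ₐ[A] MvPolynomial (Fin m) A :=
  Ideal.Quotient.liftₐ (J e) (subst e) (by
    intro a ha
    have hle : J e ≤ RingHom.ker (subst e).toRingHom := by
      rw [J, Ideal.span_le]
      rintro _ ⟨k, rfl⟩
      exact subst_L e he k
    exact hle ha)

lemma mk_subst (p : MvPolynomial (Fin m) A) :
    Ideal.Quotient.mk (J e) (subst e p) = Ideal.Quotient.mk (J e) p := by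
  have : (Ideal.Quotient.mkₐ A (J e)).comp (subst e) = Ideal.Quotient.mkₐ A (J e) := by
    apply MvPolynomial.algHom_ext
    intro k
    simp only [AlgHom.comp_apply, subst, aeval_X, Ideal.Quotient.mkₐ_eq_mk]
    rw [eq_comm, Ideal.Quotient.eq]
    exact L_mem e k
  exact DFunLike.congr_fun this p

include he in
theorem formallySmooth : Algebra.FormallySmooth A (SymC e) := by
  let f : MvPolynomial (Fin m) A →ₐ[A] SymC e := Ideal.Quotient.mkₐ A (J e)
  refine Algebra.FormallySmooth.of_split f
    ((Ideal.Quotient.mkₐ A (RingHom.ker f.toRingHom ^ 2)).comp (sect e he)) ?_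
  apply AlgHom.ext
  intro x
  obtain ⟨p, rfl⟩ := Ideal.Quotient.mk_surjective x
  show f.kerSquareLift (Ideal.Quotient.mk _ (subst e p)) = _
  rw [AlgHom.kerSquareLift_mk]
  exact mk_subst e p

instance : Algebra.FinitePresentation A (SymC e) :=
  Algebra.FinitePresentation.quotient (J_fg e)

include he in
theorem smooth : Algebra.Smooth A (SymC e) := by
  haveI := formallySmooth e he
  exact ⟨inferInstance, inferInstance⟩

end construction

section gen

variable {A C : Type u} [CommRing A] [CommRing C] [Algebra A C]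
  {K M N : Type u} [AddCommGroup K] [Module A K] [AddCommGroup M] [Module C M]
  [AddCommGroup N] [Module C N]

/-- Generation of the middle term of an exact sequence by `m` elements, when the outer terms are
"complementary" images of an idempotent matrix. -/
theorem exists_span_eq_top {m : ℕ} (e : Fin m → Fin m → A)
    (he : ∀ i k, ∑ j, e i j * e j k = e i k)
    (ι : C ⊗[A] K →ₗ[C] M) (pr : M →ₗ[C] N) (hex : Function.Exact ι pr)
    (hpr : Function.Surjective pr)
    (u : Fin m → K) (hu : Submodule.span A (Set.range u) = ⊤)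
    (hue : ∀ k, u k = ∑ j, e j k • u j)
    (lam : Fin m → N) (hlam : Submodule.span C (Set.range lam) = ⊤)
    (hlame : ∀ i, ∑ k, algebraMap A C (e k i) • lam k = 0) :
    ∃ γ : Fin m → M, Submodule.span C (Set.range γ) = ⊤ := by
  classical
  choose ℓ hℓ using fun k ↦ hpr (lam k)
  let ℓ' : Fin m → M := fun k ↦ ℓ k - ∑ j, algebraMap A C (e j k) • ℓ j
  let μ : Fin m → M := fun k ↦ ι ((1 : C) ⊗ₜ[A] u k)
  have h1 : ∀ k, pr (ℓ' k) = lam k := by
    intro k
    simp only [ℓ', map_sub, map_sum, map_smul, hℓ]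
    rw [hlame k, sub_zero]
  have h2 : ∀ i, ∑ k, algebraMap A C (e k i) • ℓ' k = 0 := by
    intro i
    simp only [ℓ', smul_sub, Finset.sum_sub_distrib, Finset.smul_sum, smul_smul]
    rw [sub_eq_zero, Finset.sum_comm]
    refine Finset.sum_congr rfl fun j _ ↦ ?_
    rw [← Finset.sum_smul, ← he j i, map_sum]
    congr 1
    refine Finset.sum_congr rfl fun k _ ↦ ?_
    rw [map_mul, mul_comm]
  have hsm : ∀ (a : A) (x : K), algebraMap A C a • ι ((1 : C) ⊗ₜ[A] x) =
      ι ((1 : C) ⊗ₜ[A] (a • x)) := by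
    intro a x
    rw [← map_smul, TensorProduct.tmul_smul, algebraMap_smul]
  have h3 : ∀ i, ∑ k, algebraMap A C (e k i) • μ k = μ i := by
    intro i
    simp only [μ, hsm]
    rw [← map_sum, ← TensorProduct.tmul_sum, ← hue i]
  let γ : Fin m → M := fun k ↦ μ k + ℓ' k
  have h4 : ∀ i, ∑ k, algebraMap A C (e k i) • γ k = μ i := by
    intro i
    simp only [γ, smul_add, Finset.sum_add_distrib, h2, h3, add_zero]
  refine ⟨γ, ?_⟩
  obtain ⟨S, hS⟩ : ∃ S : Submodule C M, S = Submodule.span C (Set.range γ) := ⟨_, rfl⟩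
  rw [← hS]
  have hγ : ∀ k, γ k ∈ S := fun k ↦ hS ▸ Submodule.subset_span ⟨k, rfl⟩
  have hμ : ∀ i, μ i ∈ S := by
    intro i
    rw [← h4 i]
    exact Submodule.sum_mem _ fun k _ ↦ Submodule.smul_mem _ _ (hγ k)
  have hℓ' : ∀ i, ℓ' i ∈ S := by
    intro i
    have : ℓ' i = γ i - μ i := by simp [γ]
    rw [this]
    exact Submodule.sub_mem _ (hγ i) (hμ i)
  have hιK : ∀ x : K, ι ((1 : C) ⊗ₜ[A] x) ∈ S := by
    intro x
    have hx : x ∈ Submodule.span A (Set.range u) := hu ▸ Submodule.mem_top
    induction hx using Submodule.span_induction with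
    | mem x hx =>
      obtain ⟨k, rfl⟩ := hx
      exact hμ k
    | zero => rw [TensorProduct.tmul_zero, map_zero]; exact Submodule.zero_mem _
    | add x y _ _ hx hy =>
      rw [TensorProduct.tmul_add, map_add]; exact Submodule.add_mem _ hx hy
    | smul a x _ hx =>
      rw [← hsm]; exact Submodule.smul_mem _ _ hx
  have hι : ∀ t : C ⊗[A] K, ι t ∈ S := by
    intro t
    induction t using TensorProduct.induction_on with
    | zero => rw [map_zero]; exact Submodule.zero_mem _
    | tmul c x =>
      have : c ⊗ₜ[A] x = c • ((1 : C) ⊗ₜ[A] x) := by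
        rw [TensorProduct.smul_tmul', smul_eq_mul, mul_one]
      rw [this, map_smul]
      exact Submodule.smul_mem _ _ (hιK x)
    | add x y hx hy => rw [map_add]; exact Submodule.add_mem _ hx hy
  rw [eq_top_iff]
  intro x _
  have hx : pr x ∈ Submodule.span C (Set.range lam) := hlam ▸ Submodule.mem_top
  obtain ⟨c, hc⟩ := (Submodule.mem_span_range_iff_exists_fun C).mp hx
  have hker : pr (x - ∑ k, c k • ℓ' k) = 0 := by
    rw [map_sub, map_sum, ← hc, sub_eq_zero]
    refine Finset.sum_congr rfl fun k _ ↦ ?_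
    rw [map_smul, h1]
  obtain ⟨t, ht⟩ := (hex _).mp hker
  have : x = ι t + ∑ k, c k • ℓ' k := by rw [ht]; abel
  rw [this]
  exact Submodule.add_mem _ (hι t) (Submodule.sum_mem _ fun k _ ↦
    Submodule.smul_mem _ _ (hℓ' k))

end gen


section nak

open Groth.Agent.H13.FinSynt

/-- Nakayama: a spanning family of the cotangent module lifts to elements generating the kernel
up to an element `≡ 1`. -/
theorem exists_nakayama {R S : Type u} [CommRing R] [CommRing S] [Algebra R S]
    (E : Algebra.Extension.{u} R S) (hfg : E.ker.FG) {c : ℕ} (v : Fin c → E.Cotangent)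
    (hv : Submodule.span S (Set.range v) = ⊤) :
    ∃ (f : Fin c → E.Ring) (r : E.Ring), (∀ j, algebraMap E.Ring S (f j) = 0) ∧
      algebraMap E.Ring S r = 1 ∧
      ∀ x : E.Ring, algebraMap E.Ring S x = 0 → r * x ∈ Ideal.span (Set.range f) := by
  classical
  choose f hf using fun j ↦ Algebra.Extension.Cotangent.mk_surjective (v j)
  obtain ⟨𝔣, h𝔣⟩ : ∃ 𝔣 : Ideal E.Ring, 𝔣 = Ideal.span (Set.range fun j ↦ (f j).1) := ⟨_, rfl⟩
  have hdecomp : ∀ x ∈ E.ker, ∃ z ∈ 𝔣, x - z ∈ E.ker * E.ker := by
    intro x hxk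
    have hx' : Algebra.Extension.Cotangent.mk (P := E) ⟨x, hxk⟩ ∈
        Submodule.span S (Set.range v) := hv ▸ Submodule.mem_top
    obtain ⟨b, hb⟩ := (Submodule.mem_span_range_iff_exists_fun S).mp hx'
    choose p hp using fun j ↦ E.algebraMap_surjective (b j)
    refine ⟨((∑ j, p j • f j : E.ker) : E.Ring), ?_, ?_⟩
    · rw [AddSubmonoidClass.coe_finsetSum, h𝔣]
      refine Ideal.sum_mem _ fun j _ ↦ ?_
      rw [SetLike.val_smul, smul_eq_mul]
      exact Ideal.mul_mem_left _ _ (Ideal.subset_span ⟨j, rfl⟩)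
    · have h0 : Algebra.Extension.Cotangent.mk (P := E) (⟨x, hxk⟩ - ∑ j, p j • f j) = 0 := by
        rw [map_sub, sub_eq_zero, ← hb, map_sum]
        refine Finset.sum_congr rfl fun j _ ↦ ?_
        rw [map_smul, hf, ← hp j]
        exact (algebraMap_smul S (p j) (v j)).symm
      have h1 := (Algebra.Extension.Cotangent.mk_eq_zero_iff _).mp h0
      rw [sq] at h1
      simpa using h1
  obtain ⟨r, hr1, hr2⟩ := Submodule.exists_sub_one_mem_and_smul_eq_zero_of_fg_of_le_smul E.ker
    (Submodule.map (Submodule.mkQ 𝔣) E.ker)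
    (Submodule.FG.map (Submodule.mkQ 𝔣) hfg) (by
      rw [← Submodule.map_smul'']
      rintro _ ⟨x, hx, rfl⟩
      obtain ⟨z, hz, hxz⟩ := hdecomp x hx
      refine ⟨x - z, hxz, ?_⟩
      rw [map_sub, Submodule.mkQ_apply, Submodule.mkQ_apply,
        (Submodule.Quotient.mk_eq_zero 𝔣).mpr hz, sub_zero])
  have hαr : algebraMap E.Ring S r = 1 := by
    have : algebraMap E.Ring S (r - 1) = 0 := RingHom.mem_ker.mp hr1
    rw [map_sub, map_one, sub_eq_zero] at this
    exact this
  refine ⟨fun j ↦ (f j).1, r, fun j ↦ RingHom.mem_ker.mp (f j).2, hαr, ?_⟩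
  intro x hx
  have hxI : x ∈ E.ker := RingHom.mem_ker.mpr hx
  have := hr2 (Submodule.mkQ 𝔣 x) ⟨x, hxI, rfl⟩
  rw [← map_smul, Submodule.mkQ_apply, Submodule.Quotient.mk_eq_zero, smul_eq_mul] at this
  exact h𝔣 ▸ this

/-- A presentation with `c + 1` relations in `n + 1` variables from `c` generators of the kernel
up to an element `≡ 1` (Stacks 07CF). -/
theorem exists_presentation {A B : Type u} [CommRing A] [CommRing B] [Algebra A B] {n c : ℕ}
    (α : MvPolynomial (Fin n) A →ₐ[A] B) (hα : Function.Surjective α)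
    (f : Fin c → MvPolynomial (Fin n) A) (g₀ : MvPolynomial (Fin n) A)
    (hf : ∀ j, α (f j) = 0) (hg₀ : α g₀ = 1)
    (hmul : ∀ x, α x = 0 → g₀ * x ∈ Ideal.span (Set.range f)) :
    ∃ F : Fin (c + 1) → MvPolynomial (Fin (n + 1)) A,
      Nonempty (B ≃ₐ[A] MvPolynomial (Fin (n + 1)) A ⧸ Ideal.span (Set.range F)) := by
  classical
  let y : MvPolynomial (Fin (n + 1)) A := X 0
  let F : Fin (c + 1) → MvPolynomial (Fin (n + 1)) A :=
    Fin.cons (y * inc A n g₀ - 1) (fun j ↦ inc A n (f j))
  let φ : MvPolynomial (Fin (n + 1)) A →ₐ[A] B := α.comp (spec A n)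
  have hφsurj : Function.Surjective φ := by
    intro b
    obtain ⟨p, rfl⟩ := hα b
    exact ⟨inc A n p, by simp only [φ, AlgHom.comp_apply, spec_inc]⟩
  obtain ⟨𝔞, h𝔞⟩ : ∃ 𝔞 : Ideal (MvPolynomial (Fin (n + 1)) A), 𝔞 = Ideal.span (Set.range F) :=
    ⟨_, rfl⟩
  have hF0 : y * inc A n g₀ - 1 ∈ 𝔞 := h𝔞 ▸ Ideal.subset_span ⟨0, by simp [F]⟩
  have hFs : ∀ j, inc A n (f j) ∈ 𝔞 := fun j ↦
    h𝔞 ▸ Ideal.subset_span ⟨j.succ, by simp [F]⟩
  have hincf : ∀ z ∈ Ideal.span (Set.range f), inc A n z ∈ 𝔞 := by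
    intro z hz
    induction hz using Submodule.span_induction with
    | mem z hz => obtain ⟨j, rfl⟩ := hz; exact hFs j
    | zero => rw [map_zero]; exact Ideal.zero_mem _
    | add a b _ _ ha hb => rw [map_add]; exact Ideal.add_mem _ ha hb
    | smul t a _ ha => rw [smul_eq_mul, map_mul]; exact Ideal.mul_mem_left _ _ ha
  have hI : ∀ x, α x = 0 → inc A n x ∈ 𝔞 := by
    intro x hx
    have h1 := hincf _ (hmul x hx)
    have : inc A n x = y * inc A n (g₀ * x) - (y * inc A n g₀ - 1) * inc A n x := by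
      rw [map_mul]; ring
    rw [this]
    exact Ideal.sub_mem _ (Ideal.mul_mem_left _ _ h1) (Ideal.mul_mem_right _ _ hF0)
  have hy : y - 1 ∈ 𝔞 := by
    have h1 : inc A n (g₀ - 1) ∈ 𝔞 := hI _ (by rw [map_sub, hg₀, map_one, sub_self])
    have : y - 1 = (y * inc A n g₀ - 1) - y * inc A n (g₀ - 1) := by
      rw [map_sub, map_one]; ring
    rw [this]
    exact Ideal.sub_mem _ hF0 (Ideal.mul_mem_left _ _ h1)
  have hker : RingHom.ker φ.toRingHom = 𝔞 := by
    apply le_antisymm
    · intro h hh
      have h1 : α (spec A n h) = 0 := hh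
      have h2 := hI _ h1
      have h3 : h - inc A n (spec A n h) ∈ 𝔞 :=
        (Ideal.span_le.mpr (by
          intro z hz
          rw [Set.mem_singleton_iff] at hz
          rw [hz]
          exact hy)) (sub_inc_spec_mem h)
      have : h = (h - inc A n (spec A n h)) + inc A n (spec A n h) := by ring
      rw [this]
      exact Ideal.add_mem _ h3 h2
    · rw [h𝔞, Ideal.span_le]
      rintro _ ⟨i, rfl⟩
      refine Fin.cases ?_ (fun j ↦ ?_) i
      · show φ (F 0) = 0
        simp only [F, Fin.cons_zero, φ, AlgHom.comp_apply, map_sub, map_mul, map_one, spec_inc,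
          hg₀, y]
        simp [spec]
      · show φ (F j.succ) = 0
        simp only [F, Fin.cons_succ, φ, AlgHom.comp_apply, spec_inc, hf]
  refine ⟨F, ⟨?_⟩⟩
  rw [← h𝔞, ← hker]
  exact (Ideal.quotientKerAlgEquivOfSurjective hφsurj).symm

end nak

section main

open Algebra

lemma cotangent_mk_mul {R S : Type u} [CommRing R] [CommRing S] [Algebra R S]
    (E : Extension.{u} R S) (p z : E.Ring) (hz : z ∈ E.ker) :
    Extension.Cotangent.mk (P := E) ⟨p * z, E.ker.mul_mem_left p hz⟩ =
      algebraMap E.Ring S p • Extension.Cotangent.mk (P := E) ⟨z, hz⟩ := by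
  have h1 : (⟨p * z, E.ker.mul_mem_left p hz⟩ : E.ker) = p • (⟨z, hz⟩ : E.ker) := rfl
  rw [h1, map_smul, algebraMap_smul]

variable {R A : Type u} [CommRing R] [CommRing A] [Algebra R A]
  {n m : ℕ} (P : Generators R A (Fin n)) (e : Fin m → Fin m → A)

/-- the tautological generators of `SymC e` over `A` -/
noncomputable def gensQ : Generators A (SymC e) (Fin m) :=
  Generators.ofSurjective (fun k ↦ Ideal.Quotient.mk (J e) (X k)) (by
    intro x
    obtain ⟨p, rfl⟩ := Ideal.Quotient.mk_surjective x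
    refine ⟨p, ?_⟩
    have : (aeval (fun k ↦ Ideal.Quotient.mk (J e) (X k)) :
        MvPolynomial (Fin m) A →ₐ[A] SymC e) = Ideal.Quotient.mkₐ A (J e) := by
      apply MvPolynomial.algHom_ext
      intro k
      simp
    exact DFunLike.congr_fun this p)

lemma gensQ_algebraMap (p : MvPolynomial (Fin m) A) :
    algebraMap (gensQ e).Ring (SymC e) p = Ideal.Quotient.mk (J e) p := by
  have : (aeval (fun k ↦ Ideal.Quotient.mk (J e) (X k)) :
      MvPolynomial (Fin m) A →ₐ[A] SymC e) = Ideal.Quotient.mkₐ A (J e) := by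
    apply MvPolynomial.algHom_ext
    intro k
    simp
  rw [Generators.algebraMap_apply]
  exact DFunLike.congr_fun this p

lemma gensQ_ker : Ideal.span (Set.range (L e)) = (gensQ e).toExtension.ker := by
  ext x
  show x ∈ J e ↔ algebraMap (gensQ e).Ring (SymC e) x = 0
  rw [gensQ_algebraMap, Ideal.Quotient.eq_zero_iff_mem]


set_option maxHeartbeats 800000 in
/-- **Stacks 07CG/07CF, algebraic form.** If the conormal module of the presentation `P` of `A`
over `R` is the image of the idempotent `e`, then `SymC e` is presented over `R` by `m + n + 1`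
variables and `m + 1` relations. -/
theorem exists_relGCI_presentation [Algebra.FinitePresentation R A]
    (he : ∀ i k, ∑ j, e i j * e j k = e i k)
    (u : Fin m → P.toExtension.Cotangent)
    (hu : Submodule.span A (Set.range u) = ⊤)
    (hue : ∀ k, u k = ∑ j, e j k • u j) :
    ∃ F : Fin (m + 1) → MvPolynomial (Fin (m + n + 1)) R,
      Nonempty (SymC e ≃ₐ[R] MvPolynomial (Fin (m + n + 1)) R ⧸ Ideal.span (Set.range F)) := by
  classical
  let Q := gensQ e
  let W := Q.comp P
  have hLmem : ∀ k, L e k ∈ Q.toExtension.ker := fun k ↦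
    (gensQ_ker e) ▸ Ideal.subset_span ⟨k, rfl⟩
  let lam : Fin m → Q.toExtension.Cotangent := fun k ↦
    Extension.Cotangent.mk ⟨L e k, hLmem k⟩
  have hlam : Submodule.span (SymC e) (Set.range lam) = ⊤ :=
    Extension.Cotangent.span_eq_top_of_span_eq_ker (P := Q.toExtension) (L e) (gensQ_ker e)
  have hlame : ∀ i, ∑ k, algebraMap A (SymC e) (e k i) • lam k = 0 := by
    intro i
    have hCmem : ∀ k, C (e k i) * L e k ∈ Q.toExtension.ker := fun k ↦
      Ideal.mul_mem_left _ _ (hLmem k)
    have hterm : ∀ k, algebraMap A (SymC e) (e k i) • lam k =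
        Extension.Cotangent.mk (P := Q.toExtension) ⟨C (e k i) * L e k, hCmem k⟩ := by
      intro k
      have h1 := cotangent_mk_mul Q.toExtension (C (e k i)) (L e k) (hLmem k)
      have h2 : algebraMap Q.toExtension.Ring (SymC e) (C (e k i)) =
          algebraMap A (SymC e) (e k i) := by
        have := gensQ_algebraMap e (C (e k i))
        exact this
      rw [h2] at h1
      exact h1.symm
    simp only [hterm]
    rw [← map_sum]
    have : (∑ k, (⟨C (e k i) * L e k, hCmem k⟩ : Q.toExtension.ker)) = 0 := by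
      apply Subtype.ext
      rw [AddSubmonoidClass.coe_finsetSum]
      exact sum_C_mul_L e he i
    rw [this, map_zero]
  obtain ⟨γ, hγ⟩ := exists_span_eq_top e he
    ((Extension.Cotangent.map (Q.toComp P).toExtensionHom).liftBaseChange (SymC e))
    (Extension.Cotangent.map (Q.ofComp P).toExtensionHom)
    (Generators.Cotangent.exact Q P) (Generators.Cotangent.surjective_map_ofComp Q P)
    u hu hue lam hlam hlame
  haveI : Algebra.FinitePresentation R (SymC e) := Algebra.FinitePresentation.trans R A (SymC e)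
  have hfgW : W.toExtension.ker.FG :=
    Algebra.FinitePresentation.ker_fG_of_surjective
      (IsScalarTower.toAlgHom R W.Ring (SymC e)) W.algebraMap_surjective
  obtain ⟨f, r, hf, hr, hmul⟩ : ∃ (f : Fin m → W.Ring) (r : W.Ring),
      (∀ j, algebraMap W.Ring (SymC e) (f j) = 0) ∧
      algebraMap W.Ring (SymC e) r = 1 ∧
      ∀ x : W.Ring, algebraMap W.Ring (SymC e) x = 0 →
          r * x ∈ Ideal.span (Set.range f) :=
    exists_nakayama W.toExtension hfgW γ hγ
  let ρ : MvPolynomial (Fin m ⊕ Fin n) R ≃ₐ[R] MvPolynomial (Fin (m + n)) R :=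
    MvPolynomial.renameEquiv R finSumFinEquiv
  let α' : MvPolynomial (Fin (m + n)) R →ₐ[R] SymC e :=
    (IsScalarTower.toAlgHom R W.Ring (SymC e)).comp ρ.symm.toAlgHom
  have hα' : Function.Surjective α' := W.algebraMap_surjective.comp ρ.symm.surjective
  have hα'ρ : ∀ x : W.Ring, α' (ρ x) = algebraMap W.Ring (SymC e) x := by
    intro x
    simp [α']
  obtain ⟨F, hF⟩ := exists_presentation α' hα' (fun j ↦ ρ (f j)) (ρ r)
    (fun j ↦ (hα'ρ (f j)).trans (hf j)) ((hα'ρ r).trans hr) (by
      intro x hx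
      obtain ⟨x', rfl⟩ := ρ.surjective x
      rw [hα'ρ] at hx
      have h1 := hmul x' hx
      have h2 := Ideal.mem_map_of_mem ρ h1
      rw [Ideal.map_span, ← Set.range_comp] at h2
      have h3 : ρ r * ρ x' = ρ (r * x') := (map_mul ρ r x').symm
      rw [h3]
      exact h2)
  exact ⟨F, hF⟩

end main

section idem

variable {A K : Type u} [CommRing A] [AddCommGroup K] [Module A K]

/-- A finite projective module is the image of an idempotent matrix. -/
theorem exists_idempotent [Module.Finite A K] [Module.Projective A K] :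
    ∃ (m : ℕ) (e : Fin m → Fin m → A) (u : Fin m → K) (s : K →ₗ[A] (Fin m → A)),
      (∀ i k, ∑ j, e i j * e j k = e i k) ∧ Submodule.span A (Set.range u) = ⊤ ∧
      (∀ k, u k = ∑ j, e j k • u j) ∧ ∀ k i, s (u k) i = e i k := by
  classical
  obtain ⟨m, f, hf⟩ := Module.Finite.exists_fin' A K
  obtain ⟨s, hs⟩ := Module.projective_lifting_property f LinearMap.id hf
  have hfs : ∀ x, f (s x) = x := fun x ↦ LinearMap.congr_fun hs x
  let b : Fin m → (Fin m → A) := fun k ↦ Pi.single k 1
  have hb : ∀ v : Fin m → A, v = ∑ k, v k • b k := by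
    intro v
    ext i
    simp [b, Finset.sum_apply, Pi.single_apply]
  let u : Fin m → K := fun k ↦ f (b k)
  let e : Fin m → Fin m → A := fun i k ↦ s (u k) i
  have hsu : ∀ k, s (u k) = ∑ j, e j k • b j := fun k ↦ hb (s (u k))
  have hue : ∀ k, u k = ∑ j, e j k • u j := by
    intro k
    have h1 : u k = f (s (u k)) := (hfs _).symm
    rw [h1, hsu k, map_sum]
    refine Finset.sum_congr rfl fun j _ ↦ ?_
    rw [map_smul]
  refine ⟨m, e, u, s, ?_, ?_, hue, fun k i ↦ rfl⟩
  · intro i k
    have h1 : s (u k) = ∑ j, e j k • s (u j) := by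
      conv_lhs => rw [hue k]
      rw [map_sum]
      refine Finset.sum_congr rfl fun j _ ↦ ?_
      rw [map_smul]
    have h2 := congrFun h1 i
    simp only [Finset.sum_apply, Pi.smul_apply, smul_eq_mul] at h2
    show ∑ j, s (u j) i * s (u k) j = s (u k) i
    rw [h2]
    refine Finset.sum_congr rfl fun j _ ↦ ?_
    exact mul_comm _ _
  · rw [eq_top_iff]
    intro x _
    obtain ⟨v, rfl⟩ := hf x
    rw [hb v, map_sum]
    refine Submodule.sum_mem _ fun k _ ↦ ?_
    rw [map_smul]
    exact Submodule.smul_mem _ _ (Submodule.subset_span ⟨k, rfl⟩)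

end idem

section transfer

/-- Projectivity transfers along a semilinear additive equivalence. -/
theorem projective_of_semilinear {S₀ A N₀ N : Type u} [CommRing S₀] [CommRing A]
    [AddCommGroup N₀] [Module S₀ N₀] [AddCommGroup N] [Module A N]
    (ε : S₀ ≃+* A) (t : N₀ ≃+ N) (ht : ∀ (r : S₀) (x : N₀), t (r • x) = ε r • t x)
    [Module.Projective S₀ N₀] : Module.Projective A N := by
  haveI : RingHomInvPair (ε : S₀ →+* A) (ε.symm : A →+* S₀) := RingHomInvPair.of_ringEquiv ε
  haveI : RingHomInvPair (ε.symm : A →+* S₀) (ε : S₀ →+* A) := RingHomInvPair.of_ringEquiv_symm ε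
  let e₂ : N₀ ≃ₛₗ[(ε : S₀ →+* A)] N :=
    { t with
      map_smul' := fun r x ↦ ht r x }
  exact Module.Projective.of_equiv (σ := (ε : S₀ →+* A)) (σ' := (ε.symm : A →+* S₀)) e₂

end transfer

end Groth.Agent.H13.SymRetract
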