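import Mathlib
import Groth.Agent.H13.SymRetract

/-!
# Local structure of `SymC e`: quasi-finiteness over polynomial rings after localisation
-/

open MvPolynomial TensorProduct

namespace Groth.Agent.H13.SymQF

open Groth.Agent.H13.SymRetract

universe u

section count

variable {T : Type u} [CommRing T] (κ : Type u) [Field κ] [Algebra T κ]
  {M N : Type u} [AddCommGroup M] [Module T M] [AddCommGroup N] [Module T N]

lemma span_one_tmul_eq_top {c : ℕ} (u : Fin c → N) (hu : Submodule.span T (Set.range u) = ⊤) :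
    Submodule.span κ (Set.range fun j ↦ (1 : κ) ⊗ₜ[T] u j) = ⊤ := by
  have h1 : ∀ n : N, (1 : κ) ⊗ₜ[T] n ∈
      Submodule.span κ (Set.range fun j ↦ (1 : κ) ⊗ₜ[T] u j) := by
    intro n
    have hn : n ∈ Submodule.span T (Set.range u) := hu ▸ Submodule.mem_top
    induction hn using Submodule.span_induction with
    | mem x hx =>
      obtain ⟨j, rfl⟩ := hx
      exact Submodule.subset_span ⟨j, rfl⟩
    | zero => rw [TensorProduct.tmul_zero]; exact Submodule.zero_mem _
    | add x y _ _ hx hy => rw [TensorProduct.tmul_add]; exact Submodule.add_mem _ hx hy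
    | smul t x _ hx =>
      rw [TensorProduct.tmul_smul, ← algebraMap_smul κ t]
      exact Submodule.smul_mem _ _ hx
  have h2 : ∀ z : κ ⊗[T] N, z ∈
      Submodule.span κ (Set.range fun j ↦ (1 : κ) ⊗ₜ[T] u j) := by
    intro z
    induction z using TensorProduct.induction_on with
    | zero => exact Submodule.zero_mem _
    | tmul c n =>
      have : c ⊗ₜ[T] n = c • ((1 : κ) ⊗ₜ[T] n) := by
        rw [TensorProduct.smul_tmul', smul_eq_mul, mul_one]
      rw [this]
      exact Submodule.smul_mem _ _ (h1 n)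
    | add x y hx hy => exact Submodule.add_mem _ hx hy
  exact eq_top_iff.mpr fun z _ ↦ h2 z

/-- From a stable isomorphism to a bound on the fibre rank. -/
theorem finrank_add_le {a b c : ℕ}
    (Φ : (M × (Fin a → T)) ≃ₗ[T] (N × (Fin b → T)))
    (u : Fin c → N) (hu : Submodule.span T (Set.range u) = ⊤) :
    Module.finrank κ (κ ⊗[T] M) + a ≤ c + b := by
  classical
  let Ψ : κ ⊗[T] (M × (Fin a → T)) ≃ₗ[κ] κ ⊗[T] (N × (Fin b → T)) :=
    TensorProduct.AlgebraTensorModule.congr (LinearEquiv.refl κ κ) Φ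
  let e1 : κ ⊗[T] (M × (Fin a → T)) ≃ₗ[κ] (κ ⊗[T] M) × (Fin a → κ) :=
    (TensorProduct.prodRight T κ κ M (Fin a → T)).trans
      (LinearEquiv.prodCongr (LinearEquiv.refl κ _) (TensorProduct.piScalarRight T κ κ (Fin a)))
  let e2 : κ ⊗[T] (N × (Fin b → T)) ≃ₗ[κ] (κ ⊗[T] N) × (Fin b → κ) :=
    (TensorProduct.prodRight T κ κ N (Fin b → T)).trans
      (LinearEquiv.prodCongr (LinearEquiv.refl κ _) (TensorProduct.piScalarRight T κ κ (Fin b)))
  let Θ : ((κ ⊗[T] M) × (Fin a → κ)) ≃ₗ[κ] ((κ ⊗[T] N) × (Fin b → κ)) :=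
    e1.symm.trans (Ψ.trans e2)
  have hspanN := span_one_tmul_eq_top κ u hu
  haveI : Module.Finite κ (κ ⊗[T] N) := Module.finite_def.mpr
    ⟨Finset.univ.image (fun j ↦ (1 : κ) ⊗ₜ[T] u j), by
      rw [Finset.coe_image, Finset.coe_univ, Set.image_univ]; exact hspanN⟩
  let pr : ((κ ⊗[T] N) × (Fin b → κ)) →ₗ[κ] (κ ⊗[T] M) :=
    (LinearMap.fst κ (κ ⊗[T] M) (Fin a → κ)) ∘ₗ
      (Θ.symm : ((κ ⊗[T] N) × (Fin b → κ)) →ₗ[κ] ((κ ⊗[T] M) × (Fin a → κ)))
  haveI : Module.Finite κ (κ ⊗[T] M) :=
    Module.Finite.of_surjective pr (fun z ↦ ⟨Θ (z, 0), by simp [pr]⟩)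
  have hN : Module.finrank κ (κ ⊗[T] N) ≤ c := by
    have := finrank_le_of_span_eq_top hspanN
    simpa using this
  have hΘ := LinearEquiv.finrank_eq Θ
  rw [Module.finrank_prod, Module.finrank_prod, Module.finrank_fin_fun, Module.finrank_fin_fun]
    at hΘ
  omega

end count

section qf

/-- Quasi-finiteness of `B[z₁..z_r] → T` when `T` is, up to units coming from `A₂`, generated by
`r` elements over a quasi-finite `B`-algebra `A₂`. -/
theorem quasiFinite_aeval {B A₂ T : Type u} [CommRing B] [CommRing A₂] [CommRing T]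
    [Algebra B A₂] [Algebra.QuasiFinite B A₂] [Algebra A₂ T] [Algebra B T] [IsScalarTower B A₂ T]
    {r : ℕ} (w : Fin r → T)
    (H : ∀ x : T, ∃ a : A₂, IsUnit (algebraMap A₂ T a) ∧
      ∃ p : MvPolynomial (Fin r) A₂, aeval w p = x * algebraMap A₂ T a) :
    (aeval w : MvPolynomial (Fin r) B →ₐ[B] T).toRingHom.QuasiFinite := by
  classical
  letI algB'T : Algebra (MvPolynomial (Fin r) B) T :=
    (aeval w : MvPolynomial (Fin r) B →ₐ[B] T).toRingHom.toAlgebra
  have halg : ∀ p : MvPolynomial (Fin r) B, algebraMap (MvPolynomial (Fin r) B) T p =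
      aeval w p := fun p ↦ rfl
  haveI : IsScalarTower B (MvPolynomial (Fin r) B) T := IsScalarTower.of_algebraMap_eq (fun b ↦ by
    rw [halg, MvPolynomial.algebraMap_eq, aeval_C])
  let f : (MvPolynomial (Fin r) B) ⊗[B] A₂ →ₐ[MvPolynomial (Fin r) B] T :=
    Algebra.TensorProduct.lift (Algebra.ofId (MvPolynomial (Fin r) B) T)
      (IsScalarTower.toAlgHom B A₂ T) (fun _ _ ↦ Commute.all _ _)
  have hf1 : ∀ a : A₂, f (1 ⊗ₜ a) = algebraMap A₂ T a := by
    intro a
    simp [f]
  have hfX : ∀ i, f (X i ⊗ₜ 1) = w i := by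
    intro i
    simp [f, Algebra.ofId_apply, halg]
  have hrange : ∀ p : MvPolynomial (Fin r) A₂, aeval w p ∈ f.range := by
    intro p
    induction p using MvPolynomial.induction_on with
    | C a => rw [aeval_C]; exact ⟨1 ⊗ₜ a, hf1 a⟩
    | add p q hp hq => rw [map_add]; exact Subalgebra.add_mem _ hp hq
    | mul_X p i hp =>
      rw [map_mul, aeval_X]
      exact Subalgebra.mul_mem _ hp ⟨X i ⊗ₜ 1, hfX i⟩
  have hQF : Algebra.QuasiFinite (MvPolynomial (Fin r) B) T :=
    Algebra.QuasiFinite.of_forall_exists_mul_mem_range f (by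
      intro x
      obtain ⟨a, ha, p, hp⟩ := H x
      refine ⟨1 ⊗ₜ a, by rw [hf1]; exact ha, ?_⟩
      rw [hf1, ← hp]
      exact hrange p)
  exact hQF

end qf

section locgen

attribute [local instance] Module.free_of_flat_of_isLocalRing

/-- A finite projective module is generated near a prime `q` by `rankAtStalk q` elements. -/
theorem exists_local_generators {A K : Type u} [CommRing A] [AddCommGroup K] [Module A K]
    [Module.Finite A K] [Module.Projective A K] (q : Ideal A) [q.IsPrime] :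
    ∃ h : A, h ∉ q ∧ ∃ k : Fin (Module.rankAtStalk K ⟨q, inferInstance⟩) → K,
      ∀ v : K, ∃ N : ℕ, h ^ N • v ∈ Submodule.span A (Set.range k) := by
  classical
  let Rₚ := Localization.AtPrime q
  let n := Module.rankAtStalk K ⟨q, inferInstance⟩
  let f : (Fin n →₀ A) →ₗ[A] Fin n →₀ Rₚ := Finsupp.mapRange.linearMap (Algebra.linearMap A Rₚ)
  let g : K →ₗ[A] LocalizedModule.AtPrime q K := LocalizedModule.mkLinearMap q.primeCompl K
  obtain ⟨φ, -, -, hφps⟩ := Module.exists_localizedMap_surjective_of_surjective q.primeCompl f g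
    ((Module.finBasis Rₚ (LocalizedModule.AtPrime q K)).repr.restrictScalars A).symm.surjective
  obtain ⟨a, hap, hφas⟩ := by
    refine Module.exists_localizedMap_away_surjective_of_localizedMap_atPrime_surjective q φ ?_
    simpa [LocalizedModule.coe_map_eq f g]
  refine ⟨a, hap, fun i ↦ φ (Finsupp.single i 1), fun v ↦ ?_⟩
  have hφmem : ∀ x : Fin n →₀ A, φ x ∈
      Submodule.span A (Set.range fun i ↦ φ (Finsupp.single i 1)) := by
    intro x
    induction x using Finsupp.induction_linear with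
    | zero => rw [map_zero]; exact Submodule.zero_mem _
    | add x y hx hy => rw [map_add]; exact Submodule.add_mem _ hx hy
    | single i c =>
      have : (Finsupp.single i c : Fin n →₀ A) = c • Finsupp.single i 1 := by
        rw [Finsupp.smul_single, smul_eq_mul, mul_one]
      rw [this, map_smul]
      exact Submodule.smul_mem _ _ (Submodule.subset_span ⟨i, rfl⟩)
  obtain ⟨z, hz⟩ := hφas (LocalizedModule.mk v 1)
  induction z using LocalizedModule.induction_on with
  | h x s =>
    rw [LocalizedModule.map_mk, LocalizedModule.mk_eq] at hz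
    obtain ⟨t, ht⟩ := hz
    obtain ⟨i, hi⟩ := t.2
    obtain ⟨j, hj⟩ := s.2
    refine ⟨i + j, ?_⟩
    have h1 : a ^ (i + j) • v = a ^ i • φ x := by
      have h2 : (t : A) • (1 : A) • φ x = (t : A) • (s : A) • v := ht
      rw [one_smul, ← hi, ← hj] at h2
      rw [pow_add, mul_smul]
      exact h2.symm
    rw [h1]
    exact Submodule.smul_mem _ _ (hφmem x)

end locgen


section claim

variable {A : Type u} [CommRing A] {m : ℕ} (e : Fin m → Fin m → A)

/-- After inverting `g₂ * h`, every element of `SymC e` becomes, up to a unit coming from `A₂`, a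
polynomial in the `r` elements `w'` with coefficients in `A₂`. -/
theorem exists_aeval_eq (g₂ h : A) {A₂ T : Type u} [CommRing A₂] [Algebra A A₂]
    [CommRing T] [Algebra (SymC e) T] [IsLocalization.Away (algebraMap A (SymC e) (g₂ * h)) T]
    [Algebra A T] [IsScalarTower A (SymC e) T] [Algebra A₂ T] [IsScalarTower A A₂ T]
    {r : ℕ} (w' : Fin r → SymC e)
    (hw : ∀ j, ∃ (N : ℕ) (b : Fin r → A),
      algebraMap A (SymC e) (h ^ N) * Ideal.Quotient.mk (J e) (X j) =
        ∑ a, algebraMap A (SymC e) (b a) * w' a)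
    (x : T) : ∃ a : A₂, IsUnit (algebraMap A₂ T a) ∧
      ∃ p : MvPolynomial (Fin r) A₂,
        aeval (fun i ↦ algebraMap (SymC e) T (w' i)) p = x * algebraMap A₂ T a := by
  classical
  obtain ⟨W, hW⟩ : ∃ W : Fin r → T, W = fun i ↦ algebraMap (SymC e) T (w' i) := ⟨_, rfl⟩
  rw [← hW]
  obtain ⟨Hh, hHh⟩ : ∃ Hh : T, Hh = algebraMap A T h := ⟨_, rfl⟩
  have hA₂ : ∀ a : A, algebraMap A₂ T (algebraMap A A₂ a) = algebraMap A T a := fun a ↦
    (IsScalarTower.algebraMap_apply A A₂ T a).symm
  have hAC : ∀ a : A, algebraMap (SymC e) T (algebraMap A (SymC e) a) = algebraMap A T a :=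
    fun a ↦ (IsScalarTower.algebraMap_apply A (SymC e) T a).symm
  have claimA : ∀ P : MvPolynomial (Fin m) A, ∃ (N : ℕ) (p : MvPolynomial (Fin r) A₂),
      aeval W p = algebraMap (SymC e) T (Ideal.Quotient.mk (J e) P) * Hh ^ N := by
    intro P
    induction P using MvPolynomial.induction_on with
    | C a₀ =>
      refine ⟨0, C (algebraMap A A₂ a₀), ?_⟩
      rw [aeval_C, hA₂, pow_zero, mul_one]
      exact (hAC a₀).symm
    | add P₁ P₂ h₁ h₂ =>
      obtain ⟨N₁, p₁, hp₁⟩ := h₁
      obtain ⟨N₂, p₂, hp₂⟩ := h₂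
      refine ⟨N₁ + N₂, p₁ * C (algebraMap A A₂ (h ^ N₂)) + p₂ * C (algebraMap A A₂ (h ^ N₁)), ?_⟩
      rw [map_add, map_mul, map_mul, aeval_C, aeval_C, hA₂, hA₂, hp₁, hp₂, map_add, map_add,
        map_pow, map_pow, pow_add, ← hHh]
      ring
    | mul_X P j h₁ =>
      obtain ⟨N₁, p₁, hp₁⟩ := h₁
      obtain ⟨Nj, b, hb⟩ := hw j
      refine ⟨N₁ + Nj, p₁ * ∑ a, C (algebraMap A A₂ (b a)) * X a, ?_⟩
      have hb' : Hh ^ Nj * algebraMap (SymC e) T (Ideal.Quotient.mk (J e) (X j)) =
          ∑ a, algebraMap A T (b a) * W a := by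
        have h3 := congrArg (algebraMap (SymC e) T) hb
        rw [map_mul, hAC, map_pow, map_sum, ← hHh] at h3
        rw [h3, hW]
        refine Finset.sum_congr rfl fun a _ ↦ ?_
        rw [map_mul, hAC]
      rw [map_mul, hp₁, map_sum]
      simp only [map_mul, aeval_C, aeval_X, hA₂]
      rw [← hb', pow_add]
      ring
  obtain ⟨n, c, hc⟩ := IsLocalization.Away.surj (algebraMap A (SymC e) (g₂ * h)) x
  obtain ⟨P, rfl⟩ := Ideal.Quotient.mk_surjective c
  obtain ⟨N, p, hp⟩ := claimA P
  have hsu : IsUnit (algebraMap A T (g₂ * h)) := by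
    rw [← hAC]
    exact IsLocalization.Away.algebraMap_isUnit _
  have hhu : IsUnit Hh := by
    rw [map_mul] at hsu
    rw [hHh]
    exact isUnit_of_mul_isUnit_right hsu
  refine ⟨algebraMap A A₂ ((g₂ * h) ^ n * h ^ N), ?_, p, ?_⟩
  · rw [hA₂, map_mul, map_pow, map_pow, ← hHh]
    exact (hsu.pow n).mul (hhu.pow N)
  · rw [hp, ← hc, hA₂, hAC, map_mul (algebraMap A T) ((g₂ * h) ^ n), map_pow, map_pow, ← hHh]
    ring

end claim

section assembly

set_option synthInstance.maxHeartbeats 400000 in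
set_option maxHeartbeats 1600000 in
/-- The quasi-finite chart of `SymC e`. -/
theorem exists_quasiFinite {R A : Type u} [CommRing R] [CommRing A] [Algebra R A] {m : ℕ}
    (e : Fin m → Fin m → A) (g₂ h : A) {d r : ℕ}
    (φ₀ : MvPolynomial (Fin d) R →ₐ[R] Localization.Away g₂) (hφ₀ : φ₀.toRingHom.QuasiFinite)
    (w' : Fin r → SymC e)
    (hw : ∀ j, ∃ (N : ℕ) (b : Fin r → A),
      algebraMap A (SymC e) (h ^ N) * Ideal.Quotient.mk (J e) (X j) =
        ∑ a, algebraMap A (SymC e) (b a) * w' a) :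
    ∃ ψ : MvPolynomial (Fin (r + d)) R →ₐ[R]
        Localization.Away (algebraMap A (SymC e) (g₂ * h)),
      ψ.toRingHom.QuasiFinite := by
  classical
  obtain ⟨s, hs⟩ : ∃ s : SymC e, s = algebraMap A (SymC e) (g₂ * h) := ⟨_, rfl⟩
  rw [← hs]
  haveI hloc : IsLocalization.Away (algebraMap A (SymC e) (g₂ * h)) (Localization.Away s) := by
    rw [← hs]; infer_instance
  haveI : IsScalarTower R A (Localization.Away s) := IsScalarTower.of_algebraMap_eq (fun x ↦ by
    rw [IsScalarTower.algebraMap_apply R (SymC e) (Localization.Away s),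
      IsScalarTower.algebraMap_apply R A (SymC e),
      ← IsScalarTower.algebraMap_apply A (SymC e) (Localization.Away s)])
  have hsu : IsUnit (algebraMap A (Localization.Away s) (g₂ * h)) := by
    rw [IsScalarTower.algebraMap_apply A (SymC e) (Localization.Away s), ← hs]
    exact IsLocalization.Away.algebraMap_isUnit s
  have hg₂u : IsUnit (algebraMap A (Localization.Away s) g₂) := by
    rw [map_mul] at hsu
    exact isUnit_of_mul_isUnit_left hsu
  have hu2 : ∀ y : Submonoid.powers g₂,
      IsUnit ((IsScalarTower.toAlgHom R A (Localization.Away s)) y) := by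
    rintro ⟨_, k, rfl⟩
    show IsUnit (algebraMap A (Localization.Away s) (g₂ ^ k))
    rw [map_pow]
    exact hg₂u.pow k
  let θ : Localization.Away g₂ →ₐ[R] Localization.Away s :=
    IsLocalization.liftAlgHom (M := Submonoid.powers g₂)
      (f := IsScalarTower.toAlgHom R A (Localization.Away s)) hu2
  have hθ : ∀ a : A, θ (algebraMap A (Localization.Away g₂) a) =
      algebraMap A (Localization.Away s) a := fun a ↦ IsLocalization.lift_eq _ a
  letI algA₂T : Algebra (Localization.Away g₂) (Localization.Away s) := θ.toRingHom.toAlgebra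
  haveI : IsScalarTower A (Localization.Away g₂) (Localization.Away s) :=
    IsScalarTower.of_algebraMap_eq (fun a ↦ (hθ a).symm)
  letI algBA₂ : Algebra (MvPolynomial (Fin d) R) (Localization.Away g₂) :=
    φ₀.toRingHom.toAlgebra
  haveI : Algebra.QuasiFinite (MvPolynomial (Fin d) R) (Localization.Away g₂) := hφ₀
  letI algBT : Algebra (MvPolynomial (Fin d) R) (Localization.Away s) :=
    (θ.toRingHom.comp φ₀.toRingHom).toAlgebra
  haveI : IsScalarTower (MvPolynomial (Fin d) R) (Localization.Away g₂) (Localization.Away s) :=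
    IsScalarTower.of_algebraMap_eq (fun _ ↦ rfl)
  have H := exists_aeval_eq e g₂ h (A₂ := Localization.Away g₂) (T := Localization.Away s) w' hw
  have hQF := quasiFinite_aeval (B := MvPolynomial (Fin d) R) (A₂ := Localization.Away g₂)
    (T := Localization.Away s) (fun i ↦ algebraMap (SymC e) (Localization.Away s) (w' i)) H
  haveI : IsScalarTower R (MvPolynomial (Fin d) R) (Localization.Away s) :=
    IsScalarTower.of_algebraMap_eq (fun x ↦ by
      show algebraMap R (Localization.Away s) x = θ (φ₀ (algebraMap R _ x))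
      rw [AlgHom.commutes, AlgHom.commutes])
  let iso : MvPolynomial (Fin (r + d)) R ≃ₐ[R] MvPolynomial (Fin r) (MvPolynomial (Fin d) R) :=
    (MvPolynomial.renameEquiv R finSumFinEquiv.symm).trans
      (MvPolynomial.sumAlgEquiv R (Fin r) (Fin d))
  refine ⟨((aeval (fun i ↦ algebraMap (SymC e) (Localization.Away s) (w' i)) :
      MvPolynomial (Fin r) (MvPolynomial (Fin d) R) →ₐ[MvPolynomial (Fin d) R]
        Localization.Away s).restrictScalars R).comp iso.toAlgHom, ?_⟩
  exact hQF.comp (RingHom.QuasiFinite.of_finite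
    (RingHom.Finite.of_surjective _ iso.surjective))

end assembly

end Groth.Agent.H13.SymQF
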