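import Groth.Agent.H66.RelCI4
import Groth.Agent.H66.RelGCI5
import Groth.Agent.H13.Conormal
import Groth.Agent.H13.SymQF
import Groth.Agent.S9151
import Groth.Agent.S9175
import Groth.Agent.S9176

/-!
# Stacks 07CH: a syntomic algebra is a smooth retract of a relative global complete intersection
(dimension count and projectivity of the conormal module)
-/

set_option linter.style.haveILetI false

open TensorProduct MvPolynomial

namespace Groth.Agent.H13.SymMain

universe u

open Groth.Agent.H13.SymRetract Groth.Agent.H13.SymQF Groth.Agent.H13.Conormal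
open Groth.Agent.H9.FibDim Groth.Agent.H66.RelGCI Groth.Agent.H66.RelCI

section proj

variable {R A : Type u} [CommRing R] [CommRing A] [Algebra R A]

set_option maxHeartbeats 800000 in
/-- The conormal module of a presentation of a syntomic algebra is finite projective. -/
theorem projective_cotangent (h : Synt.IsSyntomic R A) {n : ℕ}
    (P : Algebra.Generators R A (Fin n)) :
    Module.Finite A P.toExtension.Cotangent ∧ Module.Projective A P.toExtension.Cotangent := by
  classical
  haveI : Algebra.FinitePresentation R A := h.2.1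
  have hfg : P.ker.FG := Algebra.FinitePresentation.ker_fG_of_surjective
    (IsScalarTower.toAlgHom R P.Ring A) P.algebraMap_surjective
  refine ⟨Algebra.Extension.Cotangent.finite hfg, ?_⟩
  obtain ⟨I, hI⟩ : ∃ I : Ideal (MvPolynomial (Fin n) R), I = P.ker := ⟨_, rfl⟩
  let ε₁ : (MvPolynomial (Fin n) R ⧸ P.ker) ≃+* A :=
    RingHom.quotientKerEquivOfSurjective (f := algebraMap P.Ring A) P.algebraMap_surjective
  have hε₁ : ∀ x : MvPolynomial (Fin n) R,
      ε₁ (Ideal.Quotient.mk P.ker x) = algebraMap P.Ring A x := fun x ↦ rfl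
  let ε₁a : (MvPolynomial (Fin n) R ⧸ P.ker) ≃ₐ[R] A := AlgEquiv.ofRingEquiv (f := ε₁) (fun r ↦ by
    show ε₁ (Ideal.Quotient.mk P.ker (algebraMap R _ r)) = _
    rw [hε₁, ← IsScalarTower.algebraMap_apply])
  have hsyn1 : Synt.IsSyntomic R (Localization.Away (1 : MvPolynomial (Fin n) R ⧸ P.ker)) :=
    isSyntomic_of_algEquiv (ε₁a.symm.trans ((IsLocalization.atOne (MvPolynomial (Fin n) R ⧸ P.ker)
      (Localization.Away (1 : MvPolynomial (Fin n) R ⧸ P.ker))).restrictScalars R)) h
  obtain ⟨-, hproj1⟩ := Groth.Agent.S9151.result R n P.ker hfg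
    (1 : MvPolynomial (Fin n) R ⧸ P.ker) hsyn1
  haveI : IsLocalization (Submonoid.powers (1 : MvPolynomial (Fin n) R ⧸ P.ker))
      (MvPolynomial (Fin n) R ⧸ P.ker) :=
    IsLocalization.away_of_isUnit_of_bijective _ isUnit_one Function.bijective_id
  haveI : IsLocalizedModule (Submonoid.powers (1 : MvPolynomial (Fin n) R ⧸ P.ker))
      (LinearMap.id : P.ker.Cotangent →ₗ[MvPolynomial (Fin n) R ⧸ P.ker] P.ker.Cotangent) :=
    isLocalizedModule_id (Submonoid.powers (1 : MvPolynomial (Fin n) R ⧸ P.ker)) P.ker.Cotangent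
      (MvPolynomial (Fin n) R ⧸ P.ker)
  let t₀ : LocalizedModule (Submonoid.powers (1 : MvPolynomial (Fin n) R ⧸ P.ker)) P.ker.Cotangent
      ≃ₗ[MvPolynomial (Fin n) R ⧸ P.ker] P.ker.Cotangent :=
    IsLocalizedModule.iso (Submonoid.powers (1 : MvPolynomial (Fin n) R ⧸ P.ker))
      (LinearMap.id : P.ker.Cotangent →ₗ[MvPolynomial (Fin n) R ⧸ P.ker] P.ker.Cotangent)
  let ε₀ : Localization.Away (1 : MvPolynomial (Fin n) R ⧸ P.ker) ≃+*
      (MvPolynomial (Fin n) R ⧸ P.ker) :=
    (IsLocalization.atOne (MvPolynomial (Fin n) R ⧸ P.ker)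
      (Localization.Away (1 : MvPolynomial (Fin n) R ⧸ P.ker))).symm.toRingEquiv
  haveI := hproj1
  haveI hprojS₀ : Module.Projective (MvPolynomial (Fin n) R ⧸ P.ker) P.ker.Cotangent :=
    projective_of_semilinear ε₀ t₀.toAddEquiv (fun r x ↦ by
      have hr : r = algebraMap (MvPolynomial (Fin n) R ⧸ P.ker) _ (ε₀ r) :=
        ((IsLocalization.atOne (MvPolynomial (Fin n) R ⧸ P.ker)
          (Localization.Away (1 : MvPolynomial (Fin n) R ⧸ P.ker))).apply_symm_apply r).symm
      conv_lhs => rw [hr, algebraMap_smul]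
      exact map_smul t₀ (ε₀ r) x)
  let t₁ : P.ker.Cotangent ≃+ P.toExtension.Cotangent :=
    P.toExtension.cotangentEquivCotangentKer.symm.toAddEquiv
  exact projective_of_semilinear ε₁ t₁ (fun r x ↦ by
    obtain ⟨p, rfl⟩ := Ideal.Quotient.mk_surjective r
    rw [hε₁]
    have h1 : (Ideal.Quotient.mk P.ker p) • x = p • x :=
      algebraMap_smul (MvPolynomial (Fin n) R ⧸ P.ker) p x
    rw [h1]
    have key : ∀ (p : P.toExtension.Ring) (x : P.toExtension.ker.Cotangent),
        P.toExtension.cotangentEquivCotangentKer.symm (p • x) =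
          algebraMap P.toExtension.Ring A p • P.toExtension.cotangentEquivCotangentKer.symm x :=
      fun p x ↦ (map_smul P.toExtension.cotangentEquivCotangentKer.symm p x).trans
        (algebraMap_smul A p _).symm
    exact key p x)

end proj


section bound

variable {R A : Type u} [CommRing R] [CommRing A] [Algebra R A]

set_option maxHeartbeats 3200000 in
set_option synthInstance.maxHeartbeats 400000 in
/-- All local fibre dimensions of `SymC e` over `R` are at most the number of variables of the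
presentation of `A`, when `e` cuts out the conormal module. -/
theorem tfd_symC_le (h : Synt.IsSyntomic R A) {n : ℕ}
    (α : MvPolynomial (Fin n) R →ₐ[R] A) (hα : Function.Surjective α)
    [Module.Finite A (gensOf α hα).toExtension.Cotangent]
    [Module.Projective A (gensOf α hα).toExtension.Cotangent]
    {m : ℕ} (e : Fin m → Fin m → A)
    (u : Fin m → (gensOf α hα).toExtension.Cotangent)
    (s : (gensOf α hα).toExtension.Cotangent →ₗ[A] (Fin m → A))
    (hs : ∀ k i, s (u k) i = e i k)
    (QC : PrimeSpectrum (SymC e)) :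
    tfd (PrimeSpectrum.comap (algebraMap R (SymC e))) QC ≤ ((n : ℕ) : WithBot ℕ∞) := by
  classical
  haveI : Algebra.FinitePresentation R A := h.2.1
  haveI : Algebra.FiniteType R A := inferInstance
  obtain ⟨q, hq⟩ : ∃ q : Ideal A, q = QC.asIdeal.comap (algebraMap A (SymC e)) := ⟨_, rfl⟩
  haveI hqp : q.IsPrime := by rw [hq]; infer_instance
  -- the chart
  obtain ⟨g₁, hg₁, n', c', F', hrel, ⟨e₁⟩⟩ := exists_relGCI_of_isSyntomic h ⟨q, hqp⟩
  have hmem : (⟨q, hqp⟩ : PrimeSpectrum A) ∈
      (PrimeSpectrum.basicOpen g₁ : Set (PrimeSpectrum A)) := hg₁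
  rw [← PrimeSpectrum.localization_away_comap_range (Localization.Away g₁) g₁] at hmem
  obtain ⟨q₁, hq₁⟩ := hmem
  have htfd : tfd (PrimeSpectrum.comap (algebraMap R A)) ⟨q, hqp⟩ =
      ((n' - c' : ℕ) : WithBot ℕ∞) := by
    rw [← hq₁, ← tfd_eq_of_square (PrimeSpectrum.comap (algebraMap R A))
      (PrimeSpectrum.comap (algebraMap R (Localization.Away g₁)))
      (PrimeSpectrum.comap (algebraMap A (Localization.Away g₁))) id
      (PrimeSpectrum.localization_away_isOpenEmbedding (Localization.Away g₁) g₁)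
      Function.injective_id (fun a' => by
        simp only [id]
        rw [IsScalarTower.algebraMap_eq R A (Localization.Away g₁),
          PrimeSpectrum.comap_comp_apply]) q₁,
      Groth.Agent.S9176.tfd_algEquiv e₁.symm q₁]
    exact tfd_eq_of_isRelGCI R n' c' F' hrel _
  have hcn : c' ≤ n' := (tfd_le_of_isRelGCI R n' c' F' hrel
    (PrimeSpectrum.comap (e₁.symm : Synt.RelGCIRing R n' c' F' →+* Localization.Away g₁) q₁)).1
  -- the rank inequality
  let β : MvPolynomial (Fin n') R →ₐ[R] Localization.Away g₁ :=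
    (e₁.symm : Synt.RelGCIRing R n' c' F' →ₐ[R] Localization.Away g₁).comp
      (Ideal.Quotient.mkₐ R (Ideal.span (Set.range F')))
  have hβ : Function.Surjective β :=
    e₁.symm.surjective.comp (Ideal.Quotient.mkₐ_surjective R _)
  obtain ⟨Φ⟩ := Groth.Agent.H13.Conormal.main R A g₁ n n' α hα β hβ
  let Eβ := Algebra.Extension.ofSurjective β hβ
  have hkerβ : Ideal.span (Set.range F') = Eβ.ker := by
    ext x
    show x ∈ _ ↔ β x = 0
    simp only [β, AlgHom.comp_apply, AlgEquiv.coe_toAlgHom, EmbeddingLike.map_eq_zero_iff,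
      Ideal.Quotient.mkₐ_eq_mk, Ideal.Quotient.eq_zero_iff_mem]
  have hu := Algebra.Extension.Cotangent.span_eq_top_of_span_eq_ker (P := Eβ) F' hkerβ
  have hfr := finrank_add_le q₁.asIdeal.ResidueField Φ _ hu
  let Eα := Algebra.Extension.ofSurjective α hα
  let eα : Eα.Cotangent ≃ₗ[A] (gensOf α hα).toExtension.Cotangent := cotEquivGens α hα
  haveI : Module.Finite A Eα.Cotangent := Module.Finite.equiv eα.symm
  haveI : Module.Projective A Eα.Cotangent := Module.Projective.of_equiv' eα.symm
  have hrank : Module.finrank q₁.asIdeal.ResidueField (q₁.asIdeal.ResidueField ⊗[Localization.Away g₁]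
      LocalizedModule (Submonoid.powers g₁) Eα.Cotangent) =
      Module.rankAtStalk (gensOf α hα).toExtension.Cotangent ⟨q, hqp⟩ := by
    rw [← Module.rankAtStalk_eq_of_equiv eα, ← hq₁]
    have h1 := Module.rankAtStalk_eq
      (M := LocalizedModule (Submonoid.powers g₁) Eα.Cotangent) q₁
    have h2 := Module.rankAtStalk_isBaseChange
      (IsLocalizedModule.isBaseChange (Submonoid.powers g₁) (Localization.Away g₁)
        (LocalizedModule.mkLinearMap (Submonoid.powers g₁) Eα.Cotangent)) q₁
    rw [← h2, h1]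
  rw [hrank] at hfr
  -- the quasi-finite chart of `A`
  obtain ⟨p, hp⟩ : ∃ p : Ideal R, p = q.under R := ⟨_, rfl⟩
  haveI : p.IsPrime := by rw [hp]; infer_instance
  haveI : q.LiesOver p := ⟨hp⟩
  obtain ⟨QA, hQA⟩ := exists_fiber_prime p q
  have hdim : FlatMor.localDim (PrimeSpectrum (p.Fiber A)) QA =
      ((n' - c' : ℕ) : WithBot ℕ∞) := by
    rw [localDim_fiber_eq_tfd p ⟨q, hqp⟩ hp.symm QA hQA]
    exact htfd
  obtain ⟨g₂, hg₂, φ₀, -, hφ₀⟩ := Groth.Agent.S9175.result R A p q QA hQA (n' - c') hdim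
  -- local generators of the conormal module
  obtain ⟨h', hh', k, hk⟩ :=
    exists_local_generators (K := (gensOf α hα).toExtension.Cotangent) q
  let ν : (gensOf α hα).toExtension.Cotangent →ₗ[A] SymC e :=
    (Fintype.linearCombination A (fun i : Fin m ↦ Ideal.Quotient.mk (J e) (X i))) ∘ₗ s
  have hsm : ∀ (a : A) (c : SymC e), a • c = algebraMap A (SymC e) a * c :=
    fun a c ↦ Algebra.smul_def a c
  have hνu : ∀ j, ν (u j) = Ideal.Quotient.mk (J e) (X j) := by
    intro j
    simp only [ν, LinearMap.comp_apply, Fintype.linearCombination_apply, hs]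
    have h0 : Ideal.Quotient.mk (J e) (L e j) = 0 :=
      Ideal.Quotient.eq_zero_iff_mem.mpr (L_mem e j)
    rw [L, map_sub, sub_eq_zero] at h0
    rw [h0, map_sum]
    refine Finset.sum_congr rfl fun i _ ↦ ?_
    rw [map_mul, hsm]
    rfl
  have hw : ∀ j, ∃ (N : ℕ) (b : Fin (Module.rankAtStalk (gensOf α hα).toExtension.Cotangent
      ⟨q, inferInstance⟩) → A),
      algebraMap A (SymC e) (h' ^ N) * Ideal.Quotient.mk (J e) (X j) =
        ∑ a, algebraMap A (SymC e) (b a) * ν (k a) := by
    intro j
    obtain ⟨N, hN⟩ := hk (u j)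
    obtain ⟨b, hb⟩ := (Submodule.mem_span_range_iff_exists_fun A).mp hN
    refine ⟨N, b, ?_⟩
    have h3 := congrArg ν hb
    rw [map_sum, map_smul, hνu] at h3
    simp only [map_smul, hsm] at h3
    exact h3.symm
  obtain ⟨ψ, hψ⟩ := exists_quasiFinite e g₂ h' φ₀ hφ₀ (fun a ↦ ν (k a)) hw
  -- localise `SymC e`
  have hs_notin : algebraMap A (SymC e) (g₂ * h') ∉ QC.asIdeal := by
    intro hmem
    have h4 : g₂ * h' ∈ q := by rw [hq]; exact hmem
    rcases hqp.mem_or_mem h4 with h5 | h5
    · exact hg₂ h5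
    · exact hh' h5
  have hmemC : QC ∈ (PrimeSpectrum.basicOpen (algebraMap A (SymC e) (g₂ * h')) :
      Set (PrimeSpectrum (SymC e))) := hs_notin
  rw [← PrimeSpectrum.localization_away_comap_range
    (Localization.Away (algebraMap A (SymC e) (g₂ * h')))
    (algebraMap A (SymC e) (g₂ * h'))] at hmemC
  obtain ⟨Q', hQ'⟩ := hmemC
  rw [← hQ', ← tfd_eq_of_square (PrimeSpectrum.comap (algebraMap R (SymC e)))
    (PrimeSpectrum.comap (algebraMap R (Localization.Away (algebraMap A (SymC e) (g₂ * h')))))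
    (PrimeSpectrum.comap (algebraMap (SymC e)
      (Localization.Away (algebraMap A (SymC e) (g₂ * h'))))) id
    (PrimeSpectrum.localization_away_isOpenEmbedding
      (Localization.Away (algebraMap A (SymC e) (g₂ * h'))) (algebraMap A (SymC e) (g₂ * h')))
    Function.injective_id (fun a' => by
      simp only [id]
      rw [IsScalarTower.algebraMap_eq R (SymC e)
        (Localization.Away (algebraMap A (SymC e) (g₂ * h'))),
        PrimeSpectrum.comap_comp_apply]) Q']
  refine (tfd_le_of_quasiFinite _ ψ hψ Q').trans ?_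
  have hfinal : Module.rankAtStalk (gensOf α hα).toExtension.Cotangent ⟨q, inferInstance⟩ +
      (n' - c') ≤ n := by
    have h6 : Module.rankAtStalk (gensOf α hα).toExtension.Cotangent ⟨q, inferInstance⟩ =
      Module.rankAtStalk (gensOf α hα).toExtension.Cotangent ⟨q, hqp⟩ := rfl
    omega
  exact_mod_cast hfinal

end bound

end Groth.Agent.H13.SymMain
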