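import Groth.Agent.H13.SymMain
import Groth.Agent.S9172

/-!
# Lifting syntomic algebras along a surjection, part 1 (helper13)

A syntomic `R ⧸ I`-algebra `A₀` has `SymC e₀ = Sym_{A₀}(P₀)` a relative global complete intersection
over `R ⧸ I`; this lifts to a flat finitely presented `R`-algebra `C` with `C / I C = SymC e₀`.
-/

set_option autoImplicit false
set_option linter.style.haveILetI false

open TensorProduct MvPolynomial

namespace Groth.Agent.H13.SyntLift

universe u

open Groth.Agent.H13.SymRetract Groth.Agent.H13.SymQF Groth.Agent.H13.Conormal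
  Groth.Agent.H13.SymMain
open Groth.Agent.H9.FibDim Groth.Agent.H66.RelGCI Groth.Agent.H66.RelCI

/-- The internals of S6828: the symmetric algebra of the conormal module of a syntomic algebra is a
relative global complete intersection. -/
theorem exists_symC_relGCI {R A : Type u} [CommRing R] [CommRing A] [Algebra R A]
    (h : Synt.IsSyntomic R A) :
    ∃ (m : ℕ) (e : Fin m → Fin m → A) (_ : ∀ i k, ∑ j, e i j * e j k = e i k) (N c : ℕ)
      (F : Fin c → MvPolynomial (Fin N) R), Synt.IsRelGCI R N c F ∧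
      Nonempty (SymC e ≃ₐ[R] Synt.RelGCIRing R N c F) := by
  classical
  haveI : Algebra.FinitePresentation R A := h.2.1
  haveI : Algebra.FiniteType R A := inferInstance
  obtain ⟨n, α, hα⟩ := Algebra.FiniteType.iff_quotient_mvPolynomial''.mp ‹Algebra.FiniteType R A›
  obtain ⟨hfin, hproj⟩ := projective_cotangent h (gensOf α hα)
  haveI := hfin
  haveI := hproj
  obtain ⟨m, e, u, s, he, hspan, hue, hs⟩ :=
    exists_idempotent (A := A) (K := (gensOf α hα).toExtension.Cotangent)
  obtain ⟨F, ⟨Θ⟩⟩ := exists_relGCI_presentation (gensOf α hα) e he u hspan hue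
  have hrel : Synt.IsRelGCI R (m + n + 1) (m + 1) F := by
    apply isRelGCI_of_tfd_le
    intro Q
    refine ⟨by omega, ?_⟩
    rw [Groth.Agent.S9176.tfd_algEquiv Θ Q]
    have h1 := tfd_symC_le h α hα e u s hs
      (PrimeSpectrum.comap (Θ : SymC e →+* Synt.RelGCIRing R (m + n + 1) (m + 1) F) Q)
    have h2 : m + n + 1 - (m + 1) = n := by omega
    rw [h2]
    exact h1
  exact ⟨m, e, he, m + n + 1, m + 1, F, hrel, ⟨Θ⟩⟩

/-- The kernel of the localisation of a quotient map `S → S ⧸ I S` at an element congruent to `1`. -/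
theorem ker_lift_away {R S : Type u} [CommRing R] [CommRing S] [Algebra R S] (I : Ideal R) (g : S)
    (hg : Ideal.Quotient.mk (I.map (algebraMap R S)) g = 1) :
    ∃ ψ : Localization.Away g →ₐ[R] S ⧸ I.map (algebraMap R S), Function.Surjective ψ ∧
      RingHom.ker ψ.toRingHom = I.map (algebraMap R (Localization.Away g)) := by
  have hunits : ∀ y : Submonoid.powers g,
      IsUnit ((Ideal.Quotient.mkₐ R (I.map (algebraMap R S))) y) := by
    rintro ⟨_, k, rfl⟩
    show IsUnit (Ideal.Quotient.mk _ (g ^ k))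
    rw [map_pow, hg, one_pow]
    exact isUnit_one
  let ψ : Localization.Away g →ₐ[R] S ⧸ I.map (algebraMap R S) :=
    IsLocalization.liftAlgHom (M := Submonoid.powers g)
      (f := Ideal.Quotient.mkₐ R (I.map (algebraMap R S))) hunits
  have hψ : ∀ y : S, ψ (algebraMap S _ y) = Ideal.Quotient.mk _ y := fun y =>
    IsLocalization.lift_eq _ _
  refine ⟨ψ, ?_, ?_⟩
  · intro y
    obtain ⟨x, rfl⟩ := Ideal.Quotient.mk_surjective y
    exact ⟨algebraMap S _ x, hψ x⟩
  · have hmapI : (I.map (algebraMap R S)).map (algebraMap S (Localization.Away g)) =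
        I.map (algebraMap R (Localization.Away g)) := by
      rw [Ideal.map_map, ← IsScalarTower.algebraMap_eq]
    refine le_antisymm ?_ ?_
    · intro z hz
      rw [RingHom.mem_ker] at hz
      obtain ⟨y, s, rfl⟩ := IsLocalization.exists_mk'_eq (Submonoid.powers g) z
      rw [← hmapI, IsLocalization.mk'_mem_map_algebraMap_iff (Submonoid.powers g)]
      refine ⟨1, one_mem _, ?_⟩
      rw [one_mul]
      have h1 := IsLocalization.mk'_spec (Localization.Away g) y s
      have h2 := congrArg ψ h1
      rw [map_mul] at h2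
      have hz' : ψ (IsLocalization.mk' (Localization.Away g) y s) = 0 := hz
      rw [hz', zero_mul, hψ] at h2
      exact Ideal.Quotient.eq_zero_iff_mem.mp h2.symm
    · rw [Ideal.map_le_iff_le_comap]
      intro r hr
      rw [Ideal.mem_comap, RingHom.mem_ker]
      show ψ (algebraMap R _ r) = 0
      rw [AlgHom.commutes, IsScalarTower.algebraMap_apply R S (S ⧸ I.map (algebraMap R S)),
        Ideal.Quotient.algebraMap_eq, Ideal.Quotient.eq_zero_iff_mem]
      exact Ideal.mem_map_of_mem _ hr

/-- Transport of "surjective with kernel `I C`" along an `R`-algebra isomorphism on the source. -/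
theorem ker_comp_equiv {R C C' T : Type u} [CommRing R] [CommRing C] [CommRing C'] [CommRing T]
    [Algebra R C] [Algebra R C'] [Algebra R T] (I : Ideal R) (ε : C' ≃ₐ[R] C) (ψ : C →ₐ[R] T)
    (hker : RingHom.ker ψ.toRingHom = I.map (algebraMap R C)) :
    RingHom.ker (ψ.comp ε.toAlgHom).toRingHom = I.map (algebraMap R C') := by
  refine le_antisymm ?_ ?_
  · intro x hx
    rw [RingHom.mem_ker] at hx
    have h1 : ε x ∈ I.map (algebraMap R C) := by
      rw [← hker, RingHom.mem_ker]
      exact hx
    have h2 : ε.symm (ε x) ∈ (I.map (algebraMap R C)).map (ε.symm : C →+* C') :=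
      Ideal.mem_map_of_mem _ h1
    rw [AlgEquiv.symm_apply_apply, Ideal.map_map] at h2
    have h3 : ((ε.symm : C →+* C').comp (algebraMap R C)) = algebraMap R C' := by
      ext r
      exact ε.symm.commutes r
    rw [h3] at h2
    exact h2
  · rw [Ideal.map_le_iff_le_comap]
    intro r hr
    rw [Ideal.mem_comap, RingHom.mem_ker]
    show ψ (ε (algebraMap R C' r)) = 0
    rw [AlgEquiv.commutes]
    have : algebraMap R C r ∈ RingHom.ker ψ.toRingHom := by
      rw [hker]
      exact Ideal.mem_map_of_mem _ hr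
    exact this

/-- **Lifting `Sym(P₀)`**: a flat finitely presented `R`-algebra `C` with `C / I C = SymC e₀`. -/
theorem exists_flat_lift_symC {R A₀ : Type u} [CommRing R] (I : Ideal R) [CommRing A₀]
    [Algebra (R ⧸ I) A₀] [Algebra R A₀] [IsScalarTower R (R ⧸ I) A₀]
    (h : Synt.IsSyntomic (R ⧸ I) A₀) :
    ∃ (m : ℕ) (e₀ : Fin m → Fin m → A₀) (_ : ∀ i k, ∑ j, e₀ i j * e₀ j k = e₀ i k)
      (C : Type u) (_ : CommRing C) (_ : Algebra R C) (_ : Module.Flat R C)
      (_ : Algebra.FinitePresentation R C) (γ : C →ₐ[R] SymC e₀),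
      Function.Surjective γ ∧ RingHom.ker γ.toRingHom = I.map (algebraMap R C) := by
  classical
  obtain ⟨m, e₀, he₀, N, c, Fb, hrel, ⟨Θ₀⟩⟩ := exists_symC_relGCI h
  have hsurj : Function.Surjective (MvPolynomial.map (σ := Fin N) (Ideal.Quotient.mk I)) :=
    MvPolynomial.map_surjective _ Ideal.Quotient.mk_surjective
  choose F hF using fun i => hsurj (Fb i)
  have hFb : (fun i => MvPolynomial.map (Ideal.Quotient.mk I) (F i)) = Fb := funext hF
  subst hFb
  obtain ⟨hh, hg1, hrel', ⟨eloc⟩⟩ := Groth.Agent.S9172.result R N c F I hrel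
  obtain ⟨ψ, hψsurj, hψker⟩ := ker_lift_away I (Ideal.Quotient.mk (Ideal.span (Set.range F)) hh) hg1
  obtain ⟨e₁⟩ := nonempty_relGCIRing_quot_equiv R I N c F
  haveI : Module.Flat R (Synt.RelGCIRing R (N + 1) (c + 1)
      (Fin.snoc (fun i => rename Fin.castSucc (F i))
        (rename Fin.castSucc hh * X (Fin.last N) - 1))) := flat_of_isRelGCI R _ _ _ hrel'
  haveI : Algebra.FinitePresentation R (Synt.RelGCIRing R (N + 1) (c + 1)
      (Fin.snoc (fun i => rename Fin.castSucc (F i))
        (rename Fin.castSucc hh * X (Fin.last N) - 1))) :=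
    Algebra.FinitePresentation.quotient (Submodule.fg_span (Set.finite_range _))
  let Θ : SymC e₀ ≃ₐ[R] Synt.RelGCIRing (R ⧸ I) N c
      (fun i => MvPolynomial.map (Ideal.Quotient.mk I) (F i)) := Θ₀.restrictScalars R
  let γ₁ : (Synt.RelGCIRing R N c F ⧸ I.map (algebraMap R (Synt.RelGCIRing R N c F))) ≃ₐ[R]
      SymC e₀ := e₁.symm.trans Θ.symm
  refine ⟨m, e₀, he₀, _, inferInstance, inferInstance, inferInstance, inferInstance,
    (γ₁.toAlgHom.comp ψ).comp eloc.symm.toAlgHom, ?_, ?_⟩
  · exact (γ₁.surjective.comp hψsurj).comp eloc.symm.surjective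
  · apply ker_comp_equiv I eloc.symm (γ₁.toAlgHom.comp ψ)
    rw [← hψker]
    ext x
    simp only [RingHom.mem_ker]
    show γ₁ (ψ x) = 0 ↔ ψ x = 0
    exact γ₁.map_eq_zero_iff

end Groth.Agent.H13.SyntLift
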