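import Groth.Agent.H13.SyntLift1

/-!
# Lifting syntomic algebras along a surjection, part 2: fibre regularity (helper13)
-/

set_option autoImplicit false
set_option linter.style.haveILetI false

open MvPolynomial

namespace Groth.Agent.H13.SyntLift

universe u

/-- `X k` is a nonzerodivisor modulo the earlier variables. -/
theorem mem_of_X_mul_mem {B : Type u} [CommRing B] {m : ℕ} (k : Fin m)
    (y : MvPolynomial (Fin m) B)
    (h : X k * y ∈ Ideal.span (X '' {j : Fin m | j < k} : Set (MvPolynomial (Fin m) B))) :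
    y ∈ Ideal.span (X '' {j : Fin m | j < k} : Set (MvPolynomial (Fin m) B)) := by
  classical
  rw [mem_ideal_span_X_image] at h ⊢
  intro μ hμ
  have h1 : Finsupp.single k 1 + μ ∈ (X k * y).support := by
    rw [mem_support_iff, coeff_X_mul]
    exact mem_support_iff.mp hμ
  obtain ⟨i, hi, hne⟩ := h _ h1
  refine ⟨i, hi, ?_⟩
  have hik : i ≠ k := ne_of_lt hi
  rw [Finsupp.add_apply, Finsupp.single_apply, if_neg (Ne.symm hik), zero_add] at hne
  exact hne

/-- The same modulo an ideal of the coefficient ring. -/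
theorem mem_of_X_mul_mem_sup {B : Type u} [CommRing B] {m : ℕ} (𝔭 : Ideal B) (k : Fin m)
    (y : MvPolynomial (Fin m) B)
    (h : X k * y ∈ 𝔭.map (C : B →+* MvPolynomial (Fin m) B) ⊔
      Ideal.span (X '' {j : Fin m | j < k})) :
    y ∈ 𝔭.map (C : B →+* MvPolynomial (Fin m) B) ⊔ Ideal.span (X '' {j : Fin m | j < k}) := by
  classical
  set φ : MvPolynomial (Fin m) B →+* MvPolynomial (Fin m) (B ⧸ 𝔭) :=
    MvPolynomial.map (Ideal.Quotient.mk 𝔭) with hφ
  have hkerφ : RingHom.ker φ = 𝔭.map (C : B →+* MvPolynomial (Fin m) B) := by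
    rw [hφ, MvPolynomial.ker_map, Ideal.mk_ker]
  have hφsurj : Function.Surjective φ :=
    MvPolynomial.map_surjective _ Ideal.Quotient.mk_surjective
  have hmapspan : Ideal.map φ (Ideal.span (X '' {j : Fin m | j < k})) =
      Ideal.span (X '' {j : Fin m | j < k}) := by
    rw [Ideal.map_span, Set.image_image]
    congr 1
    ext z
    simp only [Set.mem_image, hφ, map_X]
  have h1 : φ (X k * y) ∈ Ideal.span (X '' {j : Fin m | j < k} :
      Set (MvPolynomial (Fin m) (B ⧸ 𝔭))) := by
    obtain ⟨a, ha, b, hb, hab⟩ := Submodule.mem_sup.mp h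
    rw [← hab, map_add]
    have ha0 : φ a = 0 := by
      rw [← RingHom.mem_ker, hkerφ]
      exact ha
    rw [ha0, zero_add, ← hmapspan]
    exact Ideal.mem_map_of_mem _ hb
  rw [map_mul] at h1
  have hXk : φ (X k) = X k := by rw [hφ, map_X]
  rw [hXk] at h1
  have h2 := mem_of_X_mul_mem k (φ y) h1
  rw [← hmapspan, Ideal.mem_map_iff_of_surjective φ hφsurj] at h2
  obtain ⟨b', hb', hb'y⟩ := h2
  have h3 : y - b' ∈ 𝔭.map (C : B →+* MvPolynomial (Fin m) B) := by
    rw [← hkerφ, RingHom.mem_ker, map_sub, hb'y, sub_self]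
  have : y = (y - b') + b' := by ring
  rw [this]
  exact Submodule.add_mem_sup h3 hb'

/-- **Fibre regularity** (FL1). -/
theorem fibre_regular {R D B₀ : Type u} [CommRing R] [CommRing D] [Algebra R D] [CommRing B₀]
    [Algebra R B₀] (I : Ideal R) {m : ℕ}
    (Φ : D →ₐ[R] MvPolynomial (Fin m) B₀) (hΦ : Function.Surjective Φ)
    (hker : RingHom.ker Φ.toRingHom = I.map (algebraMap R D)) (f : Fin m → D)
    (hf : ∀ k, Φ (f k) = X k)
    (p : Ideal R) (hp : I ≤ p) (k : Fin m) (x : D)
    (hx : f k * x ∈ p.map (algebraMap R D) ⊔ Ideal.span (f '' {j | j < k})) :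
    x ∈ p.map (algebraMap R D) ⊔ Ideal.span (f '' {j | j < k}) := by
  classical
  have hmap1 : Ideal.map Φ.toRingHom (p.map (algebraMap R D)) =
      (p.map (algebraMap R B₀)).map (C : B₀ →+* MvPolynomial (Fin m) B₀) := by
    rw [Ideal.map_map, Ideal.map_map]
    congr 1
    refine RingHom.ext fun r => ?_
    show Φ (algebraMap R D r) = C (algebraMap R B₀ r)
    rw [AlgHom.commutes, IsScalarTower.algebraMap_apply R B₀ (MvPolynomial (Fin m) B₀),
      MvPolynomial.algebraMap_eq]
  have hmap2 : Ideal.map Φ.toRingHom (Ideal.span (f '' {j | j < k})) =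
      Ideal.span (X '' {j : Fin m | j < k}) := by
    rw [Ideal.map_span, Set.image_image]
    congr 1
    ext z
    simp only [Set.mem_image]
    constructor
    · rintro ⟨j, hj, rfl⟩
      exact ⟨j, hj, (hf j).symm⟩
    · rintro ⟨j, hj, rfl⟩
      exact ⟨j, hj, hf j⟩
  have hmap : Ideal.map Φ.toRingHom (p.map (algebraMap R D) ⊔ Ideal.span (f '' {j | j < k})) =
      (p.map (algebraMap R B₀)).map (C : B₀ →+* MvPolynomial (Fin m) B₀) ⊔
        Ideal.span (X '' {j : Fin m | j < k}) := by
    rw [Ideal.map_sup, hmap1, hmap2]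
  have h1 : Φ.toRingHom (f k * x) ∈ Ideal.map Φ.toRingHom
      (p.map (algebraMap R D) ⊔ Ideal.span (f '' {j | j < k})) := Ideal.mem_map_of_mem _ hx
  rw [hmap, map_mul] at h1
  have hfk : Φ.toRingHom (f k) = X k := hf k
  rw [hfk] at h1
  have h2 := mem_of_X_mul_mem_sup _ k _ h1
  rw [← hmap, Ideal.mem_map_iff_of_surjective Φ.toRingHom hΦ] at h2
  obtain ⟨x', hx', hx'x⟩ := h2
  have h3 : x - x' ∈ p.map (algebraMap R D) := by
    have : x - x' ∈ RingHom.ker Φ.toRingHom := by
      rw [RingHom.mem_ker, map_sub, hx'x, sub_self]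
    rw [hker] at this
    exact Ideal.map_mono hp this
  have : x = (x - x') + x' := by ring
  rw [this]
  exact Ideal.add_mem _ (Ideal.mem_sup_left h3) hx'

/-- The localisation at an element mapping to `1` of a surjection with kernel `I S`. -/
theorem ker_lift_away' {R S T : Type u} [CommRing R] [CommRing S] [Algebra R S] [CommRing T]
    [Algebra R T] (I : Ideal R) (π : S →ₐ[R] T) (hπ : Function.Surjective π)
    (hker : RingHom.ker π.toRingHom = I.map (algebraMap R S)) (g : S) (hg : π g = 1) :
    ∃ ψ : Localization.Away g →ₐ[R] T, Function.Surjective ψ ∧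
      RingHom.ker ψ.toRingHom = I.map (algebraMap R (Localization.Away g)) := by
  have hunits : ∀ y : Submonoid.powers g, IsUnit (π y) := by
    rintro ⟨_, k, rfl⟩
    show IsUnit (π (g ^ k))
    rw [map_pow, hg, one_pow]
    exact isUnit_one
  let ψ : Localization.Away g →ₐ[R] T :=
    IsLocalization.liftAlgHom (M := Submonoid.powers g) (f := π) hunits
  have hψ : ∀ y : S, ψ (algebraMap S _ y) = π y := fun y => IsLocalization.lift_eq _ _
  refine ⟨ψ, ?_, ?_⟩
  · intro y
    obtain ⟨x, rfl⟩ := hπ y
    exact ⟨algebraMap S _ x, hψ x⟩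
  · have hmapI : (I.map (algebraMap R S)).map (algebraMap S (Localization.Away g)) =
        I.map (algebraMap R (Localization.Away g)) := by
      rw [Ideal.map_map, ← IsScalarTower.algebraMap_eq]
    refine le_antisymm ?_ ?_
    · intro z hz
      rw [RingHom.mem_ker] at hz
      obtain ⟨y, s, rfl⟩ := IsLocalization.exists_mk'_eq (Submonoid.powers g) z
      rw [← hmapI, IsLocalization.mk'_mem_map_algebraMap_iff (Submonoid.powers g)]
      refine ⟨1, one_mem _, ?_⟩
      rw [one_mul]
      have h1 := IsLocalization.mk'_spec (Localization.Away g) y s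
      have h2 := congrArg ψ h1
      rw [map_mul] at h2
      have hz' : ψ (IsLocalization.mk' (Localization.Away g) y s) = 0 := hz
      rw [hz', zero_mul, hψ] at h2
      rw [← hker, RingHom.mem_ker]
      exact h2.symm
    · rw [Ideal.map_le_iff_le_comap]
      intro r hr
      rw [Ideal.mem_comap, RingHom.mem_ker]
      show ψ (algebraMap R _ r) = 0
      rw [AlgHom.commutes, ← π.commutes r]
      have : algebraMap R S r ∈ RingHom.ker π.toRingHom := by
        rw [hker]
        exact Ideal.mem_map_of_mem _ hr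
      exact this

end Groth.Agent.H13.SyntLift
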