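import Groth.Agent.H13.SyntLift2
import Groth.Agent.H20.SymCompl
import Groth.Agent.H3.SL6
import Groth.Agent.H13.FibreRegFlat
import Groth.Agent.H20.SyntCover
import Groth.Agent.H66.SyntAwayFlat

/-!
# Lifting syntomic algebras along a surjection, part 3: assembly (helper13)

Stacks 07M8 (syntomic case).
-/

set_option autoImplicit false
set_option linter.style.haveILetI false

open MvPolynomial

namespace Groth.Agent.H13.SyntLift

universe u

open Groth.Agent.H13.SymRetract

/-- A flat finitely presented `R`-algebra lifting a polynomial ring over `A₀`. -/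
theorem exists_flat_lift_poly {R A₀ : Type u} [CommRing R] (I : Ideal R) [CommRing A₀]
    [Algebra (R ⧸ I) A₀] [Algebra R A₀] [IsScalarTower R (R ⧸ I) A₀]
    (h : Synt.IsSyntomic (R ⧸ I) A₀) :
    ∃ (m : ℕ) (D : Type u) (_ : CommRing D) (_ : Algebra R D) (_ : Module.Flat R D)
      (_ : Algebra.FinitePresentation R D) (Φ : D →ₐ[R] MvPolynomial (Fin m) A₀),
      Function.Surjective Φ ∧ RingHom.ker Φ.toRingHom = I.map (algebraMap R D) := by
  classical
  obtain ⟨m, e₀, he₀, C, _, _, hCflat, hCfp, γ, hγ, hγker⟩ := exists_flat_lift_symC I h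
  -- the complementary idempotent over `C₀ = SymC e₀`
  obtain ⟨E, hEdef⟩ : ∃ E : Fin m → Fin m → SymC e₀,
      E = fun i k => algebraMap A₀ (SymC e₀) (e₀ i k) := ⟨_, rfl⟩
  have hE : ∀ i k, ∑ j, E i j * E j k = E i k := by
    intro i k
    rw [hEdef]
    simp only
    rw [← he₀ i k, map_sum]
    simp only [map_mul]
  have hEc : ∀ i k, ∑ j, ((if i = j then (1 : SymC e₀) else 0) - E i j) *
      ((if j = k then (1 : SymC e₀) else 0) - E j k) = (if i = k then (1 : SymC e₀) else 0) - E i k := by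
    intro i k
    have hM : (Matrix.of E) * (Matrix.of E) = Matrix.of E := by
      ext a b
      rw [Matrix.mul_apply]
      exact hE a b
    have h2 : (1 - Matrix.of E) * (1 - Matrix.of E) = 1 - Matrix.of E := by
      rw [sub_mul, one_mul, mul_sub, mul_one, hM, sub_self, sub_zero]
    have h3 := congrFun (congrFun h2 i) k
    simp only [Matrix.mul_apply, Matrix.sub_apply, Matrix.one_apply, Matrix.of_apply] at h3
    exact h3
  haveI hsm0 : Algebra.Smooth (SymC e₀)
      (SymC (fun i k => (if i = k then (1 : SymC e₀) else 0) - E i k)) := smooth _ hEc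
  obtain ⟨Φ₀, hΦ₀surj, hΦ₀ker, hΦ₀alg, -⟩ :=
    Groth.Agent.H20.SymCompl.exists_symC_compl_to_poly e₀ he₀ (RingHom.id (SymC e₀))
      Function.surjective_id E (fun i k => by rw [hEdef]; rfl)
  have hΦ₀inj : Function.Injective Φ₀ := by
    rw [RingHom.injective_iff_ker_eq_bot, hΦ₀ker]
    have : RingHom.ker (RingHom.id (SymC e₀)) = ⊥ :=
      (RingHom.injective_iff_ker_eq_bot _).mp Function.injective_id
    rw [this, Ideal.map_bot]
  -- the base `(C, I C)`
  obtain ⟨I', hI'⟩ : ∃ I' : Ideal C, I' = I.map (algebraMap R C) := ⟨_, rfl⟩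
  rw [← hI'] at hγker
  let ε' : (C ⧸ I') →+* SymC e₀ := Ideal.Quotient.lift I' γ.toRingHom (fun a ha => by
    rw [← RingHom.mem_ker, hγker]; exact ha)
  have hε'bij : Function.Bijective ε' := by
    constructor
    · apply RingHom.lift_injective_of_ker_le_ideal
      rw [hγker]
    · exact Ideal.Quotient.lift_surjective_of_surjective _ _ hγ
  letI aC : Algebra C (SymC e₀) := γ.toRingHom.toAlgebra
  letI aQ : Algebra (C ⧸ I') (SymC e₀) := ε'.toAlgebra
  haveI : IsScalarTower C (C ⧸ I') (SymC e₀) := IsScalarTower.of_algebraMap_eq (fun _ => rfl)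
  haveI : Algebra.Smooth (C ⧸ I') (C ⧸ I') := ⟨inferInstance, inferInstance⟩
  haveI : Algebra.Smooth (C ⧸ I') (SymC e₀) :=
    Algebra.Smooth.of_equiv (AlgEquiv.ofBijective (Algebra.ofId (C ⧸ I') (SymC e₀)) hε'bij)
  haveI : Algebra.Smooth (C ⧸ I')
      (SymC (fun i k => (if i = k then (1 : SymC e₀) else 0) - E i k)) :=
    Algebra.Smooth.comp (C ⧸ I') (SymC e₀) _
  obtain ⟨D, _, _, hDsm, Ψ, hΨsurj, hΨker⟩ := Groth.Agent.H3.SL.exists_smooth_lift (R := C)
    (A₀ := SymC (fun i k => (if i = k then (1 : SymC e₀) else 0) - E i k)) I'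
  letI aRD : Algebra R D := ((algebraMap C D).comp (algebraMap R C)).toAlgebra
  haveI : IsScalarTower R C D := IsScalarTower.of_algebraMap_eq (fun _ => rfl)
  haveI : Module.Flat C D := inferInstance
  haveI : Module.Flat R D := Module.Flat.trans R C D
  haveI : Algebra.FinitePresentation R D := Algebra.FinitePresentation.trans R C D
  have hcomm : ∀ r : R, Φ₀ (Ψ (algebraMap R D r)) = algebraMap R (MvPolynomial (Fin m) A₀) r := by
    intro r
    have h1 : algebraMap R D r = algebraMap C D (algebraMap R C r) := rfl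
    rw [h1, Ψ.commutes,
      IsScalarTower.algebraMap_apply C (SymC e₀)
        (SymC (fun i k => (if i = k then (1 : SymC e₀) else 0) - E i k)), hΦ₀alg]
    show sect e₀ he₀ (γ (algebraMap R C r)) = _
    rw [γ.commutes, IsScalarTower.algebraMap_apply R A₀ (SymC e₀), AlgHom.commutes,
      ← IsScalarTower.algebraMap_apply]
  let Φ : D →ₐ[R] MvPolynomial (Fin m) A₀ :=
    { Φ₀.comp Ψ.toRingHom with commutes' := hcomm }
  have hΦ : ∀ d, Φ d = Φ₀ (Ψ d) := fun d => rfl
  refine ⟨m, D, inferInstance, aRD, inferInstance, inferInstance, Φ, ?_, ?_⟩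
  · exact hΦ₀surj.comp hΨsurj
  · ext x
    rw [RingHom.mem_ker]
    show Φ x = 0 ↔ _
    rw [hΦ, ← map_zero Φ₀, hΦ₀inj.eq_iff, ← RingHom.mem_ker, hΨker, hI', Ideal.map_map,
      ← IsScalarTower.algebraMap_eq]

/-- **Lifting syntomic algebras** (Stacks 07M8). -/
theorem exists_syntomic_lift {R A₀ : Type u} [CommRing R] (I : Ideal R) [CommRing A₀]
    [Algebra (R ⧸ I) A₀] [Algebra R A₀] [IsScalarTower R (R ⧸ I) A₀]
    (h : Synt.IsSyntomic (R ⧸ I) A₀) :
    ∃ (A : Type u) (_ : CommRing A) (_ : Algebra R A), Synt.IsSyntomic R A ∧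
      ∃ Ψ : A →ₐ[R] A₀, Function.Surjective Ψ ∧
        RingHom.ker Ψ.toRingHom = I.map (algebraMap R A) := by
  classical
  obtain ⟨m, D, _, _, hDflat, hDfp, Φ, hΦsurj, hΦker⟩ := exists_flat_lift_poly I h
  choose f hf using fun k : Fin m => hΦsurj (X k)
  obtain ⟨𝔣, h𝔣⟩ : ∃ 𝔣 : Ideal D, 𝔣 = Ideal.span (Set.range f) := ⟨_, rfl⟩
  have h𝔣fg : 𝔣.FG := by rw [h𝔣]; exact Submodule.fg_span (Set.finite_range f)
  haveI : Algebra.FinitePresentation D (D ⧸ 𝔣) := Algebra.FinitePresentation.quotient h𝔣fg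
  haveI : Algebra.FinitePresentation R (D ⧸ 𝔣) := Algebra.FinitePresentation.trans R D (D ⧸ 𝔣)
  -- the augmentation
  let ev₀ : MvPolynomial (Fin m) A₀ →ₐ[R] A₀ :=
    (aeval (fun _ : Fin m => (0 : A₀)) : MvPolynomial (Fin m) A₀ →ₐ[A₀] A₀).restrictScalars R
  have hev₀X : ∀ k, ev₀ (X k) = 0 := fun k => by
    show aeval (fun _ : Fin m => (0 : A₀)) (X k) = 0
    rw [aeval_X]
  have hev₀C : ∀ a, ev₀ (C a) = a := fun a => by
    show aeval (fun _ : Fin m => (0 : A₀)) (C a) = a
    rw [aeval_C]; rfl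
  have hkill : ∀ a ∈ 𝔣, (ev₀.comp Φ) a = 0 := by
    intro a ha
    have hle : 𝔣 ≤ RingHom.ker (ev₀.comp Φ).toRingHom := by
      rw [h𝔣, Ideal.span_le]
      rintro _ ⟨k, rfl⟩
      show ev₀ (Φ (f k)) = 0
      rw [hf, hev₀X]
    exact hle ha
  let π : (D ⧸ 𝔣) →ₐ[R] A₀ := Ideal.Quotient.liftₐ 𝔣 (ev₀.comp Φ) hkill
  have hπmk : ∀ d, π (Ideal.Quotient.mk 𝔣 d) = ev₀ (Φ d) := fun d => rfl
  have hπsurj : Function.Surjective π := by
    intro a
    obtain ⟨d, hd⟩ := hΦsurj (C a)
    exact ⟨Ideal.Quotient.mk 𝔣 d, by rw [hπmk, hd, hev₀C]⟩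
  have hmap𝔣 : Ideal.map Φ.toRingHom 𝔣 = Ideal.span (X '' (Set.univ : Set (Fin m))) := by
    rw [h𝔣, Ideal.map_span, Set.image_univ]
    congr 1
    ext z
    simp only [Set.mem_image, Set.mem_range]
    constructor
    · rintro ⟨_, ⟨k, rfl⟩, rfl⟩
      exact ⟨k, (hf k).symm⟩
    · rintro ⟨k, rfl⟩
      exact ⟨f k, ⟨k, rfl⟩, hf k⟩
  have hπker : RingHom.ker π.toRingHom = I.map (algebraMap R (D ⧸ 𝔣)) := by
    refine le_antisymm ?_ ?_
    · intro x hx
      rw [RingHom.mem_ker] at hx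
      obtain ⟨d, rfl⟩ := Ideal.Quotient.mk_surjective x
      have hx' : ev₀ (Φ d) = 0 := hx
      have h1 : Φ.toRingHom d ∈ Ideal.map Φ.toRingHom 𝔣 := by
        rw [hmap𝔣, mem_ideal_span_X_image]
        intro μ hμ
        by_contra hcon
        push Not at hcon
        have hμ0 : μ = 0 := by
          ext i
          exact hcon i (Set.mem_univ i)
        rw [hμ0, mem_support_iff] at hμ
        apply hμ
        have : ev₀ (Φ d) = coeff 0 (Φ d) := by
          show aeval (fun _ : Fin m => (0 : A₀)) (Φ d) = _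
          rw [aeval_zero', constantCoeff_eq]
          rfl
        show coeff 0 (Φ d) = 0
        rw [← this, hx']
      rw [Ideal.mem_map_iff_of_surjective Φ.toRingHom hΦsurj] at h1
      obtain ⟨d', hd', hd'd⟩ := h1
      have h2 : d - d' ∈ I.map (algebraMap R D) := by
        rw [← hΦker, RingHom.mem_ker, map_sub, hd'd, sub_self]
      have h3 : Ideal.Quotient.mk 𝔣 d = Ideal.Quotient.mk 𝔣 (d - d') := by
        rw [map_sub, Ideal.Quotient.eq_zero_iff_mem.mpr hd', sub_zero]
      rw [h3]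
      have h4 := Ideal.mem_map_of_mem (Ideal.Quotient.mk 𝔣) h2
      rw [Ideal.map_map] at h4
      exact h4
    · rw [Ideal.map_le_iff_le_comap]
      intro r hr
      rw [Ideal.mem_comap, RingHom.mem_ker]
      show π (algebraMap R _ r) = 0
      rw [AlgHom.commutes, IsScalarTower.algebraMap_apply R (R ⧸ I) A₀,
        Ideal.Quotient.algebraMap_eq, Ideal.Quotient.eq_zero_iff_mem.mpr hr, map_zero]
  -- flatness near `V(I A)`
  subst h𝔣
  have hflat : ∀ (q : Ideal (D ⧸ Ideal.span (Set.range f))) [q.IsPrime],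
      I.map (algebraMap R (D ⧸ Ideal.span (Set.range f))) ≤ q →
      Module.Flat R (Localization.AtPrime q) := by
    intro q _ hq
    apply Groth.Agent.H13.FibreRegFlat.flat_atPrime_quot_of_fibre_regular f q
    intro k x hx
    exact fibre_regular I Φ hΦsurj hΦker f hf _ (Ideal.map_le_iff_le_comap.mp hq) k x hx
  -- syntomic near `V(I A)`
  obtain ⟨f₀, hf₀, hsyn⟩ := Groth.Agent.H20.SyntCover.exists_syntomic_away_of_forall (R := R)
    (I.map (algebraMap R (D ⧸ Ideal.span (Set.range f))))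
    (fun q _ hq => Groth.Agent.H66.SyntAwayFlat.exists_syntomic_away_of_flat I h π hπsurj hπker q hq
      (hflat q hq))
  have hπf₀ : π f₀ = 1 := by
    have : f₀ - 1 ∈ RingHom.ker π.toRingHom := by rw [hπker]; exact hf₀
    rw [RingHom.mem_ker, map_sub, map_one, sub_eq_zero] at this
    exact this
  obtain ⟨ψ, hψsurj, hψker⟩ := ker_lift_away' I π hπsurj hπker f₀ hπf₀
  exact ⟨Localization.Away f₀, inferInstance, inferInstance, hsyn, ψ, hψsurj, hψker⟩

end Groth.Agent.H13.SyntLift
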