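import Mathlib
import Groth.Prelude.Def_FlatCA
import Groth.Agent.H51.QCBC_ALG1

/-!
# (FGALG) for helper32's S10812 squad: membership in a submodule descends along a finite flat
covering family, for modules given with base changes (helper13)
-/

set_option autoImplicit false
universe u w
open CategoryTheory Limits TensorProduct AlgebraicGeometry

namespace Groth.Agent.H13.WAFin_FGALG

variable {A : Type u} [CommRing A] {n : ℕ} (B : Fin n → Type u) [∀ a, CommRing (B a)]
  [∀ a, Algebra A (B a)] [∀ a, Module.Flat A (B a)]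
  (hsurj : ∀ p : PrimeSpectrum A, ∃ a, p ∈ Set.range (PrimeSpectrum.comap (algebraMap A (B a))))
  {M : Type u} [AddCommGroup M] [Module A M] (Ma : Fin n → Type u) [∀ a, AddCommGroup (Ma a)]
  [∀ a, Module A (Ma a)] [∀ a, Module (B a) (Ma a)] [∀ a, IsScalarTower A (B a) (Ma a)]
  (ρ : ∀ a, M →ₗ[A] Ma a) (hρ : ∀ a, IsBaseChange (B a) (ρ a))

include hsurj hρ

theorem mem_of_forall_mem_span_isBaseChange (N : Submodule A M) (t : M)
    (ht : ∀ a, ρ a t ∈ Submodule.span (B a) ((ρ a) '' (N : Set M))) : t ∈ N := by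
  rw [← Submodule.Quotient.mk_eq_zero N]
  apply Groth.Agent.H51.QCBC_ALG1.eq_zero_of_forall_tmul_eq_zero B hsurj (M ⧸ N)
  intro a
  -- the `B a`-linear map `Ma a → B a ⊗ (M ⧸ N)`
  let g : M →ₗ[A] B a ⊗[A] (M ⧸ N) := (TensorProduct.mk A (B a) (M ⧸ N) 1).comp N.mkQ
  let ψ : Ma a →ₗ[B a] B a ⊗[A] (M ⧸ N) := (hρ a).lift g
  have hψ : ∀ m : M, ψ (ρ a m) = (1 : B a) ⊗ₜ[A] N.mkQ m := fun m => (hρ a).lift_eq g m
  have hker : Submodule.span (B a) ((ρ a) '' (N : Set M)) ≤ LinearMap.ker ψ := by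
    rw [Submodule.span_le]
    rintro _ ⟨m, hm, rfl⟩
    have h0 : N.mkQ m = 0 := by
      rw [Submodule.mkQ_apply]; exact (Submodule.Quotient.mk_eq_zero N).mpr hm
    rw [SetLike.mem_coe, LinearMap.mem_ker, hψ, h0, TensorProduct.tmul_zero]
  have := hker (ht a)
  rw [LinearMap.mem_ker, hψ] at this
  exact this

end Groth.Agent.H13.WAFin_FGALG
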