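import Mathlib
import Groth.Prelude.Def_FlatCA
import Groth.Agent.H13.WAFin_FGALG

/-!
# (FGDESC) for helper32's S10812 squad: finiteness of a module descends along a finite flat
covering family, for modules given with base changes (helper13)
-/

set_option autoImplicit false
universe u w
open CategoryTheory Limits TensorProduct AlgebraicGeometry

namespace Groth.Agent.H13.WAFin_FGDESC

variable {A : Type u} [CommRing A] {n : ℕ} (B : Fin n → Type u) [∀ a, CommRing (B a)]
  [∀ a, Algebra A (B a)] [∀ a, Module.Flat A (B a)]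
  (hsurj : ∀ p : PrimeSpectrum A, ∃ a, p ∈ Set.range (PrimeSpectrum.comap (algebraMap A (B a))))
  {M : Type u} [AddCommGroup M] [Module A M] (Ma : Fin n → Type u) [∀ a, AddCommGroup (Ma a)]
  [∀ a, Module A (Ma a)] [∀ a, Module (B a) (Ma a)] [∀ a, IsScalarTower A (B a) (Ma a)]
  (ρ : ∀ a, M →ₗ[A] Ma a) (hρ : ∀ a, IsBaseChange (B a) (ρ a))

omit [∀ a, Module.Flat A (B a)] in
/-- the image of a base change map spans. -/
lemma span_range_eq_top (a : Fin n) (h : IsBaseChange (B a) (ρ a)) :
    Submodule.span (B a) (Set.range (ρ a)) = ⊤ := by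
  rw [eq_top_iff]
  rintro x -
  induction x using h.inductionOn with
  | zero => exact zero_mem _
  | tmul m => exact Submodule.subset_span ⟨m, rfl⟩
  | smul s y hy => exact Submodule.smul_mem _ s hy
  | add y z hy hz => exact add_mem hy hz

include hsurj hρ

theorem finite_of_forall_finite_isBaseChange (hfin : ∀ a, Module.Finite (B a) (Ma a)) :
    Module.Finite A M := by
  classical
  -- finitely many elements of `M` whose images span `Ma a`
  have key : ∀ a, ∃ S : Finset M, Submodule.span (B a) ((ρ a) '' (S : Set M)) = ⊤ := by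
    intro a
    have hfg : (Submodule.span (B a) (Set.range (ρ a))).FG := by
      rw [span_range_eq_top B Ma ρ a (hρ a)]
      exact (hfin a).fg_top
    obtain ⟨s', hs', hspan⟩ := (Submodule.fg_span_iff_fg_span_finset_subset _).mp hfg
    have hch : ∀ y : Ma a, ∃ m : M, y ∈ s' → ρ a m = y := by
      intro y
      by_cases hy : y ∈ s'
      · obtain ⟨m, hm⟩ := hs' hy
        exact ⟨m, fun _ => hm⟩
      · exact ⟨0, fun h => absurd h hy⟩
    choose c hc using hch
    refine ⟨s'.image c, ?_⟩
    rw [eq_top_iff, ← span_range_eq_top B Ma ρ a (hρ a), hspan]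
    apply Submodule.span_mono
    intro y hy
    refine ⟨c y, ?_, hc y hy⟩
    rw [Finset.coe_image]
    exact ⟨y, hy, rfl⟩
  choose S hS using key
  let N : Submodule A M := Submodule.span A (⋃ a, (S a : Set M))
  have hNfg : N.FG := by
    refine Submodule.fg_span ?_
    exact Set.finite_iUnion fun a => (S a).finite_toSet
  have hN : N = ⊤ := by
    rw [eq_top_iff]
    intro t _
    apply Groth.Agent.H13.WAFin_FGALG.mem_of_forall_mem_span_isBaseChange B hsurj Ma ρ hρ N t
    intro a
    have h1 : Submodule.span (B a) ((ρ a) '' (S a : Set M)) ≤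
        Submodule.span (B a) ((ρ a) '' (N : Set M)) := by
      apply Submodule.span_mono
      apply Set.image_mono
      intro m hm
      exact Submodule.subset_span (Set.mem_iUnion.mpr ⟨a, hm⟩)
    apply h1
    rw [hS a]
    exact Submodule.mem_top
  exact ⟨hN ▸ hNfg⟩

end Groth.Agent.H13.WAFin_FGDESC
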