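import Mathlib
import Groth.Agent.H13.ZarPair

/-!
# The pair `(R[t]_{1+tR[t]})[1/t] → R((t))` is a `ZarPair`
-/

set_option autoImplicit false
set_option linter.unusedSectionVars false
set_option linter.unusedVariables false
set_option linter.style.haveILetI false

universe u

open Polynomial TensorProduct

namespace Groth.Agent.H13.Horrocks

variable {R : Type u} [CommRing R]

theorem mem_closure_form (s : R[X])
    (hs : s ∈ Submonoid.closure ({f : R[X] | f.coeff 0 = 1} ∪ {X})) :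
    ∃ (k : ℕ) (f : R[X]), f.coeff 0 = 1 ∧ s = X ^ k * f := by
  induction hs using Submonoid.closure_induction with
  | mem x hx =>
    rcases hx with hx | hx
    · exact ⟨0, x, hx, by simp⟩
    · rw [Set.mem_singleton_iff] at hx
      subst hx
      exact ⟨1, 1, by simp, by simp⟩
  | one => exact ⟨0, 1, by simp, by simp⟩
  | mul x y _ _ hx hy =>
    obtain ⟨k, f, hf, rfl⟩ := hx
    obtain ⟨l, g, hg, rfl⟩ := hy
    exact ⟨k + l, f * g, by rw [mul_coeff_zero, hf, hg, one_mul], by ring⟩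

theorem poly_factor (p : R[X]) (k : ℕ) (v : PowerSeries R)
    (hp : (p : PowerSeries R) = PowerSeries.X ^ k * v) (hv : PowerSeries.constantCoeff v = 1) :
    ∃ g : R[X], p = X ^ k * g ∧ g.coeff 0 = 1 := by
  have hdvd : X ^ k ∣ p := by
    rw [Polynomial.X_pow_dvd_iff]
    intro d hd
    rw [← Polynomial.coeff_coe, hp, PowerSeries.coeff_X_pow_mul', if_neg (not_le.mpr hd)]
  obtain ⟨g, hg⟩ := hdvd
  refine ⟨g, hg, ?_⟩
  have h2 : p.coeff (0 + k) = g.coeff 0 := by rw [hg, Polynomial.coeff_X_pow_mul]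
  rw [← h2, ← Polynomial.coeff_coe, hp, PowerSeries.coeff_X_pow_mul', if_pos (by omega),
    show 0 + k - k = 0 by omega, PowerSeries.coeff_zero_eq_constantCoeff_apply, hv]

theorem zarPair_laurent (L : Type*) [CommRing L] [Algebra R[X] L]
    [IsLocalization (Submonoid.closure ({f : R[X] | f.coeff 0 = 1} ∪ {X})) L]
    (j : L →+* LaurentSeries R)
    (hj : ∀ p : R[X], j (algebraMap R[X] L p) =
      HahnSeries.ofPowerSeries ℤ R (Polynomial.coeToPowerSeries.ringHom p)) :
    ZarPair j (HahnSeries.ofPowerSeries ℤ R).range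
      (HahnSeries.ofPowerSeries ℤ R PowerSeries.X) := by
  classical
  obtain ⟨ψ, hψdef⟩ : ∃ ψ : PowerSeries R →+* LaurentSeries R,
      ψ = HahnSeries.ofPowerSeries ℤ R := ⟨_, rfl⟩
  rw [← hψdef] at hj ⊢
  have hψinj : Function.Injective ψ := by
    rw [hψdef]; exact HahnSeries.ofPowerSeries_injective
  obtain ⟨S, hSdef⟩ : ∃ S : Submonoid R[X],
      S = Submonoid.closure ({f : R[X] | f.coeff 0 = 1} ∪ {X}) := ⟨_, rfl⟩
  obtain ⟨ι, hιdef⟩ : ∃ ι : R[X] →+* L, ι = algebraMap R[X] L := ⟨_, rfl⟩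
  rw [← hιdef] at hj
  have hS : ∀ s ∈ S, IsUnit (ι s) := by
    intro s hs
    rw [hιdef]
    rw [hSdef] at hs
    exact IsLocalization.map_units L ⟨s, hs⟩
  have hXk : ∀ k : ℕ, (X : R[X]) ^ k ∈ S := by
    intro k
    rw [hSdef]
    have hX : (X : R[X]) ∈ ({f : R[X] | f.coeff 0 = 1} ∪ {X} : Set R[X]) :=
      Or.inr (Set.mem_singleton _)
    exact pow_mem (Submonoid.subset_closure hX) k
  have hS1 : ∀ f : R[X], f.coeff 0 = 1 → f ∈ S := by
    intro f hf
    rw [hSdef]
    have hf' : f ∈ ({f : R[X] | f.coeff 0 = 1} ∪ {X} : Set R[X]) := Or.inl hf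
    exact Submonoid.subset_closure hf'
  have hLocL : LocLike S ι := by
    rw [hSdef, hιdef]; exact LocLike.of_isLocalization _ L
  have hjX : ∀ k : ℕ, j (ι (X ^ k)) = ψ PowerSeries.X ^ k := by
    intro k
    rw [hj, map_pow, Polynomial.coeToPowerSeries.ringHom_apply, Polynomial.coe_X, map_pow]
  have hbound : ∀ x : LaurentSeries R, ∃ (c : ℕ) (y : PowerSeries R),
      ψ PowerSeries.X ^ c * x = ψ y := by
    intro x
    obtain ⟨t₁, ht₁, y, hy⟩ := (LocLike.of_isLocalization
      (Submonoid.powers (PowerSeries.X : PowerSeries R)) (LaurentSeries R)).surj x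
    obtain ⟨c, hc⟩ := ht₁
    have hc' : t₁ = PowerSeries.X ^ c := hc.symm
    subst hc'
    refine ⟨c, y, ?_⟩
    rw [LaurentSeries.coe_algebraMap, ← hψdef] at hy
    rw [← map_pow]
    exact hy.symm
  refine ⟨⟨PowerSeries.X, rfl⟩, ?_, ?_, ?_, ?_⟩
  · -- approx
    intro x N
    obtain ⟨c, y, hy⟩ := hbound x
    have hsplit := PowerSeries.eq_X_pow_mul_shift_add_trunc (N + c) y
    obtain ⟨u, hu⟩ := (hS _ (hXk c)).exists_left_inv
    obtain ⟨sh, hshdef⟩ : ∃ sh : PowerSeries R,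
        sh = PowerSeries.mk fun i => PowerSeries.coeff (i + (N + c)) y := ⟨_, rfl⟩
    rw [← hshdef] at hsplit
    refine ⟨u * ι (PowerSeries.trunc (N + c) y), ψ sh, ⟨sh, rfl⟩, ?_⟩
    have h1 : j u * ψ PowerSeries.X ^ c = 1 := by rw [← hjX, ← map_mul, hu, map_one]
    have h2 : ψ (↑(PowerSeries.trunc (N + c) y)) =
        ψ PowerSeries.X ^ c * x - ψ PowerSeries.X ^ (N + c) * ψ sh := by
      rw [hy, ← map_pow, ← map_mul, ← map_sub]
      congr 1
      exact eq_sub_of_add_eq' hsplit.symm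
    rw [map_mul, hj, Polynomial.coeToPowerSeries.ringHom_apply, h2, pow_add]
    linear_combination (x - ψ PowerSeries.X ^ N * ψ sh) * h1
  · -- bound
    intro x
    obtain ⟨c, y, hy⟩ := hbound x
    exact ⟨c, y, hy.symm⟩
  · -- unit_L
    rintro d ⟨p, ⟨pt, rfl⟩, hd⟩
    obtain ⟨s, hs, P, hP⟩ := hLocL.surj d
    rw [hSdef] at hs
    obtain ⟨k, f, hf, rfl⟩ := mem_closure_form s hs
    have h1 : ψ (Polynomial.coeToPowerSeries.ringHom P) =
        ψ (Polynomial.coeToPowerSeries.ringHom (X ^ k * f) * (1 - PowerSeries.X * pt)) := by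
      rw [← hj, hP, map_mul j, hj, hd, map_mul ψ, map_sub ψ, map_one, map_mul ψ]
    have h2 := hψinj h1
    obtain ⟨g, hg, hg0⟩ := poly_factor P k ((f : PowerSeries R) * (1 - PowerSeries.X * pt))
      (by
        rw [← Polynomial.coeToPowerSeries.ringHom_apply, h2, map_mul, map_pow,
          Polynomial.coeToPowerSeries.ringHom_apply, Polynomial.coeToPowerSeries.ringHom_apply,
          Polynomial.coe_X]
        ring)
      (by simp [hf])
    have h3 : IsUnit (ι P) := by
      rw [hg, map_mul]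
      exact (hS _ (hXk k)).mul (hS _ (hS1 g hg0))
    rw [hP] at h3
    exact isUnit_of_mul_isUnit_right h3
  · -- unit_O
    rintro p ⟨pt, rfl⟩
    have hu : IsUnit (1 - PowerSeries.X * pt) := by
      rw [PowerSeries.isUnit_iff_constantCoeff]
      simp
    obtain ⟨w, hw⟩ := hu.exists_right_inv
    refine ⟨ψ w, ⟨w, rfl⟩, ?_⟩
    have h1 : (1 : LaurentSeries R) - ψ PowerSeries.X * ψ pt = ψ (1 - PowerSeries.X * pt) := by
      rw [map_sub, map_one, map_mul]
    rw [h1, ← map_mul, hw, map_one]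

end Groth.Agent.H13.Horrocks
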