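import Mathlib
import Groth.Agent.H3.HenselNonmonic
import Groth.Agent.H13.ZarLaurent

/-!
# Ideals of `R[s]` and of `R⟨s⟩`-type localisations avoiding the special fibre

`L` is the localisation of `R[t]` at the monoid generated by `t` and the polynomials with constant
term `1`, `ψ : R[s] → L` sends `s` to `t⁻¹`.
-/

set_option autoImplicit false
universe u

namespace Groth.Agent.H13.ZarIdeals

open Polynomial IsLocalRing

/-- Key unit lemma: if `y` is killed by a polynomial `g ≡ unit * X ^ N` modulo the maximal ideal then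
`1 + y * q(y)` is a unit for every polynomial `q`. -/
theorem isUnit_one_add_mul_aeval {R : Type*} [CommRing R] [IsLocalRing R] {C' : Type*} [CommRing C']
    [Algebra R C'] (y : C') (g : R[X]) (N : ℕ) (hdeg : g.natDegree ≤ N) (hN : IsUnit (g.coeff N))
    (hlow : ∀ i < N, g.coeff i ∈ maximalIdeal R) (hy : aeval y g = 0) (q : R[X]) :
    IsUnit (1 + y * aeval y q) := by
  classical
  have hNd : g.natDegree = N := le_antisymm hdeg (le_natDegree_of_ne_zero hN.ne_zero)
  have hlc : g.leadingCoeff = g.coeff N := by rw [leadingCoeff, hNd]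
  obtain ⟨u, hu⟩ := hN
  have hmonic : (C (↑u⁻¹ : R) * g).Monic :=
    monic_C_mul_of_mul_leadingCoeff_eq_one (by rw [hlc, ← hu]; simp)
  have hint : IsIntegral R y :=
    ⟨_, hmonic, by rw [← aeval_def, map_mul, hy, mul_zero]⟩
  have hA : Algebra.IsIntegral R (Algebra.adjoin R {y}) :=
    Algebra.IsIntegral.adjoin (by
      intro x hx
      rw [Set.mem_singleton_iff] at hx
      rw [hx]; exact hint)
  set A' := Algebra.adjoin R {y} with hA'
  let y' : A' := ⟨y, Algebra.subset_adjoin (Set.mem_singleton y)⟩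
  have hjac : (maximalIdeal R).map (algebraMap R A') ≤ Ideal.jacobson ⊥ := by
    rw [Ideal.jacobson]
    refine le_sInf ?_
    rintro M ⟨-, hM⟩
    rw [Ideal.map_le_iff_le_comap]
    have := Ideal.isMaximal_comap_of_isIntegral_of_isMaximal (R := R) M
    rw [IsLocalRing.eq_maximalIdeal this]
  have h0 : aeval y' g = 0 := by
    apply Subtype.ext
    rw [aeval_subalgebra_coe]
    exact hy
  have hpow : y' ^ N ∈ (maximalIdeal R).map (algebraMap R A') := by
    rw [aeval_eq_sum_range' (n := N + 1) (by omega), Finset.sum_range_succ] at h0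
    have h1 : g.coeff N • y' ^ N = - ∑ i ∈ Finset.range N, g.coeff i • y' ^ i := by
      rw [eq_neg_iff_add_eq_zero, add_comm]; exact h0
    have h2 : y' ^ N = (↑u⁻¹ : R) • (g.coeff N • y' ^ N) := by
      rw [smul_smul, ← hu]; simp
    rw [h2, h1, Algebra.smul_def]
    refine Ideal.mul_mem_left _ _ (Ideal.neg_mem_iff _ |>.mpr ?_)
    refine Ideal.sum_mem _ fun i hi => ?_
    rw [Algebra.smul_def]
    exact Ideal.mul_mem_right _ _ (Ideal.mem_map_of_mem _ (hlow i (Finset.mem_range.mp hi)))
  have hy' : y' ∈ Ideal.jacobson (⊥ : Ideal A') := by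
    have h3 : y' ∈ (Ideal.jacobson (⊥ : Ideal A')).radical := ⟨N, hjac hpow⟩
    have := Ideal.radical_le_jacobson h3
    rwa [Ideal.jacobson_idem] at this
  have hunit := Ideal.mem_jacobson_bot.mp hy' (aeval y' q)
  have := hunit.map A'.val
  rw [add_comm]
  convert this using 1
  simp [y', aeval_subalgebra_coe]

section
variable {R : Type u} [CommRing R] [IsLocalRing R] {L : Type u} [CommRing L] [Algebra R[X] L]
    [IsLocalization (Submonoid.closure ({f : R[X] | f.coeff 0 = 1} ∪ {X})) L]
    [Algebra R L] [IsScalarTower R R[X] L]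
    (ψ : R[X] →ₐ[R] L)

omit [IsLocalRing R] [IsLocalization (Submonoid.closure ({f : R[X] | f.coeff 0 = 1} ∪ {X})) L] in
theorem psi_C (r : R) : ψ (C r) = algebraMap R[X] L (C r) := by
  rw [← algebraMap_eq, ← IsScalarTower.algebraMap_apply R R[X] L]
  exact ψ.commutes r

omit [IsLocalRing R] [IsLocalization (Submonoid.closure ({f : R[X] | f.coeff 0 = 1} ∪ {X})) L]
  [IsScalarTower R R[X] L] in
theorem map_maximal_eq (m : Ideal R) :
    (m.map (algebraMap R R[X])).map ψ.toRingHom = m.map (algebraMap R L) := by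
  rw [Ideal.map_map]
  congr 1
  ext r
  exact ψ.commutes r

/-- Part 1: the quotient map is bijective for ideals comaximal with the special fibre. -/
theorem quotientMap_bijective (hψ : ψ X * algebraMap R[X] L X = 1) (I : Ideal R[X])
    (hI : I ⊔ (maximalIdeal R).map (algebraMap R R[X]) = ⊤) :
    Function.Bijective
      (Ideal.quotientMap (I.map ψ.toRingHom) ψ.toRingHom Ideal.le_comap_map) := by
  classical
  obtain ⟨f, hfI, μ, hμ, hfμ⟩ :=
    Submodule.mem_sup.mp (hI ▸ Submodule.mem_top : (1 : R[X]) ∈ I ⊔ _)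
  rw [algebraMap_eq, Ideal.mem_map_C_iff] at hμ
  have hfc : ∀ i, f.coeff i = (1 : R[X]).coeff i - μ.coeff i := by
    intro i; rw [← hfμ]; simp
  have hf0 : IsUnit (f.coeff 0) := by
    rw [hfc 0, coeff_one_zero]
    exact isUnit_one_sub_self_of_mem_nonunits _ ((mem_maximalIdeal _).mp (hμ 0))
  have hfi : ∀ i, 0 < i → f.coeff i ∈ maximalIdeal R := by
    intro i hi
    rw [hfc i, coeff_one, if_neg (by omega), zero_sub]
    exact (Ideal.neg_mem_iff _).mpr (hμ i)
  set sbar : R[X] ⧸ I := Ideal.Quotient.mk I X with hsbar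
  have hfs : aeval sbar f = 0 := by
    have := aeval_algHom_apply (Ideal.Quotient.mkₐ R I) X f
    rw [aeval_X_left_apply] at this
    change aeval sbar f = Ideal.Quotient.mk I f at this
    rw [this]
    exact Ideal.Quotient.eq_zero_iff_mem.mpr hfI
  have hsunit : IsUnit sbar := by
    obtain ⟨u, hu⟩ := hf0
    have h1 : Ideal.Quotient.mk I (divX f) * sbar + algebraMap R (R[X] ⧸ I) (f.coeff 0) = 0 := by
      have : Ideal.Quotient.mk I (divX f * X + C (f.coeff 0)) = 0 := by
        rw [divX_mul_X_add]; exact Ideal.Quotient.eq_zero_iff_mem.mpr hfI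
      rw [map_add, map_mul] at this
      exact this
    refine IsUnit.of_mul_eq_one
      (-(Ideal.Quotient.mk I (divX f)) * algebraMap R (R[X] ⧸ I) (↑u⁻¹ : R)) ?_
    have h2 : Ideal.Quotient.mk I (divX f) * sbar = - algebraMap R (R[X] ⧸ I) (f.coeff 0) :=
      eq_neg_of_add_eq_zero_left h1
    have h3 : algebraMap R (R[X] ⧸ I) (f.coeff 0) * algebraMap R (R[X] ⧸ I) (↑u⁻¹ : R) = 1 := by
      rw [← map_mul, ← hu]; simp
    calc sbar * (-(Ideal.Quotient.mk I (divX f)) * algebraMap R (R[X] ⧸ I) (↑u⁻¹ : R))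
        = -(Ideal.Quotient.mk I (divX f) * sbar) * algebraMap R (R[X] ⧸ I) (↑u⁻¹ : R) := by ring
      _ = 1 := by rw [h2, neg_neg, h3]
  let _ : Invertible sbar := hsunit.invertible
  set y : R[X] ⧸ I := ⅟sbar with hy
  have hgy : aeval y (reverse f) = 0 := by
    rw [aeval_def, hy, eval₂_reverse_eq_zero_iff, ← aeval_def]; exact hfs
  have hU : ∀ q : R[X], IsUnit (1 + y * aeval y q) := by
    refine isUnit_one_add_mul_aeval y (reverse f) f.natDegree (reverse_natDegree_le f) ?_ ?_ hgy
    · rw [coeff_reverse, revAt_le le_rfl, Nat.sub_self]; exact hf0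
    · intro i hi
      rw [coeff_reverse, revAt_le hi.le]
      exact hfi _ (by omega)
  let θ₀ : R[X] →+* R[X] ⧸ I := (aeval y : R[X] →ₐ[R] R[X] ⧸ I).toRingHom
  have hθ₀ : ∀ p, θ₀ p = aeval y p := fun _ => rfl
  have hS : ∀ s : Submonoid.closure ({f : R[X] | f.coeff 0 = 1} ∪ {X}), IsUnit (θ₀ s) := by
    have hle : Submonoid.closure ({f : R[X] | f.coeff 0 = 1} ∪ {X}) ≤
        (IsUnit.submonoid (R[X] ⧸ I)).comap θ₀ := by
      rw [Submonoid.closure_le]
      rintro s (hs | hs)
      · change IsUnit (θ₀ s)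
        have hs' : s.coeff 0 = 1 := hs
        have : s = 1 + X * divX s := by
          conv_lhs => rw [← divX_mul_X_add s, hs']
          rw [map_one]; ring
        rw [this, hθ₀, map_add, map_one, map_mul, aeval_X]
        exact hU _
      · rw [Set.mem_singleton_iff] at hs
        subst hs
        change IsUnit (θ₀ X)
        rw [hθ₀, aeval_X, hy]
        exact isUnit_of_invertible _
    exact fun s => hle s.2
  let θ : L →+* R[X] ⧸ I := IsLocalization.lift hS
  have hθ : ∀ p : R[X], θ (algebraMap R[X] L p) = aeval y p := fun p => IsLocalization.lift_eq hS p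
  have hθX : θ (ψ X) = sbar := by
    have h1 : θ (ψ X) * y = 1 := by
      have := congr_arg θ hψ
      rw [map_mul, map_one, hθ, aeval_X] at this
      exact this
    calc θ (ψ X) = θ (ψ X) * (y * sbar) := by rw [hy, invOf_mul_self, mul_one]
      _ = sbar := by rw [← mul_assoc, h1, one_mul]
  have hθψ : θ.comp ψ.toRingHom = Ideal.Quotient.mk I := by
    refine Polynomial.ringHom_ext (fun r => ?_) ?_
    · change θ (ψ (C r)) = _
      rw [psi_C, hθ, aeval_C]
      rfl
    · exact hθX
  have hθψ' : ∀ a, θ (ψ a) = Ideal.Quotient.mk I a := fun a => RingHom.congr_fun hθψ a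
  have hker : ∀ a ∈ I.map ψ.toRingHom, θ a = 0 := by
    intro a ha
    have hle : I.map ψ.toRingHom ≤ RingHom.ker θ := by
      rw [Ideal.map_le_iff_le_comap]
      intro i hi
      change θ (ψ i) = 0
      rw [hθψ']
      exact Ideal.Quotient.eq_zero_iff_mem.mpr hi
    exact hle ha
  let θbar : L ⧸ I.map ψ.toRingHom →+* R[X] ⧸ I := Ideal.Quotient.lift _ θ hker
  -- the other composite
  have hcomp : (Ideal.quotientMap (I.map ψ.toRingHom) ψ.toRingHom Ideal.le_comap_map).comp θ =
      Ideal.Quotient.mk (I.map ψ.toRingHom) := by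
    refine IsLocalization.ringHom_ext (Submonoid.closure ({f : R[X] | f.coeff 0 = 1} ∪ {X})) ?_
    refine Polynomial.ringHom_ext (fun r => ?_) ?_
    · change Ideal.quotientMap (I.map ψ.toRingHom) ψ.toRingHom Ideal.le_comap_map
        (θ (algebraMap R[X] L (C r))) = Ideal.Quotient.mk _ (algebraMap R[X] L (C r))
      rw [hθ, aeval_C]
      change Ideal.quotientMap (I.map ψ.toRingHom) ψ.toRingHom Ideal.le_comap_map
        (Ideal.Quotient.mk I (C r)) = _
      rw [Ideal.quotientMap_mk]
      change Ideal.Quotient.mk _ (ψ (C r)) = _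
      rw [psi_C]
    · change Ideal.quotientMap (I.map ψ.toRingHom) ψ.toRingHom Ideal.le_comap_map
        (θ (algebraMap R[X] L X)) = Ideal.Quotient.mk _ (algebraMap R[X] L X)
      rw [hθ, aeval_X]
      set Q := Ideal.quotientMap (I.map ψ.toRingHom) ψ.toRingHom Ideal.le_comap_map with hQ
      have e1 : Q y * Q sbar = 1 := by rw [← map_mul, hy, invOf_mul_self, map_one]
      have e2 : Q sbar = Ideal.Quotient.mk _ (ψ X) := by
        rw [hsbar, hQ, Ideal.quotientMap_mk]; rfl
      have e3 : Ideal.Quotient.mk (I.map ψ.toRingHom) (ψ X) *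
          Ideal.Quotient.mk _ (algebraMap R[X] L X) = 1 := by
        rw [← map_mul, hψ, map_one]
      calc Q y = Q y * (Q sbar * Ideal.Quotient.mk _ (algebraMap R[X] L X)) := by
            rw [e2, e3, mul_one]
        _ = Ideal.Quotient.mk _ (algebraMap R[X] L X) := by rw [← mul_assoc, e1, one_mul]
  rw [Function.bijective_iff_has_inverse]
  refine ⟨θbar, ?_, ?_⟩
  · intro c
    obtain ⟨a, rfl⟩ := Ideal.Quotient.mk_surjective c
    rw [Ideal.quotientMap_mk]
    change θbar (Ideal.Quotient.mk _ (ψ a)) = _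
    rw [Ideal.Quotient.lift_mk, hθψ']
  · intro b
    obtain ⟨l, rfl⟩ := Ideal.Quotient.mk_surjective b
    rw [Ideal.Quotient.lift_mk]
    exact RingHom.congr_fun hcomp l

/-- Part 1, all three conclusions. -/
theorem part1 (hψ : ψ X * algebraMap R[X] L X = 1) (I : Ideal R[X])
    (hI : I ⊔ (maximalIdeal R).map (algebraMap R R[X]) = ⊤) :
    (I.map ψ.toRingHom).comap ψ.toRingHom = I ∧
      I.map ψ.toRingHom ⊔ (maximalIdeal R).map (algebraMap R L) = ⊤ ∧
      Function.Bijective
        (Ideal.quotientMap (I.map ψ.toRingHom) ψ.toRingHom Ideal.le_comap_map) := by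
  have hbij := quotientMap_bijective ψ hψ I hI
  refine ⟨le_antisymm ?_ Ideal.le_comap_map, ?_, hbij⟩
  · intro x hx
    have h1 : Ideal.quotientMap (I.map ψ.toRingHom) ψ.toRingHom Ideal.le_comap_map
        (Ideal.Quotient.mk I x) = 0 := by
      rw [Ideal.quotientMap_mk]
      exact Ideal.Quotient.eq_zero_iff_mem.mpr hx
    have h2 := hbij.1 (h1.trans (map_zero _).symm)
    exact Ideal.Quotient.eq_zero_iff_mem.mp h2
  · rw [← map_maximal_eq ψ, ← Ideal.map_sup, hI, Ideal.map_top]

end

section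
variable {R : Type u} [CommRing R] [HenselianLocalRing R] {L : Type u} [CommRing L] [Algebra R[X] L]
    [IsLocalization (Submonoid.closure ({f : R[X] | f.coeff 0 = 1} ∪ {X})) L]
    [Algebra R L] [IsScalarTower R R[X] L]
    (ψ : R[X] →ₐ[R] L)

/-- An ideal of `L` comaximal with the special fibre contains a monic polynomial in `t` congruent
to a power of `t`. -/
theorem exists_monic_mem (J : Ideal L)
    (hJ : J ⊔ (maximalIdeal R).map (algebraMap R L) = ⊤) :
    ∃ (g : R[X]) (k : ℕ), g.Monic ∧ g.map (residue R) = X ^ k ∧ algebraMap R[X] L g ∈ J := by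
  classical
  obtain ⟨j, hj, μ, hμ, hjμ⟩ :=
    Submodule.mem_sup.mp (hJ ▸ Submodule.mem_top : (1 : L) ∈ J ⊔ _)
  rw [IsScalarTower.algebraMap_eq R R[X] L, ← Ideal.map_map,
    IsLocalization.mem_map_algebraMap_iff
      (Submonoid.closure ({f : R[X] | f.coeff 0 = 1} ∪ {X})) L] at hμ
  obtain ⟨⟨⟨μ', hμ'⟩, s⟩, hμs⟩ := hμ
  simp only at hμs
  rw [algebraMap_eq, Ideal.mem_map_C_iff] at hμ'
  have hh : algebraMap R[X] L ((s : R[X]) - μ') ∈ J := by
    have hj' : j = 1 - μ := by rw [← hjμ]; ring
    have : algebraMap R[X] L ((s : R[X]) - μ') = j * algebraMap R[X] L s := by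
      rw [map_sub, ← hμs, hj']; ring
    rw [this]
    exact J.mul_mem_right _ hj
  obtain ⟨k, u, hu0, hsu⟩ := Groth.Agent.H13.Horrocks.mem_closure_form (s : R[X]) s.2
  have hμ0 : μ'.map (residue R) = 0 := by
    ext i
    rw [coeff_map, coeff_zero]
    exact (residue_eq_zero_iff _).mpr (hμ' i)
  have hmap : ((s : R[X]) - μ').map (residue R) = X ^ k * u.map (residue R) := by
    rw [Polynomial.map_sub, hμ0, sub_zero, hsu, Polynomial.map_mul, Polynomial.map_pow, map_X]
  have hu0' : (u.map (residue R)).coeff 0 = 1 := by rw [coeff_map, hu0, map_one]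
  have hcop : IsCoprime (X ^ k : (ResidueField R)[X]) (u.map (residue R)) := by
    refine IsCoprime.pow_left ⟨-divX (u.map (residue R)), 1, ?_⟩
    have := divX_mul_X_add (u.map (residue R))
    rw [hu0', map_one] at this
    rw [one_mul]
    nth_rewrite 2 [← this]
    ring
  obtain ⟨g, w, hgw, hgm, hgmap, hwmap⟩ :=
    Groth.Agent.H3.factor_lift_nonmonic R ((s : R[X]) - μ') (X ^ k) (u.map (residue R))
      (monic_X_pow k) hcop hmap
  refine ⟨g, k, hgm, hgmap, ?_⟩
  -- `w` is a unit of `L`
  have hwc : IsUnit (w.coeff 0) := by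
    rw [← residue_ne_zero_iff_isUnit]
    have : residue R (w.coeff 0) = 1 := by rw [← coeff_map, hwmap, hu0']
    rw [this]; exact one_ne_zero
  obtain ⟨c, hc⟩ := hwc
  have hw' : (C (↑c⁻¹ : R) * w).coeff 0 = 1 := by
    rw [coeff_C_mul, ← hc]; simp
  have hwunit : IsUnit (algebraMap R[X] L w) := by
    have h1 : IsUnit (algebraMap R[X] L (C (↑c⁻¹ : R) * w)) :=
      IsLocalization.map_units L
        (⟨C (↑c⁻¹ : R) * w, Submonoid.subset_closure (Or.inl hw')⟩ :
          Submonoid.closure ({f : R[X] | f.coeff 0 = 1} ∪ {X}))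
    have h2 : IsUnit (algebraMap R[X] L (C (c : R))) :=
      (Polynomial.isUnit_C.mpr c.isUnit).map _
    have h3 : w = C (c : R) * (C (↑c⁻¹ : R) * w) := by
      rw [← mul_assoc, ← C_mul]; simp
    rw [h3, map_mul]
    exact h2.mul h1
  rw [hgw, map_mul] at hh
  exact (Ideal.mul_unit_mem_iff_mem J hwunit).mp hh

/-- Part 2. -/
theorem part2 (hψ : ψ X * algebraMap R[X] L X = 1) (J : Ideal L)
    (hJ : J ⊔ (maximalIdeal R).map (algebraMap R L) = ⊤) :
    (J.comap ψ.toRingHom).map ψ.toRingHom = J ∧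
      J.comap ψ.toRingHom ⊔ (maximalIdeal R).map (algebraMap R R[X]) = ⊤ := by
  classical
  obtain ⟨g, k, hgm, hgmap, hgJ⟩ := exists_monic_mem J hJ
  have hk : g.natDegree = k := by
    have := hgm.natDegree_map (residue R)
    rw [hgmap, natDegree_X_pow] at this
    exact this.symm
  have hglow : ∀ i, i ≠ k → g.coeff i ∈ maximalIdeal R := by
    intro i hi
    rw [← residue_eq_zero_iff, ← coeff_map, hgmap, coeff_X_pow, if_neg hi]
  set T : L := algebraMap R[X] L X with hT
  let _ : Invertible T := ⟨ψ X, hψ, by rw [mul_comm]; exact hψ⟩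
  have hinv : ⅟T = ψ X := rfl
  -- `reverse g` lies in the contraction
  have hψrev : ψ (reverse g) * T ^ g.natDegree = algebraMap R[X] L g := by
    have h1 : ψ (reverse g) = eval₂ (algebraMap R L) (⅟T) (reverse g) := by
      have := aeval_algHom_apply ψ X (reverse g)
      rw [aeval_X_left_apply] at this
      rw [← this, hinv, aeval_def]
    have h2 : algebraMap R[X] L g = eval₂ (algebraMap R L) T g := by
      have := aeval_algHom_apply (IsScalarTower.toAlgHom R R[X] L) X g
      rw [aeval_X_left_apply] at this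
      change aeval T g = algebraMap R[X] L g at this
      rw [← this, aeval_def]
    rw [h1, h2]
    exact eval₂_reverse_mul_pow (algebraMap R L) T g
  have hTunit : IsUnit (T ^ g.natDegree) := (isUnit_of_invertible T).pow _
  have hrevJ : reverse g ∈ J.comap ψ.toRingHom := by
    change ψ (reverse g) ∈ J
    rw [← Ideal.mul_unit_mem_iff_mem J hTunit, hψrev]
    exact hgJ
  have hrev1 : 1 - reverse g ∈ (maximalIdeal R).map (algebraMap R R[X]) := by
    rw [algebraMap_eq, Ideal.mem_map_C_iff]
    intro n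
    rw [coeff_sub, coeff_reverse]
    by_cases hn : n = 0
    · subst hn
      rw [coeff_one_zero, revAt_le (Nat.zero_le _), Nat.sub_zero, ← leadingCoeff, hgm.leadingCoeff,
        sub_self]
      exact Ideal.zero_mem _
    · rw [coeff_one, if_neg hn, zero_sub, Ideal.neg_mem_iff]
      refine hglow _ ?_
      intro hcon
      apply hn
      have h1 : revAt g.natDegree (revAt g.natDegree n) = n := revAt_invol
      rw [hcon, ← hk, revAt_le le_rfl, Nat.sub_self] at h1
      exact h1.symm
  have hsup : J.comap ψ.toRingHom ⊔ (maximalIdeal R).map (algebraMap R R[X]) = ⊤ := by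
    rw [Ideal.eq_top_iff_one]
    have : (1 : R[X]) = reverse g + (1 - reverse g) := by ring
    rw [this]
    exact Submodule.add_mem_sup hrevJ hrev1
  refine ⟨le_antisymm Ideal.map_comap_le ?_, hsup⟩
  intro l hl
  obtain ⟨c, hc⟩ := (quotientMap_bijective ψ hψ (J.comap ψ.toRingHom) hsup).2
    (Ideal.Quotient.mk _ l)
  obtain ⟨a, rfl⟩ := Ideal.Quotient.mk_surjective c
  rw [Ideal.quotientMap_mk, Ideal.Quotient.eq] at hc
  change ψ a - l ∈ _ at hc
  have hc' : ψ a - l ∈ J := Ideal.map_comap_le hc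
  have ha : ψ a ∈ J := by
    have := J.add_mem hc' hl
    rwa [sub_add_cancel] at this
  have ha' : ψ a ∈ (J.comap ψ.toRingHom).map ψ.toRingHom :=
    Ideal.mem_map_of_mem ψ.toRingHom (show a ∈ J.comap ψ.toRingHom from ha)
  have := Ideal.sub_mem _ ha' hc
  rwa [sub_sub_cancel] at this

end

end Groth.Agent.H13.ZarIdeals
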