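import Mathlib

/-!
# Local rings in characteristic zero with free module of differentials are regular

`main`: `k` a field of characteristic zero, `R` a Noetherian local `k`-algebra with residue field
`k`, `Ω[R⁄k]` free of rank `n` ⟹ `R` regular local of dimension `n`.

The proof is the classical Zariski-type argument: choose `x₁,…,xₙ ∈ 𝔪` and derivations `Dᵢ` with
`Dᵢ xⱼ = δᵢⱼ`; then `x` is a regular sequence (using `char = 0` and Krull's intersection theorem),
and `𝔪 = (x)` by Nakayama.
-/

set_option autoImplicit false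
universe u
open IsLocalRing

namespace Groth.Agent.H13.ZariskiReg

section Core
variable {k R : Type u} [Field k] [CharZero k] [CommRing R] [Algebra k R]

/-- `D` preserves `span S` when `D` kills `S`. -/
lemma der_mem_span (D : Derivation k R R) (S : Set R) (hS : ∀ s ∈ S, D s = 0) {j : R}
    (hj : j ∈ Ideal.span S) : D j ∈ Ideal.span S := by
  induction hj using Submodule.span_induction with
  | mem s hs => rw [hS s hs]; exact zero_mem _
  | zero => rw [map_zero]; exact zero_mem _
  | add a b _ _ ha hb => rw [map_add]; exact add_mem ha hb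
  | smul a j hj hDj =>
    rw [smul_eq_mul, D.leibniz, smul_eq_mul, smul_eq_mul]
    exact add_mem (Ideal.mul_mem_left _ a hDj) (Ideal.mul_mem_right _ _ hj)

lemma exists_decomp (D : Derivation k R R) (S : Set R) (hS : ∀ s ∈ S, D s = 0) (x : R)
    (hDx : D x = 1) (a : R) (ha : x * a ∈ Ideal.span S) (s : ℕ) :
    ∃ j ∈ Ideal.span S, ∃ b, a = j + b * x ^ s := by
  induction s with
  | zero => exact ⟨0, zero_mem _, a, by simp⟩
  | succ s ih =>
    obtain ⟨j, hj, b, hab⟩ := ih
    have h1 : b * x ^ (s + 1) ∈ Ideal.span S := by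
      have : b * x ^ (s + 1) = x * a - x * j := by rw [hab]; ring
      rw [this]; exact sub_mem ha (Ideal.mul_mem_left _ x hj)
    have h2 := der_mem_span D S hS h1
    have e2 : D (b * x ^ (s + 1)) = b * (((s + 1 : ℕ) : R) * x ^ s) + x ^ (s + 1) * D b := by
      rw [D.leibniz, D.leibniz_pow, hDx]
      simp only [smul_eq_mul, nsmul_eq_mul, Nat.add_sub_cancel, mul_one]
    rw [e2] at h2
    have hvu : algebraMap k R (((s + 1 : ℕ) : k)⁻¹) * ((s + 1 : ℕ) : R) = 1 := by
      rw [← map_natCast (algebraMap k R), ← map_mul,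
        inv_mul_cancel₀ (Nat.cast_ne_zero.mpr (Nat.succ_ne_zero s)), map_one]
    generalize ((s + 1 : ℕ) : R) = u at h2 hvu
    generalize algebraMap k R (((s + 1 : ℕ) : k)⁻¹) = v at hvu
    refine ⟨j + v * (b * (u * x ^ s) + x ^ (s + 1) * D b),
      add_mem hj (Ideal.mul_mem_left _ v h2), - v * D b, ?_⟩
    rw [hab]
    have h3 : v * (b * (u * x ^ s)) = b * x ^ s := by
      calc v * (b * (u * x ^ s)) = (v * u) * (b * x ^ s) := by ring
        _ = b * x ^ s := by rw [hvu, one_mul]
    linear_combination -h3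

variable [IsLocalRing R] [IsNoetherianRing R]

lemma mem_of_forall_decomp (J : Ideal R) (x : R) (hx : x ∈ maximalIdeal R) (a : R)
    (h : ∀ s : ℕ, ∃ j ∈ J, ∃ b, a = j + b * x ^ s) : a ∈ J := by
  have hK := Ideal.iInf_pow_smul_eq_bot_of_isLocalRing (R := R) (M := R ⧸ J) (maximalIdeal R)
    (IsLocalRing.maximalIdeal.isMaximal R).ne_top
  have hmem : (Ideal.Quotient.mk J a : R ⧸ J) ∈
      (⨅ i : ℕ, maximalIdeal R ^ i • ⊤ : Submodule R (R ⧸ J)) := by
    rw [Submodule.mem_iInf]
    intro s
    obtain ⟨j, hj, b, hab⟩ := h s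
    have : (Ideal.Quotient.mk J a : R ⧸ J) = (x ^ s) • (Ideal.Quotient.mk J b : R ⧸ J) := by
      rw [hab, map_add, Ideal.Quotient.eq_zero_iff_mem.mpr hj, zero_add, Algebra.smul_def,
        Ideal.Quotient.algebraMap_eq, ← map_mul, mul_comm]
    rw [this]
    exact Submodule.smul_mem_smul (Ideal.pow_mem_pow hx s) Submodule.mem_top
  rw [hK, Submodule.mem_bot] at hmem
  exact Ideal.Quotient.eq_zero_iff_mem.mp hmem

/-- Zariski's lemma, non-zero-divisor form. -/
theorem core (D : Derivation k R R) (S : Set R) (hS : ∀ s ∈ S, D s = 0) (x : R)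
    (hx : x ∈ maximalIdeal R) (hDx : D x = 1) (a : R) (ha : x * a ∈ Ideal.span S) :
    a ∈ Ideal.span S :=
  mem_of_forall_decomp _ x hx a (exists_decomp D S hS x hDx a ha)

theorem isWeaklyRegular_ofFn {n : ℕ} (x : Fin n → R) (hx : ∀ i, x i ∈ maximalIdeal R)
    (D : Fin n → Derivation k R R) (hD : ∀ i j, D i (x j) = if i = j then 1 else 0) :
    RingTheory.Sequence.IsWeaklyRegular R (List.ofFn x) := by
  refine ⟨fun i hi => ?_⟩
  have hi' : i < n := by simpa using hi
  rw [isSMulRegular_iff_right_eq_zero_of_smul]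
  intro q hq
  obtain ⟨a, rfl⟩ := Submodule.Quotient.mk_surjective _ q
  rw [← Submodule.Quotient.mk_smul, Submodule.Quotient.mk_eq_zero] at hq
  rw [Submodule.Quotient.mk_eq_zero]
  have hJ : (Ideal.ofList ((List.ofFn x).take i) • ⊤ : Submodule R R) =
      Ideal.ofList ((List.ofFn x).take i) := by
    simp
  rw [hJ] at hq ⊢
  have hget : (List.ofFn x)[i] = x ⟨i, hi'⟩ := by simp
  rw [hget, smul_eq_mul] at hq
  refine core (D ⟨i, hi'⟩) _ ?_ (x ⟨i, hi'⟩) (hx _) (by rw [hD]; simp) a hq
  intro s hs
  obtain ⟨j, hj, rfl⟩ := List.mem_take_iff_getElem.mp hs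
  rw [List.getElem_ofFn, hD, if_neg]
  intro h
  have := congrArg Fin.val h
  simp only at this
  have hj' : j < i := lt_of_lt_of_le hj (min_le_left _ _)
  omega

end Core

section Main
variable {k R : Type u} [Field k] [CommRing R] [Algebra k R] [IsLocalRing R]

/-- The constant-term retraction. -/
lemma exists_retraction (hres : Function.Surjective (algebraMap k (ResidueField R))) :
    ∃ s : R →ₐ[k] R, (∀ r, r - s r ∈ maximalIdeal R) ∧ ∀ r, ∃ c : k, s r = algebraMap k R c := by
  let ε : k ≃+* ResidueField R := RingEquiv.ofBijective (algebraMap k (ResidueField R))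
    ⟨(algebraMap k (ResidueField R)).injective, hres⟩
  let c : R →+* k := (ε.symm : ResidueField R →+* k).comp (residue R)
  have hε : ∀ a : k, residue R (algebraMap k R a) = ε a := by
    intro a
    show _ = algebraMap k (ResidueField R) a
    rw [IsScalarTower.algebraMap_apply k R (ResidueField R)]; rfl
  have hc : ∀ a : k, c (algebraMap k R a) = a := by
    intro a
    show ε.symm (residue R (algebraMap k R a)) = a
    rw [hε, RingEquiv.symm_apply_apply]
  refine ⟨{ toRingHom := (algebraMap k R).comp c, commutes' := fun a => by simp [hc] }, ?_, ?_⟩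
  · intro r
    rw [← residue_eq_zero_iff, map_sub, sub_eq_zero]
    show residue R r = residue R (algebraMap k R (c r))
    rw [hε]
    show _ = ε (ε.symm (residue R r))
    rw [RingEquiv.apply_symm_apply]
  · intro r; exact ⟨c r, rfl⟩

/-- Injectivity of `𝔪/𝔪² → Ω/𝔪Ω`. -/
lemma mem_sq_of_D_mem (hres : Function.Surjective (algebraMap k (ResidueField R))) (y : R)
    (hy : y ∈ maximalIdeal R)
    (hdy : KaehlerDifferential.D k R y ∈ (maximalIdeal R • ⊤ : Submodule R (Ω[R⁄k]))) :
    y ∈ maximalIdeal R ^ 2 := by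
  obtain ⟨s, hs1, hs2⟩ := exists_retraction (k := k) (R := R) hres
  let δl : R →ₗ[k] R ⧸ maximalIdeal R ^ 2 :=
    (Ideal.Quotient.mkₐ k (maximalIdeal R ^ 2)).toLinearMap ∘ₗ (LinearMap.id - s.toLinearMap)
  have hδl : ∀ r, δl r = Ideal.Quotient.mk (maximalIdeal R ^ 2) (r - s r) := fun r => rfl
  have hsm : ∀ a z : R, a • (Ideal.Quotient.mk (maximalIdeal R ^ 2) z) =
      Ideal.Quotient.mk (maximalIdeal R ^ 2) (a * z) := fun a z => rfl
  let δ : Derivation k R (R ⧸ maximalIdeal R ^ 2) := Derivation.mk' δl (by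
    intro a b
    rw [hδl, hδl, hδl, hsm, hsm, ← map_add, Ideal.Quotient.eq, pow_two]
    have := Ideal.mul_mem_mul (hs1 a) (hs1 b)
    convert neg_mem this using 1
    rw [map_mul]; ring)
  have hδ : ∀ r, δ r = Ideal.Quotient.mk (maximalIdeal R ^ 2) (r - s r) := fun r => rfl
  have hL : ∀ r, δ.liftKaehlerDifferential (KaehlerDifferential.D k R r) =
      Ideal.Quotient.mk (maximalIdeal R ^ 2) (r - s r) := fun r => by
    rw [Derivation.liftKaehlerDifferential_comp_D, hδ]
  have L1 : ∀ ω : Ω[R⁄k], ∃ z ∈ maximalIdeal R,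
      δ.liftKaehlerDifferential ω = Ideal.Quotient.mk (maximalIdeal R ^ 2) z := by
    intro ω
    have hω : ω ∈ Submodule.span R (Set.range (KaehlerDifferential.D k R)) := by
      rw [KaehlerDifferential.span_range_derivation]; trivial
    induction hω using Submodule.span_induction with
    | mem ω h => obtain ⟨r, rfl⟩ := h; exact ⟨_, hs1 r, hL r⟩
    | zero => exact ⟨0, zero_mem _, by simp⟩
    | add a b _ _ ha hb =>
      obtain ⟨z1, hz1, e1⟩ := ha; obtain ⟨z2, hz2, e2⟩ := hb
      exact ⟨z1 + z2, add_mem hz1 hz2, by rw [map_add, e1, e2, map_add]⟩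
    | smul a ω _ h =>
      obtain ⟨z, hz, e⟩ := h
      exact ⟨a * z, Ideal.mul_mem_left _ a hz, by rw [map_smul, e, hsm]⟩
  have L2 : ∀ η ∈ (maximalIdeal R • ⊤ : Submodule R (Ω[R⁄k])),
      δ.liftKaehlerDifferential η = 0 := by
    intro η hη
    refine Submodule.smul_induction_on hη (fun a ha ω _ => ?_) (fun x y hx hy => ?_)
    · obtain ⟨z, hz, e⟩ := L1 ω
      rw [map_smul, e, hsm, Ideal.Quotient.eq_zero_iff_mem, pow_two]
      exact Ideal.mul_mem_mul ha hz
    · rw [map_add, hx, hy, add_zero]
  have h1 := L2 _ hdy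
  rw [hL, Ideal.Quotient.eq_zero_iff_mem] at h1
  obtain ⟨c, hc⟩ := hs2 y
  have hsy : s y ∈ maximalIdeal R := by
    have : s y = y - (y - s y) := by ring
    rw [this]; exact sub_mem hy (hs1 y)
  have hc0 : c = 0 := by
    by_contra hne
    have hu : IsUnit (s y) := by rw [hc]; exact (IsUnit.mk0 c hne).map (algebraMap k R)
    exact (IsLocalRing.mem_maximalIdeal _).mp hsy hu
  rw [hc, hc0, map_zero, sub_zero] at h1
  exact h1

lemma exists_lift_form (hres : Function.Surjective (algebraMap k (ResidueField R)))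
    (ω : Ω[R⁄k]) : ∃ x ∈ maximalIdeal R,
      KaehlerDifferential.D k R x - ω ∈ (maximalIdeal R • ⊤ : Submodule R (Ω[R⁄k])) := by
  obtain ⟨s, hs1, hs2⟩ := exists_retraction (k := k) (R := R) hres
  have hω : ω ∈ Submodule.span R (Set.range (KaehlerDifferential.D k R)) := by
    rw [KaehlerDifferential.span_range_derivation]; trivial
  induction hω using Submodule.span_induction with
  | mem ω h =>
    obtain ⟨r, rfl⟩ := h
    refine ⟨r - s r, hs1 r, ?_⟩
    obtain ⟨c, hc⟩ := hs2 r
    rw [map_sub, hc, Derivation.map_algebraMap, sub_zero, sub_self]; exact zero_mem _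
  | zero => exact ⟨0, zero_mem _, by simp⟩
  | add a b _ _ ha hb =>
    obtain ⟨x1, hx1, e1⟩ := ha; obtain ⟨x2, hx2, e2⟩ := hb
    refine ⟨x1 + x2, add_mem hx1 hx2, ?_⟩
    have : KaehlerDifferential.D k R (x1 + x2) - (a + b) =
        (KaehlerDifferential.D k R x1 - a) + (KaehlerDifferential.D k R x2 - b) := by
      rw [map_add]; abel
    rw [this]; exact add_mem e1 e2
  | smul a ω _ h =>
    obtain ⟨x, hx, e⟩ := h
    refine ⟨a * x, Ideal.mul_mem_left _ a hx, ?_⟩
    have : KaehlerDifferential.D k R (a * x) - a • ω =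
        a • (KaehlerDifferential.D k R x - ω) + x • KaehlerDifferential.D k R a := by
      rw [Derivation.leibniz, smul_sub]; abel
    rw [this]
    exact add_mem (Submodule.smul_mem _ a e) (Submodule.smul_mem_smul hx Submodule.mem_top)

lemma coord_mem {n : ℕ} (f : Ω[R⁄k] →ₗ[R] (Fin n → R)) {η : Ω[R⁄k]}
    (hη : η ∈ (maximalIdeal R • ⊤ : Submodule R (Ω[R⁄k]))) (l : Fin n) :
    f η l ∈ maximalIdeal R := by
  refine Submodule.smul_induction_on hη (fun a ha ω _ => ?_) (fun x y hx hy => ?_)
  · rw [map_smul, Pi.smul_apply, smul_eq_mul]; exact Ideal.mul_mem_right _ _ ha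
  · rw [map_add, Pi.add_apply]; exact add_mem hx hy

variable [CharZero k] [IsNoetherianRing R]

theorem main (hres : Function.Surjective (algebraMap k (ResidueField R))) (n : ℕ)
    (e : Ω[R⁄k] ≃ₗ[R] (Fin n → R)) : IsRegularLocalRing R ∧ ringKrullDim R = n := by
  classical
  let d := KaehlerDifferential.D k R
  choose x hxm hxd using fun j : Fin n =>
    exists_lift_form (k := k) (R := R) hres (e.symm (Pi.single j 1))
  let M : Matrix (Fin n) (Fin n) R := Matrix.of fun l j => e (d (x j)) l
  have hM : ∀ l j, residue R (M l j) = if l = j then 1 else 0 := by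
    intro l j
    have h1 : M l j = e (d (x j) - e.symm (Pi.single j 1)) l + (Pi.single j 1 : Fin n → R) l := by
      rw [map_sub, LinearEquiv.apply_symm_apply, Pi.sub_apply]; simp [M]
    have hcm : e (d (x j) - e.symm (Pi.single j 1)) l ∈ maximalIdeal R :=
      coord_mem e.toLinearMap (hxd j) l
    rw [h1, map_add, (residue_eq_zero_iff _).mpr hcm, zero_add, Pi.single_apply]
    split_ifs <;> simp
  have hdet : IsUnit M.det := by
    rw [← IsLocalRing.notMem_maximalIdeal, ← residue_eq_zero_iff, RingHom.map_det]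
    have : (residue R).mapMatrix M = 1 := by
      ext l j; rw [RingHom.mapMatrix_apply, Matrix.map_apply, hM, Matrix.one_apply]
    rw [this, Matrix.det_one]; exact one_ne_zero
  let Mi := M⁻¹
  have hMiM : Mi * M = 1 := Matrix.nonsing_inv_mul M hdet
  have hMMi : M * Mi = 1 := Matrix.mul_nonsing_inv M hdet
  let D : Fin n → Derivation k R R := fun i =>
    ((LinearMap.proj i) ∘ₗ (Matrix.toLin' Mi) ∘ₗ e.toLinearMap).compDer d
  have hDa : ∀ i y, D i y = (Mi.mulVec (e (d y))) i := fun i y => rfl
  have hD : ∀ i j, D i (x j) = if i = j then 1 else 0 := by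
    intro i j
    rw [hDa]
    have h1 : e (d (x j)) = fun l => M l j := rfl
    rw [h1]
    have h2 : Mi.mulVec (fun l => M l j) i = (Mi * M) i j := by
      simp only [Matrix.mulVec, dotProduct, Matrix.mul_apply]
    rw [h2, hMiM, Matrix.one_apply]
  have hwr := isWeaklyRegular_ofFn x hxm D hD
  have hreg : RingTheory.Sequence.IsRegular R (List.ofFn x) :=
    RingTheory.Sequence.IsRegular.of_isWeaklyRegular_of_mem_maximalIdeal (L := R) (fun r hr => by
      obtain ⟨i, rfl⟩ : ∃ i, x i = r := by simpa [List.mem_ofFn] using hr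
      exact hxm i) hwr
  have hdim := ringKrullDim_add_length_eq_ringKrullDim_of_isRegular (List.ofFn x) hreg
  rw [List.length_ofFn] at hdim
  have hspan : maximalIdeal R = Ideal.span (Set.range x) := by
    apply le_antisymm
    · refine Submodule.le_of_le_smul_of_le_jacobson_bot (I := maximalIdeal R)
        (IsNoetherian.noetherian _) (IsLocalRing.maximalIdeal_le_jacobson _) ?_
      intro y hy
      have hyd : d y = ∑ j, D j y • d (x j) := by
        apply e.injective
        rw [map_sum]
        ext l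
        simp only [map_smul, Finset.sum_apply, Pi.smul_apply, smul_eq_mul]
        have h2 : (M.mulVec (Mi.mulVec (e (d y)))) l = e (d y) l := by
          rw [Matrix.mulVec_mulVec, hMMi, Matrix.one_mulVec]
        rw [← h2]
        simp only [Matrix.mulVec, dotProduct]
        refine Finset.sum_congr rfl fun j _ => ?_
        rw [mul_comm]; rfl
      have hy'm : y - ∑ j, D j y * x j ∈ maximalIdeal R :=
        sub_mem hy (Ideal.sum_mem _ fun j _ => Ideal.mul_mem_left _ _ (hxm j))
      have hdy' : d (y - ∑ j, D j y * x j) ∈ (maximalIdeal R • ⊤ : Submodule R (Ω[R⁄k])) := by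
        have : d (y - ∑ j, D j y * x j) = - ∑ j, x j • d (D j y) := by
          rw [map_sub, map_sum, hyd]
          simp only [Derivation.leibniz]
          rw [Finset.sum_add_distrib]; abel
        rw [this]
        exact neg_mem (Submodule.sum_mem _ fun j _ =>
          Submodule.smul_mem_smul (hxm j) Submodule.mem_top)
      have hsq := mem_sq_of_D_mem hres _ hy'm hdy'
      have : y = ∑ j, D j y * x j + (y - ∑ j, D j y * x j) := by ring
      rw [this]
      refine Submodule.add_mem_sup (Ideal.sum_mem _ fun j _ =>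
        Ideal.mul_mem_left _ _ (Ideal.subset_span ⟨j, rfl⟩)) ?_
      rwa [smul_eq_mul, ← pow_two]
    · rw [Ideal.span_le]; rintro _ ⟨i, rfl⟩; exact hxm i
  have hle : ((maximalIdeal R).spanFinrank : WithBot ℕ∞) ≤ n := by
    rw [hspan]
    have h1 := Submodule.spanFinrank_span_le_ncard_of_finite (R := R) (Set.finite_range x)
    have h2 : (Set.range x).ncard ≤ n := by
      have := Set.ncard_image_le (f := x) (s := Set.univ) Set.finite_univ
      simpa [Set.image_univ, Set.ncard_univ] using this
    exact_mod_cast h1.trans h2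
  have hge : (n : WithBot ℕ∞) ≤ ringKrullDim R := by
    rw [← hdim]
    have hnt : Nontrivial (R ⧸ Ideal.ofList (List.ofFn x)) :=
      Ideal.Quotient.nontrivial_iff.mpr (fun h => by
        have h1 : Ideal.ofList (List.ofFn x) ≤ maximalIdeal R := by
          rw [Ideal.span_le]
          intro r hr
          obtain ⟨i, rfl⟩ : ∃ i, x i = r := by simpa [List.mem_ofFn] using hr
          exact hxm i
        exact (IsLocalRing.maximalIdeal.isMaximal R).ne_top (top_le_iff.mp (h ▸ h1)))
    have h0 : (0 : WithBot ℕ∞) ≤ ringKrullDim (R ⧸ Ideal.ofList (List.ofFn x)) :=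
      ringKrullDim_nonneg_of_nontrivial
    calc (n : WithBot ℕ∞) = 0 + n := by simp
      _ ≤ _ := add_le_add_left h0 _
  have hR : IsRegularLocalRing R :=
    IsRegularLocalRing.of_spanFinrank_maximalIdeal_le _ (hle.trans hge)
  refine ⟨hR, le_antisymm ?_ hge⟩
  rw [← hR.spanFinrank_maximalIdeal]; exact hle

end Main

end Groth.Agent.H13.ZariskiReg
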